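/-
Hall triple systems: four pairwise braiding involutions of a conjugation-closed set with only braiding
pairs generate at most 81 conjugates; consequence: the width one theorem without the Z*-theorem.
-/
import Mathlib
import Cfsg.Agent.SPOR.Kei
import Cfsg.Agent.SPOR.ThreeTrans
import Cfsg.Agent.SOLV.Fitting
import Cfsg.Agent.INV.BaerSuzuki

set_option autoImplicit false

namespace CL.TT

open Cfsg CL.K

/-- third point in the free Hall triple system on four points -/
def hallT (u v : ℕ) : ℕ :=
  Nat.add (Nat.add (Nat.mod (Nat.mul 2 (Nat.add u v)) 3)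
    (Nat.mul 3 (Nat.mod (Nat.mul 2 (Nat.add (Nat.div u 3) (Nat.div v 3))) 3)))
  (Nat.add (Nat.mul 9 (Nat.mod (Nat.mul 2 (Nat.add (Nat.div u 9) (Nat.div v 9))) 3))
    (Nat.mul 27 (Nat.mod (Nat.mul 2 (Nat.add (Nat.add (Nat.div u 27) (Nat.div v 27))
      (Nat.mul (Nat.add (Nat.div u 9) (Nat.mul 2 (Nat.div v 9)))
        (Nat.add (Nat.mul u (Nat.div v 3)) (Nat.mul 2 (Nat.mul (Nat.div u 3) v)))))) 3)))

def hallCert_0 : ℕ := 0x8000000000800200000080040000008005000000000a000800000d0000018000000001800200000180040000018005000000001a001800001d0000018008000001800a000001800c000801800d000000801a001800801d0000048000000004800200000480040000048005000000004a004800004d0000048008000004800a000004800c000804800d000000804a004800804d0000048018000004801a000004801c001804801d000001804a004801804d0000010018000001001a000001001c000001001d001000001d000800001d001000801d000000801d000001801200100180150000010048000001004a000001004c000001004d000800004d000801004d000000804d000004801200100480150000030008000003000a000003000c0030008006000003000d003000000d001800000d0018010006000803000d001803000d003001800d00000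1800d0000008032001800803500300080350040008035000804003500180400350000030048000003004a000003004c000003004d001800004d001803004d000001804d004803004d000004803200300480350000030010000003001200000300140030010006000003001500300000150018000015001800800600080300150010030015003001001e00180300150000018015000003801e003001002e0008028015000804002e0038030015000001003200300100350000040048000004004a000004004c000804004d004000804d001800804d004001804d000801804d004804004d000004804200400480450000090008000009000a000009000c0090008006009000000d004800000d0048010006000809000d004809000d000004800d0000008092009000809500a000809500480a00950000090018000009001a000009001c0090018006009000001d0048030006001809001d004809001d009004801d000004801d00480c009500000900100000090012000009001400900100060090000015004800001500480080060008090015009001004e00900480150000048015000009804e0090058015000805801500080a005e0000090030000009003400900300060090000035004800003500480180060018090035009003004e00000a804e0018078035000009004000000900440000090045009000004500480000450090048045000004804500000400920008040095004000809500180080950018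04009500000a001800000a001a00000a001c00a001800e00a000801d004800801d004804000e00180a001d00a004801d000804801d00000180a200a00180a500c00180a500480c00a500000a003000000a0034004800803500a0048035000804803500300180a500000a004000000a004200000a004400a004000e00a00080450048008045004801800e00180a004500400a004500a004004e000804804500080b004e00b02300c600000400a200a00400a500000c001000000c001200000c0014004801801500000100c200100080c500c00100c50000038048000003804a000003804c001003804d003801004d001801004d003804801e001001804d00100c001e003003804d003803004d004003004d003804004d001004803d001009803d000003809000000380920000038094003801009500180100950040030095004800003d009004803d00000380a000000380a200000380a400180100a500380300a500380400a5004800803d00a004803d00a009803d00000380c000000380c400380c0016001821801600380c001e00380180c500100180c5001004801e00400300c5000009803000000980320000098034009801003500480100350010048035009009803500a009003500b00a80250068060226013821814e000009804000000980420000098044004801004500980480450000028048000002804a000002804c00280480060038090006002804800e002800804d003000804d00300a000e002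8048016004001004d002803004d003802804d002803804d002804004d001004004d004004802d00a804802d00b004802d00400b002d00b804802d000002809000000280940028090006002800009500380000950038048006002804009500700c80be00000280a000000280a200000280a400280000a500280a000e00280080a500300080a5003004800e00400100a501400c80ae00000280c000000280c200000280c400280080c500000380c500c00280c5004801802d0000028098000002809c003000809d002801009d004001009d0028098046001021004602100c80b600000a801000000a801200000a801400a8010026022003002600a801004e00a80480150030048015003009804e00c80a001500100080ad00200100ad00980b0025007022004d00000a804000000a804400a80400360048030045004803803600900a804500c009004500a80a004500000400ad00100400ad00480b00ad00b00c003d015806812e008015806d00000a8038004804003600a803804e00300b804e00000a809800a8098006007805800600a809800e023805000e00100a809d00a801009d015801009d015804801600a809801e006016001e022015802600b80c80b600a80980be00b80a809d00a80b809d00c00a809d00000d000400c00480d600180d001d00b804802500000200900000020092000002009400200900060020000095004000009500400480060030010095002001809500380200950090020095000009002200000200a000000200a200000200a400400000a500200a000e00200080a5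
def hallCert_1 : ℕ := 0x380080a5003804800e00200180a501380d00be007014805500000200c000000200c200000200c400000200c500200000c500200080c500380080c500200c001e00200180c500280180c5002804801e00200c002e00100300c500b00c00250068060136012816014d0000058018000005801a000005801c0058018006009800001d0098030006005801800e009000801d009004000e000009801d00a023005d016001003500b80100350000058030000005803200000580340058030006005800003500980000350098018006005803000e009002800e0030058035022001001d000005804000000580440058040006005800004500980000450098020006005804000e000805804500580080450090008045009001800e00a001004500580400360260038036004014805d00a014805d021004005d00100c802500000580c000000580c200000580c400580000c500580900c500000980c500100b00a600c00580c500c001805d001804805d000814805d000005803800580380060098028006005803800e009000803d009002000e005801003d00a001003d00101380a6003026003d000005802800580280060098038006005802800e009003000e005801002d005802801e01a002001e00102380a600000580a800000580ac00580a800e009023800e00c00f80ad0000058020000005802400580200060098040006005802000e0090008025009003800e01a0018025007008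8025007009008e00000580b000000580b400100c00a6004004805d002006805d0000078010000007801200000780140078010006007800001500a800001500a8008006007801001e00780180150090018015009003801e007801003600000a8015015826823e00c021807d00000780a000000780a400780080a502680080a500900180a500780c00a500782280a500000a007a001823007d0000078038000007803c0078038006007800003d00a8028006007803800e026802000e007801003d018801003d007803804e00600b804e00780380c6008803807d0000078098007809800600a8058006007809800e026805000e007809801e009016001e00000a809d0000078028007802800600a8038006007802800e026803000e007802801e009002001e00302000c600000780200000078024007802000600a8040006007802001e009002801e0078068025005806802500301300c6007812802501d007802500000780b000780b001e00900180b5009014801e00200780b500780a00b500000b80ae0000050030000005003200000500340050030006005000003500a000003500a0018006005003000e009802800e00500380350188038035005003004e005004803500580a804e020012803500000300520050030055000005004000000500420000050044005004000600a0020006005004000e00500080450098008045009801800e005004004e005004804500580b004e0050190045007804005500000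500c000000500c200000500c400500080c500500c001e00500180c502800180c5028004801e00500c009e00500a00c500500c020600000600550000050028005002800600a000002d00a0038006005002800e009803000e00000a002d00002380a601d82000c6007018013600000500a800500a800600a007800600500300ad01900300ad00100c009600f82501a60000050020005002000600a0040006005002000e0050008025009803800e00500200160090030016005002001e028002801e005002004e00580d004e005002009e00000500b000500b000600a008800600500b000e009823000e00500400b501800400b50000060040006004000600c0020006006004000e006000804501a800804501a801800e006004004e00780b004e0000060038000006003c006003800600c000003d00c0028006006001003d027801003d013014802d0000060098006009800600c0058006006001009d027801009d01d80b009d00000680a000000680a200680a000e00680080a501a00080a501a004800e00680b00a500000b80d600000680c000d00000c500680c001e00680180c502680180c5026804801e00680900c501080a00c500680e80c50000230028023002800e00b003000e023002801e00a002001e01c01400ae00402000c60000140040014004000e014000804500c800804500c801800e00300a0045015013004500000b807800b807800600800a800600b807801e021809001e00b807804e0038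06004e01d820014e00000b806800000b806c00b806800600800d000600b806800e02281a000e00b806804e003808804e00182680bd00000b823000b823000e02280b000e00b823001e02180a001e00b823004e003814804e00f813006600000b814000b8140006008028000600b814000e02280c800e00b814001e021819001e00b814004e003823804e00000700c000700c000600c806000600700c000e019814800e00700c001e00700180c501880180c5018804801e0000070230007023000600c8190006007023000e01980b000e007023001e01880a001e006813006600001380c001380c0006027006000601380c000e00d014800e01380c001e01380180c502580180c5025804801e0000138078013807800602700a8006013807800e00d026800e013807801e025809001e013807804e022806004e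
def hallCert : List (ℕ × ℕ) := [(400, hallCert_0), (387, hallCert_1)]

theorem hallT_lt (u v : ℕ) : hallT u v < 81 := by
  have h : ∀ a b c d : ℕ, a % 3 + 3 * (b % 3) + (9 * (c % 3) + 27 * (d % 3)) < 81 := by
    intro a b c d; omega
  exact h _ _ _ _

theorem hallT_self : allLt (fun u => Nat.beq (hallT u u) u) 81 = true := by decide +kernel

theorem hall_run : allLt (fun v => Nat.beq 1 (Nat.mul
    (Nat.mul (Kei.kb 81 (Kei.run 81 hallT 1 hallCert (Kei.maskOf 81 [(0,0),(1,1),(3,3),(9,9)])) 0 v)
      (Kei.kb 81 (Kei.run 81 hallT 1 hallCert (Kei.maskOf 81 [(0,0),(1,1),(3,3),(9,9)])) 1 v))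
    (Nat.mul (Kei.kb 81 (Kei.run 81 hallT 1 hallCert (Kei.maskOf 81 [(0,0),(1,1),(3,3),(9,9)])) 3 v)
      (Kei.kb 81 (Kei.run 81 hallT 1 hallCert (Kei.maskOf 81 [(0,0),(1,1),(3,3),(9,9)])) 9 v)))) 81
    = true := by decide +kernel

variable {G : Type*} [Group G]

theorem exists_hall_points {D : Set G} (hsq : ∀ x ∈ D, x * x = 1)
    (hc : ∀ x ∈ D, ∀ y ∈ D, x * y * x ∈ D) (hb : ∀ x ∈ D, ∀ y ∈ D, x * y * x = y * x * y)
    {a b c d : G} (ha : a ∈ D) (hb' : b ∈ D) (hc' : c ∈ D) (hd : d ∈ D) :
    ∃ p : ℕ → G, p 0 = a ∧ p 1 = b ∧ p 3 = c ∧ p 9 = d ∧ ∀ v < 81,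
      a * p v * a = p (hallT 0 v) ∧ b * p v * b = p (hallT 1 v) ∧ c * p v * c = p (hallT 3 v) ∧
        d * p v * d = p (hallT 9 v) := by
  have S : Kei.Setup D 81 hallT 1 :=
    ⟨hsq, hc, fun _ => hb, by norm_num, fun u _ v _ => hallT_lt u v,
      fun u hu => Nat.eq_of_beq_eq_true (allLt_iff.1 hallT_self u hu)⟩
  let p0 : ℕ → G := fun i => if i = 1 then b else if i = 3 then c else if i = 9 then d else a
  have hp0 : ∀ i, p0 i ∈ D := fun i => by
    simp only [p0]; split_ifs <;> assumption
  have h0 : Kei.Inv D 81 hallT p0 (Kei.maskOf 81 [(0,0),(1,1),(3,3),(9,9)]) := by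
    refine Kei.inv_maskOf hp0 _ (by decide) fun x hx => ?_
    have : x.2 = x.1 ∧ hallT x.1 x.2 = x.1 := by revert x; decide
    rw [this.2, this.1, hsq _ (hp0 _), one_mul]
  obtain ⟨p, -, h2, h3⟩ := Kei.sound S h0 hallCert rfl
  have e0 : p 0 = a := h2 0 (by norm_num) (by decide +kernel)
  have e1 : p 1 = b := h2 1 (by norm_num) (by decide +kernel)
  have e3 : p 3 = c := h2 3 (by norm_num) (by decide +kernel)
  have e9 : p 9 = d := h2 9 (by norm_num) (by decide +kernel)
  refine ⟨p, e0, e1, e3, e9, fun v hv => ?_⟩
  have := (Nat.eq_of_beq_eq_true (allLt_iff.1 hall_run v hv)).symm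
  obtain ⟨h01, h39⟩ := Kei.mul_eq_one_nat this
  obtain ⟨k0, k1⟩ := Kei.mul_eq_one_nat h01
  obtain ⟨k3, k9⟩ := Kei.mul_eq_one_nat h39
  rw [← e0, ← e1, ← e3, ← e9]
  exact ⟨h3 0 (by norm_num) v hv (Kei.kb_eq_one.1 k0), h3 1 (by norm_num) v hv (Kei.kb_eq_one.1 k1),
    h3 3 (by norm_num) v hv (Kei.kb_eq_one.1 k3), h3 9 (by norm_num) v hv (Kei.kb_eq_one.1 k9)⟩

/-- index of a point of the Hall triple system -/
def hallIdx (x : ZMod 3 × ZMod 3 × ZMod 3) (t : ZMod 3) : ℕ :=
  x.1.val + 3 * x.2.1.val + 9 * x.2.2.val + 27 * t.val

theorem hallIdx_facts : ∀ (x : ZMod 3 × ZMod 3 × ZMod 3) (t : ZMod 3), hallIdx x t < 81 ∧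
    hallT 1 (hallT 0 (hallIdx x t)) = hallIdx (x + (-1, 0, 0)) (t + x.2.1 * x.2.2) ∧
    hallT 3 (hallT 0 (hallIdx x t)) = hallIdx (x + (0, -1, 0)) (t + - (x.1 * x.2.2)) ∧
    hallT 9 (hallT 0 (hallIdx x t)) = hallIdx (x + (0, 0, -1)) (t + 0) := by decide +kernel

/-- unitriangular action on the points -/
def hallSub (P : (ZMod 3 × ZMod 3 × ZMod 3) → ZMod 3 → G) : Subgroup G where
  carrier := {g | ∃ (s : ZMod 3 × ZMod 3 × ZMod 3) (f : ZMod 3 × ZMod 3 × ZMod 3 → ZMod 3),
    ∀ x t, g * P x t * g⁻¹ = P (x + s) (t + f x)}
  one_mem' := ⟨0, 0, fun x t => by simp⟩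
  mul_mem' := by
    rintro g h ⟨s, f, hg⟩ ⟨s', f', hh⟩
    refine ⟨s' + s, fun x => f' x + f (x + s'), fun x t => ?_⟩
    rw [← add_assoc, ← add_assoc, ← hg, ← hh]; group
  inv_mem' := by
    rintro g ⟨s, f, hg⟩
    refine ⟨-s, fun x => - f (x + -s), fun x t => ?_⟩
    have := hg (x + -s) (t + - f (x + -s))
    rw [show x + -s + s = x by abel, show t + -f (x + -s) + f (x + -s) = t by abel] at this
    rw [← this]; group

theorem hallSub_pow {P : (ZMod 3 × ZMod 3 × ZMod 3) → ZMod 3 → G} {g : G} (hg : g ∈ hallSub P) :
    ∀ x t, g ^ 9 * P x t * (g ^ 9)⁻¹ = P x t := by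
  obtain ⟨s, f, hg⟩ := hg
  have three : ∀ (g : G) (x t), g ^ 3 * P x t * (g ^ 3)⁻¹ = g * (g * (g * P x t * g⁻¹) * g⁻¹) * g⁻¹ := by
    intro g x t; simp only [pow_succ, pow_zero, one_mul, mul_inv_rev, mul_assoc]
  have hs : ∀ x : ZMod 3 × ZMod 3 × ZMod 3, x + s + s + s = x := by
    clear hg; revert s; decide +kernel
  have h3 : ∀ x t, g ^ 3 * P x t * (g ^ 3)⁻¹ = P x (t + (f x + f (x + s) + f (x + s + s))) := by
    intro x t
    rw [three, hg, hg, hg, hs]; congr 1; abel
  intro x t
  rw [show g ^ 9 = (g ^ 3) ^ 3 by rw [← pow_mul], three, h3, h3, h3]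
  congr 1
  generalize f x + f (x + s) + f (x + s + s) = y
  revert t y; decide

theorem isPGroup_closure_pair_of_braid [Finite G] {D : Set G} (hsq : ∀ x ∈ D, x * x = 1)
    (hc : ∀ x ∈ D, ∀ y ∈ D, x * y * x ∈ D) (hb : ∀ x ∈ D, ∀ y ∈ D, x * y * x = y * x * y)
    {a b c d : G} (ha : a ∈ D) (hb' : b ∈ D) (hc' : c ∈ D) (hd : d ∈ D) :
    IsPGroup 3 (Subgroup.closure ({a * b, c * d} : Set G)) := by
  have : Fact (Nat.Prime 3) := ⟨Nat.prime_three⟩
  obtain ⟨p, e0, e1, e3, e9, hp⟩ := exists_hall_points hsq hc hb ha hb' hc' hd
  let P : (ZMod 3 × ZMod 3 × ZMod 3) → ZMod 3 → G := fun x t => p (hallIdx x t)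
  have inv : ∀ x ∈ D, x⁻¹ = x := fun x hx => inv_eq_of_mul_eq_one_left (hsq x hx)
  have key : ∀ y ∈ D, ∀ z, y * a * z * (y * a)⁻¹ = y * (a * z * a) * y := by
    intro y hy z
    rw [mul_inv_rev, inv a ha, inv y hy]; simp only [mul_assoc]
  have m1 : b * a ∈ hallSub P := ⟨_, _, fun x t => by
    obtain ⟨h1, h2, -, -⟩ := hallIdx_facts x t
    rw [key b hb', (hp _ h1).1, (hp _ (hallT_lt _ _)).2.1, h2]⟩
  have m2 : c * a ∈ hallSub P := ⟨_, _, fun x t => by
    obtain ⟨h1, -, h2, -⟩ := hallIdx_facts x t
    rw [key c hc', (hp _ h1).1, (hp _ (hallT_lt _ _)).2.2.1, h2]⟩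
  have m3 : d * a ∈ hallSub P := ⟨_, fun _ => 0, fun x t => by
    obtain ⟨h1, -, -, h2⟩ := hallIdx_facts x t
    rw [key d hd, (hp _ h1).1, (hp _ (hallT_lt _ _)).2.2.2, h2]⟩
  have hab : a * b ∈ hallSub P := by
    have := (hallSub P).inv_mem m1
    rwa [mul_inv_rev, inv a ha, inv b hb'] at this
  have hcd : c * d ∈ hallSub P := by
    have := (hallSub P).mul_mem m2 ((hallSub P).inv_mem m3)
    rwa [mul_inv_rev, inv a ha, inv d hd, mul_assoc, ← mul_assoc a, hsq a ha, one_mul] at this
  set K := Subgroup.closure ({a * b, c * d} : Set G) with hK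
  have hKle : K ≤ hallSub P := by
    rw [hK, Subgroup.closure_le]
    rintro x (rfl | rfl) <;> assumption
  have hcen : ∀ g : K, g ^ 9 ∈ Subgroup.center K := by
    intro g
    have h9 := hallSub_pow (hKle g.2)
    have cm : ∀ x t, Commute ((g : G) ^ 9) (P x t) := fun x t => by
      have := h9 x t
      rw [mul_inv_eq_iff_eq_mul] at this
      exact this
    have ca : Commute ((g : G) ^ 9) a := e0 ▸ cm (0, 0, 0) 0
    have cb : Commute ((g : G) ^ 9) b := e1 ▸ cm (1, 0, 0) 0
    have cc : Commute ((g : G) ^ 9) c := e3 ▸ cm (0, 1, 0) 0
    have cd : Commute ((g : G) ^ 9) d := e9 ▸ cm (0, 0, 1) 0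
    rw [Subgroup.mem_center_iff]
    intro h
    apply Subtype.ext
    have : K ≤ Subgroup.centralizer {(g : G) ^ 9} := by
      refine (Subgroup.closure_le _).2 ?_
      rintro x (rfl | rfl)
      · exact Subgroup.mem_centralizer_singleton_iff.2 (ca.mul_right cb).symm.eq
      · exact Subgroup.mem_centralizer_singleton_iff.2 (cc.mul_right cd).symm.eq
    exact Subgroup.mem_centralizer_singleton_iff.1 (this h.2)
  have hq : IsPGroup 3 (K ⧸ Subgroup.center K) := by
    intro x
    obtain ⟨g, rfl⟩ := QuotientGroup.mk_surjective x
    refine ⟨2, ?_⟩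
    rw [← QuotientGroup.mk_pow, QuotientGroup.eq_one_iff]
    exact hcen g
  have hnil : Group.IsNilpotent K := Group.of_quotient_center_nilpotent hq.isNilpotent
  have cube : ∀ x ∈ D, ∀ y ∈ D, (x * y) ^ 3 = 1 := fun x hx y hy =>
    (braid_iff_cube (hsq x hx) (hsq y hy)).1 (hb x hx y hy)
  have mem : ∀ g : K, g ^ 3 = 1 → g ∈ pCore 3 K := by
    intro g hg
    have hz : IsPGroup 3 (Subgroup.zpowers g) := by
      rintro ⟨_, k, rfl⟩
      refine ⟨1, Subtype.ext ?_⟩
      simp only [pow_one, SubmonoidClass.coe_pow, OneMemClass.coe_one]
      rw [← zpow_natCast, ← zpow_mul, mul_comm, zpow_mul, zpow_natCast, hg, one_zpow]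
    exact CL.le_pCore_of_isNilpotent hz (Subgroup.mem_zpowers g)
  rw [← CL.pCore_eq_top_iff, eq_top_iff]
  rintro ⟨g, hg⟩ -
  have : K ≤ (pCore 3 K).map K.subtype := by
    conv_lhs => rw [hK]
    rw [Subgroup.closure_le]
    rintro x (rfl | rfl)
    · exact ⟨⟨_, Subgroup.subset_closure (Or.inl rfl)⟩, mem _ (Subtype.ext (cube a ha b hb')), rfl⟩
    · exact ⟨⟨_, Subgroup.subset_closure (Or.inr rfl)⟩, mem _ (Subtype.ext (cube c hc' d hd)), rfl⟩
  obtain ⟨x, hx, rfl⟩ := this hg
  exact hx

/-- **Width one theorem**: if `D` is a conjugation-invariant set of involutions any two of which braid,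
then products of two members lie in `O₃(G)`. -/
theorem mul_mem_pCore_three_of_braid [Finite G] {D : Set G} (hsq : ∀ x ∈ D, x * x = 1)
    (hc : ∀ g : G, ∀ x ∈ D, g * x * g⁻¹ ∈ D) (hb : ∀ x ∈ D, ∀ y ∈ D, x * y * x = y * x * y)
    {a b : G} (ha : a ∈ D) (hb' : b ∈ D) : a * b ∈ pCore 3 G := by
  have : Fact (Nat.Prime 3) := ⟨Nat.prime_three⟩
  have hc' : ∀ x ∈ D, ∀ y ∈ D, x * y * x ∈ D := fun x hx y hy => by
    have := hc x y hy
    rwa [inv_eq_of_mul_eq_one_left (hsq x hx)] at this
  rw [CL.pCore_eq_iInf_sylow, Subgroup.mem_iInf]
  intro S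
  refine CL.Inv.baer_suzuki_class (K := {g | ∃ x ∈ D, ∃ y ∈ D, g = x * y}) ?_ ?_ S ⟨a, ha, b, hb', rfl⟩
  · rintro g _ ⟨x, hx, y, hy, rfl⟩
    exact ⟨_, hc g x hx, _, hc g y hy, by group⟩
  · rintro _ ⟨x, hx, y, hy, rfl⟩ _ ⟨z, hz, w, hw, rfl⟩
    exact isPGroup_closure_pair_of_braid hsq hc' hb hx hy hz hw

/-- The products of two members of a self-conjugate set of pairwise braiding involutions generate a
`3`-group. -/
theorem isPGroup_closure_mul_of_braid [Finite G] {E : Set G} (hsq : ∀ x ∈ E, x * x = 1)
    (hc : ∀ x ∈ E, ∀ y ∈ E, x * y * x ∈ E) (hb : ∀ x ∈ E, ∀ y ∈ E, x * y * x = y * x * y) :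
    IsPGroup 3 (Subgroup.closure {g : G | ∃ x ∈ E, ∃ y ∈ E, g = x * y}) := by
  set H := Subgroup.closure E with hH
  have hnorm : ∀ g ∈ H, ∀ x ∈ E, g * x * g⁻¹ ∈ E := by
    intro g hg
    induction hg using Subgroup.closure_induction_left with
    | one => intro x hx; simpa using hx
    | mul_left y hy g _ ih =>
      intro x hx
      have := hc y hy _ (ih x hx)
      rwa [show y * g * x * (y * g)⁻¹ = y * (g * x * g⁻¹) * y⁻¹ by group,
        inv_eq_of_mul_eq_one_left (hsq y hy)]
    | inv_mul_cancel y hy g _ ih =>
      intro x hx
      have := hc y hy _ (ih x hx)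
      rwa [show y⁻¹ * g * x * (y⁻¹ * g)⁻¹ = y⁻¹ * (g * x * g⁻¹) * y by group,
        inv_eq_of_mul_eq_one_left (hsq y hy)]
  refine (CL.isPGroup_map_pCore (p := 3) H.subtype).to_le ?_
  rw [Subgroup.closure_le]
  rintro _ ⟨x, hx, y, hy, rfl⟩
  refine ⟨⟨x, Subgroup.subset_closure hx⟩ * ⟨y, Subgroup.subset_closure hy⟩, ?_, rfl⟩
  refine mul_mem_pCore_three_of_braid (D := {z : H | (z : G) ∈ E}) ?_ ?_ ?_ hx hy
  · intro z hz; exact Subtype.ext (hsq _ hz)
  · intro g z hz; exact hnorm g g.2 z hz
  · intro z hz w hw; exact Subtype.ext (hb _ hz _ hw)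

end CL.TT
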