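/- The model of the subgroup (generated by tools/cgt/dg.py). -/
import Cfsg.Agent.SPOR.DCE3
import Cfsg.Agent.SPOR.LyCE
import Cfsg.Agent.SPOR.LyM
set_option exponentiation.threshold 400000
set_option autoImplicit false
set_option Elab.async false
set_option maxRecDepth 100000

namespace CL.Ly
open CL.CE CL.K CL.Net

def ks : List (List ℕ) := [[9], [11], [13], [15], [17], [0], [2,0,3], [2,2,0,3,3]]
theorem relq_0_0 : chkPlanes nets0 20480 15 (relEqs RelsH) 0 7 = true := by decide +kernel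
theorem relq_0_1 : chkPlanes nets0 20480 15 (relEqs RelsH) 7 7 = true := by decide +kernel
theorem relq_0_2 : chkPlanes nets0 20480 15 (relEqs RelsH) 14 1 = true := by decide +kernel
theorem relq : ∀ e ∈ (relEqs RelsH), ev (sigma nets0) e.1 = ev (sigma nets0) e.2 :=
  (valid0.eq_of_planes (by norm_num) ((((uptoPlane_zero 15 (relEqs RelsH)).step relq_0_0 rfl).step relq_0_1 rfl).step relq_0_2 rfl))
theorem top1 : inv nets0 ks 1 = true := by decide +kernel
theorem top2 : Nat.beq (bfs nets0 (ltrs 19) 2 1) (Nat.pred (Nat.pow 2 19530)) = true := by decide +kernel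
theorem top3 : fixOK nets0 (ltrs 19) 19530 20480 15 = true := by decide +kernel
theorem pres0 : Pres (sigma nets0) ivH RelsH :=
  pres_of_rel (ivl := [1,0,3,2,5,4,7,6,8,10,9,12,11,14,13,16,15,18,17]) (rel_of_eqs relq) (by decide +kernel)
theorem top : topOK nets0 (ltrs 19) ks 2 19530 20480 15 = true := by
  with_reducible exact topOK_of top1 top2 top3 (by decide)
noncomputable def nets1 : List (List (ℕ × ℕ)) := []
theorem valid1 : Valid 20480 nets1 := valid_nil _
noncomputable def nets : List (List (ℕ × ℕ)) := nets0 ++ nets1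
theorem valid : Valid 20480 nets := valid0.append valid1
def es : List (List ℕ × List ℕ) := []
theorem eqs_0_0 : chkPlanes nets 20480 15 es 0 15 = true := by decide +kernel
theorem eqs : ∀ e ∈ es, ev (sigma nets) e.1 = ev (sigma nets) e.2 :=
  (valid.eq_of_planes (by norm_num) ((uptoPlane_zero 15 es).step eqs_0_0 rfl))
theorem baseK_2 : BaseIf (gen (sigma nets) []) 1 [] := baseIf_nil
theorem baseK_1 : BaseIf (gen (sigma nets) [[11,11,9,11,2,0,3,2,0,3,2,0,3,13,0,0,11,2,2,0,3,3,11,13,2,0,3], [0,15,15,2,0,3,2,2,0,3,3,2,2,0,3,3,9,2,2,0,3,3,9,17,2,0,3,13]]) 24 [2] :=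
  valid.step_base (ws' := []) (d := 4) (dc := 10) (n := 24) (by decide +kernel)
    (gen_le_of_eqs eqs [] (by decide +kernel)) baseK_2 (by norm_num)
theorem baseK_0 : BaseIf (gen (sigma nets) [[9], [11], [13], [15], [17], [0], [2,0,3], [2,2,0,3,3]]) 300000 [1,2] :=
  valid.step_base (ws' := [[11,11,9,11,2,0,3,2,0,3,2,0,3,13,0,0,11,2,2,0,3,3,11,13,2,0,3], [0,15,15,2,0,3,2,2,0,3,3,2,2,0,3,3,9,2,2,0,3,3,9,17,2,0,3,13]]) (d := 3) (dc := 10) (n := 12500) (by decide +kernel)
    (gen_le_of_eqs eqs [[1,1,0,1,6,6,6,2,5,5,1,7,1,2,6], [5,3,3,6,7,7,0,7,0,4,6,2]] (by decide +kernel)) baseK_1 (by norm_num)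
theorem baseK : BaseIf (gen (sigma nets0) [[9], [11], [13], [15], [17], [0], [2,0,3], [2,2,0,3,3]]) 300000 [1,2] :=
  gen_sigma_append (n₁ := nets0) (n₂ := nets1) (ws := [[9], [11], [13], [15], [17], [0], [2,0,3], [2,2,0,3,3]]) (by decide +kernel) ▸ baseK_0

/-- the model of the subgroup -/
abbrev A : Type := gen (sigma nets0) (ltrs 19)
/-- its letters -/
noncomputable abbrev gA : ℕ → A := inGen (sigma nets0) (ltrs 19)
/-- its action -/
noncomputable abbrev π : A →* Equiv.Perm ℕ := (gen (sigma nets0) (ltrs 19)).subtype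
theorem liftA : Lift π gA nets0 := lift_inGen rfl
theorem presA : Pres gA ivH RelsH := pres_inGen rfl pres0
theorem topA : gen gA (ltrs 19) = ⊤ := gen_inGen_top rfl
theorem modelA : Model π (gen gA ks) 19530 ∧ Nat.card A = 19530 * 300000 ∧ Nat.card (gen gA ks) = 300000 :=
  valid0.model liftA topA top baseK.1 (le_H presA)
theorem cardA : Nat.card A = 5859000000 := modelA.2.1

end CL.Ly
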