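/- The matrices (generated by tools/cgt/dg.py). -/
import Cfsg.Agent.SPOR.DCE4
import Cfsg.Agent.SPOR.LyMatD0
set_option autoImplicit false
set_option Elab.async false
set_option maxRecDepth 100000

namespace CL.Ly
open CL.CE CL.K CL.Net

noncomputable def X0 : ℕ := (cat (nat_lit 32768) [X0_0, X0_1, X0_2, X0_3, X0_4, X0_5, X0_6, X0_7, X0_8])
noncomputable def X1 : ℕ := (cat (nat_lit 32768) [X1_0, X1_1, X1_2, X1_3, X1_4, X1_5, X1_6, X1_7, X1_8])
noncomputable def X2 : ℕ := (cat (nat_lit 32768) [X2_0, X2_1, X2_2, X2_3, X2_4, X2_5, X2_6, X2_7, X2_8])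
noncomputable def X3 : ℕ := (cat (nat_lit 32768) [X3_0, X3_1, X3_2, X3_3, X3_4, X3_5, X3_6, X3_7, X3_8])
noncomputable def X4 : ℕ := (cat (nat_lit 32768) [X4_0, X4_1, X4_2, X4_3, X4_4, X4_5, X4_6, X4_7, X4_8])
noncomputable def X5 : ℕ := (cat (nat_lit 32768) [X5_0, X5_1, X5_2, X5_3, X5_4, X5_5, X5_6, X5_7, X5_8])
noncomputable def X6 : ℕ := (cat (nat_lit 32768) [X6_0, X6_1, X6_2, X6_3, X6_4, X6_5, X6_6, X6_7, X6_8])
noncomputable def X7 : ℕ := (cat (nat_lit 32768) [X7_0, X7_1, X7_2, X7_3, X7_4, X7_5, X7_6, X7_7, X7_8])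
noncomputable def X8 : ℕ := (cat (nat_lit 32768) [X8_0, X8_1, X8_2, X8_3, X8_4, X8_5, X8_6, X8_7, X8_8])
noncomputable def X9 : ℕ := (cat (nat_lit 32768) [X9_0, X9_1, X9_2, X9_3, X9_4, X9_5, X9_6, X9_7, X9_8])
noncomputable def X10 : ℕ := (cat (nat_lit 32768) [X10_0, X10_1, X10_2, X10_3, X10_4, X10_5, X10_6, X10_7, X10_8])
noncomputable def X11 : ℕ := (cat (nat_lit 32768) [X11_0, X11_1, X11_2, X11_3, X11_4, X11_5, X11_6, X11_7, X11_8])
noncomputable def X12 : ℕ := (cat (nat_lit 32768) [X12_0, X12_1, X12_2, X12_3, X12_4, X12_5, X12_6, X12_7, X12_8])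
noncomputable def X13 : ℕ := (cat (nat_lit 32768) [X13_0, X13_1, X13_2, X13_3, X13_4, X13_5, X13_6, X13_7, X13_8])
noncomputable def X14 : ℕ := (cat (nat_lit 32768) [X14_0, X14_1, X14_2, X14_3, X14_4, X14_5, X14_6, X14_7, X14_8])
noncomputable def X15 : ℕ := (cat (nat_lit 32768) [X15_0, X15_1, X15_2, X15_3, X15_4, X15_5, X15_6, X15_7, X15_8])
noncomputable def X16 : ℕ := (cat (nat_lit 32768) [X16_0, X16_1, X16_2, X16_3, X16_4, X16_5, X16_6, X16_7, X16_8])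
noncomputable def X17 : ℕ := (cat (nat_lit 32768) [X17_0, X17_1, X17_2, X17_3, X17_4, X17_5, X17_6, X17_7, X17_8])
noncomputable def X18 : ℕ := (cat (nat_lit 32768) [X18_0, X18_1, X18_2, X18_3, X18_4, X18_5, X18_6, X18_7, X18_8])
noncomputable def X19 : ℕ := (cat (nat_lit 32768) [X19_0, X19_1, X19_2, X19_3, X19_4, X19_5, X19_6, X19_7, X19_8])
noncomputable def X20 : ℕ := (cat (nat_lit 32768) [X20_0, X20_1, X20_2, X20_3, X20_4, X20_5, X20_6, X20_7, X20_8])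
noncomputable def cs : List ℕ := [X0, X1, X2, X3, X4, X5, X6, X7, X8, X9, X10, X11, X12, X13, X14, X15, X16, X17, X18, X19, X20]
/-- inverses of the letters -/
abbrev ivM : ℕ → ℕ := fun a => [1,0,3,2,5,4,7,6,8,10,9,12,11,14,13,16,15,18,17,20,19].getD a a
def cRM : ℕ := 2 ^ 2442 - 1
def cCM : ℕ := PM.packC 2442 111 4194303
def cQM : ℕ := PM.packC 22 (111 * 111) 511
theorem okM : PM.OK 5 111 22 4194303 2442 cCM cRM 1639 13 cQM 2047 := PM.ok_of_okB' (by decide +kernel)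
noncomputable def mulM : ℕ → ℕ → ℕ := PM.mulC 5 111 22 2442 cCM cRM 1639 13 cQM
noncomputable def oneM : ℕ := PM.oneC 111 22
/-- the code -/
abbrev φM : GL (Fin 111) (ZMod 5) → ℕ := fun g => PM.code 22 g.1
theorem codeM : CG.IsCode φM mulM oneM := CG.isCode_GL okM
def isM : ℕ → Bool := PM.isCodeR 5 1639 13 cQM
theorem lt0 : MR.letB isM mulM oneM cs [1,0,3,2,5,4,7,6,8,10,9,12,11,14,13,16,15,18,17,20,19] 0 = true := by decide +kernel
theorem lt1 : MR.letB isM mulM oneM cs [1,0,3,2,5,4,7,6,8,10,9,12,11,14,13,16,15,18,17,20,19] 1 = true := by decide +kernel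
theorem lt2 : MR.letB isM mulM oneM cs [1,0,3,2,5,4,7,6,8,10,9,12,11,14,13,16,15,18,17,20,19] 2 = true := by decide +kernel
theorem lt3 : MR.letB isM mulM oneM cs [1,0,3,2,5,4,7,6,8,10,9,12,11,14,13,16,15,18,17,20,19] 3 = true := by decide +kernel
theorem lt4 : MR.letB isM mulM oneM cs [1,0,3,2,5,4,7,6,8,10,9,12,11,14,13,16,15,18,17,20,19] 4 = true := by decide +kernel
theorem lt5 : MR.letB isM mulM oneM cs [1,0,3,2,5,4,7,6,8,10,9,12,11,14,13,16,15,18,17,20,19] 5 = true := by decide +kernel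
theorem lt6 : MR.letB isM mulM oneM cs [1,0,3,2,5,4,7,6,8,10,9,12,11,14,13,16,15,18,17,20,19] 6 = true := by decide +kernel
theorem lt7 : MR.letB isM mulM oneM cs [1,0,3,2,5,4,7,6,8,10,9,12,11,14,13,16,15,18,17,20,19] 7 = true := by decide +kernel
theorem lt8 : MR.letB isM mulM oneM cs [1,0,3,2,5,4,7,6,8,10,9,12,11,14,13,16,15,18,17,20,19] 8 = true := by decide +kernel
theorem lt9 : MR.letB isM mulM oneM cs [1,0,3,2,5,4,7,6,8,10,9,12,11,14,13,16,15,18,17,20,19] 9 = true := by decide +kernel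
theorem lt10 : MR.letB isM mulM oneM cs [1,0,3,2,5,4,7,6,8,10,9,12,11,14,13,16,15,18,17,20,19] 10 = true := by decide +kernel
theorem lt11 : MR.letB isM mulM oneM cs [1,0,3,2,5,4,7,6,8,10,9,12,11,14,13,16,15,18,17,20,19] 11 = true := by decide +kernel
theorem lt12 : MR.letB isM mulM oneM cs [1,0,3,2,5,4,7,6,8,10,9,12,11,14,13,16,15,18,17,20,19] 12 = true := by decide +kernel
theorem lt13 : MR.letB isM mulM oneM cs [1,0,3,2,5,4,7,6,8,10,9,12,11,14,13,16,15,18,17,20,19] 13 = true := by decide +kernel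
theorem lt14 : MR.letB isM mulM oneM cs [1,0,3,2,5,4,7,6,8,10,9,12,11,14,13,16,15,18,17,20,19] 14 = true := by decide +kernel
theorem lt15 : MR.letB isM mulM oneM cs [1,0,3,2,5,4,7,6,8,10,9,12,11,14,13,16,15,18,17,20,19] 15 = true := by decide +kernel
theorem lt16 : MR.letB isM mulM oneM cs [1,0,3,2,5,4,7,6,8,10,9,12,11,14,13,16,15,18,17,20,19] 16 = true := by decide +kernel
theorem lt17 : MR.letB isM mulM oneM cs [1,0,3,2,5,4,7,6,8,10,9,12,11,14,13,16,15,18,17,20,19] 17 = true := by decide +kernel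
theorem lt18 : MR.letB isM mulM oneM cs [1,0,3,2,5,4,7,6,8,10,9,12,11,14,13,16,15,18,17,20,19] 18 = true := by decide +kernel
theorem lt19 : MR.letB isM mulM oneM cs [1,0,3,2,5,4,7,6,8,10,9,12,11,14,13,16,15,18,17,20,19] 19 = true := by decide +kernel
theorem lt20 : MR.letB isM mulM oneM cs [1,0,3,2,5,4,7,6,8,10,9,12,11,14,13,16,15,18,17,20,19] 20 = true := by decide +kernel
theorem ltrsM : MR.Ltrs φM oneM cs ivM :=
  MR.ltrs_of codeM (okM.units (by norm_num)) (L := 21) (by decide +kernel) (DCE.Below.of_lt (r := 21) ⟨⟨⟨⟨⟨⟨⟨⟨⟨⟨⟨⟨⟨⟨⟨⟨⟨⟨⟨⟨⟨trivial, lt0⟩, lt1⟩, lt2⟩, lt3⟩, lt4⟩, lt5⟩, lt6⟩, lt7⟩, lt8⟩, lt9⟩, lt10⟩, lt11⟩, lt12⟩, lt13⟩, lt14⟩, lt15⟩, lt16⟩, lt17⟩, lt18⟩, lt19⟩, lt20⟩)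
/-- the matrices -/
noncomputable abbrev gM : ℕ → GL (Fin 111) (ZMod 5) := MR.ltr φM oneM cs

end CL.Ly
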