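/- Relations between the matrices (generated by tools/cgt/dg.py). -/
import Cfsg.Agent.SPOR.LyMat
set_option autoImplicit false
set_option Elab.async false
set_option maxRecDepth 100000

namespace CL.Ly
open CL.CE CL.K CL.Net

def RM0 : List (List ℕ) := [[0,0,0,0,0,0,0,0], [2,2,2,2,2], [0,2,0,2,0,2,0,2], [1,1,3,0,0,2], [1,3,0,2,1,3,0,2,1,3,0,2], [9,5], [11,1,5,0], [13,3,5,2], [15,2,5,3], [17,12,10,11,9], [9,9,9,9,9], [17,17,17,17,17], [10,18,9,17], [12,18,11,17], [14,18,13,17], [16,18,15,17], [10,14,9,13,17,17], [10,16,9,15,18,18], [12,14,11,13,17], [12,16,11,15], [14,16,13,15,17], [1,11,0,9,9]]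
theorem RM0_ok : (∀ r ∈ RM0, ev gM r = 1) ∧ ∀ w ∈ ([] : List (List ℕ)), ev gM w ≠ 1 :=
  ltrsM.of_run codeM (prog := [(0, 2), (1, 1), (3, 5), (12, 12), (21, 21), (2, 4), (4, 4), (9, 9), (7, 7), (22, 26), (25, 27), (4, 4), (4, 4), (4, 4), (15, 11), (0, 15), (0, 15), (11, 11), (0, 12), (30, 20), (0, 25), (34, 24), (0, 27), (38, 25), (0, 29), (42, 37), (0, 36), (0, 38), (24, 24), (24, 24), (40, 48), (0, 40), (44, 50), (0, 44), (48, 52), (0, 25), (52, 54), (0, 26), (48, 52), (0, 48), (0, 53), (0, 36), (52, 58), (0, 52), (0, 59), (0, 63), (58, 60), (0, 58), (0, 38), (61, 65), (0, 61), (65, 67), (0, 65), (0, 42), (55, 65), (0, 55), (0, 52)])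
    (es := [(45, 99999), (44, 60), (43, 99999), (40, 99999), (38, 99999), (66, 61), (36, 58), (34, 60), (32, 59), (29, 67), (28, 67), (27, 75), (25, 75), (23, 75), (21, 99999), (19, 99999), (15, 99999), (11, 74), (8, 99999), (6, 73), (3, 99999), (0, 99999)]) (ns := []) (by decide +kernel) (L := 21) (by decide +kernel)
def RM1 : List (List ℕ) := [[1,13,0,16,10,13,13], [1,15,0,16,10,16,13,11,10], [1,17,0,18,18], [3,11,2,15,9,15,14,12], [3,13,2,13,13,16,10,10], [3,17,2,18], [8,7,10,7,2,1,3,10,7,1,10,0,10,1,9,0,2,2], [8,9,8,9,3,14,3], [8,13,8,0,15,9,12,1,3,3], [8,15,8,16,13,3,3]]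
theorem RM1_ok : (∀ r ∈ RM1, ev gM r = 1) ∧ ∀ w ∈ ([] : List (List ℕ)), ev gM w ≠ 1 :=
  ltrsM.of_run codeM (prog := [(16, 10), (14, 14), (5, 5), (3, 2), (20, 17), (20, 14), (16, 13), (15, 16), (9, 21), (0, 5), (0, 8), (12, 26), (0, 8), (0, 8), (0, 25), (16, 32), (0, 16), (0, 35), (21, 29), (0, 21), (0, 14), (0, 36), (0, 36), (26, 36), (0, 26), (0, 23), (0, 25), (30, 44), (0, 30), (37, 36), (0, 23), (0, 33), (0, 33), (0, 36), (0, 27), (0, 36), (0, 46), (0, 37), (0, 48), (0, 40), (0, 49), (0, 41), (0, 44), (35, 35), (0, 47), (0, 59), (54, 59), (0, 55), (0, 48), (0, 43), (0, 62), (0, 52), (0, 49), (61, 68), (0, 62), (0, 50), (0, 53)])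
    (es := [(46, 99999), (42, 66), (39, 74), (34, 68), (30, 66), (28, 74), (14, 60), (11, 59), (4, 99999), (0, 99999)]) (ns := []) (by decide +kernel) (L := 21) (by decide +kernel)
def RM2 : List (List ℕ) := [[8,17,8,15,10,13,10], [8,0,0,8,15,18,10,1,2,1,3,3,1], [8,2,8,15,15,13,10], [8,0,2,2,0,3,0,8,15,18,10,1,1], [8,11,8,12,8,11,16,0,13,0,0,0], [6,8,3,11,1,8,1,8,1,17,15,9,2,0,3,3,1], [6,6,1,1,1,1], [3,7,2,6], [7,0,6,1,1,1]]
theorem RM2_ok : (∀ r ∈ RM2, ev gM r = 1) ∧ ∀ w ∈ ([] : List (List ℕ)), ev gM w ≠ 1 :=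
  ltrsM.of_run codeM (prog := [(1, 1), (9, 16), (2, 2), (6, 6), (17, 14), (3, 23), (0, 16), (3, 8), (10, 8), (17, 20), (11, 18), (17, 10), (20, 29), (0, 11), (0, 24), (0, 10), (24, 13), (0, 10), (0, 19), (0, 21), (0, 21), (0, 13), (30, 24), (0, 21), (0, 39), (0, 20), (34, 26), (0, 29), (0, 19), (0, 32), (0, 30), (0, 24), (0, 31), (23, 41), (0, 46), (0, 25), (0, 52), (0, 37), (0, 51), (0, 36), (46, 48), (0, 44), (0, 53), (0, 32), (0, 33), (0, 46), (0, 63), (0, 62), (0, 57), (0, 40), (0, 42), (57, 39), (0, 51), (56, 60), (0, 56), (62, 55), (0, 44)])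
    (es := [(41, 99999), (35, 99999), (31, 99999), (24, 99999), (17, 58), (6, 99999), (4, 99999), (2, 64), (0, 57)]) (ns := []) (by decide +kernel) (L := 21) (by decide +kernel)
def RM3 : List (List ℕ) := [[6,17,6,17,6,17,6,17,6,17], [6,17,6,18,6,17,1,1], [20,9,19,1,3,4,1,2,4,3,0,2,0], [20,11,19,3,5,3,0,5,1,2,2], [20,13,19,1,3,1,5,0,2,0], [20,15,19,3,1,2,5,3,0,2], [20,17,19,4,2,2,5,1,3,5,2,0,3,3], [20,0,19,0,0,0], [20,2,0,3,19,0,0,2,0,3]]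
theorem RM3_ok : (∀ r ∈ RM3, ev gM r = 1) ∧ ∀ w ∈ ([] : List (List ℕ)), ev gM w ≠ 1 :=
  ltrsM.of_run codeM (prog := [(6, 17), (3, 1), (3, 5), (4, 5), (7, 4), (3, 8), (5, 5), (7, 7), (27, 5), (28, 12), (15, 5), (30, 3), (5, 5), (0, 12), (13, 20), (0, 33), (0, 15), (0, 18), (38, 27), (0, 10), (0, 24), (0, 17), (0, 26), (0, 18), (0, 22), (45, 36), (0, 16), (0, 16), (0, 33), (0, 25), (50, 43), (0, 22), (0, 33), (0, 38), (0, 34), (0, 33), (56, 51), (0, 27), (0, 34), (0, 28), (60, 57), (0, 60), (0, 46), (0, 45), (0, 46), (0, 50), (0, 43), (0, 52), (0, 42), (69, 49), (0, 38), (71, 45), (0, 40), (0, 47)])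
    (es := [(40, 99999), (36, 54), (29, 99999), (24, 57), (18, 99999), (14, 57), (5, 56), (3, 55), (0, 99999)]) (ns := []) (by decide +kernel) (L := 21) (by decide +kernel)
def RM4 : List (List ℕ) := [[20,2,2,0,3,3,19,0,2,2,1,3,3,1], [19,19,1,1], [3,3,0,2,2,19,3,3,0,2,2,19,3,3,0,2,2,19,0,0], [5,7,1,5,1,2,5,7,19,1,6,3,5,1,2,5,7,2,5,3,1,5,0,3,0,2,0,3,19,1,5,7,0,5,3,0,5,7,1,5,0,4,3,3,5,3,1,3,3,19]]
theorem RM4_ok : (∀ r ∈ RM4, ev gM r = 1) ∧ ∀ w ∈ ([] : List (List ℕ)), ev gM w ≠ 1 :=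
  ltrsM.of_run codeM (prog := [(3, 3), (3, 3), (7, 9), (3, 1), (23, 5), (4, 1), (0, 25), (8, 12), (13, 11), (8, 28), (7, 2), (12, 13), (0, 9), (13, 16), (34, 12), (0, 15), (0, 6), (0, 13), (0, 19), (0, 18), (39, 15), (14, 14), (0, 15), (0, 23), (13, 11), (0, 20), (0, 32), (0, 30), (0, 33), (0, 16), (0, 32), (0, 22), (0, 24), (0, 19), (0, 34), (0, 37), (0, 22), (0, 32), (0, 35), (0, 39), (0, 31), (0, 41), (0, 31), (0, 43), (0, 48), (0, 44), (0, 37), (0, 48), (0, 38)])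
    (es := [(29, 49), (28, 49), (25, 50), (0, 99999)]) (ns := []) (by decide +kernel) (L := 21) (by decide +kernel)
def RM5 : List (List ℕ) := [[20,7,20,1,5,7,2,1,3,5,7,2,1,3,5,3,0,3,3,0,3,19,6,19,0,2,1,2,2,1,2,2,5,0,4,2,4,3,6,4,3,3,6,4,2,4]]
theorem RM5_ok : (∀ r ∈ RM5, ev gM r = 1) ∧ ∀ w ∈ ([] : List (List ℕ)), ev gM w ≠ 1 :=
  ltrsM.of_run codeM (prog := [(2, 1), (4, 4), (7, 9), (0, 2), (0, 7), (4, 7), (10, 8), (0, 11), (28, 15), (0, 29), (0, 11), (0, 6), (0, 7), (0, 18), (0, 17), (0, 15), (0, 14), (0, 17), (0, 21), (0, 38), (0, 26), (0, 40), (0, 22), (0, 17), (0, 18), (0, 27), (0, 31), (0, 27), (0, 20), (0, 32), (0, 36), (0, 35), (0, 30), (0, 39), (0, 26)])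
    (es := [(0, 99999)]) (ns := []) (by decide +kernel) (L := 21) (by decide +kernel)
def RM6 : List (List ℕ) := [[19,2,0,3,1,3,3,1,3,4,2,2,4,2,6,4,3,3,6,4,2,4,19,0,3,3,1,4,2,5,2,1,5,5,6,4,0,4,1,4,3,7,20,5,3,5,7,2,2,5,7,3,5,3,3,5,2,0,2,2,0,2,1,3,20,7,0,4,2,4,1,5,7,0,3,1,4,1,3,3,1,2,1]]
theorem RM6_ok : (∀ r ∈ RM6, ev gM r = 1) ∧ ∀ w ∈ ([] : List (List ℕ)), ev gM w ≠ 1 :=
  ltrsM.of_run codeM (prog := [(3, 3), (5, 3), (4, 2), (2, 4), (6, 5), (9, 6), (11, 13), (10, 8), (14, 12), (28, 6), (0, 2), (0, 7), (0, 15), (0, 11), (0, 16), (0, 13), (0, 7), (0, 16), (0, 24), (0, 17), (0, 24), (0, 40), (0, 22), (0, 19), (0, 22), (0, 30), (0, 21), (0, 32), (0, 33), (0, 20), (0, 30), (0, 25), (0, 36), (0, 36), (0, 41), (0, 55), (0, 41), (0, 40), (0, 31), (0, 41), (0, 42), (0, 34), (0, 45), (0, 48), (0, 43), (0, 50), (0, 43), (0, 49), (0, 45), (0, 44), (0, 53), (0, 71),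 (0, 59), (0, 53), (0, 52), (0, 49), (0, 49), (0, 57), (0, 50), (0, 53), (0, 56), (0, 56)])
    (es := [(0, 99999)]) (ns := []) (by decide +kernel) (L := 21) (by decide +kernel)
def RM7 : List (List ℕ) := [[19,2,6,19,2,2,1,3,1,2,2,5,0,4,1,5,6,5,2,2,1,4,2,20,7,3,20,5,1,4,2,5,7,4,1,4,0,4,3,1,3,1,2]]
theorem RM7_ok : (∀ r ∈ RM7, ev gM r = 1) ∧ ∀ w ∈ ([] : List (List ℕ)), ev gM w ≠ 1 :=
  ltrsM.of_run codeM (prog := [(2, 2), (4, 2), (3, 6), (3, 7), (1, 6), (24, 7), (0, 12), (0, 26), (0, 7), (0, 10), (0, 8), (0, 10), (0, 17), (0, 9), (0, 15), (0, 20), (0, 22), (0, 22), (0, 17), (0, 14), (0, 40), (0, 28), (0, 25), (0, 43), (0, 29), (0, 20), (0, 31), (0, 34), (0, 32), (0, 26), (0, 26), (0, 29), (0, 30)])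
    (es := [(0, 36)]) (ns := []) (by decide +kernel) (L := 21) (by decide +kernel)
def RM : List (List ℕ) := RM0 ++ (RM1 ++ (RM2 ++ (RM3 ++ (RM4 ++ (RM5 ++ (RM6 ++ (RM7)))))))
theorem RM_ok : ∀ r ∈ RM, ev gM r = 1 :=
  List.forall_mem_append.2 ⟨RM0_ok.1, List.forall_mem_append.2 ⟨RM1_ok.1, List.forall_mem_append.2 ⟨RM2_ok.1, List.forall_mem_append.2 ⟨RM3_ok.1, List.forall_mem_append.2 ⟨RM4_ok.1, List.forall_mem_append.2 ⟨RM5_ok.1, List.forall_mem_append.2 ⟨RM6_ok.1, RM7_ok.1⟩⟩⟩⟩⟩⟩⟩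

end CL.Ly
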