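/- The presented group Ly: order and simplicity (generated by tools/cgt/gen_ly.py). -/
import Cfsg.Agent.SPOR.LyDce
import Cfsg.Agent.SPOR.LyMatK
import Cfsg.Agent.SPOR.LyMatP
import Cfsg.Prelude.Def_Spor_Ly

set_option autoImplicit false
set_option maxRecDepth 100000

namespace CL.Ly
open CL.CE CL.K CL.Net CL.DCE Cfsg.Spor

def gens : List (Ly.Gen × Bool) := [(.a, true), (.a, false), (.b, true), (.b, false), (.c, true), (.c, false), (.d, true), (.d, false), (.e, true), (.c1, true), (.c1, false), (.c2, true), (.c2, false), (.c3, true), (.c3, false), (.c4, true), (.c4, false), (.c5, true), (.c5, false), (.z, true), (.z, false), (.a1, true), (.a1, false), (.a2, true), (.a2, false), (.a3, true), (.a3, false), (.a4, true), (.a4, false), (.u, true), (.u, false), (.x23, true), (.x23, false), (.x24, true), (.x24, false), (.x25, true),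 (.x25, false), (.x29, true), (.x29, false), (.x47, true), (.x47, false), (.x96, true), (.x96, false), (.x129, true), (.x129, false), (.x162, true), (.x162, false), (.x163, true), (.x163, false), (.x164, true), (.x164, false), (.x165, true), (.x165, false), (.x166, true), (.x166, false), (.x167, true), (.x167, false), (.x168, true), (.x168, false), (.x169, true), (.x169, false), (.x364, true), (.x364, false), (.x365, true), (.x365, false), (.x366, true), (.x366, false), (.x367, true), (.x367, false), (.x368, true), (.x368, false), (.x369, true), (.x369, false), (.x370, true), (.x370, false), (.x371, true), (.x371, false)]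

def code : Ly.Gen → ℕ
  | .a => 0
  | .b => 2
  | .c => 4
  | .d => 6
  | .e => 8
  | .c1 => 9
  | .c2 => 11
  | .c3 => 13
  | .c4 => 15
  | .c5 => 17
  | .z => 19
  | .a1 => 21
  | .a2 => 23
  | .a3 => 25
  | .a4 => 27
  | .u => 29
  | .x23 => 31
  | .x24 => 33
  | .x25 => 35
  | .x29 => 37
  | .x47 => 39
  | .x96 => 41
  | .x129 => 43
  | .x162 => 45
  | .x163 => 47
  | .x164 => 49
  | .x165 => 51
  | .x166 => 53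
  | .x167 => 55
  | .x168 => 57
  | .x169 => 59
  | .x364 => 61
  | .x365 => 63
  | .x366 => 65
  | .x367 => 67
  | .x368 => 69
  | .x369 => 71
  | .x370 => 73
  | .x371 => 75

theorem code_spec : ∀ x, gens[code x]? = some (x, true) := fun x => by cases x <;> rfl

def ivl : List ℕ := [1,0,3,2,5,4,7,6,8,10,9,12,11,14,13,16,15,18,17,20,19,22,21,24,23,26,25,28,27,30,29,32,31,34,33,36,35,38,37,40,39,42,41,44,43,46,45,48,47,50,49,52,51,54,53,56,55,58,57,60,59,62,61,64,63,66,65,68,67,70,69,72,71,74,73,76,75]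

/-- inverses of the letters -/
abbrev iv : ℕ → ℕ := fun a => ivl.getD a a

/-- the letters -/
noncomputable abbrev g : ℕ → Ly := coxG Ly.edges Ly.extra gens

def Rels0 : List (List ℕ) := [[0,0,0,0,0,0,0,0],
  [2,2,2,2,2],
  [0,2,0,2,0,2,0,2],
  [1,1,3,0,0,2],
  [1,3,0,2,1,3,0,2,1,3,0,2],
  [9,5],
  [11,1,5,0],
  [13,3,5,2],
  [15,2,5,3],
  [17,12,10,11,9],
  [9,9,9,9,9],
  [17,17,17,17,17],
  [10,18,9,17],
  [12,18,11,17],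
  [14,18,13,17],
  [16,18,15,17],
  [10,14,9,13,17,17],
  [10,16,9,15,18,18],
  [12,14,11,13,17],
  [12,16,11,15],
  [14,16,13,15,17],
  [1,11,0,9,9],
  [1,13,0,16,10,13,13],
  [1,15,0,16,10,16,13,11,10],
  [1,17,0,18,18],
  [3,11,2,15,9,15,14,12],
  [3,13,2,13,13,16,10,10],
  [3,17,2,18],
  [8,7,10,7,2,1,3,10,7,1,10,0,10,1,9,0,2,2],
  [8,9,8,9,3,14,3],
  [8,13,8,0,15,9,12,1,3,3],
  [8,15,8,16,13,3,3],
  [8,17,8,15,10,13,10],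
  [8,0,0,8,15,18,10,1,2,1,3,3,1],
  [8,2,8,15,15,13,10],
  [8,0,2,2,0,3,0,8,15,18,10,1,1],
  [8,11,8,12,8,11,16,0,13,0,0,0],
  [6,8,3,11,1,8,1,8,1,17,15,9,2,0,3,3,1],
  [6,6,1,1,1,1],
  [3,7,2,6],
  [7,0,6,1,1,1],
  [6,17,6,17,6,17,6,17,6,17],
  [6,17,6,18,6,17,1,1],
  [21,1],
  [23,2,1,3],
  [25,2,2,1,3,3],
  [27,3,3,1,2,2],
  [29,1,1],
  [31,7],
  [33,6],
  [35,3,5,0,3,3,4,7,4,0,5,1,4,3,3,0,2,0,3,3],
  [37,5,3,5,7,2,2,5,7,2,5,3,5,1,4,3,3,0,3,3,0,3,1],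
  [39,6,4,3,0,4,0,6,4],
  [41,7,3],
  [43,2,6],
  [45,1,3,4,1,2,4,3,0,2,0],
  [47,3,5,3,0,5,1,2,2],
  [49,1,3,1,5,0,2,0],
  [51,3,1,2,5,3,0,2],
  [53,4,2,2,5,1,3,5,2,0,3,3],
  [55,0,0,0],
  [57,0,0,2,0,3],
  [59,0,2,2,1,3,3,1],
  [61,2,1,3,1,2,1,4,0,2,4,3,6,4,3,0,4,2,7,0],
  [63,6,2,5,0,5,1,5,7,4,4,0,3,4,3,5,0,2,2,1],
  [65,5,3,5,7,2,2,5,7,3,5,3,3,5,2,0,2,2,0,2,1,3],
  [67,2,0,3,1,3,3,1,3,4,2,2,4,2,6,4,3,3,6,4,2,4],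
  [69,2,2,0,2,4,2,2,5,1,4,0,6,4,1,2,4,1,6,4,0],
  [71,2,1,2,2,1,2,4,2,0,3,6,4,2,0,3,6,4,0],
  [73,0,3,0,2,2,0,5,0,2,1,6,4,0,5,3,5,1,6],
  [75,3,0,2,0,2,5,1,5,0,5,6,4,3,5,0,4],
  [20,9,19,46],
  [20,11,19,48],
  [20,13,19,50],
  [20,15,19,52],
  [20,17,19,54],
  [20,21,19,56],
  [20,23,19,58],
  [20,25,19,60],
  [19,19,30],
  [27,19,27,19,27,19,29],
  [39,19,61,19,69,19],
  [20,33,20,71,19,31,19,37],
  [19,65,19,63,20,67,20,73],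
  [19,41,19,35,20,43,20,75]]

theorem presG0 : Pres g iv Rels0 :=
  cox_pres' code (cox_inv' (by decide +kernel)) code_spec (by decide +kernel)

def gw : List (List ℕ) := [[0], [2], [4], [6], [8], [9], [11], [13], [15], [17], [19], [21], [23], [25], [27], [29], [31], [33], [35], [37], [39], [41], [43], [45], [47], [49], [51], [53], [55], [57], [59], [61], [63], [65], [67], [69], [71], [73], [75]]

theorem gen_top : gen g gw = ⊤ :=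
  cox_gen_top code code_spec fun x => by cases x <;> decide

theorem map_closure (l : List (FreeGroup Ly.Gen)) {S : Set (FreeGroup Ly.Gen)}
    (hS : ∀ x, x ∈ S ↔ x ∈ l) {ws : List (List ℕ)}
    (hw : (fun vs => vs.all (among iv (ws.map (red iv))) &&
      ws.all (among iv (vs.map (red iv)))) (l.map (enc code iv)) = true) :
    (Subgroup.closure S).map (PresentedGroup.mk (coxRelators Ly.edges ∪ {r | r ∈ Ly.extra})) =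
      gen g ws := cox_map_closure code presG0.inv code_spec l hS hw

def steps : List (List ℕ × List (List ℕ × ℕ × ℕ)) := [([19,19,1,1], [([19,19,30], 47, 0), ([], 79, 0)]),
  ([9,19,1,3,4,1,2,4,3,0,2,0,20], [([9,19,46], 55, 0), ([19], 71, 0)]),
  ([11,19,3,5,3,0,5,1,2,2,20], [([11,19,48], 56, 0), ([19], 72, 0)]),
  ([13,19,1,3,1,5,0,2,0,20], [([13,19,50], 57, 0), ([19], 73, 0)]),
  ([15,19,3,1,2,5,3,0,2,20], [([15,19,52], 58, 0), ([19], 74, 0)]),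
  ([17,19,4,2,2,5,1,3,5,2,0,3,3,20], [([17,19,54], 59, 0), ([19], 75, 0)]),
  ([0,19,0,0,0,20], [([0,19,56], 60, 0), ([], 43, 1), ([19], 76, 0)]),
  ([2,0,3,19,0,0,2,0,3,20], [([2,0,3,19,58], 61, 0), ([], 44, 1), ([19], 77, 0)]),
  ([2,2,0,3,3,19,0,2,2,1,3,3,1,20], [([2,2,0,3,3,19,60], 62, 0), ([], 45, 1), ([19], 78, 0)]),
  ([19,1,1,19], [([19,30], 47, 0), ([20], 79, 0)]),
  ([0,0,3,3,0,2,2,19,3,3,0,2,2,19,3,3,0,2,2,19], [([], 47, 1), ([20,3,3,1,2,2], 46, 1), ([20,3,3,1,2,2,20,3,3,1,2,2], 46, 1), ([20,3,3,1,2,2,20,3,3,1,2,2,20,3,3,1,2,2], 46, 1), ([20,3,3,1,2,2,20,3,3,1,2,2,20,3,3,1,2,2], 80, 0)]),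
  ([5,7,1,5,1,2,5,7,19,1,6,3,5,1,2,5,7,2,5,3,1,5,0,3,0,2,0,3,19,1,5,7,0,5,3,0,5,7,1,5,0,4,3,3,5,3,1,3,3,19], [([5,7,1,5,1,2,5,7,19,1,6,3,5,1,2,5,7,2,5,3,1,5,0,3,0,2,0,3,19], 67, 1), ([5,7,1,5,1,2,5,7,19], 63, 1), ([], 52, 1), ([], 81, 0)]),
  ([0,2,1,2,2,1,2,2,5,0,4,2,4,3,6,4,3,3,6,4,2,4,1,1,19,7,1,1,19,1,5,7,2,1,3,5,7,2,1,3,5,3,0,3,3,0,3,19,6,19], [([], 51, 1), ([20,7], 48, 1), ([20,7,20,2,1,2,2,1,2,4,2,0,3,6,4,2,0,3,6,4,0], 68, 1), ([20,7,20,2,1,2,2,1,2,4,2,0,3,6,4,2,0,3,6,4,0,20,0,0,20,20], 85, 0), ([20,7,20,2,1,2,2,1,2,4,2,0,3,6,4,2,0,3,6,4,0,20,0,0,6], 49, 1), ([20,7,20,2,1,2,2,1,2,4,2,0,3,6,4,2,0,3,6,4,0,20,0,0,6,20,0,0,20,20], 85, 0), ([20,7,20,2,1,2,2,1,2,4,2,0,3,6,4,2,0,3,6,4,0,20,0,0,6,20,0,0], 82, 0)]),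
  ([7,0,4,2,4,1,5,7,0,3,1,4,1,3,3,1,2,1,19,2,0,3,1,3,3,1,3,4,2,2,4,2,6,4,3,3,6,4,2,4,19,0,3,3,1,4,2,5,2,1,5,5,6,4,0,4,1,4,3,7,1,1,19,5,3,5,7,2,2,5,7,3,5,3,3,5,2,0,2,2,0,2,1,3,1,1,19], [([], 69, 1), ([20,0,0,20,20], 85, 0), ([20,0,0,2,0,3,1,3,3,1,3,4,2,2,4,2,6,4,3,3,6,4,2,4], 66, 1), ([20,0,0,2,0,3,1,3,3,1,3,4,2,2,4,2,6,4,3,3,6,4,2,4,20,0,0,20,20], 85, 0), ([20,0,0,2,0,3,1,3,3,1,3,4,2,2,4,2,6,4,3,3,6,4,2,4,20,0,0,6,2,5,0,5,1,5,7,4,4,0,3,4,3,5,0,2,2,1], 64, 1), ([20,0,0,2,0,3,1,3,3,1,3,4,2,2,4,2,6,4,3,3,6,4,2,4,20,0,0,6,2,5,0,5,1,5,7,4,4,0,3,4,3,5,0,2,2,1,20,5,3,5,7,2,2,5,7,3,5,3,3,5,2,0,2,2,0,2,1,3], 65, 1), ([20,0,0,2,0,3,1,3,3,1,3,4,2,2,4,2,6,4,3,3,6,4,2,4,20,0,0,6,2,5,0,5,1,5,7,4,4,0,3,4,3,5,0,2,2,1,20,5,3,5,7,2,2,5,7,3,5,3,3,5,2,0,2,2,0,2,1,3,20], 83, 0)]),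
  ([5,1,4,2,5,7,4,1,4,0,4,3,1,3,1,2,19,2,6,19,2,2,1,3,1,2,2,5,0,4,1,5,6,5,2,2,1,4,2,1,1,19,7,3,1,1,19], [([], 70, 1), ([20,0,0,20,20], 85, 0), ([20,0,0,2,6], 54, 1), ([20,0,0,2,6,20,0,0,20,20], 85, 0), ([20,0,0,2,6,20,0,0,3,5,0,3,3,4,7,4,0,5,1,4,3,3,0,2,0,3,3], 50, 1), ([20,0,0,2,6,20,0,0,3,5,0,3,3,4,7,4,0,5,1,4,3,3,0,2,0,3,3,20,7,3], 53, 1), ([20,0,0,2,6,20,0,0,3,5,0,3,3,4,7,4,0,5,1,4,3,3,0,2,0,3,3,20,7,3,20], 84, 0)]),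
  ([0,1], []),
  ([2,3], []),
  ([4,5], []),
  ([6,7], []),
  ([9,10], []),
  ([11,12], []),
  ([13,14], []),
  ([15,16], []),
  ([17,18], []),
  ([19,20], []),
  ([21,22], []),
  ([23,24], []),
  ([25,26], []),
  ([27,28], []),
  ([29,30], []),
  ([31,32], []),
  ([33,34], []),
  ([35,36], []),
  ([37,38], []),
  ([39,40], []),
  ([41,42], []),
  ([43,44], []),
  ([45,46], []),
  ([47,48], []),
  ([49,50], []),
  ([51,52], []),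
  ([53,54], []),
  ([55,56], []),
  ([57,58], []),
  ([59,60], []),
  ([61,62], []),
  ([63,64], []),
  ([65,66], []),
  ([67,68], []),
  ([69,70], []),
  ([71,72], []),
  ([73,74], []),
  ([75,76], [])]

def Rels : List (List ℕ) := Rels0 ++ steps.map Prod.fst

theorem presG : Pres g iv Rels := presG0.derive (by decide +kernel)

theorem exists_ψ : ∃ ψ : A →* Ly, (∀ a < 19, ψ (gA a) = g a) ∧ ψ.range = gen g (ltrs 19) :=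
  exists_psi presA topA presG (by decide +kernel) le_H cardA.ge

/-- the homomorphism from the model of the subgroup -/
noncomputable def ψ : A →* Ly := exists_ψ.choose

theorem ψ_apply : ∀ a < 19, ψ (gA a) = g a := exists_ψ.choose_spec.1

theorem ψ_range : ψ.range = gen g (ltrs 19) := exists_ψ.choose_spec.2

theorem ctx : Ctx π 19530 (lamOf π 19530 (tab tt)) (tab tt) (0 :: bs) pt.get ∧
    ∀ a < 61, lamOf π 19530 (tab tt) (a + 1) = ev gA (lw.getD a []) :=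
  ctx_of modelA.1 liftA valid0 modelA.2.2 baseK tn_ok wordsOK ctx_ok

/-- the representatives of the double cosets -/
noncomputable abbrev γ (i : ℕ) : Ly := node (lamOf π 19530 (tab tt)) ψ (ev g [19]) (pt.get i)

theorem table : Table π (gen gA ks) 19530 ψ (ev g [19]) γ 5 (DCE.tau (tab32 ct)) :=
  ctx.1.table modelA.1 (letters_of ctx.2 let_ok) ψ_apply presG
    (presG.top_of_grab gen_top ψ_range [(21, [0]), (23, [2,0,3]), (25, [2,2,0,3,3]), (27, [3,3,0,2,2]), (29, [0,0]), (31, [6]), (33, [7]), (35, [2,2,1,3,1,2,2,5,0,4,1,5,6,5,2,2,1,4,2]), (37, [0,2,1,2,2,1,2,2,5,0,4,2,4,3,6,4,3,3,6,4,2,4]), (39, [5,7,1,5,1,2,5,7]), (41, [2,6]), (43, [7,3]), (45, [1,3,1,2,5,3,0,5,2,0]), (47, [3,3,0,4,1,2,4,2]), (49, [1,3,1,4,0,2,0]), (51, [3,1,2,4,3,0,2]), (53, [2,2,1,3,4,2,0,4,3,3,5]), (55, [1,1,1]), (57, [2,1,3,1,1]), (59, [0,2,2,0,3,3,1]),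 (61, [1,6,3,5,1,2,5,7,2,5,3,1,5,0,3,0,2,0,3]), (63, [0,3,3,1,4,2,5,2,1,5,5,6,4,0,4,1,4,3,7]), (65, [2,0,3,1,3,3,1,3,4,2,2,4,2,6,4,3,3,6,4,2,4]), (67, [5,3,5,7,2,2,5,7,3,5,3,3,5,2,0,2,2,0,2,1,3]), (69, [1,5,7,0,5,3,0,5,7,1,5,0,4,3,3,5,3,1,3,3]), (71, [1,5,7,2,1,3,5,7,2,1,3,5,3,0,3,3,0,3]), (73, [7,0,4,2,4,1,5,7,0,3,1,4,1,3,3,1,2,1]), (75, [5,1,4,2,5,7,4,1,4,0,4,3,1,3,1,2])] (by decide +kernel))
    upto (by norm_num) cover (ns := ns) (by decide +kernel)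

theorem sep : Sep 5 (cntE 19530 (DCE.tau (tab32 ct))) fun i => szl.getD i 0 :=
  table.sep_of (by norm_num) (by norm_num) rows sep_ok

def mw : List (List ℕ) := [[0],
  [1],
  [2],
  [3],
  [4],
  [5],
  [6],
  [7],
  [8],
  [9],
  [10],
  [11],
  [12],
  [13],
  [14],
  [15],
  [16],
  [17],
  [18],
  [19],
  [20],
  [0],
  [1],
  [2,0,3],
  [2,1,3],
  [2,2,0,3,3],
  [2,2,1,3,3],
  [3,3,0,2,2],
  [3,3,1,2,2],
  [0,0],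
  [1,1],
  [6],
  [7],
  [7],
  [6],
  [2,2,1,3,1,2,2,5,0,4,1,5,6,5,2,2,1,4,2],
  [3,5,0,3,3,4,7,4,0,5,1,4,3,3,0,2,0,3,3],
  [0,2,1,2,2,1,2,2,5,0,4,2,4,3,6,4,3,3,6,4,2,4],
  [5,3,5,7,2,2,5,7,2,5,3,5,1,4,3,3,0,3,3,0,3,1],
  [5,7,1,5,1,2,5,7],
  [6,4,3,0,4,0,6,4],
  [2,6],
  [7,3],
  [7,3],
  [2,6],
  [1,3,1,2,5,3,0,5,2,0],
  [1,3,4,1,2,4,3,0,2,0],
  [3,3,0,4,1,2,4,2],
  [3,5,3,0,5,1,2,2],
  [1,3,1,4,0,2,0],
  [1,3,1,5,0,2,0],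
  [3,1,2,4,3,0,2],
  [3,1,2,5,3,0,2],
  [2,2,1,3,4,2,0,4,3,3,5],
  [4,2,2,5,1,3,5,2,0,3,3],
  [1,1,1],
  [0,0,0],
  [2,1,3,1,1],
  [0,0,2,0,3],
  [0,2,2,0,3,3,1],
  [0,2,2,1,3,3,1],
  [1,6,3,5,1,2,5,7,2,5,3,1,5,0,3,0,2,0,3],
  [2,1,3,1,2,1,4,0,2,4,3,6,4,3,0,4,2,7,0],
  [0,3,3,1,4,2,5,2,1,5,5,6,4,0,4,1,4,3,7],
  [6,2,5,0,5,1,5,7,4,4,0,3,4,3,5,0,2,2,1],
  [2,0,3,1,3,3,1,3,4,2,2,4,2,6,4,3,3,6,4,2,4],
  [5,3,5,7,2,2,5,7,3,5,3,3,5,2,0,2,2,0,2,1,3],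
  [5,3,5,7,2,2,5,7,3,5,3,3,5,2,0,2,2,0,2,1,3],
  [2,0,3,1,3,3,1,3,4,2,2,4,2,6,4,3,3,6,4,2,4],
  [1,5,7,0,5,3,0,5,7,1,5,0,4,3,3,5,3,1,3,3],
  [2,2,0,2,4,2,2,5,1,4,0,6,4,1,2,4,1,6,4,0],
  [1,5,7,2,1,3,5,7,2,1,3,5,3,0,3,3,0,3],
  [2,1,2,2,1,2,4,2,0,3,6,4,2,0,3,6,4,0],
  [7,0,4,2,4,1,5,7,0,3,1,4,1,3,3,1,2,1],
  [0,3,0,2,2,0,5,0,2,1,6,4,0,5,3,5,1,6],
  [5,1,4,2,5,7,4,1,4,0,4,3,1,3,1,2],
  [3,0,2,0,2,5,1,5,0,5,6,4,3,5,0,4]]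

theorem exists_ρ : ∃ ρ : Ly →* GL (Fin 111) (ZMod 5), ∀ a < 77, ρ (g a) = subst gM mw a :=
  cox_hom (gens := gens) (ivl := ivl) code (by decide +kernel)
    ((ltrsM.pres.append RM_ok).subst (Rels' := Rels0) (by decide +kernel)) (by decide +kernel)

/-- the matrix representation -/
noncomputable def ρ : Ly →* GL (Fin 111) (ZMod 5) := exists_ρ.choose

theorem ρ_apply : ∀ a < 77, ρ (g a) = subst gM mw a := exists_ρ.choose_spec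

theorem faithful : ev g [19] ∉ ψ.range ∧ Function.Injective ρ :=
  table.of_rep sep ρ_apply (p := 37) (by rw [cardA]; norm_num) (u := [19,7,15,10,6,0]) (by decide +kernel)
    (RP_ok _ (by decide +kernel)) (RP0_ok.2 _ (by simp))

instance : Finite Ly := table.finite

theorem index : ψ.range.index = 8835156 := (table.index faithful.1 sep).trans (by decide +kernel)

theorem card : Nat.card Ly = 51765179004000000 := by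
  rw [table.card faithful.1 sep, cardA]; decide +kernel

theorem ψ_injective : Function.Injective ψ := table.injective faithful.1 sep

theorem isCoatom : IsCoatom ψ.range := table.isCoatom faithful.1

theorem normalCore : ψ.range.normalCore = ⊥ := table.normalCore faithful.1 sep

theorem card_range : Nat.card ψ.range = 5859000000 := (table.card_range faithful.1 sep).trans cardA

theorem isSimpleGroup : IsSimpleGroup Ly :=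
  (presG.append_rep faithful.2 ρ_apply RP_ok (by decide +kernel)).isSimpleGroup isCoatom normalCore
    (p := 37) (by rw [card_range]; norm_num) gen_top [([19,7,15,10,6,0], 0), ([19,6,14], 2), ([20,14,8,13], 4), ([17,9,11,1,6,9,19], 6), ([2,4,20,6,1,4,16,2], 19)]
    [27,39,48,49,52,53,54,60,61,79,91,100,102,114,115,116,119,120,121,127,128,5,6,7,8,12,13,14,15,18,27,28,43,44,45,46,50,51,55,56,57,58,59,62,63,64,65,66,67,68,69,70,71,72,73,74,75,78,110,111,112,113,117,118,130,131,132,133,134,135,136,137] (by decide +kernel)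

/-- the subgroup `G2(5)` -/
theorem range_eq : ψ.range = gen g (ltrs 8) :=
  ψ_range.trans (presG.gen_ltrs_eq [(9, [4]), (11, [1,4,0]), (13, [3,4,2]), (15, [2,4,3]), (17, [10,12,9,11]), (8, [3,3,1,10,0,9,1,9,0,6,9,2,0,3,6,9,6]), (21, [0]), (23, [2,0,3]), (25, [2,2,0,3,3]), (27, [3,3,0,2,2]), (29, [0,0]), (31, [6]), (33, [7]), (35, [2,2,1,3,1,2,2,5,0,4,1,5,6,5,2,2,1,4,2]), (37, [0,2,1,2,2,1,2,2,5,0,4,2,4,3,6,4,3,3,6,4,2,4]), (39, [5,7,1,5,1,2,5,7]), (41, [2,6]), (43, [7,3]), (45, [1,3,1,2,5,3,0,5,2,0]), (47, [3,3,0,4,1,2,4,2]), (49, [1,3,1,4,0,2,0]), (51, [3,1,2,4,3,0,2]), (53, [2,2,1,3,4,2,0,4,3,3,5]), (55, [1,1,1]), (57, [2,1,3,1,1]), (59, [0,2,2,0,3,3,1]), (61, [1,6,3,5,1,2,5,7,2,5,3,1,5,0,3,0,2,0,3]), (63, [0,3,3,1,4,2,5,2,1,5,5,6,4,0,4,1,4,3,7]), (65, [2,0,3,1,3,3,1,3,4,2,2,4,2,6,4,3,3,6,4,2,4]), (67, [5,3,5,7,2,2,5,7,3,5,3,3,5,2,0,2,2,0,2,1,3]),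 (69, [1,5,7,0,5,3,0,5,7,1,5,0,4,3,3,5,3,1,3,3]), (71, [1,5,7,2,1,3,5,7,2,1,3,5,3,0,3,3,0,3]), (73, [7,0,4,2,4,1,5,7,0,3,1,4,1,3,3,1,2,1]), (75, [5,1,4,2,5,7,4,1,4,0,4,3,1,3,1,2])] (by decide +kernel))

end CL.Ly
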