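import Cfsg.Agent.SPOR.HNItemQ
set_option autoImplicit false
set_option Elab.async false
set_option maxRecDepth 100000

namespace CL.HN
open CL.CE CL.K CL.Net CL.DCE

theorem ci0 : chkRange (tab tt) (0 :: bs) st.get pt.get gv qt.get 0 1 60 = true := by decide +kernel
theorem ci60 : chkRange (tab tt) (0 :: bs) st.get pt.get gv qt.get 60 1 60 = true := by decide +kernel
theorem ci120 : chkRange (tab tt) (0 :: bs) st.get pt.get gv qt.get 120 1 60 = true := by decide +kernel
theorem ci180 : chkRange (tab tt) (0 :: bs) st.get pt.get gv qt.get 180 1 60 = true := by decide +kernel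

end CL.HN
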