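/- The tables are correct (generated by tools/cgt/dcel.py). -/
import Cfsg.Agent.SPOR.HNTab
import Cfsg.Agent.SPOR.HNNet
set_option autoImplicit false
set_option Elab.async false
set_option maxRecDepth 100000

namespace CL.HN
open CL.CE CL.K CL.Net CL.DCE

noncomputable def tn : List (ℕ × ℕ) := List.map (swapBits 15) [(13, 14), (12, 13), (11, 12), (10, 14), (9, 13), (8, 12), (7, 11), (6, 10), (5, 9), (4, 8), (3, 7), (2, 6), (1, 5), (0, 4)]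
theorem tn_ok : tnOK 11 tn = true := by decide +kernel
def lw : List (List ℕ) := [[0],
  [1],
  [2],
  [3],
  [4],
  [1,2,0],
  [2,2,2],
  [2,1,2,0,2],
  [2,1,2,0,2,2,2,1,2,0,2],
  [2,2,2,2,1,2,0,2,2,2,2],
  [2,2,2,2,1,2,0,2,2,2,2,2],
  [2,1,2,0,2,2],
  [2,2,2,2],
  [2,2,1,2,0,2,2,2,1,2,0,2],
  [2,1,2,0,2,2,2,2,2,2],
  [2,2,2,2,1,2,0,2,2,2,2,2,1,2,0,2],
  [2,2,2,2,1,2,0,2,2,2,2,2,2,1,2,0,2],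
  [2,1,2,0,2,2,2,2,2,2,2,2,2],
  [2,2,2,2,1,2,0,2,2,2,2,2,2,2,2,2,1,2,0,2,2,2,2,2,2,1,2,0,2],
  [2,2,2,2,1,2,0,2,2,2,2,2,2,2,2,2,1,2,0,2,2,2,2,2,2,1,2,0,2,2,1,2,0,2,2],
  [2,2,2,2,1,2,0,2,2,2,2,2,1,2,0,2,2,1,2,0,2,2,2,2,2,2],
  [2,2,2,2,1,2,0,2,2,2,2,2,2,1,2,0,2,2,1,2,0,2,2,2,1,2,0,2],
  [2,2,2,2,1,2,0,2,2,2,2,2,2,2,2,2,1,2,0,2,2,2,2,2,2,1,2,0,2,2],
  [3,3,3,3,1,3,0,2,1,2,0,2,2,2,2,2,2,1,2,0,2,2,2,2,2,1,2,0,2,2,1,2,0,2,2,2,2,2,2],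
  [3,1,3,0,3,3,3,3,3,1,3,0,3,3,3,3,3,3,3,3,3,3,1,3,0,3,3,1,3,0,3,3,3,3,3,1,3,0,3,3,3,3,3,3,3,3,1,3,0,2,1,2,0,2,2,2,2,2,2,1,2,0,2,2,2,2,2,1,2,0,2,2,1,2,0,2,2,2,2,2,2,2,1,2,0,2,2,2,2,2,2,2,2,2],
  [1,3,0,3,3,1,3,0,3,1,3,0,3,1,3,0,3,3,3,3,3,1,3,0,3,3,3,3,3,3,3,3,3,3,1,3,0,3,3,1,3,0,3,3,3,3,3,1,3,0,3,3,3,3,3,3,3,3,1,3,0,2,1,2,0,2,2,2,2,2,2,1,2,0,2,2,2,2,2,1,2,0,2,2,1,2,0,2,2,2,2,2,2,2,1,2,0,2,2,2,2,2,2,2,2,2,2,1,2,0,2,2,2,2,2,2,2,2,2],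
  [3,1,3,0,3,1,3,0,3,3,1,3,0,3,1,3,0,3,1,3,0,3,3,3,3,3,1,3,0,3,3,3,3,3,3,3,3,3,3,1,3,0,3,3,1,3,0,3,3,3,3,3,1,3,0,3,3,3,3,3,3,3,3,1,3,0,2,1,2,0,2,2,2,2,2,2,1,2,0,2,2,2,2,2,1,2,0,2,2,1,2,0,2,2,2,2,2,2,2,1,2,0,2,2,2,2,2,2,2,2,2,2,1,2,0,2,2,2,2,2,2,2,2,2,2,2,2,2,1,2,0,2,2,2,2,2,2,2,2,2,1,2,0,2,2,2,2,2,2,1,2,0,2,2,1,2,0,2,2],
  [3,3,3,3,1,3,0,3,3,3,1,3,0,3,3,1,3,0,3,3,3,3,3,1,3,0,3,3,3,3,3,3,3,3,3,3,1,3,0,3,3,1,3,0,3,3,3,3,3,1,3,0,3,3,3,3,3,3,3,3,1,3,0,2,1,2,0,2,2,2,2,2,2,1,2,0,2,2,2,2,2,1,2,0,2,2,1,2,0,2,2,2,2,2,2,2,1,2,0,2,2,2,2,2,2,2,2,2,2,2,2,2,1,2,0,2,2,2,2,2,2,2,2,2,1,2,0,2,2,2,2,2,2,1,2,0,2,2],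
  [1,3,0,3,3,3,3,3,3,1,3,0,3,3,1,3,0,3,3,3,3,3,1,3,0,3,3,3,3,3,3,1,3,0,3,3,3,3,3,3,1,3,0,3,3,3,3,3,3,3,3,3,1,3,0,3,3,3,3,3,3,3,3,1,3,0,3,3,3,1,3,0,3,3,1,3,0,3,3,3,3,3,1,3,0,3,3,3,3,3,3,3,3,3,3,1,3,0,3,3,1,3,0,3,3,3,3,3,1,3,0,3,3,3,3,3,3,3,3,1,3,0,2,1,2,0,2,2,2,2,2,2,1,2,0,2,2,2,2,2,1,2,0,2,2,1,2,0,2,2,2,2,2,2,2,1,2,0,2,2,2,2,2,2,2,2,2,2,2,2,2,1,2,0,2,2,2,2,2,2,2,2,2,1,2,0,2,2,2,2,2,2,1,2,0,2,2,2,2,2,2],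
  [3,1,3,0,3,3,3,1,3,0,3,3,1,3,0,3,3,3,1,3,0,3,3,1,3,0,3,3,3,3,3,3,1,3,0,3,3,3,3,3,1,3,0,3,3,3,3,3,3,1,3,0,3,3,1,3,0,3,3,3,3,3,1,3,0,3,3,3,3,3,3,1,3,0,3,3,3,3,3,3,1,3,0,3,3,3,3,3,3,3,3,3,1,3,0,3,3,3,3,3,3,3,3,1,3,0,3,3,3,1,3,0,3,3,1,3,0,3,3,3,3,3,1,3,0,3,3,3,3,3,3,3,3,3,3,1,3,0,3,3,1,3,0,3,3,3,3,3,1,3,0,3,3,3,3,3,3,3,3,1,3,0,2,1,2,0,2,2,2,2,2,2,1,2,0,2,2,2,2,2,1,2,0,2,2,1,2,0,2,2,2,2,2,2,2,1,2,0,2,2,2,2,2,2,2,2,2,2,2,2,2,1,2,0,2,2,2,2,2,2,2,2,2,1,2,0,2,2,2,2,2,2,1,2,0,2,2,2,2,2,2,2,1,2,0,2],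
  [3,3,1,2,0,2,2,1,2,0,2,2,2,2,2,2,2,2,2,2,1,2,0,2,2,2,2],
  [3,3,3,3,3,3,1,3,0,3,3,1,3,0,3,3,3,3,3,1,3,0,3,3,3,3,3,3,1,3,0,3,1,2,0,3,3,1,3,0,3,3,1,3,0,3,3,3,3,3,1,3,0,3,3,3,3,3,3,1,3,0,3,1,2,0,2,2,2,1,3,0,3,3,3,1,3,0,3,3,1,3,0,3,3,3,1,3,0,3,3,1,3,0,3,3,3,3,3,3,1,3,0,3,3,3,3,3,1,3,0,3,3,3,3,3,3,1,3,0,3,3,1,3,0,3,3,3,3,3,1,3,0,3,3,3,3,3,3,1,3,0,3,3,3,3,3,3,1,3,0,3,3,3,3,3,3,3,3,3,1,3,0,3,3,3,3,3,3,3,3,1,3,0,3,3,3,1,3,0,3,3,1,3,0,3,3,3,3,3,1,3,0,3,3,3,3,3,3,3,3,3,3,1,3,0,3,3,1,3,0,3,3,3,3,3,1,3,0,3,3,3,3,3,3,3,3,1,3,0,2,1,2,0,2,2,2,2,2,2,1,2,0,2,2,2,2,2,1,2,0,2,2,1,2,0,2,2,2,2,2,2,2,1,2,0,2,2,2,2,2,2,2,2,2,2,2,2,2,1,2,0,2,2,2,2,2,2,2,2,2,1,2,0,2,2,2,2,2,2,1,2,0,2,2,2,2,2,2,2,1,2,0,3,1,2,0,2,2,1,2,0,2,2,2,2,2,2,2,2,2,2,1,2,0,2,2,2,2]]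
theorem cw0 : chkW nets0 1536 1408 11 tn (tt.get (0 + 1)) (lw.getD 0 []) = true := by decide +kernel
theorem cw1 : chkW nets0 1536 1408 11 tn (tt.get (1 + 1)) (lw.getD 1 []) = true := by decide +kernel
theorem cw2 : chkW nets0 1536 1408 11 tn (tt.get (2 + 1)) (lw.getD 2 []) = true := by decide +kernel
theorem cw3 : chkW nets0 1536 1408 11 tn (tt.get (3 + 1)) (lw.getD 3 []) = true := by decide +kernel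
theorem cw4 : chkW nets0 1536 1408 11 tn (tt.get (4 + 1)) (lw.getD 4 []) = true := by decide +kernel
theorem cw5 : chkW nets0 1536 1408 11 tn (tt.get (5 + 1)) (lw.getD 5 []) = true := by decide +kernel
theorem cw6 : chkW nets0 1536 1408 11 tn (tt.get (6 + 1)) (lw.getD 6 []) = true := by decide +kernel
theorem cw7 : chkW nets0 1536 1408 11 tn (tt.get (7 + 1)) (lw.getD 7 []) = true := by decide +kernel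
theorem cw8 : chkW nets0 1536 1408 11 tn (tt.get (8 + 1)) (lw.getD 8 []) = true := by decide +kernel
theorem cw9 : chkW nets0 1536 1408 11 tn (tt.get (9 + 1)) (lw.getD 9 []) = true := by decide +kernel
theorem cw10 : chkW nets0 1536 1408 11 tn (tt.get (10 + 1)) (lw.getD 10 []) = true := by decide +kernel
theorem cw11 : chkW nets0 1536 1408 11 tn (tt.get (11 + 1)) (lw.getD 11 []) = true := by decide +kernel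
theorem cw12 : chkW nets0 1536 1408 11 tn (tt.get (12 + 1)) (lw.getD 12 []) = true := by decide +kernel
theorem cw13 : chkW nets0 1536 1408 11 tn (tt.get (13 + 1)) (lw.getD 13 []) = true := by decide +kernel
theorem cw14 : chkW nets0 1536 1408 11 tn (tt.get (14 + 1)) (lw.getD 14 []) = true := by decide +kernel
theorem cw15 : chkW nets0 1536 1408 11 tn (tt.get (15 + 1)) (lw.getD 15 []) = true := by decide +kernel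
theorem cw16 : chkW nets0 1536 1408 11 tn (tt.get (16 + 1)) (lw.getD 16 []) = true := by decide +kernel
theorem cw17 : chkW nets0 1536 1408 11 tn (tt.get (17 + 1)) (lw.getD 17 []) = true := by decide +kernel
theorem cw18 : chkW nets0 1536 1408 11 tn (tt.get (18 + 1)) (lw.getD 18 []) = true := by decide +kernel
theorem cw19 : chkW nets0 1536 1408 11 tn (tt.get (19 + 1)) (lw.getD 19 []) = true := by decide +kernel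
theorem cw20 : chkW nets0 1536 1408 11 tn (tt.get (20 + 1)) (lw.getD 20 []) = true := by decide +kernel
theorem cw21 : chkW nets0 1536 1408 11 tn (tt.get (21 + 1)) (lw.getD 21 []) = true := by decide +kernel
theorem cw22 : chkW nets0 1536 1408 11 tn (tt.get (22 + 1)) (lw.getD 22 []) = true := by decide +kernel
theorem cw23 : chkW nets0 1536 1408 11 tn (tt.get (23 + 1)) (lw.getD 23 []) = true := by decide +kernel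
theorem cw24 : chkW nets0 1536 1408 11 tn (tt.get (24 + 1)) (lw.getD 24 []) = true := by decide +kernel
theorem cw25 : chkW nets0 1536 1408 11 tn (tt.get (25 + 1)) (lw.getD 25 []) = true := by decide +kernel
theorem cw26 : chkW nets0 1536 1408 11 tn (tt.get (26 + 1)) (lw.getD 26 []) = true := by decide +kernel
theorem cw27 : chkW nets0 1536 1408 11 tn (tt.get (27 + 1)) (lw.getD 27 []) = true := by decide +kernel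
theorem cw28 : chkW nets0 1536 1408 11 tn (tt.get (28 + 1)) (lw.getD 28 []) = true := by decide +kernel
theorem cw29 : chkW nets0 1536 1408 11 tn (tt.get (29 + 1)) (lw.getD 29 []) = true := by decide +kernel
theorem cw30 : chkW nets0 1536 1408 11 tn (tt.get (30 + 1)) (lw.getD 30 []) = true := by decide +kernel
theorem cw31 : chkW nets0 1536 1408 11 tn (tt.get (31 + 1)) (lw.getD 31 []) = true := by decide +kernel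
theorem wordsOK : Below (fun d => chkW nets0 1536 1408 11 tn (tt.get (d + 1)) (lw.getD d [])) 32 :=
  ⟨⟨⟨⟨⟨⟨⟨⟨⟨⟨⟨⟨⟨⟨⟨⟨⟨⟨⟨⟨⟨⟨⟨⟨⟨⟨⟨⟨⟨⟨⟨⟨trivial, cw0⟩, cw1⟩, cw2⟩, cw3⟩, cw4⟩, cw5⟩, cw6⟩, cw7⟩, cw8⟩, cw9⟩, cw10⟩, cw11⟩, cw12⟩, cw13⟩, cw14⟩, cw15⟩, cw16⟩, cw17⟩, cw18⟩, cw19⟩, cw20⟩, cw21⟩, cw22⟩, cw23⟩, cw24⟩, cw25⟩, cw26⟩, cw27⟩, cw28⟩, cw29⟩, cw30⟩, cw31⟩

end CL.HN
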