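/- Relations between the matrices (generated by tools/cgt/dg.py). -/
import Cfsg.Agent.SPOR.HNMat
set_option autoImplicit false
set_option Elab.async false
set_option maxRecDepth 100000

namespace CL.HN
open CL.CE CL.K CL.Net

def RM0 : List (List ℕ) := [[2,2,2,2,2,2], [0,0,2,0,0,3], [1,3,0,2,1,3,0,2,1,3,0,2], [1,2,2,0,2,2,2,1,2,2,0,2,2,2,1,2,2,0,2,2,2], [0,2,0,2,0,2,0,2,0,2,0,2,0,2,0,2], [0,2,0,2,2,2,0,2,0,2,2,2,0,2,0,2,2,2,0,2,0,2,2,2], [4,0,4,0]]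
theorem RM0_ok : (∀ r ∈ RM0, ev gM r = 1) ∧ ∀ w ∈ ([] : List (List ℕ)), ev gM w ≠ 1 :=
  ltrsM.of_run codeM (prog := [(0, 2), (3, 3), (1, 1), (0, 1), (5, 7), (0, 4), (7, 4), (0, 6), (0, 6), (6, 6), (6, 6), (15, 11), (10, 10), (0, 11), (14, 13), (0, 15), (0, 16), (11, 11), (0, 12), (10, 10), (0, 11), (11, 11), (11, 11), (11, 11)])
    (es := [(10, 99999), (7, 26), (5, 99999), (3, 99999), (2, 99999), (1, 99999), (0, 99999)]) (ns := []) (by decide +kernel) (L := 7) (by decide +kernel)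
def RM1 : List (List ℕ) := [[4,2,1,3,3,1,3,1,3,4,2,0,2,0,2,2,0,3,1,1], [4,3,1,3,1,3,3,3,4,2,2,2,0,2,0,2,0,3,1,3,1,3,3,3,4,2,2,2,0,2,0,2,0,3,1,3,1,3,3,3,4,2,2,2,0,2,0,2,0], [5,5,5,5,5], [1,5,0,5,5], [6,3,5,2]]
theorem RM1_ok : (∀ r ∈ RM1, ev gM r = 1) ∧ ∀ w ∈ ([] : List (List ℕ)), ev gM w ≠ 1 :=
  ltrsM.of_run codeM (prog := [(2, 0), (2, 4), (0, 0), (2, 2), (8, 6), (8, 2), (9, 9), (12, 12), (2, 1), (0, 4), (0, 12), (0, 7), (0, 11), (8, 11), (0, 8), (0, 19), (0, 12), (0, 19), (0, 17), (0, 22), (0, 21), (25, 8), (0, 9), (0, 10), (16, 16), (26, 30), (0, 26), (0, 19), (34, 31), (0, 34)])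
    (es := [(9, 30), (6, 99999), (5, 36), (2, 99999), (0, 33)]) (ns := []) (by decide +kernel) (L := 7) (by decide +kernel)
def RM2 : List (List ℕ) := [[4,5,4,5,4,5]]
theorem RM2_ok : (∀ r ∈ RM2, ev gM r = 1) ∧ ∀ w ∈ ([] : List (List ℕ)), ev gM w ≠ 1 :=
  ltrsM.of_run codeM (prog := [(4, 5), (0, 0), (0, 1)])
    (es := [(0, 99999)]) (ns := []) (by decide +kernel) (L := 7) (by decide +kernel)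
def RM : List (List ℕ) := RM0 ++ (RM1 ++ (RM2))
theorem RM_ok : ∀ r ∈ RM, ev gM r = 1 :=
  List.forall_mem_append.2 ⟨RM0_ok.1, List.forall_mem_append.2 ⟨RM1_ok.1, RM2_ok.1⟩⟩
def RP0 : List (List ℕ) := [[4,2,2,2,2,5,5,5,0,4,2,0,5,5,3,4,2,2,2,2,5,5,5,0,4,2,0,5,5,3,4,2,2,2,2,5,5,5,0,4,2,0,5,5,3,4,2,2,2,2,5,5,5,0,4,2,0,5,5,3,4,2,2,2,2,5,5,5,0,4,2,0,5,5,3,4,2,2,2,2,5,5,5,0,4,2,0,5,5,3,4,2,2,2,2,5,5,5,0,4,2,0,5,5,3,4,2,2,2,2,5,5,5,0,4,2,0,5,5,3,4,2,2,2,2,5,5,5,0,4,2,0,5,5,3,4,2,2,2,2,5,5,5,0,4,2,0,5,5,3,4,2,2,2,2,5,5,5,0,4,2,0,5,5,3,4,2,2,2,2,5,5,5,0,4,2,0,5,5,3,4,2,2,2,2,5,5,5,0,4,2,0,5,5,3,4,2,2,2,2,5,5,5,0,4,2,0,5,5,3,4,2,2,2,2,5,5,5,0,4,2,0,5,5,3,4,2,2,2,2,5,5,5,0,4,2,0,5,5,3,4,2,2,2,2,5,5,5,0,4,2,0,5,5,3,4,2,2,2,2,5,5,5,0,4,2,0,5,5,3,4,2,2,2,2,5,5,5,0,4,2,0,5,5,3],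 [4,2,2,2,2,5,5,5,0,4,2,0,5,5,3,0,4,2,2,2,2,5,5,5,0,4,2,0,5,5,3,0,4,2,2,2,2,5,5,5,0,4,2,0,5,5,3,0,4,2,2,2,2,5,5,5,0,4,2,0,5,5,3,0,4,2,2,2,2,5,5,5,0,4,2,0,5,5,3,0,4,2,2,2,2,5,5,5,0,4,2,0,5,5,3,0,4,2,2,2,2,5,5,5,0,4,2,0,5,5,3,0,4,2,2,2,2,5,5,5,0,4,2,0,5,5,3,0,4,2,2,2,2,5,5,5,0,4,2,0,5,5,3,0,4,2,2,2,2,5,5,5,0,4,2,0,5,5,3,0,4,2,2,2,2,5,5,5,0,4,2,0,5,5,3,0,4,2,2,2,2,5,5,5,0,4,2,0,5,5,3,0,4,2,2,2,2,5,5,5,0,4,2,0,5,5,3,0,4,2,2,2,2,5,5,5,0,4,2,0,5,5,3,0,4,2,2,2,2,5,5,5,0,4,2,0,5,5,3,0,4,2,2,2,2,5,5,5,0,4,2,0,5,5,3,0,4,2,2,2,2,5,5,5,0,4,2,0,5,5,3,0,4,2,2,2,2,5,5,5,0,4,2,0,5,5,3,0,4,2,2,2,2,5,5,5,0,4,2,0,5,5,3,0]]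
theorem RP0_ok : (∀ r ∈ RP0, ev gM r = 1) ∧ ∀ w ∈ ([[4,2,2,2,2,5,5,5,0,4,2,0,5,5,3]] : List (List ℕ)), ev gM w ≠ 1 :=
  ltrsM.of_run codeM (prog := [(2, 2), (6, 6), (2, 6), (2, 2), (0, 2), (0, 10), (0, 3), (0, 9), (0, 8), (0, 7), (0, 13), (15, 0), (9, 1), (1, 1), (1, 1), (1, 1), (1, 1), (1, 1), (1, 1), (1, 1), (0, 6), (0, 9), (10, 3), (0, 4), (0, 9)])
    (es := [(3, 99999), (0, 26)]) (ns := [13]) (by decide +kernel) (L := 7) (by decide +kernel)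
def RP : List (List ℕ) := RP0
theorem RP_ok : ∀ r ∈ RP, ev gM r = 1 :=
  RP0_ok.1

end CL.HN
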