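/- The presented group HN: order and simplicity (generated by tools/cgt/gen_hn.py). -/
import Cfsg.Agent.SPOR.HNDce
import Cfsg.Agent.SPOR.HNX
import Cfsg.Agent.SPOR.HNMatK
import Cfsg.Prelude.Def_Spor_HN

set_option autoImplicit false
set_option maxRecDepth 100000

namespace CL.HN
open CL.CE CL.K CL.Net CL.DCE Cfsg.Spor

def gens : List (HN.Gen × Bool) := [(.x, true), (.x, false), (.y, true), (.y, false), (.z, true), (.t, true), (.t, false)]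

def code : HN.Gen → ℕ
  | .x => 0
  | .y => 2
  | .z => 4
  | .t => 5

theorem code_spec : ∀ x, gens[code x]? = some (x, true) := fun x => by cases x <;> rfl

def ivl : List ℕ := [1,0,3,2,4,6,5]

/-- inverses of the letters -/
abbrev iv : ℕ → ℕ := fun a => ivl.getD a a

/-- the letters -/
noncomputable abbrev g : ℕ → HN := coxG HN.edges HN.extra gens

def Rels0 : List (List ℕ) := [[2,2,2,2,2,2],
  [0,0,2,0,0,3],
  [1,3,0,2,1,3,0,2,1,3,0,2],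
  [1,2,2,0,2,2,2,1,2,2,0,2,2,2,1,2,2,0,2,2,2],
  [0,2,0,2,0,2,0,2,0,2,0,2,0,2,0,2],
  [0,2,0,2,2,2,0,2,0,2,2,2,0,2,0,2,2,2,0,2,0,2,2,2],
  [4,0,4,0],
  [4,2,1,3,3,1,3,1,3,4,2,0,2,0,2,2,0,3,1,1],
  [4,3,1,3,1,3,3,3,4,2,2,2,0,2,0,2,0,3,1,3,1,3,3,3,4,2,2,2,0,2,0,2,0,3,1,3,1,3,3,3,4,2,2,2,0,2,0,2,0],
  [5,5,5,5,5],
  [1,5,0,5,5],
  [6,3,5,2],
  [4,5,4,5,4,5]]

theorem presG0 : Pres g iv Rels0 :=
  cox_pres' code (cox_inv' (by decide +kernel)) code_spec (by decide +kernel)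

def gw : List (List ℕ) := [[0], [2], [4], [5]]

theorem gen_top : gen g gw = ⊤ :=
  cox_gen_top code code_spec fun x => by cases x <;> decide

theorem map_closure (l : List (FreeGroup HN.Gen)) {S : Set (FreeGroup HN.Gen)}
    (hS : ∀ x, x ∈ S ↔ x ∈ l) {ws : List (List ℕ)}
    (hw : (fun vs => vs.all (among iv (ws.map (red iv))) &&
      ws.all (among iv (vs.map (red iv)))) (l.map (enc code iv)) = true) :
    (Subgroup.closure S).map (PresentedGroup.mk (coxRelators HN.edges ∪ {r | r ∈ HN.extra})) =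
      gen g ws := cox_map_closure code presG0.inv code_spec l hS hw

def steps1 : List (List ℕ × List (List ℕ × ℕ × ℕ)) := [([0,0,0,0], [([0,2,2,0,2,2,2], 3, 1), ([1], 1, 0), ([1,2,2,0,0,3], 1, 1), ([1,2,2,0], 1, 0), ([1,2,2,0,2,2,0,0,3], 1, 1), ([1,2,2,0,2,2], 1, 0), ([1,2,2,0,2,2,2,1,2,0,0,3], 1, 1), ([1,2,2,0,2,2,2,1,2], 1, 0), ([1,2,2,0,2,2,2,1,2,2,0,2,0,0,3], 1, 1), ([1,2,2,0,2,2,2,1,2,2,0,2], 1, 0), ([1,2,2,0,2,2,2,1,2,2,0,2,2,2,0,0,3], 1, 1), ([1,2,2,0,2,2,2,1,2,2,0,2,2,2,1], 1, 0), ([1,2,2,0,2,2,2,1,2,2,0,2,2,2,1,2,2,0,0,3], 1, 1), ([1,2,2,0,2,2,2,1,2,2,0,2,2,2,1,2,2,0], 1, 0), ([1,2,2,0,2,2,2,1,2,2,0,2,2,2,1,2,2,0,2,2,0,0,3], 1, 1), ([1,2,2,0,2,2,2,1,2,2,0,2,2,2,1,2,2,0,2,2], 1, 0), ([], 3, 0)]),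
  ([0,0,2,1,1,3], [([], 1, 0), ([2], 13, 1)]),
  ([3,3,3,1,3,0,3,3,3,1,3,0,3,3,3,1,3,0,3,3,3,1,3,0], [([], 5, 1), ([1], 14, 0), ([1,2,0], 14, 0), ([1,2,0,2], 14, 0), ([1,2,0,2,2], 14, 0), ([1,2,0,2,2,2,0], 14, 0), ([1,2,0,2,2,2,1], 14, 0), ([1,2,0,2,2,2,1,2,0,0,0], 14, 0), ([1,2,0,2,2,2,1,2,0], 14, 0), ([1,2,0,2,2,2,1,2,0,2,0,0], 14, 0), ([1,2,0,2,2,2,1,2,0,2], 14, 0), ([1,2,0,2,2,2,1,2,0,2,2,0,0], 14, 0), ([1,2,0,2,2,2,1,2,0,2,2], 14, 0), ([1,2,0,2,2,2,1,2,0,2,2,2,0,0,0], 14, 0), ([1,2,0,2,2,2,1,2,0,2,2,2,0], 14, 0), ([1,2,0,2,2,2,1,2,0,2,2,2,1], 14, 0), ([1,2,0,2,2,2,1,2,0,2,2,2,1,2,0,0,0,0,0], 14, 0), ([1,2,0,2,2,2,1,2,0,2,2,2,1,2,0,0,0], 14, 0), ([1,2,0,2,2,2,1,2,0,2,2,2,1,2,0], 14, 0), ([1,2,0,2,2,2,1,2,0,2,2,2,1,2,0,2,0,0,0,0], 14, 0), ([1,2,0,2,2,2,1,2,0,2,2,2,1,2,0,2,0,0], 14, 0), ([1,2,0,2,2,2,1,2,0,2,2,2,1,2,0,2], 14, 0),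 ([1,2,0,2,2,2,1,2,0,2,2,2,1,2,0,2,2,0,0,0,0], 14, 0), ([1,2,0,2,2,2,1,2,0,2,2,2,1,2,0,2,2,0,0], 14, 0), ([1,2,0,2,2,2,1,2,0,2,2,2,1,2,0,2,2], 14, 0), ([1,2,0,2,2,2,1,2,0,2,2,2,1,2,0,2,2,2,0,0,0,0,0], 14, 0), ([1,2,0,2,2,2,1,2,0,2,2,2,1,2,0,2,2,2,0,0,0], 14, 0), ([1,2,0,2,2,2,1,2,0,2,2,2,1,2,0,2,2,2,0], 14, 0), ([1,2,0,2,2,2,1,2,0,2,2,2,1,2,0,2,2,2,1], 14, 0), ([1,2,0,2,2,2,1,2,0,2,2,2,1,2,0,2,2,2,1,2,0,0,0,0,0,0,0], 14, 0), ([1,2,0,2,2,2,1,2,0,2,2,2,1,2,0,2,2,2,1,2,0,0,0,0,0], 14, 0), ([1,2,0,2,2,2,1,2,0,2,2,2,1,2,0,2,2,2,1,2,0,0,0], 14, 0), ([1,2,0,2,2,2,1,2,0,2,2,2,1,2,0,2,2,2,1,2,0], 14, 0), ([1,2,0,2,2,2,1,2,0,2,2,2,1,2,0,2,2,2,1,2,0,2,0,0,0,0,0,0], 14, 0), ([1,2,0,2,2,2,1,2,0,2,2,2,1,2,0,2,2,2,1,2,0,2,0,0,0,0], 14, 0), ([1,2,0,2,2,2,1,2,0,2,2,2,1,2,0,2,2,2,1,2,0,2,0,0], 14, 0), ([1,2,0,2,2,2,1,2,0,2,2,2,1,2,0,2,2,2,1,2,0,2], 14,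 0), ([1,2,0,2,2,2,1,2,0,2,2,2,1,2,0,2,2,2,1,2,0,2,2,0,0,0,0,0,0], 14, 0), ([1,2,0,2,2,2,1,2,0,2,2,2,1,2,0,2,2,2,1,2,0,2,2,0,0,0,0], 14, 0), ([1,2,0,2,2,2,1,2,0,2,2,2,1,2,0,2,2,2,1,2,0,2,2,0,0], 14, 0), ([1,2,0,2,2,2,1,2,0,2,2,2,1,2,0,2,2,2,1,2,0,2,2], 14, 0), ([1,2,0,2,2,2,1,2,0,2,2,2,1,2,0,2,2,2,1,2,0,2,2,2], 13, 0), ([1,2,0,2,2,2,1,2,0,2,2,2,1,2,0,2,2,2,1,2,0,2,2,2], 13, 0)]),
  ([0,2,0,0,3,0], [([1], 1, 0)]),
  ([0,0,2,2,2,0,0,2,2,2], [([], 1, 0), ([2,2,0,0,3], 1, 1), ([2,2], 1, 0), ([], 0, 0)])]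
def steps : List (List ℕ × List (List ℕ × ℕ × ℕ)) := [([5,1,6,6,0], [([], 9, 0), ([], 10, 1), ([1,5,5,0,5,5], 10, 1)]),
  ([1,2,0,5,1,3,0,6], [([1,2,5,5,0,6], 19, 0), ([1,5,2], 11, 1), ([1,5,5,2], 11, 1), ([], 19, 1)]),
  ([1,1,5,0,0,5], [([1], 10, 0), ([5,5], 10, 1), ([5,5,5,5], 10, 1), ([], 9, 0)]),
  ([2,5,3,6], [([5,2], 11, 1)]),
  ([1,2,0,5,1,3,0,6], [([], 20, 0)]),
  ([0,0,5,1,1,5], [([6,0,0], 21, 0)]),
  ([1,5,0,5,5], [([], 10, 0)]),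
  ([4,5,4,5,4,5], [([], 12, 0)]),
  ([0,1], []),
  ([2,3], []),
  ([5,6], []),
  ([1,2,2,0,2,2,2,1,2,2,0,2,2,2,1,2,2,0,3,3,3,3,3,3,3,3,3,3,1,3,1,3,1,3,1,3,1,3,1,3,1,3,1,2,2,2,2,2,2], [([], 3, 0), ([], 0, 1), ([], 0, 1), ([], 4, 1), ([], 0, 0)]),
  ([4,0,4,0], [([], 6, 0)]),
  ([5,5,5,1,6,0,6,6,1,6,0], [([], 9, 0), ([], 10, 1), ([], 10, 1)])]

theorem presG1 : Pres g iv (Rels0 ++ steps1.map Prod.fst) := presG0.derive (by decide +kernel)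

theorem presG2 : Pres g iv ((Rels0 ++ steps1.map Prod.fst) ++ [wx]) := presG1.append (by
  have := extra_rel (presG1.subst (ws := ltrs 5) (by decide +kernel))
  rw [← ev_substW, eq_of_leq (v := substW _ _) (w := wx) (by decide +kernel)] at this
  simpa using this)

noncomputable def Rels : List (List ℕ) := ((Rels0 ++ steps1.map Prod.fst) ++ [wx]) ++ steps.map Prod.fst

theorem presG : Pres g iv Rels := presG2.derive (by decide +kernel)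

theorem exists_ψ : ∃ ψ : A →* HN, (∀ a < 5, ψ (gA a) = g a) ∧ ψ.range = gen g (ltrs 5) :=
  exists_psi presA topA presG (by decide +kernel) le_H cardA.ge

/-- the homomorphism from the model of the subgroup -/
noncomputable def ψ : A →* HN := exists_ψ.choose

theorem ψ_apply : ∀ a < 5, ψ (gA a) = g a := exists_ψ.choose_spec.1

theorem ψ_range : ψ.range = gen g (ltrs 5) := exists_ψ.choose_spec.2

theorem ctx : Ctx π 1408 (lamOf π 1408 (tab tt)) (tab tt) (0 :: bs) pt.get ∧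
    ∀ a < 32, lamOf π 1408 (tab tt) (a + 1) = ev gA (lw.getD a []) :=
  ctx_of modelA.1 liftA valid0 modelA.2.2 baseK tn_ok wordsOK ctx_ok

/-- the representatives of the double cosets -/
noncomputable abbrev γ (i : ℕ) : HN := node (lamOf π 1408 (tab tt)) ψ (ev g [5]) (pt.get i)

theorem table : Table π (gen gA ks) 1408 ψ (ev g [5]) γ 9 (DCE.tau (tab32 ct)) :=
  ctx.1.table modelA.1 (letters_of ctx.2 let_ok) ψ_apply presG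
    (presG.top_of_grab gen_top ψ_range [] (by decide +kernel))
    upto (by norm_num) cover (ns := ns) (by decide +kernel)

theorem sep : Sep 9 (cntE 1408 (DCE.tau (tab32 ct))) fun i => szl.getD i 0 :=
  table.sep_of (by norm_num) (by norm_num) rows sep_ok

def mw : List (List ℕ) := [[0],
  [1],
  [2],
  [3],
  [4],
  [5],
  [6]]

theorem exists_ρ : ∃ ρ : HN →* GL (Fin 133) (ZMod 11), ∀ a < 7, ρ (g a) = subst gM mw a :=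
  cox_hom (gens := gens) (ivl := ivl) code (by decide +kernel)
    ((ltrsM.pres.append RM_ok).subst (Rels' := Rels0) (by decide +kernel)) (by decide +kernel)

/-- the matrix representation -/
noncomputable def ρ : HN →* GL (Fin 133) (ZMod 11) := exists_ρ.choose

theorem ρ_apply : ∀ a < 7, ρ (g a) = subst gM mw a := exists_ρ.choose_spec

theorem faithful : ev g [5] ∉ ψ.range ∧ Function.Injective ρ :=
  table.of_rep sep ρ_apply (p := 19) (by rw [cardA]; norm_num) (u := [4,2,2,2,2,5,5,5,0,4,2,0,5,5,3]) (by decide +kernel)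
    (RP_ok _ (by decide +kernel)) (RP0_ok.2 _ (by simp))

instance : Finite HN := table.finite

theorem index : ψ.range.index = 1539000 := (table.index faithful.1 sep).trans (by decide +kernel)

theorem card : Nat.card HN = 273030912000000 := by
  rw [table.card faithful.1 sep, cardA]; decide +kernel

theorem ψ_injective : Function.Injective ψ := table.injective faithful.1 sep

theorem isCoatom : IsCoatom ψ.range := table.isCoatom faithful.1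

theorem normalCore : ψ.range.normalCore = ⊥ := table.normalCore faithful.1 sep

theorem card_range : Nat.card ψ.range = 177408000 := (table.card_range faithful.1 sep).trans cardA

theorem isSimpleGroup : IsSimpleGroup HN :=
  (presG.append_rep faithful.2 ρ_apply RP_ok (by decide +kernel)).isSimpleGroup isCoatom normalCore
    (p := 19) (by rw [card_range]; norm_num) gen_top [([4,2,2,2,2,5,5,5,0,4,2,0,5,5,3], 0)]
    [27,30,32,1,11,12] (by decide +kernel)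

end CL.HN
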