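/- The cover and the intersection matrix (generated by tools/cgt/dcel.py). -/
import Cfsg.Agent.SPOR.ThGItem
import Cfsg.Agent.SPOR.ThGCovD0
set_option autoImplicit false
set_option Elab.async false
set_option maxRecDepth 100000

namespace CL.ThG
open CL.CE CL.K CL.Net CL.DCE

noncomputable def C1 : ℕ := (cat (nat_lit 32768) [C1_0, C1_1, C1_2, C1_3, C1_4, C1_5, C1_6, C1_7, C1_8, C1_9, C1_10, C1_11, C1_12, C1_13, C1_14, C1_15, C1_16])
noncomputable def C2 : ℕ := (cat (nat_lit 32768) [C2_0, C2_1, C2_2, C2_3, C2_4, C2_5, C2_6, C2_7, C2_8, C2_9, C2_10, C2_11, C2_12, C2_13, C2_14, C2_15, C2_16])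
noncomputable def C3 : ℕ := (cat (nat_lit 32768) [C3_0, C3_1, C3_2, C3_3, C3_4, C3_5, C3_6, C3_7, C3_8, C3_9, C3_10, C3_11, C3_12, C3_13, C3_14, C3_15, C3_16])
noncomputable def C4 : ℕ := (cat (nat_lit 32768) [C4_0, C4_1, C4_2, C4_3, C4_4, C4_5, C4_6, C4_7, C4_8, C4_9, C4_10, C4_11, C4_12, C4_13, C4_14, C4_15, C4_16])
noncomputable def C5 : ℕ := (cat (nat_lit 32768) [C5_0, C5_1, C5_2, C5_3, C5_4, C5_5, C5_6, C5_7, C5_8, C5_9, C5_10, C5_11, C5_12, C5_13, C5_14, C5_15, C5_16])
noncomputable def C6 : ℕ := (cat (nat_lit 32768) [C6_0, C6_1, C6_2, C6_3, C6_4, C6_5, C6_6, C6_7, C6_8, C6_9, C6_10, C6_11, C6_12, C6_13, C6_14, C6_15, C6_16])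
noncomputable def C7 : ℕ := (cat (nat_lit 32768) [C7_0, C7_1, C7_2, C7_3, C7_4, C7_5, C7_6, C7_7, C7_8, C7_9, C7_10, C7_11, C7_12, C7_13, C7_14, C7_15, C7_16])
noncomputable def C8 : ℕ := (cat (nat_lit 32768) [C8_0, C8_1, C8_2, C8_3, C8_4, C8_5, C8_6, C8_7, C8_8, C8_9, C8_10, C8_11, C8_12, C8_13, C8_14, C8_15, C8_16])
noncomputable def C9 : ℕ := (cat (nat_lit 32768) [C9_0, C9_1, C9_2, C9_3, C9_4, C9_5, C9_6, C9_7, C9_8, C9_9, C9_10, C9_11, C9_12, C9_13, C9_14, C9_15, C9_16])
noncomputable def C10 : ℕ := (cat (nat_lit 32768) [C10_0, C10_1, C10_2, C10_3, C10_4, C10_5, C10_6, C10_7, C10_8, C10_9, C10_10, C10_11, C10_12, C10_13, C10_14, C10_15, C10_16])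
noncomputable def ct : Tr := (.node (.node (.node (.leaf C8) (.leaf C4)) (.node (.node (.leaf C2) (.leaf C10)) (.leaf C6))) (.node (.node (.node (.leaf C1) (.leaf C9)) (.leaf C5)) (.node (.leaf C3) (.leaf C7))))
theorem cc1 : chkCov (tab tt) st.get (tab32 ct) 4332 11 117 147 1 = true := by decide +kernel
theorem cc2 : chkCov (tab tt) st.get (tab32 ct) 4332 11 117 147 2 = true := by decide +kernel
theorem cc3 : chkCov (tab tt) st.get (tab32 ct) 4332 11 117 147 3 = true := by decide +kernel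
theorem cc4 : chkCov (tab tt) st.get (tab32 ct) 4332 11 117 147 4 = true := by decide +kernel
theorem cc5 : chkCov (tab tt) st.get (tab32 ct) 4332 11 117 147 5 = true := by decide +kernel
theorem cc6 : chkCov (tab tt) st.get (tab32 ct) 4332 11 117 147 6 = true := by decide +kernel
theorem cc7 : chkCov (tab tt) st.get (tab32 ct) 4332 11 117 147 7 = true := by decide +kernel
theorem cc8 : chkCov (tab tt) st.get (tab32 ct) 4332 11 117 147 8 = true := by decide +kernel
theorem cc9 : chkCov (tab tt) st.get (tab32 ct) 4332 11 117 147 9 = true := by decide +kernel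
theorem cc10 : chkCov (tab tt) st.get (tab32 ct) 4332 11 117 147 10 = true := by decide +kernel
theorem cover : Below (fun i => chkCov (tab tt) st.get (tab32 ct) 4332 11 117 147 (i + 1)) (11 - 1) :=
  ⟨⟨⟨⟨⟨⟨⟨⟨⟨⟨trivial, cc1⟩, cc2⟩, cc3⟩, cc4⟩, cc5⟩, cc6⟩, cc7⟩, cc8⟩, cc9⟩, cc10⟩
def El : List ℕ := [0x432f0000, 0x180018000800090001e0004e0001, 0x1b000000000009001b00000000000360001b00b40000, 0x5100030027001b0318006300090016b001200120000, 0x97e000001e6032a3018032a005100f30000001b0000, 0x7620000039604922ff40225005a0129000000090000, 0x3a80018042c024c31ff055400980108000300010000, 0x17a0000046e00bd303c0aaa00d200bd001500000000, 0x288003006330288321004c80048009c000000000000, 0x9309300000372000000000024c000000000000, 0x249000002be00ea2f880aaa0186015f002700000000]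
theorem cr0 : chkRow (tab32 ct) El 117 147 0 = true := by decide +kernel
theorem cr1 : chkRow (tab32 ct) El 117 147 1 = true := by decide +kernel
theorem cr2 : chkRow (tab32 ct) El 117 147 2 = true := by decide +kernel
theorem cr3 : chkRow (tab32 ct) El 117 147 3 = true := by decide +kernel
theorem cr4 : chkRow (tab32 ct) El 117 147 4 = true := by decide +kernel
theorem cr5 : chkRow (tab32 ct) El 117 147 5 = true := by decide +kernel
theorem cr6 : chkRow (tab32 ct) El 117 147 6 = true := by decide +kernel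
theorem cr7 : chkRow (tab32 ct) El 117 147 7 = true := by decide +kernel
theorem cr8 : chkRow (tab32 ct) El 117 147 8 = true := by decide +kernel
theorem cr9 : chkRow (tab32 ct) El 117 147 9 = true := by decide +kernel
theorem cr10 : chkRow (tab32 ct) El 117 147 10 = true := by decide +kernel
theorem rows : Below (chkRow (tab32 ct) El 117 147) 11 :=
  ⟨⟨⟨⟨⟨⟨⟨⟨⟨⟨⟨trivial, cr0⟩, cr1⟩, cr2⟩, cr3⟩, cr4⟩, cr5⟩, cr6⟩, cr7⟩, cr8⟩, cr9⟩, cr10⟩
def szl : List ℕ := [1,17199,45864,2201472,1304576,11741184,105670656,5031936,8805888,179712,8128512]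
theorem sep_ok : sepOK 11 (fun i => fld 16 65535 (El.getD i 0)) (fun i => szl.getD i 0) = true := by
  decide +kernel

end CL.ThG
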