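/- Tables of the letters (generated by tools/cgt/dcel.py). -/
import Cfsg.Agent.SPOR.DCE3
import Cfsg.Agent.SPOR.ThGTabD0
set_option autoImplicit false
set_option Elab.async false
set_option maxRecDepth 100000

namespace CL.ThG
open CL.CE CL.K CL.Net CL.DCE

noncomputable def T1 : ℕ := (cat (nat_lit 32768) [T1_0, T1_1, T1_2, T1_3, T1_4, T1_5, T1_6, T1_7, T1_8])
noncomputable def T2 : ℕ := (cat (nat_lit 32768) [T2_0, T2_1, T2_2, T2_3, T2_4, T2_5, T2_6, T2_7, T2_8])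
noncomputable def T3 : ℕ := (cat (nat_lit 32768) [T3_0, T3_1, T3_2, T3_3, T3_4, T3_5, T3_6, T3_7, T3_8])
noncomputable def T4 : ℕ := (cat (nat_lit 32768) [T4_0, T4_1, T4_2, T4_3, T4_4, T4_5, T4_6, T4_7, T4_8])
noncomputable def T5 : ℕ := (cat (nat_lit 32768) [T5_0, T5_1, T5_2, T5_3, T5_4, T5_5, T5_6, T5_7, T5_8])
noncomputable def T6 : ℕ := (cat (nat_lit 32768) [T6_0, T6_1, T6_2, T6_3, T6_4, T6_5, T6_6, T6_7, T6_8])
noncomputable def T7 : ℕ := (cat (nat_lit 32768) [T7_0, T7_1, T7_2, T7_3, T7_4, T7_5, T7_6, T7_7, T7_8])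
noncomputable def T8 : ℕ := (cat (nat_lit 32768) [T8_0, T8_1, T8_2, T8_3, T8_4, T8_5, T8_6, T8_7, T8_8])
noncomputable def T9 : ℕ := (cat (nat_lit 32768) [T9_0, T9_1, T9_2, T9_3, T9_4, T9_5, T9_6, T9_7, T9_8])
noncomputable def T10 : ℕ := (cat (nat_lit 32768) [T10_0, T10_1, T10_2, T10_3, T10_4, T10_5, T10_6, T10_7, T10_8])
noncomputable def T11 : ℕ := (cat (nat_lit 32768) [T11_0, T11_1, T11_2, T11_3, T11_4, T11_5, T11_6, T11_7, T11_8])
noncomputable def T12 : ℕ := (cat (nat_lit 32768) [T12_0, T12_1, T12_2, T12_3, T12_4, T12_5, T12_6, T12_7, T12_8])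
noncomputable def T13 : ℕ := (cat (nat_lit 32768) [T13_0, T13_1, T13_2, T13_3, T13_4, T13_5, T13_6, T13_7, T13_8])
noncomputable def T14 : ℕ := (cat (nat_lit 32768) [T14_0, T14_1, T14_2, T14_3, T14_4, T14_5, T14_6, T14_7, T14_8])
noncomputable def T15 : ℕ := (cat (nat_lit 32768) [T15_0, T15_1, T15_2, T15_3, T15_4, T15_5, T15_6, T15_7, T15_8])
noncomputable def T16 : ℕ := (cat (nat_lit 32768) [T16_0, T16_1, T16_2, T16_3, T16_4, T16_5, T16_6, T16_7, T16_8])
noncomputable def T17 : ℕ := (cat (nat_lit 32768) [T17_0, T17_1, T17_2, T17_3, T17_4, T17_5, T17_6, T17_7, T17_8])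
noncomputable def T18 : ℕ := (cat (nat_lit 32768) [T18_0, T18_1, T18_2, T18_3, T18_4, T18_5, T18_6, T18_7, T18_8])
noncomputable def T19 : ℕ := (cat (nat_lit 32768) [T19_0, T19_1, T19_2, T19_3, T19_4, T19_5, T19_6, T19_7, T19_8])
noncomputable def T20 : ℕ := (cat (nat_lit 32768) [T20_0, T20_1, T20_2, T20_3, T20_4, T20_5, T20_6, T20_7, T20_8])
noncomputable def T21 : ℕ := (cat (nat_lit 32768) [T21_0, T21_1, T21_2, T21_3, T21_4, T21_5, T21_6, T21_7, T21_8])
noncomputable def T22 : ℕ := (cat (nat_lit 32768) [T22_0, T22_1, T22_2, T22_3, T22_4, T22_5, T22_6, T22_7, T22_8])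
noncomputable def T23 : ℕ := (cat (nat_lit 32768) [T23_0, T23_1, T23_2, T23_3, T23_4, T23_5, T23_6, T23_7, T23_8])
noncomputable def T24 : ℕ := (cat (nat_lit 32768) [T24_0, T24_1, T24_2, T24_3, T24_4, T24_5, T24_6, T24_7, T24_8])
noncomputable def T25 : ℕ := (cat (nat_lit 32768) [T25_0, T25_1, T25_2, T25_3, T25_4, T25_5, T25_6, T25_7, T25_8])
noncomputable def T26 : ℕ := (cat (nat_lit 32768) [T26_0, T26_1, T26_2, T26_3, T26_4, T26_5, T26_6, T26_7, T26_8])
noncomputable def T27 : ℕ := (cat (nat_lit 32768) [T27_0, T27_1, T27_2, T27_3, T27_4, T27_5, T27_6, T27_7, T27_8])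
noncomputable def T28 : ℕ := (cat (nat_lit 32768) [T28_0, T28_1, T28_2, T28_3, T28_4, T28_5, T28_6, T28_7, T28_8])
noncomputable def T29 : ℕ := (cat (nat_lit 32768) [T29_0, T29_1, T29_2, T29_3, T29_4, T29_5, T29_6, T29_7, T29_8])
noncomputable def T30 : ℕ := (cat (nat_lit 32768) [T30_0, T30_1, T30_2, T30_3, T30_4, T30_5, T30_6, T30_7, T30_8])
noncomputable def T31 : ℕ := (cat (nat_lit 32768) [T31_0, T31_1, T31_2, T31_3, T31_4, T31_5, T31_6, T31_7, T31_8])
noncomputable def T32 : ℕ := (cat (nat_lit 32768) [T32_0, T32_1, T32_2, T32_3, T32_4, T32_5, T32_6, T32_7, T32_8])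
noncomputable def T33 : ℕ := (cat (nat_lit 32768) [T33_0, T33_1, T33_2, T33_3, T33_4, T33_5, T33_6, T33_7, T33_8])
noncomputable def T34 : ℕ := (cat (nat_lit 32768) [T34_0, T34_1, T34_2, T34_3, T34_4, T34_5, T34_6, T34_7, T34_8])
noncomputable def T35 : ℕ := (cat (nat_lit 32768) [T35_0, T35_1, T35_2, T35_3, T35_4, T35_5, T35_6, T35_7, T35_8])
noncomputable def T36 : ℕ := (cat (nat_lit 32768) [T36_0, T36_1, T36_2, T36_3, T36_4, T36_5, T36_6, T36_7, T36_8])
noncomputable def T37 : ℕ := (cat (nat_lit 32768) [T37_0, T37_1, T37_2, T37_3, T37_4, T37_5, T37_6, T37_7, T37_8])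
noncomputable def T38 : ℕ := (cat (nat_lit 32768) [T38_0, T38_1, T38_2, T38_3, T38_4, T38_5, T38_6, T38_7, T38_8])
noncomputable def T39 : ℕ := (cat (nat_lit 32768) [T39_0, T39_1, T39_2, T39_3, T39_4, T39_5, T39_6, T39_7, T39_8])
noncomputable def T40 : ℕ := (cat (nat_lit 32768) [T40_0, T40_1, T40_2, T40_3, T40_4, T40_5, T40_6, T40_7, T40_8])
noncomputable def T41 : ℕ := (cat (nat_lit 32768) [T41_0, T41_1, T41_2, T41_3, T41_4, T41_5, T41_6, T41_7, T41_8])
noncomputable def T42 : ℕ := (cat (nat_lit 32768) [T42_0, T42_1, T42_2, T42_3, T42_4, T42_5, T42_6, T42_7, T42_8])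
noncomputable def T43 : ℕ := (cat (nat_lit 32768) [T43_0, T43_1, T43_2, T43_3, T43_4, T43_5, T43_6, T43_7, T43_8])
noncomputable def T44 : ℕ := (cat (nat_lit 32768) [T44_0, T44_1, T44_2, T44_3, T44_4, T44_5, T44_6, T44_7, T44_8])
noncomputable def T45 : ℕ := (cat (nat_lit 32768) [T45_0, T45_1, T45_2, T45_3, T45_4, T45_5, T45_6, T45_7, T45_8])
noncomputable def T46 : ℕ := (cat (nat_lit 32768) [T46_0, T46_1, T46_2, T46_3, T46_4, T46_5, T46_6, T46_7, T46_8])
noncomputable def T47 : ℕ := (cat (nat_lit 32768) [T47_0, T47_1, T47_2, T47_3, T47_4, T47_5, T47_6, T47_7, T47_8])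
noncomputable def T48 : ℕ := (cat (nat_lit 32768) [T48_0, T48_1, T48_2, T48_3, T48_4, T48_5, T48_6, T48_7, T48_8])
noncomputable def T49 : ℕ := (cat (nat_lit 32768) [T49_0, T49_1, T49_2, T49_3, T49_4, T49_5, T49_6, T49_7, T49_8])
noncomputable def T50 : ℕ := (cat (nat_lit 32768) [T50_0, T50_1, T50_2, T50_3, T50_4, T50_5, T50_6, T50_7, T50_8])
noncomputable def T51 : ℕ := (cat (nat_lit 32768) [T51_0, T51_1, T51_2, T51_3, T51_4, T51_5, T51_6, T51_7, T51_8])
noncomputable def T52 : ℕ := (cat (nat_lit 32768) [T52_0, T52_1, T52_2, T52_3, T52_4, T52_5, T52_6, T52_7, T52_8])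
noncomputable def T53 : ℕ := (cat (nat_lit 32768) [T53_0, T53_1, T53_2, T53_3, T53_4, T53_5, T53_6, T53_7, T53_8])
noncomputable def T54 : ℕ := (cat (nat_lit 32768) [T54_0, T54_1, T54_2, T54_3, T54_4, T54_5, T54_6, T54_7, T54_8])
noncomputable def T55 : ℕ := (cat (nat_lit 32768) [T55_0, T55_1, T55_2, T55_3, T55_4, T55_5, T55_6, T55_7, T55_8])
noncomputable def T56 : ℕ := (cat (nat_lit 32768) [T56_0, T56_1, T56_2, T56_3, T56_4, T56_5, T56_6, T56_7, T56_8])
noncomputable def T57 : ℕ := (cat (nat_lit 32768) [T57_0, T57_1, T57_2, T57_3, T57_4, T57_5, T57_6, T57_7, T57_8])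
noncomputable def T58 : ℕ := (cat (nat_lit 32768) [T58_0, T58_1, T58_2, T58_3, T58_4, T58_5, T58_6, T58_7, T58_8])
noncomputable def T59 : ℕ := (cat (nat_lit 32768) [T59_0, T59_1, T59_2, T59_3, T59_4, T59_5, T59_6, T59_7, T59_8])
noncomputable def T60 : ℕ := (cat (nat_lit 32768) [T60_0, T60_1, T60_2, T60_3, T60_4, T60_5, T60_6, T60_7, T60_8])
noncomputable def T61 : ℕ := (cat (nat_lit 32768) [T61_0, T61_1, T61_2, T61_3, T61_4, T61_5, T61_6, T61_7, T61_8])
noncomputable def T62 : ℕ := (cat (nat_lit 32768) [T62_0, T62_1, T62_2, T62_3, T62_4, T62_5, T62_6, T62_7, T62_8])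
noncomputable def T63 : ℕ := (cat (nat_lit 32768) [T63_0, T63_1, T63_2, T63_3, T63_4, T63_5, T63_6, T63_7, T63_8])
noncomputable def T64 : ℕ := (cat (nat_lit 32768) [T64_0, T64_1, T64_2, T64_3, T64_4, T64_5, T64_6, T64_7, T64_8])
noncomputable def T65 : ℕ := (cat (nat_lit 32768) [T65_0, T65_1, T65_2, T65_3, T65_4, T65_5, T65_6, T65_7, T65_8])
noncomputable def T66 : ℕ := (cat (nat_lit 32768) [T66_0, T66_1, T66_2, T66_3, T66_4, T66_5, T66_6, T66_7, T66_8])
noncomputable def T67 : ℕ := (cat (nat_lit 32768) [T67_0, T67_1, T67_2, T67_3, T67_4, T67_5, T67_6, T67_7, T67_8])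
noncomputable def T68 : ℕ := (cat (nat_lit 32768) [T68_0, T68_1, T68_2, T68_3, T68_4, T68_5, T68_6, T68_7, T68_8])
noncomputable def T69 : ℕ := (cat (nat_lit 32768) [T69_0, T69_1, T69_2, T69_3, T69_4, T69_5, T69_6, T69_7, T69_8])
noncomputable def T70 : ℕ := (cat (nat_lit 32768) [T70_0, T70_1, T70_2, T70_3, T70_4, T70_5, T70_6, T70_7, T70_8])
noncomputable def T71 : ℕ := (cat (nat_lit 32768) [T71_0, T71_1, T71_2, T71_3, T71_4, T71_5, T71_6, T71_7, T71_8])
noncomputable def T72 : ℕ := (cat (nat_lit 32768) [T72_0, T72_1, T72_2, T72_3, T72_4, T72_5, T72_6, T72_7, T72_8])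
noncomputable def T73 : ℕ := (cat (nat_lit 32768) [T73_0, T73_1, T73_2, T73_3, T73_4, T73_5, T73_6, T73_7, T73_8])
noncomputable def T74 : ℕ := (cat (nat_lit 32768) [T74_0, T74_1, T74_2, T74_3, T74_4, T74_5, T74_6, T74_7, T74_8])
noncomputable def T75 : ℕ := (cat (nat_lit 32768) [T75_0, T75_1, T75_2, T75_3, T75_4, T75_5, T75_6, T75_7, T75_8])
noncomputable def T76 : ℕ := (cat (nat_lit 32768) [T76_0, T76_1, T76_2, T76_3, T76_4, T76_5, T76_6, T76_7, T76_8])
noncomputable def tt_0 : Tr := (.node (.node (.node (.node (.node (.leaf T64) (.leaf T32)) (.node (.leaf T16) (.leaf T48))) (.node (.node (.node (.leaf T8) (.leaf T72)) (.leaf T40)) (.node (.leaf T24) (.leaf T56)))) (.node (.node (.node (.node (.leaf T4) (.leaf T68)) (.leaf T36)) (.node (.leaf T20) (.leaf T52))) (.node (.node (.node (.leaf T12) (.leaf T76)) (.leaf T44)) (.node (.leaf T28) (.leaf T60))))) (.node (.node (.node (.node (.node (.leaf T2) (.leaf T66)) (.leaf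 T34)) (.node (.leaf T18) (.leaf T50))) (.node (.node (.node (.leaf T10) (.leaf T74)) (.leaf T42)) (.node (.leaf T26) (.leaf T58)))) (.node (.node (.node (.node (.leaf T6) (.leaf T70)) (.leaf T38)) (.node (.leaf T22) (.leaf T54))) (.node (.node (.leaf T14) (.leaf T46)) (.node (.leaf T30) (.leaf T62))))))
noncomputable def tt_1 : Tr := (.node (.node (.node (.node (.node (.node (.leaf T1) (.leaf T65)) (.leaf T33)) (.node (.leaf T17) (.leaf T49))) (.node (.node (.node (.leaf T9) (.leaf T73)) (.leaf T41)) (.node (.leaf T25) (.leaf T57)))) (.node (.node (.node (.node (.leaf T5) (.leaf T69)) (.leaf T37)) (.node (.leaf T21) (.leaf T53))) (.node (.node (.leaf T13) (.leaf T45)) (.node (.leaf T29) (.leaf T61))))) (.node (.node (.node (.node (.node (.leaf T3) (.leaf T67)) (.leaf T35)) (.node (.leaf T19) (.leaf T51))) (.node (.node (.node (.leaf T11) (.leaf T75)) (.leaf T43)) (.node (.leaf T27) (.leaf T59)))) (.node (.node (.node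 (.node (.leaf T7) (.leaf T71)) (.leaf T39)) (.node (.leaf T23) (.leaf T55))) (.node (.node (.leaf T15) (.leaf T47)) (.node (.leaf T31) (.leaf T63))))))
noncomputable def tt : Tr := (.node tt_0 tt_1)

end CL.ThG
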