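/- The tables are correct (generated by tools/cgt/dcel.py). -/
import Cfsg.Agent.SPOR.ThGTab
import Cfsg.Agent.SPOR.ThGNet
set_option autoImplicit false
set_option Elab.async false
set_option maxRecDepth 100000

namespace CL.ThG
open CL.CE CL.K CL.Net CL.DCE

noncomputable def tn : List (ℕ × ℕ) := List.map (swapBits 19) [(17, 18), (16, 17), (15, 16), (14, 18), (13, 17), (12, 16), (11, 15), (10, 14), (9, 13), (8, 12), (7, 11), (6, 10), (5, 9), (4, 8), (3, 7), (2, 6), (1, 5), (0, 4)]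
theorem tn_ok : tnOK 15 tn = true := by decide +kernel
def lw : List (List ℕ) := [[0],
  [1],
  [2],
  [3],
  [4],
  [5],
  [6],
  [7],
  [8],
  [5,5,4,6,6],
  [1,0,2,1],
  [1,0,2,1,4],
  [3,2,3],
  [4,6,4,6,3,2,3,4,5,3,2,3,4,5,5,3,2,3,4,6,2],
  [1,0,2,1,4,0],
  [1,0,2,1,0],
  [5,5,4,6,6,2,0],
  [5,5,4,6,6,4,1,0,2,1],
  [5,5,4,6,6,4,1,0,2,1,4],
  [7,5,5,4,6,6,4,1,0,2,1,0],
  [8,5,5,4,6,6,4,1,0,2,1,4,0],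
  [4,1,0,2,1,4,0],
  [4,1,0,2,1,0],
  [5,5,4,6,6,2,0,7],
  [5,5,4,6,6,2,0,8],
  [7,5,5,4,6,6,4,1,0,2,1,0,1,0,2,1,4,0],
  [8,5,5,4,6,6,4,1,0,2,1,4,0,1,0,2,1,0],
  [7,1,0,2,1,4,0],
  [8,1,0,2,1,0],
  [7,7,5,5,4,6,6,4,1,0,2,1,0],
  [8,8,5,5,4,6,6,4,1,0,2,1,4,0],
  [2,5,5,4,6,6],
  [2,0],
  [3,2,3,5,5,4,6,6,4,1,0,2,1],
  [4,6,4,6,3,2,3,4,5,3,2,3,4,5,5,3,2,3,4,6,2,5,5,4,6,6,4,1,0,2,1,4],
  [3,2,3,5,5,4,6,6,4,1,0,2,1,2],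
  [4,6,4,6,3,2,3,4,5,3,2,3,4,5,5,3,2,3,4,6,2,5,5,4,6,6,4,1,0,2,1,4,2],
  [3,2,3,5,5,4,6,6,4,1,0,2,1,2,3,2,3],
  [4,6,4,6,3,2,3,4,5,3,2,3,4,5,5,3,2,3,4,6,2,5,5,4,6,6,4,1,0,2,1,4,2,4,6,4,6,3,2,3,4,5,3,2,3,4,5,5,3,2,3,4,6,2],
  [5,5,4,6,6,2,0,7,7],
  [5,5,4,6,6,2,0,8,8],
  [0,4],
  [7,1,0,2,1,4,0,7,5,5,4,6,6,4,1,0,2,1,0],
  [8,1,0,2,1,0,8,5,5,4,6,6,4,1,0,2,1,4,0],
  [7,1,0,2,1,4,0,1,0,2,1,4,0],
  [8,1,0,2,1,0,1,0,2,1,0],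
  [7,5,5,4,6,6,4,1,0,2,1,0,2],
  [8,5,5,4,6,6,4,1,0,2,1,4,0,2],
  [7,5,5,4,6,6,4,1,0,2,1,0,5,5,4,6,6,4,1,0,2,1],
  [8,5,5,4,6,6,4,1,0,2,1,4,0,5,5,4,6,6,4,1,0,2,1,4],
  [7,1,0,2,1,4,0,1,0,2,1,4,0,7,5,5,4,6,6,4,1,0,2,1,0,2],
  [8,1,0,2,1,0,1,0,2,1,0,8,5,5,4,6,6,4,1,0,2,1,4,0,2],
  [7,1,0,2,1,4,0,1,0,2,1,4,0,5,5,4,6,6,2,0,7],
  [8,1,0,2,1,0,1,0,2,1,0,5,5,4,6,6,2,0,8],
  [5,5,4,6,6,2,0,7,7,5,5,4,6,6,2,0],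
  [5,5,4,6,6,2,0,8,8,5,5,4,6,6,2,0],
  [5,5,4,6,6,2,0,7,7,5,5,4,6,6,2,0,3,2,3,5,5,4,6,6,4,1,0,2,1,2],
  [5,5,4,6,6,2,0,8,8,5,5,4,6,6,2,0,4,6,4,6,3,2,3,4,5,3,2,3,4,5,5,3,2,3,4,6,2,5,5,4,6,6,4,1,0,2,1,4,2],
  [7,5,5,4,6,6,4,1,0,2,1,0,2,0,4],
  [8,5,5,4,6,6,4,1,0,2,1,4,0,2,0,4],
  [5,5,4,6,6,2,0,7,1,0,2,1,4,0,1,0,2,1,4,0,5,5,4,6,6,2,0,7],
  [5,5,4,6,6,2,0,8,1,0,2,1,0,1,0,2,1,0,5,5,4,6,6,2,0,8],
  [5,5,4,6,6,2,0,7,7,5,5,4,6,6,2,0,2],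
  [5,5,4,6,6,2,0,8,8,5,5,4,6,6,2,0,2],
  [7,5,5,4,6,6,2,0,7,7,5,5,4,6,6,2,0],
  [8,5,5,4,6,6,2,0,8,8,5,5,4,6,6,2,0],
  [7,5,5,4,6,6,4,1,0,2,1,0,1,0,2,1,4,0,3,2,3,5,5,4,6,6,4,1,0,2,1,2,3,2,3],
  [8,5,5,4,6,6,4,1,0,2,1,4,0,1,0,2,1,0,4,6,4,6,3,2,3,4,5,3,2,3,4,5,5,3,2,3,4,6,2,5,5,4,6,6,4,1,0,2,1,4,2,4,6,4,6,3,2,3,4,5,3,2,3,4,5,5,3,2,3,4,6,2],
  [0,1,2,0,1,4,5,5,4,6,6,8,2,1,2,0,1,4,5,5,4,6,6,3,2,3,0,2,5,5,4,6,6,8,8,0,2,5,5,4,6,6,1,2,0,1,4,5,5,4,6,6,3,2,3,5,5,4,6,6,2,0,7,1,0,2,1,4,0,1,0,2,1,4,0,5,5,4,6,6,2,0,7,5,5,4,6,6,4,1,0,2,1,7,5,5,4,6,6,4,1,0,2,1,0,1,0,2,1,4,0,3,2,3,5,5,4,6,6,4,1,0,2,1,2,3,2,3],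
  [0,4,1,2,0,1,4,5,5,4,6,6,7,2,4,1,2,0,1,4,5,5,4,6,6,2,5,4,3,2,3,6,6,4,3,2,3,6,4,3,2,3,5,4,5,4,0,2,5,5,4,6,6,7,7,0,2,5,5,4,6,6,4,1,2,0,1,4,5,5,4,6,6,2,5,4,3,2,3,6,6,4,3,2,3,6,4,3,2,3,5,4,5,4,5,5,4,6,6,2,0,8,1,0,2,1,0,1,0,2,1,0,5,5,4,6,6,2,0,8,5,5,4,6,6,4,1,0,2,1,4,8,5,5,4,6,6,4,1,0,2,1,4,0,1,0,2,1,0,4,6,4,6,3,2,3,4,5,3,2,3,4,5,5,3,2,3,4,6,2,5,5,4,6,6,4,1,0,2,1,4,2,4,6,4,6,3,2,3,4,5,3,2,3,4,5,5,3,2,3,4,6,2],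
  [8,0,2,5,5,4,6,6,1,2,0,1,4,5,5,4,6,6,3,2,3,0,1,2,0,1,4,5,5,4,6,6,8,0,4,1,2,0,1,8,0,1,2,0,1,4,5,5,4,6,6,8,2,1,2,0,1,4,5,5,4,6,6,3,2,3,0,2,5,5,4,6,6,8,8,0,2,5,5,4,6,6,1,2,0,1,4,5,5,4,6,6,3,2,3,5,5,4,6,6,2,0,7,1,0,2,1,4,0,1,0,2,1,4,0,5,5,4,6,6,2,0,7,5,5,4,6,6,4,1,0,2,1,7,5,5,4,6,6,4,1,0,2,1,0,1,0,2,1,4,0,3,2,3,5,5,4,6,6,4,1,0,2,1,2,3,2,3,7,5,5,4,6,6,4,1,0,2,1,0,2,0,4,5,5,4,6,6,2,0,7,7,5,5,4,6,6,2,0,3,2,3,5,5,4,6,6,4,1,0,2,1,2],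
  [7,0,2,5,5,4,6,6,4,1,2,0,1,4,5,5,4,6,6,2,5,4,3,2,3,6,6,4,3,2,3,6,4,3,2,3,5,4,5,4,0,4,1,2,0,1,4,5,5,4,6,6,7,0,1,2,0,1,7,0,4,1,2,0,1,4,5,5,4,6,6,7,2,4,1,2,0,1,4,5,5,4,6,6,2,5,4,3,2,3,6,6,4,3,2,3,6,4,3,2,3,5,4,5,4,0,2,5,5,4,6,6,7,7,0,2,5,5,4,6,6,4,1,2,0,1,4,5,5,4,6,6,2,5,4,3,2,3,6,6,4,3,2,3,6,4,3,2,3,5,4,5,4,5,5,4,6,6,2,0,8,1,0,2,1,0,1,0,2,1,0,5,5,4,6,6,2,0,8,5,5,4,6,6,4,1,0,2,1,4,8,5,5,4,6,6,4,1,0,2,1,4,0,1,0,2,1,0,4,6,4,6,3,2,3,4,5,3,2,3,4,5,5,3,2,3,4,6,2,5,5,4,6,6,4,1,0,2,1,4,2,4,6,4,6,3,2,3,4,5,3,2,3,4,5,5,3,2,3,4,6,2,8,5,5,4,6,6,4,1,0,2,1,4,0,2,0,4,5,5,4,6,6,2,0,8,8,5,5,4,6,6,2,0,4,6,4,6,3,2,3,4,5,3,2,3,4,5,5,3,2,3,4,6,2,5,5,4,6,6,4,1,0,2,1,4,2],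
  [5,5,4,6,6,3,2,3,2,1,2,0,1,4,5,5,4,6,6,3,2,3,2,0,1,2,0,1,4,5,5,4,6,6,8,0,4,1,2,0,1,0,4,1,2,0,1,8,2,1,2,0,1,4,5,5,4,6,6,3,2,3,0,2,5,5,4,6,6,8,8,0,2,5,5,4,6,6,8,0,2,5,5,4,6,6,1,2,0,1,4,5,5,4,6,6,3,2,3,0,1,2,0,1,4,5,5,4,6,6,8,0,4,1,2,0,1,8,0,1,2,0,1,4,5,5,4,6,6,8,2,1,2,0,1,4,5,5,4,6,6,3,2,3,0,2,5,5,4,6,6,8,8,0,2,5,5,4,6,6,1,2,0,1,4,5,5,4,6,6,3,2,3,5,5,4,6,6,2,0,7,1,0,2,1,4,0,1,0,2,1,4,0,5,5,4,6,6,2,0,7,5,5,4,6,6,4,1,0,2,1,7,5,5,4,6,6,4,1,0,2,1,0,1,0,2,1,4,0,3,2,3,5,5,4,6,6,4,1,0,2,1,2,3,2,3,7,5,5,4,6,6,4,1,0,2,1,0,2,0,4,5,5,4,6,6,2,0,7,7,5,5,4,6,6,2,0,3,2,3,5,5,4,6,6,4,1,0,2,1,2,7,1,0,2,1,4,0,1,0,2,1,4,0],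
  [5,5,4,6,6,2,5,4,3,2,3,6,6,4,3,2,3,6,4,3,2,3,5,4,5,4,2,4,1,2,0,1,4,5,5,4,6,6,2,5,4,3,2,3,6,6,4,3,2,3,6,4,3,2,3,5,4,5,4,2,0,4,1,2,0,1,4,5,5,4,6,6,7,0,1,2,0,1,0,1,2,0,1,7,2,4,1,2,0,1,4,5,5,4,6,6,2,5,4,3,2,3,6,6,4,3,2,3,6,4,3,2,3,5,4,5,4,0,2,5,5,4,6,6,7,7,0,2,5,5,4,6,6,7,0,2,5,5,4,6,6,4,1,2,0,1,4,5,5,4,6,6,2,5,4,3,2,3,6,6,4,3,2,3,6,4,3,2,3,5,4,5,4,0,4,1,2,0,1,4,5,5,4,6,6,7,0,1,2,0,1,7,0,4,1,2,0,1,4,5,5,4,6,6,7,2,4,1,2,0,1,4,5,5,4,6,6,2,5,4,3,2,3,6,6,4,3,2,3,6,4,3,2,3,5,4,5,4,0,2,5,5,4,6,6,7,7,0,2,5,5,4,6,6,4,1,2,0,1,4,5,5,4,6,6,2,5,4,3,2,3,6,6,4,3,2,3,6,4,3,2,3,5,4,5,4,5,5,4,6,6,2,0,8,1,0,2,1,0,1,0,2,1,0,5,5,4,6,6,2,0,8,5,5,4,6,6,4,1,0,2,1,4,8,5,5,4,6,6,4,1,0,2,1,4,0,1,0,2,1,0,4,6,4,6,3,2,3,4,5,3,2,3,4,5,5,3,2,3,4,6,2,5,5,4,6,6,4,1,0,2,1,4,2,4,6,4,6,3,2,3,4,5,3,2,3,4,5,5,3,2,3,4,6,2,8,5,5,4,6,6,4,1,0,2,1,4,0,2,0,4,5,5,4,6,6,2,0,8,8,5,5,4,6,6,2,0,4,6,4,6,3,2,3,4,5,3,2,3,4,5,5,3,2,3,4,6,2,5,5,4,6,6,4,1,0,2,1,4,2,8,1,0,2,1,0,1,0,2,1,0],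
  [1,2,0,1,2,3,2,3,4,1,0,2,1,4,0],
  [4,1,2,0,1,2,4,6,4,6,3,2,3,4,5,3,2,3,4,5,5,3,2,3,4,6,2,4,1,0,2,1,0]]
theorem cw0 : chkW nets0 18432 17199 15 tn (tt.get (0 + 1)) (lw.getD 0 []) = true := by decide +kernel
theorem cw1 : chkW nets0 18432 17199 15 tn (tt.get (1 + 1)) (lw.getD 1 []) = true := by decide +kernel
theorem cw2 : chkW nets0 18432 17199 15 tn (tt.get (2 + 1)) (lw.getD 2 []) = true := by decide +kernel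
theorem cw3 : chkW nets0 18432 17199 15 tn (tt.get (3 + 1)) (lw.getD 3 []) = true := by decide +kernel
theorem cw4 : chkW nets0 18432 17199 15 tn (tt.get (4 + 1)) (lw.getD 4 []) = true := by decide +kernel
theorem cw5 : chkW nets0 18432 17199 15 tn (tt.get (5 + 1)) (lw.getD 5 []) = true := by decide +kernel
theorem cw6 : chkW nets0 18432 17199 15 tn (tt.get (6 + 1)) (lw.getD 6 []) = true := by decide +kernel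
theorem cw7 : chkW nets0 18432 17199 15 tn (tt.get (7 + 1)) (lw.getD 7 []) = true := by decide +kernel
theorem cw8 : chkW nets0 18432 17199 15 tn (tt.get (8 + 1)) (lw.getD 8 []) = true := by decide +kernel
theorem cw9 : chkW nets0 18432 17199 15 tn (tt.get (9 + 1)) (lw.getD 9 []) = true := by decide +kernel
theorem cw10 : chkW nets0 18432 17199 15 tn (tt.get (10 + 1)) (lw.getD 10 []) = true := by decide +kernel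
theorem cw11 : chkW nets0 18432 17199 15 tn (tt.get (11 + 1)) (lw.getD 11 []) = true := by decide +kernel
theorem cw12 : chkW nets0 18432 17199 15 tn (tt.get (12 + 1)) (lw.getD 12 []) = true := by decide +kernel
theorem cw13 : chkW nets0 18432 17199 15 tn (tt.get (13 + 1)) (lw.getD 13 []) = true := by decide +kernel
theorem cw14 : chkW nets0 18432 17199 15 tn (tt.get (14 + 1)) (lw.getD 14 []) = true := by decide +kernel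
theorem cw15 : chkW nets0 18432 17199 15 tn (tt.get (15 + 1)) (lw.getD 15 []) = true := by decide +kernel
theorem cw16 : chkW nets0 18432 17199 15 tn (tt.get (16 + 1)) (lw.getD 16 []) = true := by decide +kernel
theorem cw17 : chkW nets0 18432 17199 15 tn (tt.get (17 + 1)) (lw.getD 17 []) = true := by decide +kernel
theorem cw18 : chkW nets0 18432 17199 15 tn (tt.get (18 + 1)) (lw.getD 18 []) = true := by decide +kernel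
theorem cw19 : chkW nets0 18432 17199 15 tn (tt.get (19 + 1)) (lw.getD 19 []) = true := by decide +kernel
theorem cw20 : chkW nets0 18432 17199 15 tn (tt.get (20 + 1)) (lw.getD 20 []) = true := by decide +kernel
theorem cw21 : chkW nets0 18432 17199 15 tn (tt.get (21 + 1)) (lw.getD 21 []) = true := by decide +kernel
theorem cw22 : chkW nets0 18432 17199 15 tn (tt.get (22 + 1)) (lw.getD 22 []) = true := by decide +kernel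
theorem cw23 : chkW nets0 18432 17199 15 tn (tt.get (23 + 1)) (lw.getD 23 []) = true := by decide +kernel
theorem cw24 : chkW nets0 18432 17199 15 tn (tt.get (24 + 1)) (lw.getD 24 []) = true := by decide +kernel
theorem cw25 : chkW nets0 18432 17199 15 tn (tt.get (25 + 1)) (lw.getD 25 []) = true := by decide +kernel
theorem cw26 : chkW nets0 18432 17199 15 tn (tt.get (26 + 1)) (lw.getD 26 []) = true := by decide +kernel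
theorem cw27 : chkW nets0 18432 17199 15 tn (tt.get (27 + 1)) (lw.getD 27 []) = true := by decide +kernel
theorem cw28 : chkW nets0 18432 17199 15 tn (tt.get (28 + 1)) (lw.getD 28 []) = true := by decide +kernel
theorem cw29 : chkW nets0 18432 17199 15 tn (tt.get (29 + 1)) (lw.getD 29 []) = true := by decide +kernel
theorem cw30 : chkW nets0 18432 17199 15 tn (tt.get (30 + 1)) (lw.getD 30 []) = true := by decide +kernel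
theorem cw31 : chkW nets0 18432 17199 15 tn (tt.get (31 + 1)) (lw.getD 31 []) = true := by decide +kernel
theorem cw32 : chkW nets0 18432 17199 15 tn (tt.get (32 + 1)) (lw.getD 32 []) = true := by decide +kernel
theorem cw33 : chkW nets0 18432 17199 15 tn (tt.get (33 + 1)) (lw.getD 33 []) = true := by decide +kernel
theorem cw34 : chkW nets0 18432 17199 15 tn (tt.get (34 + 1)) (lw.getD 34 []) = true := by decide +kernel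
theorem cw35 : chkW nets0 18432 17199 15 tn (tt.get (35 + 1)) (lw.getD 35 []) = true := by decide +kernel
theorem cw36 : chkW nets0 18432 17199 15 tn (tt.get (36 + 1)) (lw.getD 36 []) = true := by decide +kernel
theorem cw37 : chkW nets0 18432 17199 15 tn (tt.get (37 + 1)) (lw.getD 37 []) = true := by decide +kernel
theorem cw38 : chkW nets0 18432 17199 15 tn (tt.get (38 + 1)) (lw.getD 38 []) = true := by decide +kernel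
theorem cw39 : chkW nets0 18432 17199 15 tn (tt.get (39 + 1)) (lw.getD 39 []) = true := by decide +kernel
theorem cw40 : chkW nets0 18432 17199 15 tn (tt.get (40 + 1)) (lw.getD 40 []) = true := by decide +kernel
theorem cw41 : chkW nets0 18432 17199 15 tn (tt.get (41 + 1)) (lw.getD 41 []) = true := by decide +kernel
theorem cw42 : chkW nets0 18432 17199 15 tn (tt.get (42 + 1)) (lw.getD 42 []) = true := by decide +kernel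
theorem cw43 : chkW nets0 18432 17199 15 tn (tt.get (43 + 1)) (lw.getD 43 []) = true := by decide +kernel
theorem cw44 : chkW nets0 18432 17199 15 tn (tt.get (44 + 1)) (lw.getD 44 []) = true := by decide +kernel
theorem cw45 : chkW nets0 18432 17199 15 tn (tt.get (45 + 1)) (lw.getD 45 []) = true := by decide +kernel
theorem cw46 : chkW nets0 18432 17199 15 tn (tt.get (46 + 1)) (lw.getD 46 []) = true := by decide +kernel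
theorem cw47 : chkW nets0 18432 17199 15 tn (tt.get (47 + 1)) (lw.getD 47 []) = true := by decide +kernel
theorem cw48 : chkW nets0 18432 17199 15 tn (tt.get (48 + 1)) (lw.getD 48 []) = true := by decide +kernel
theorem cw49 : chkW nets0 18432 17199 15 tn (tt.get (49 + 1)) (lw.getD 49 []) = true := by decide +kernel
theorem cw50 : chkW nets0 18432 17199 15 tn (tt.get (50 + 1)) (lw.getD 50 []) = true := by decide +kernel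
theorem cw51 : chkW nets0 18432 17199 15 tn (tt.get (51 + 1)) (lw.getD 51 []) = true := by decide +kernel
theorem cw52 : chkW nets0 18432 17199 15 tn (tt.get (52 + 1)) (lw.getD 52 []) = true := by decide +kernel
theorem cw53 : chkW nets0 18432 17199 15 tn (tt.get (53 + 1)) (lw.getD 53 []) = true := by decide +kernel
theorem cw54 : chkW nets0 18432 17199 15 tn (tt.get (54 + 1)) (lw.getD 54 []) = true := by decide +kernel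
theorem cw55 : chkW nets0 18432 17199 15 tn (tt.get (55 + 1)) (lw.getD 55 []) = true := by decide +kernel
theorem cw56 : chkW nets0 18432 17199 15 tn (tt.get (56 + 1)) (lw.getD 56 []) = true := by decide +kernel
theorem cw57 : chkW nets0 18432 17199 15 tn (tt.get (57 + 1)) (lw.getD 57 []) = true := by decide +kernel
theorem cw58 : chkW nets0 18432 17199 15 tn (tt.get (58 + 1)) (lw.getD 58 []) = true := by decide +kernel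
theorem cw59 : chkW nets0 18432 17199 15 tn (tt.get (59 + 1)) (lw.getD 59 []) = true := by decide +kernel
theorem cw60 : chkW nets0 18432 17199 15 tn (tt.get (60 + 1)) (lw.getD 60 []) = true := by decide +kernel
theorem cw61 : chkW nets0 18432 17199 15 tn (tt.get (61 + 1)) (lw.getD 61 []) = true := by decide +kernel
theorem cw62 : chkW nets0 18432 17199 15 tn (tt.get (62 + 1)) (lw.getD 62 []) = true := by decide +kernel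
theorem cw63 : chkW nets0 18432 17199 15 tn (tt.get (63 + 1)) (lw.getD 63 []) = true := by decide +kernel
theorem cw64 : chkW nets0 18432 17199 15 tn (tt.get (64 + 1)) (lw.getD 64 []) = true := by decide +kernel
theorem cw65 : chkW nets0 18432 17199 15 tn (tt.get (65 + 1)) (lw.getD 65 []) = true := by decide +kernel
theorem cw66 : chkW nets0 18432 17199 15 tn (tt.get (66 + 1)) (lw.getD 66 []) = true := by decide +kernel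
theorem cw67 : chkW nets0 18432 17199 15 tn (tt.get (67 + 1)) (lw.getD 67 []) = true := by decide +kernel
theorem cw68 : chkW nets0 18432 17199 15 tn (tt.get (68 + 1)) (lw.getD 68 []) = true := by decide +kernel
theorem cw69 : chkW nets0 18432 17199 15 tn (tt.get (69 + 1)) (lw.getD 69 []) = true := by decide +kernel
theorem cw70 : chkW nets0 18432 17199 15 tn (tt.get (70 + 1)) (lw.getD 70 []) = true := by decide +kernel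
theorem cw71 : chkW nets0 18432 17199 15 tn (tt.get (71 + 1)) (lw.getD 71 []) = true := by decide +kernel
theorem cw72 : chkW nets0 18432 17199 15 tn (tt.get (72 + 1)) (lw.getD 72 []) = true := by decide +kernel
theorem cw73 : chkW nets0 18432 17199 15 tn (tt.get (73 + 1)) (lw.getD 73 []) = true := by decide +kernel
theorem cw74 : chkW nets0 18432 17199 15 tn (tt.get (74 + 1)) (lw.getD 74 []) = true := by decide +kernel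
theorem cw75 : chkW nets0 18432 17199 15 tn (tt.get (75 + 1)) (lw.getD 75 []) = true := by decide +kernel
theorem wordsOK : Below (fun d => chkW nets0 18432 17199 15 tn (tt.get (d + 1)) (lw.getD d [])) 76 :=
  ⟨⟨⟨⟨⟨⟨⟨⟨⟨⟨⟨⟨⟨⟨⟨⟨⟨⟨⟨⟨⟨⟨⟨⟨⟨⟨⟨⟨⟨⟨⟨⟨⟨⟨⟨⟨⟨⟨⟨⟨⟨⟨⟨⟨⟨⟨⟨⟨⟨⟨⟨⟨⟨⟨⟨⟨⟨⟨⟨⟨⟨⟨⟨⟨⟨⟨⟨⟨⟨⟨⟨⟨⟨⟨⟨⟨trivial, cw0⟩, cw1⟩, cw2⟩, cw3⟩, cw4⟩, cw5⟩, cw6⟩, cw7⟩, cw8⟩, cw9⟩, cw10⟩, cw11⟩, cw12⟩, cw13⟩, cw14⟩, cw15⟩, cw16⟩, cw17⟩, cw18⟩, cw19⟩, cw20⟩, cw21⟩, cw22⟩, cw23⟩, cw24⟩, cw25⟩, cw26⟩, cw27⟩, cw28⟩, cw29⟩, cw30⟩, cw31⟩, cw32⟩, cw33⟩, cw34⟩, cw35⟩, cw36⟩, cw37⟩, cw38⟩, cw39⟩, cw40⟩, cw41⟩, cw42⟩, cw43⟩, cw44⟩, cw45⟩, cw46⟩, cw47⟩, cw48⟩, cw49⟩, cw50⟩, cw51⟩, cw52⟩, cw53⟩, cw54⟩, cw55⟩, cw56⟩, cw57⟩, cw58⟩, cw59⟩, cw60⟩, cw61⟩, cw62⟩, cw63⟩, cw64⟩, cw65⟩, cw66⟩, cw67⟩, cw68⟩, cw69⟩, cw70⟩, cw71⟩, cw72⟩, cw73⟩,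 cw74⟩, cw75⟩

end CL.ThG
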