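/- The checked certificate (generated by tools/cgt/dcel.py). -/
import Cfsg.Agent.SPOR.ThGTabN
import Cfsg.Agent.SPOR.ThGCov
import Cfsg.Agent.SPOR.ThGItemK0
import Cfsg.Agent.SPOR.ThGItemK1
import Cfsg.Agent.SPOR.ThGItemK2
set_option autoImplicit false
set_option Elab.async false
set_option maxRecDepth 100000

namespace CL.ThG
open CL.CE CL.K CL.Net CL.DCE

theorem up0 : Upto (tab tt) (0 :: bs) st.get pt.get gv qt.get 0 := upto_zero
theorem up60 : Upto (tab tt) (0 :: bs) st.get pt.get gv qt.get 60 := up0.step ci0 rfl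
theorem up120 : Upto (tab tt) (0 :: bs) st.get pt.get gv qt.get 120 := up60.step ci60 rfl
theorem up180 : Upto (tab tt) (0 :: bs) st.get pt.get gv qt.get 180 := up120.step ci120 rfl
theorem up240 : Upto (tab tt) (0 :: bs) st.get pt.get gv qt.get 240 := up180.step ci180 rfl
theorem up300 : Upto (tab tt) (0 :: bs) st.get pt.get gv qt.get 300 := up240.step ci240 rfl
theorem up360 : Upto (tab tt) (0 :: bs) st.get pt.get gv qt.get 360 := up300.step ci300 rfl
theorem up420 : Upto (tab tt) (0 :: bs) st.get pt.get gv qt.get 420 := up360.step ci360 rfl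
theorem up480 : Upto (tab tt) (0 :: bs) st.get pt.get gv qt.get 480 := up420.step ci420 rfl
theorem up540 : Upto (tab tt) (0 :: bs) st.get pt.get gv qt.get 540 := up480.step ci480 rfl
theorem up600 : Upto (tab tt) (0 :: bs) st.get pt.get gv qt.get 600 := up540.step ci540 rfl
theorem up660 : Upto (tab tt) (0 :: bs) st.get pt.get gv qt.get 660 := up600.step ci600 rfl
theorem up720 : Upto (tab tt) (0 :: bs) st.get pt.get gv qt.get 720 := up660.step ci660 rfl
theorem up780 : Upto (tab tt) (0 :: bs) st.get pt.get gv qt.get 780 := up720.step ci720 rfl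
theorem up840 : Upto (tab tt) (0 :: bs) st.get pt.get gv qt.get 840 := up780.step ci780 rfl
theorem up900 : Upto (tab tt) (0 :: bs) st.get pt.get gv qt.get 900 := up840.step ci840 rfl
theorem up960 : Upto (tab tt) (0 :: bs) st.get pt.get gv qt.get 960 := up900.step ci900 rfl
theorem up1020 : Upto (tab tt) (0 :: bs) st.get pt.get gv qt.get 1020 := up960.step ci960 rfl
theorem up1080 : Upto (tab tt) (0 :: bs) st.get pt.get gv qt.get 1080 := up1020.step ci1020 rfl
theorem up1140 : Upto (tab tt) (0 :: bs) st.get pt.get gv qt.get 1140 := up1080.step ci1080 rfl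
theorem up1200 : Upto (tab tt) (0 :: bs) st.get pt.get gv qt.get 1200 := up1140.step ci1140 rfl
theorem up1260 : Upto (tab tt) (0 :: bs) st.get pt.get gv qt.get 1260 := up1200.step ci1200 rfl
theorem up1320 : Upto (tab tt) (0 :: bs) st.get pt.get gv qt.get 1320 := up1260.step ci1260 rfl
theorem up1380 : Upto (tab tt) (0 :: bs) st.get pt.get gv qt.get 1380 := up1320.step ci1320 rfl
theorem up1440 : Upto (tab tt) (0 :: bs) st.get pt.get gv qt.get 1440 := up1380.step ci1380 rfl
theorem up1500 : Upto (tab tt) (0 :: bs) st.get pt.get gv qt.get 1500 := up1440.step ci1440 rfl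
theorem up1560 : Upto (tab tt) (0 :: bs) st.get pt.get gv qt.get 1560 := up1500.step ci1500 rfl
theorem up1620 : Upto (tab tt) (0 :: bs) st.get pt.get gv qt.get 1620 := up1560.step ci1560 rfl
theorem up1680 : Upto (tab tt) (0 :: bs) st.get pt.get gv qt.get 1680 := up1620.step ci1620 rfl
theorem up1740 : Upto (tab tt) (0 :: bs) st.get pt.get gv qt.get 1740 := up1680.step ci1680 rfl
theorem up1800 : Upto (tab tt) (0 :: bs) st.get pt.get gv qt.get 1800 := up1740.step ci1740 rfl
theorem up1860 : Upto (tab tt) (0 :: bs) st.get pt.get gv qt.get 1860 := up1800.step ci1800 rfl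
theorem up1920 : Upto (tab tt) (0 :: bs) st.get pt.get gv qt.get 1920 := up1860.step ci1860 rfl
theorem up1980 : Upto (tab tt) (0 :: bs) st.get pt.get gv qt.get 1980 := up1920.step ci1920 rfl
theorem up2040 : Upto (tab tt) (0 :: bs) st.get pt.get gv qt.get 2040 := up1980.step ci1980 rfl
theorem up2100 : Upto (tab tt) (0 :: bs) st.get pt.get gv qt.get 2100 := up2040.step ci2040 rfl
theorem up2160 : Upto (tab tt) (0 :: bs) st.get pt.get gv qt.get 2160 := up2100.step ci2100 rfl
theorem up2220 : Upto (tab tt) (0 :: bs) st.get pt.get gv qt.get 2220 := up2160.step ci2160 rfl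
theorem up2280 : Upto (tab tt) (0 :: bs) st.get pt.get gv qt.get 2280 := up2220.step ci2220 rfl
theorem up2340 : Upto (tab tt) (0 :: bs) st.get pt.get gv qt.get 2340 := up2280.step ci2280 rfl
theorem up2400 : Upto (tab tt) (0 :: bs) st.get pt.get gv qt.get 2400 := up2340.step ci2340 rfl
theorem up2460 : Upto (tab tt) (0 :: bs) st.get pt.get gv qt.get 2460 := up2400.step ci2400 rfl
theorem up2520 : Upto (tab tt) (0 :: bs) st.get pt.get gv qt.get 2520 := up2460.step ci2460 rfl
theorem up2580 : Upto (tab tt) (0 :: bs) st.get pt.get gv qt.get 2580 := up2520.step ci2520 rfl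
theorem up2640 : Upto (tab tt) (0 :: bs) st.get pt.get gv qt.get 2640 := up2580.step ci2580 rfl
theorem up2700 : Upto (tab tt) (0 :: bs) st.get pt.get gv qt.get 2700 := up2640.step ci2640 rfl
theorem up2760 : Upto (tab tt) (0 :: bs) st.get pt.get gv qt.get 2760 := up2700.step ci2700 rfl
theorem up2820 : Upto (tab tt) (0 :: bs) st.get pt.get gv qt.get 2820 := up2760.step ci2760 rfl
theorem up2880 : Upto (tab tt) (0 :: bs) st.get pt.get gv qt.get 2880 := up2820.step ci2820 rfl
theorem up2940 : Upto (tab tt) (0 :: bs) st.get pt.get gv qt.get 2940 := up2880.step ci2880 rfl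
theorem up3000 : Upto (tab tt) (0 :: bs) st.get pt.get gv qt.get 3000 := up2940.step ci2940 rfl
theorem up3060 : Upto (tab tt) (0 :: bs) st.get pt.get gv qt.get 3060 := up3000.step ci3000 rfl
theorem up3120 : Upto (tab tt) (0 :: bs) st.get pt.get gv qt.get 3120 := up3060.step ci3060 rfl
theorem up3180 : Upto (tab tt) (0 :: bs) st.get pt.get gv qt.get 3180 := up3120.step ci3120 rfl
theorem up3240 : Upto (tab tt) (0 :: bs) st.get pt.get gv qt.get 3240 := up3180.step ci3180 rfl
theorem up3300 : Upto (tab tt) (0 :: bs) st.get pt.get gv qt.get 3300 := up3240.step ci3240 rfl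
theorem up3360 : Upto (tab tt) (0 :: bs) st.get pt.get gv qt.get 3360 := up3300.step ci3300 rfl
theorem up3420 : Upto (tab tt) (0 :: bs) st.get pt.get gv qt.get 3420 := up3360.step ci3360 rfl
theorem up3480 : Upto (tab tt) (0 :: bs) st.get pt.get gv qt.get 3480 := up3420.step ci3420 rfl
theorem up3540 : Upto (tab tt) (0 :: bs) st.get pt.get gv qt.get 3540 := up3480.step ci3480 rfl
theorem up3600 : Upto (tab tt) (0 :: bs) st.get pt.get gv qt.get 3600 := up3540.step ci3540 rfl
theorem up3660 : Upto (tab tt) (0 :: bs) st.get pt.get gv qt.get 3660 := up3600.step ci3600 rfl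
theorem up3720 : Upto (tab tt) (0 :: bs) st.get pt.get gv qt.get 3720 := up3660.step ci3660 rfl
theorem up3780 : Upto (tab tt) (0 :: bs) st.get pt.get gv qt.get 3780 := up3720.step ci3720 rfl
theorem up3840 : Upto (tab tt) (0 :: bs) st.get pt.get gv qt.get 3840 := up3780.step ci3780 rfl
theorem up3900 : Upto (tab tt) (0 :: bs) st.get pt.get gv qt.get 3900 := up3840.step ci3840 rfl
theorem up3960 : Upto (tab tt) (0 :: bs) st.get pt.get gv qt.get 3960 := up3900.step ci3900 rfl
theorem up4020 : Upto (tab tt) (0 :: bs) st.get pt.get gv qt.get 4020 := up3960.step ci3960 rfl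
theorem up4080 : Upto (tab tt) (0 :: bs) st.get pt.get gv qt.get 4080 := up4020.step ci4020 rfl
theorem up4140 : Upto (tab tt) (0 :: bs) st.get pt.get gv qt.get 4140 := up4080.step ci4080 rfl
theorem up4200 : Upto (tab tt) (0 :: bs) st.get pt.get gv qt.get 4200 := up4140.step ci4140 rfl
theorem up4260 : Upto (tab tt) (0 :: bs) st.get pt.get gv qt.get 4260 := up4200.step ci4200 rfl
theorem up4320 : Upto (tab tt) (0 :: bs) st.get pt.get gv qt.get 4320 := up4260.step ci4260 rfl
theorem up4332 : Upto (tab tt) (0 :: bs) st.get pt.get gv qt.get 4332 := up4320.step ci4320 rfl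
theorem upto : Upto (tab tt) (0 :: bs) st.get pt.get gv qt.get 4332 := up4332
def ns : List ℕ := [4323,4324,4325,4326,4327,4328,4329,4330,4331]
theorem ctx_ok : (tt.all (fun T => anyLt (fun d => Nat.beq T (tt.get (Nat.succ d))) 76) &&
      (Nat.ble 18432 (2 ^ 15) && (Nat.ble 15 16 && (Nat.ble 17199 18432 && (ltAll 17199 bs &&
      (Nat.beq (fa (pt.get 0)) 0 && (Nat.beq (fa (pt.get 1)) 1 && Nat.beq (slot (pt.get 1) 0) 0))))))) = true := by
  decide +kernel
theorem let_ok : (Nat.ble 9 76 && allLt (fun a => leq (lw.getD a []) [a]) 9) = true := by decide +kernel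

end CL.ThG
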