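/- The presented group Th: order and simplicity (generated by tools/cgt/gen_th.py). -/
import Cfsg.Agent.SPOR.ThGDce
import Cfsg.Agent.SPOR.ThGX
import Cfsg.Agent.SPOR.ThGMatP
import Cfsg.Prelude.Def_Spor_Th

set_option autoImplicit false
set_option maxRecDepth 100000

namespace CL.ThG
open CL.CE CL.K CL.Net CL.DCE Cfsg.Spor

def gens : List (Th.Gen × Bool) := [(.a, true), (.b, true), (.c, true), (.d, true), (.e, true), (.s, true), (.s, false), (.t, true), (.t, false), (.u, true), (.u, false)]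

def code : Th.Gen → ℕ
  | .a => 0
  | .b => 1
  | .c => 2
  | .d => 3
  | .e => 4
  | .s => 5
  | .t => 7
  | .u => 9

theorem code_spec : ∀ x, gens[code x]? = some (x, true) := fun x => by cases x <;> rfl

def ivl : List ℕ := [0,1,2,3,4,6,5,8,7,10,9]

/-- inverses of the letters -/
abbrev iv : ℕ → ℕ := fun a => ivl.getD a a

/-- the letters -/
noncomputable abbrev g : ℕ → Th := coxG Th.edges Th.extra gens

def Rels0 : List (List ℕ) := [[0,1,0,1,0,1],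
  [0,4,0,4],
  [1,2,1,2,1,2],
  [1,3,1,3],
  [1,4,1,4],
  [0,3,2,3,2,3,2,3,2],
  [2,4,2,4],
  [3,4,3,4,3,4],
  [1,2,3,4,1,2,3,4,1,2,3,4,1,2,3,4,1,2,3,4,1,2,3,4,1,2,3,4,1,2,3,4],
  [5,5,5,5,5,5,5],
  [6,0,5,0],
  [6,1,5,1],
  [6,2,5,2],
  [5,3,5,3],
  [4,6,4,6,6,4,5,5,5],
  [7,7,7],
  [8,0,7,0],
  [8,1,7,1],
  [8,2,7,2],
  [8,3,7,3],
  [8,4,7,4],
  [8,5,7,6,6],
  [9,9,2,0],
  [10,0,9,0],
  [10,2,9,2],
  [10,4,9,4],
  [3,4,10,3,9,3,4,10,3,9],
  [10,1,2,0,1,9,1,0,2,1,4],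
  [3,10,3,1,2,0,1,3,9,3,1,0,2,1,2,4,3,10,3,1,2,0,1,4,10],
  [10,7,9,7],
  [4,6,6,10,5,5,4,6,6,9,5,5],
  [0,2,6,10,6,10,6,10],
  [0,2,6,10,5,9,6,10,5,9,6,10,5,9,6,10,5,9],
  [3,6,6,9,5,5,3,6,6,9,5,5,3,6,6,9,5,5,3,6,6,9,4,3,2,3,4,5,5,5,4,3,2,3,4,6,3,2,3,2,0]]

theorem presG0 : Pres g iv Rels0 :=
  cox_pres' code (cox_inv' (by decide +kernel)) code_spec (by decide +kernel)

def gw : List (List ℕ) := [[0], [1], [2], [3], [4], [5], [7], [9]]

theorem gen_top : gen g gw = ⊤ :=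
  cox_gen_top code code_spec fun x => by cases x <;> decide

theorem map_closure (l : List (FreeGroup Th.Gen)) {S : Set (FreeGroup Th.Gen)}
    (hS : ∀ x, x ∈ S ↔ x ∈ l) {ws : List (List ℕ)}
    (hw : (fun vs => vs.all (among iv (ws.map (red iv))) &&
      ws.all (among iv (vs.map (red iv)))) (l.map (enc code iv)) = true) :
    (Subgroup.closure S).map (PresentedGroup.mk (coxRelators Th.edges ∪ {r | r ∈ Th.extra})) =
      gen g ws := cox_map_closure code presG0.inv code_spec l hS hw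

def steps : List (List ℕ × List (List ℕ × ℕ × ℕ)) := [([0,9,0,10], [([9], 23, 0)]),
  ([2,9,2,10], [([9], 24, 0)]),
  ([4,9,4,10], [([9], 25, 0)]),
  ([7,9,7,10], [([9], 29, 0)]),
  ([5,5,4,6,6,9,5,5,4,6,6,10], [([9,5,5,4], 30, 0)]),
  ([1,0,2,1,9,4,1,2,0,1,10], [([9,1,0,2,1,4], 27, 1)]),
  ([9,2,0,9], [([10], 22, 0)]),
  ([3,4,2,0,9,3,9,3,4,2,0,9,3,9], [([3,4,2,0,9,3,9,3,4,10,10], 22, 0), ([3,4,10,10], 22, 0), ([], 26, 0)]),
  ([3,2,0,9,3,1,2,0,1,3,9,3,1,0,2,1,2,4,3,2,0,9,3,1,2,0,1,4,2,0,9], [([3,2,0,9,3,1,2,0,1,3,9,3,1,0,2,1,2,4,3,2,0,9,3,1,2,0,1,4,10,10], 22, 0), ([3,2,0,9,3,1,2,0,1,3,9,3,1,0,2,1,2,4,3,10,10], 22, 0), ([3,10,10], 22, 0), ([], 28, 0)]),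
  ([0,2,6,2,0,9,6,2,0,9,6,2,0,9], [([0,2,6,2,0,9,6,2,0,9,6,10,10], 22, 0), ([0,2,6,2,0,9,6,10,10], 22, 0), ([0,2,6,10,10], 22, 0), ([], 31, 0)]),
  ([0,2,6,2,0,9,5,9,6,2,0,9,5,9,6,2,0,9,5,9,6,2,0,9,5,9], [([0,2,6,2,0,9,5,9,6,2,0,9,5,9,6,2,0,9,5,9,6,10,10], 22, 0), ([0,2,6,2,0,9,5,9,6,2,0,9,5,9,6,10,10], 22, 0), ([0,2,6,2,0,9,5,9,6,10,10], 22, 0), ([0,2,6,10,10], 22, 0), ([], 32, 0)]),
  ([4,3,2,3,4,5,5,5,4,3,2,3,4,6,3,2,3,2,0,3,6,6,9,5,5,3,6,6,9,5,5,3,6,6,9,5,5,3,6,6,9], [([10,5,5,3,6,6,10,5,5,3,6,6,10,5,5,3,6,6,10,5,5,3], 33, 0)]),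
  ([5,6], []),
  ([7,8], []),
  ([9,10], []),
  ([5,5,5,5,5,5,5,3,6,3,6,3,6,3,6,3,6,3,6], [([], 9, 0), ([], 13, 1), ([], 13, 1), ([], 13, 1)]),
  ([9,5,9,5,9,5,10,10], [([], 31, 1), ([], 22, 1)]),
  ([7,7,10,8,9], [([], 15, 0), ([], 29, 1)])]

theorem presG1 : Pres g iv (Rels0 ++ [Y.wx]) :=
  presG0.append (by simpa using extra_rel (presG0.mono (by decide +kernel)))

def Rels : List (List ℕ) := (Rels0 ++ [Y.wx]) ++ steps.map Prod.fst

theorem presG : Pres g iv Rels := presG1.derive (by decide +kernel)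

theorem exists_ψ : ∃ ψ : A →* Th, (∀ a < 9, ψ (gA a) = g a) ∧ ψ.range = gen g (ltrs 9) :=
  exists_psi presA topA presG (by decide +kernel) le_H cardA.ge

/-- the homomorphism from the model of the subgroup -/
noncomputable def ψ : A →* Th := exists_ψ.choose

theorem ψ_apply : ∀ a < 9, ψ (gA a) = g a := exists_ψ.choose_spec.1

theorem ψ_range : ψ.range = gen g (ltrs 9) := exists_ψ.choose_spec.2

theorem ctx : Ctx π 17199 (lamOf π 17199 (tab tt)) (tab tt) (0 :: bs) pt.get ∧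
    ∀ a < 76, lamOf π 17199 (tab tt) (a + 1) = ev gA (lw.getD a []) :=
  ctx_of modelA.1 liftA valid0 modelA.2.2 baseK tn_ok wordsOK ctx_ok

/-- the representatives of the double cosets -/
noncomputable abbrev γ (i : ℕ) : Th := node (lamOf π 17199 (tab tt)) ψ (ev g [9]) (pt.get i)

theorem table : Table π (gen gA ks) 17199 ψ (ev g [9]) γ 11 (DCE.tau (tab32 ct)) :=
  ctx.1.table modelA.1 (letters_of ctx.2 let_ok) ψ_apply presG
    (presG.top_of_grab gen_top ψ_range [] (by decide +kernel))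
    upto (by norm_num) cover (ns := ns) (by decide +kernel)

theorem sep : Sep 11 (cntE 17199 (DCE.tau (tab32 ct))) fun i => szl.getD i 0 :=
  table.sep_of (by norm_num) (by norm_num) rows sep_ok

def mw : List (List ℕ) := [[0],
  [1],
  [2],
  [3],
  [4],
  [5],
  [6],
  [7],
  [8],
  [9],
  [10]]

theorem exists_ρ : ∃ ρ : Th →* GL (Fin 248) (ZMod 3), ∀ a < 11, ρ (g a) = subst gM mw a :=
  cox_hom (gens := gens) (ivl := ivl) code (by decide +kernel)
    ((ltrsM.pres.append RM_ok).subst (Rels' := Rels0) (by decide +kernel)) (by decide +kernel)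

/-- the matrix representation -/
noncomputable def ρ : Th →* GL (Fin 248) (ZMod 3) := exists_ρ.choose

theorem ρ_apply : ∀ a < 11, ρ (g a) = subst gM mw a := exists_ρ.choose_spec

theorem faithful : ev g [9] ∉ ψ.range ∧ Function.Injective ρ :=
  table.of_rep sep ρ_apply (p := 31) (by rw [cardA]; norm_num) (u := [9,6,2,3,10,10,8,0,1]) (by decide +kernel)
    (RP_ok _ (by decide +kernel)) (RP0_ok.2 _ (by simp))

instance : Finite Th := table.finite

theorem index : ψ.range.index = 143127000 := (table.index faithful.1 sep).trans (by decide +kernel)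

theorem card : Nat.card Th = 90745943887872000 := by
  rw [table.card faithful.1 sep, cardA]; decide +kernel

theorem ψ_injective : Function.Injective ψ := table.injective faithful.1 sep

theorem isCoatom : IsCoatom ψ.range := table.isCoatom faithful.1

theorem normalCore : ψ.range.normalCore = ⊥ := table.normalCore faithful.1 sep

theorem card_range : Nat.card ψ.range = 634023936 := (table.card_range faithful.1 sep).trans cardA

theorem isSimpleGroup : IsSimpleGroup Th :=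
  (presG.append_rep faithful.2 ρ_apply RP_ok (by decide +kernel)).isSimpleGroup isCoatom normalCore
    (p := 31) (by rw [card_range]; norm_num) gen_top [([9,6,2,3,10,10,8,0,1], 3)]
    [5,7,50,51,0,2,10,23,52,16] (by decide +kernel)

end CL.ThG
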