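/-
The minimal vectors: orbits of the monomial stabiliser and of the full stabiliser of
`(4, 4, 0, ...)`, transitivity of the automorphism group, census by inner products.
-/
import Mathlib
import Cfsg.Agent.SPOR.LeechNvA
import Cfsg.Agent.SPOR.LeechNvB
import Cfsg.Agent.SPOR.LeechNvC

set_option autoImplicit false
set_option maxRecDepth 100000

namespace CL.Leech

open Cfsg Cfsg.Spor CL.K CL.Pack MulAction

/-- disjoint subsets whose lower bounds add up to the size of the whole set -/
theorem tight {α ι : Type*} [Fintype ι] {S : Set α} (hS : S.Finite) (A : ι → Set α) (n : ι → ℕ)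
    (hA : ∀ i, A i ⊆ S) (hd : ∀ i j, i ≠ j → Disjoint (A i) (A j)) (hn : ∀ i, n i ≤ (A i).ncard)
    (hsum : S.ncard ≤ ∑ i, n i) : (∀ x ∈ S, ∃ i, x ∈ A i) ∧ ∀ i, (A i).ncard = n i := by
  classical
  have hf : ∀ i, (A i).Finite := fun i => hS.subset (hA i)
  have h1 : (Finset.univ.biUnion fun i => (hf i).toFinset).card = ∑ i, (A i).ncard := by
    rw [Finset.card_biUnion]
    · exact Finset.sum_congr rfl fun i _ => (Set.ncard_eq_toFinset_card _ (hf i)).symm
    · intro i _ j _ hij
      exact Set.Finite.disjoint_toFinset.2 (hd i j hij)
  have h2 : (Finset.univ.biUnion fun i => (hf i).toFinset) ⊆ hS.toFinset := by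
    intro x hx
    obtain ⟨i, _, hi⟩ := Finset.mem_biUnion.1 hx
    exact hS.mem_toFinset.2 (hA i ((hf i).mem_toFinset.1 hi))
  have h3 := Finset.card_le_card h2
  have h4 : ∑ i, n i ≤ ∑ i, (A i).ncard := Finset.sum_le_sum fun i _ => hn i
  rw [← Set.ncard_eq_toFinset_card _ hS, h1] at h3
  constructor
  · intro x hx
    have h5 := Finset.eq_of_subset_of_card_le h2
      (by rw [← Set.ncard_eq_toFinset_card _ hS, h1]; omega)
    have h6 := hS.mem_toFinset.2 hx
    rw [← h5] at h6
    obtain ⟨i, _, hi⟩ := Finset.mem_biUnion.1 h6
    exact ⟨i, (hf i).mem_toFinset.1 hi⟩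
  · intro i
    exact ((Finset.sum_eq_sum_iff_of_le fun i _ => hn i).1 (by omega) i (Finset.mem_univ i)).symm

/-- size of a union of some members of a finite family of disjoint finite sets -/
theorem ncard_eq_sum {α ι : Type*} [Fintype ι] {T : Set α} (A : ι → Set α) (hf : ∀ i, (A i).Finite)
    (hd : ∀ i j, i ≠ j → Disjoint (A i) (A j)) (p : ι → Prop) [DecidablePred p]
    (h1 : ∀ x ∈ T, ∃ i, p i ∧ x ∈ A i) (h2 : ∀ i, p i → A i ⊆ T) :
    T.ncard = ∑ i, if p i then (A i).ncard else 0 := by
  classical
  have h3 : T = ((Finset.univ.filter p).biUnion fun i => (hf i).toFinset : Finset α) := by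
    ext x
    simp only [Finset.coe_biUnion, Finset.coe_filter, Finset.mem_univ, true_and, Set.mem_ofPred_eq,
      Set.Finite.coe_toFinset, Set.mem_iUnion, exists_prop]
    exact ⟨h1 x, fun ⟨i, hi, hx⟩ => h2 i hi hx⟩
  rw [h3, Set.ncard_coe_finset, Finset.card_biUnion, Finset.sum_filter]
  · refine Finset.sum_congr rfl fun i _ => ?_
    rw [Set.ncard_eq_toFinset_card _ (hf i)]
  · intro i _ j _ hij
    exact Set.Finite.disjoint_toFinset.2 (hd i j hij)

theorem ncard_smul (g : Co0) (P : leechLattice → Prop) :
    {x | P (g • x)}.ncard = {x | P x}.ncard :=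
  Set.ncard_preimage_of_injective_subset_range (s := {x | P x}) (MulAction.injective g)
    (fun x _ => MulAction.surjective g x)

theorem orbit_neg (H : Subgroup Co0) (x : leechLattice) :
    orbit H (-x) = Neg.neg '' orbit H x := by
  ext y
  constructor
  · rintro ⟨g, rfl⟩; exact ⟨g • x, ⟨g, rfl⟩, (smul_neg (g : Co0) x).symm⟩
  · rintro ⟨_, ⟨g, rfl⟩, rfl⟩; exact ⟨g, smul_neg (g : Co0) x⟩

theorem ncard_orbit_neg (H : Subgroup Co0) (x : leechLattice) :
    (orbit H (-x)).ncard = (orbit H x).ncard := by
  rw [orbit_neg, Set.ncard_image_of_injective _ neg_injective]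

theorem one_le_orbit (H : Subgroup Co0) (x : leechLattice) : 1 ≤ (orbit H x).ncard :=
  (Set.ncard_pos (finite_orbit H x)).2 ⟨x, mem_orbit_self x⟩

/-- an invariant of pairs of vectors under monomial maps -/
def b22 (x y : GolayPt → ℤ) : ℤ := ∑ p, x p ^ 2 * y p ^ 2

theorem b22_smul {g : Co0} (hg : g ∈ NN) (x y : leechLattice) :
    b22 (g • x : leechLattice) (g • y : leechLattice) = b22 x y := by
  obtain ⟨σ, c, rfl⟩ := exists_mono_of_mem_NN hg
  rw [coe_mono_smul, coe_mono_smul]
  unfold b22 signedPerm
  rw [← Equiv.sum_comp σ.1.symm (fun p => (x : GolayPt → ℤ) p ^ 2 * (y : GolayPt → ℤ) p ^ 2)]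
  refine Finset.sum_congr rfl fun p _ => ?_
  split_ifs <;> simp

/-- base points of all orbits of `NV` on minimal vectors -/
noncomputable def nv : Fin 19 → leechLattice :=
  ![nb 0, nb 1, nb 2, nb 3, nb 4, nb 5, nb 6, nb 7, nb 8, nb 9, nb 10,
    -nb 0, -nb 1, -nb 2, -nb 3, -nb 4, -nb 5, leechU, -leechU]

def nvN : Fin 19 → ℕ := ![88, 2464, 2048, 22528, 22528, 2048, 2, 924, 42240, 4928, 45056,
  88, 2464, 2048, 22528, 22528, 2048, 1, 1]
def nvD : Fin 19 → ℤ := ![16, 16, 16, 8, 8, 8, 0, 0, 0, 0, 0, -16, -16, -16, -8, -8, -8, 32, -32]
def nvQ : Fin 19 → ℤ := ![512, 128, 104, 128, 104, 104, 512, 512, 128, 128, 104,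
  512, 128, 104, 128, 104, 104, 512, 512]
def nvR : Fin 19 → ℤ := ![256, 128, 160, 64, 32, 160, 512, 0, 0, 128, 32,
  256, 128, 160, 64, 32, 160, 512, 512]

theorem nv_inv : ∀ i, sqNorm (nv i : GolayPt → ℤ) = 32 ∧ dotInt vecU (nv i) = nvD i ∧
    b22 (nv i) (nv i) = nvQ i ∧ b22 (nv i) vecU = nvR i := by decide +kernel

theorem nv_inj : ∀ i j, nvD i = nvD j → nvQ i = nvQ j → nvR i = nvR j → i = j := by decide

theorem inv_of_mem_orbit {i : Fin 19} {x : leechLattice} (hx : x ∈ orbit NV (nv i)) :
    sqNorm (x : GolayPt → ℤ) = 32 ∧ dotInt vecU x = nvD i ∧ b22 x x = nvQ i ∧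
      b22 x vecU = nvR i := by
  obtain ⟨⟨g, h1, h2⟩, rfl⟩ := hx
  have h3 : g • leechU = leechU := h2
  obtain ⟨e1, e2, e3, e4⟩ := nv_inv i
  refine ⟨(sqNorm_smul g _).trans e1, ?_, (b22_smul h1 _ _).trans e3, ?_⟩
  · have := dot_smul g leechU (nv i)
    rw [h3] at this
    exact this.trans e2
  · have := b22_smul h1 (nv i) leechU
    rw [h3] at this
    exact this.trans e4

theorem nv_disjoint (i j : Fin 19) (hij : i ≠ j) : Disjoint (orbit NV (nv i)) (orbit NV (nv j)) := by
  rw [Set.disjoint_left]
  intro x hi hj
  obtain ⟨_, a1, a2, a3⟩ := inv_of_mem_orbit hi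
  obtain ⟨_, b1, b2, b3⟩ := inv_of_mem_orbit hj
  exact hij (nv_inj i j (a1.symm.trans b1) (a2.symm.trans b2) (a3.symm.trans b3))

theorem nv_le : ∀ i, nvN i ≤ (orbit NV (nv i)).ncard := by
  intro i
  fin_cases i
  · exact nv_orb0
  · exact nv_orb1
  · exact nv_orb2
  · exact nv_orb3
  · exact nv_orb4
  · exact nv_orb5
  · exact nv_orb6
  · exact nv_orb7
  · exact nv_orb8
  · exact nv_orb9
  · exact nv_orb10
  · exact nv_orb0.trans (ncard_orbit_neg _ _).ge
  · exact nv_orb1.trans (ncard_orbit_neg _ _).ge
  · exact nv_orb2.trans (ncard_orbit_neg _ _).ge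
  · exact nv_orb3.trans (ncard_orbit_neg _ _).ge
  · exact nv_orb4.trans (ncard_orbit_neg _ _).ge
  · exact nv_orb5.trans (ncard_orbit_neg _ _).ge
  · exact one_le_orbit _ _
  · exact one_le_orbit _ _

theorem nv_tight : (∀ x : leechLattice, sqNorm (x : GolayPt → ℤ) = 32 → ∃ i, x ∈ orbit NV (nv i)) ∧
    ∀ i, (orbit NV (nv i)).ncard = nvN i :=
  tight (finite_shell 32) (fun i => orbit NV (nv i)) nvN (fun _ _ hx => (inv_of_mem_orbit hx).1)
    nv_disjoint nv_le (by rw [ncard_shell_32]; decide)

/-- size of a set of minimal vectors invariant under the monomial stabiliser -/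
theorem ncard_of_NV {T : Set leechLattice} (hT : ∀ x ∈ T, sqNorm (x : GolayPt → ℤ) = 32)
    (hcl : ∀ g ∈ NV, ∀ x ∈ T, g • x ∈ T) (p : Fin 19 → Prop) [DecidablePred p]
    (hp : ∀ i, p i ↔ nv i ∈ T) : T.ncard = ∑ i, if p i then nvN i else 0 := by
  rw [ncard_eq_sum (fun i => orbit NV (nv i)) (fun i => finite_orbit _ _) nv_disjoint p]
  · simp only [nv_tight.2]
  · intro x hx
    obtain ⟨i, g, hg⟩ := nv_tight.1 x (hT x hx)
    refine ⟨i, (hp i).2 ?_, g, hg⟩
    have h1 : (g : Co0) • nv i = x := hg
    have := hcl _ (NV.inv_mem g.2) x hx
    rwa [← h1, inv_smul_smul] at this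
  · rintro i hi _ ⟨g, rfl⟩
    exact hcl _ g.2 _ ((hp i).1 hi)

theorem census_U (d : ℤ) : {w : leechLattice | sqNorm (w : GolayPt → ℤ) = 32 ∧
    dotInt vecU w = d}.ncard = ∑ i, if nvD i = d then nvN i else 0 := by
  refine ncard_of_NV (fun x hx => hx.1) ?_ _ fun i => ?_
  · rintro g ⟨_, h2⟩ x ⟨h3, h4⟩
    have h5 : g • leechU = leechU := h2
    have := dot_smul g leechU x
    rw [h5] at this
    exact ⟨(sqNorm_smul g x).trans h3, this.trans h4⟩
  · simp only [Set.mem_ofPred_eq, (nv_inv i).1, (nv_inv i).2.1, true_and]

/-! ### fusing elements -/

def co2F : List ℕ := [0x821084210842108421084210842108441084210842108421084210842108422084210842108421084210842108421104210842108421084210842108421088210842108421084210842108421084410842108421084210842108421084220842108421084210842108421084211042108421084210842108421084210882108421084210842108421084210844108421084210842108421084210842208421084210842108421084210842110421084210842108421084210842108821084210842108421084210842108441084210842108421084210842108422084210842108421084210842108421104210842108421084210842108421088210842108421084210842108421084410842108421084210842108421084220842108421084210842108421084211042108421084210842108421084210882108421084210842108421084210844108421084210842108421084210842208421084210842108421084210842110,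
 0x62108420884210842108421044210c4210842108430882210c4210842108421044110842108421086210843108421084210c2210843108421082210842108421084210442188411084218842108421084210c421884310842188621084208842108421084210c4210441088621084210842108421884210862108421884210842108421044210442104411084210842108221084110842108421084210c420884110842188421084210c621084110842108221084210842104221084110842108221084108822108421084210842088421084210c41108421084210862108411084210842108411882210c42108421084210c41108421084210822108431084210842108410886210c42108421084210842104621084310842108221084118862108421084210842088421084118822108421084210842188421084210842108431886210c4210842108421084210842104420884310842188621084218842108421084210c4210c,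
 0x7210652108420c842106420c84190a42948428ca31906518c831906321485210a32108420484210a4214842906418c8429463190a528c83190a320c8428c8418ca3190a319483190a520c83210e52108420c842106420c84190a5210a32108421484210a4204842906418c8418ca31906528c852906520c8418c8428c63290a318c8329065214841948418c632906519483290a320c8418c84294a51906519483290a52148428c8428c632906529485190a521485210a32108421484210a4214840906418c8418c65190a519485190632148418c84194a32906318c85190a32148419484194631906329483190652148428c8418c651906328c83290a321485210a321084214842102421484290641948418ca5290a528c83190a5214842948419463190a518c85290a521485210a72108421484210a421484290641948428c651906318c85190a520c8428c84194652906518c831906520c85210a32108421484210a421484290e,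
 0x62088421084210862108421084210c421084210c42104421086210c42108421084318842108421084310822108621884210842108621084210842104421084210842088420884208842188421086210862108431044210842108421084210c4210c4210862104421084210862108621084110c42108421084210843188421084210841108621084310c42108431084210842108411086208842108421082210842108421044310c42108411084210842108431084210862108221084110442108421084210862108221084310c4210842108421084210c4210c421082210c42108421084210842088421884218842188431044210843108421084210843108421084308842108421084310862108421084210842188420884218842188421084308842108421084110822108421084210c4210442108221044210842108421084218842188420884218843104421084110842108421084110862188421084210822108421084210c,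
 0x6290a4290a5290832108420c84210c4290a2190a51908521082214842108320c85214842146428c631906518ca3214832148420c6418ca51906328ca4190a419865190c32108420c842108320c832148421464294a5290a3194a429064290651908320884214c42108520c832148420c6419465190a518c642906419065288853108420c842108419864290a5190852108420c841108429064190a319083210c420c8621084190a418865190432108420c842108429064190a3190832104420c822108320c8520c8420ca4194a3190a318ca520c8320c84214a428ca51906318c6429064290651908321884214442108419064190a5290832108431484208841906229063290832108220c84210832148320c84214a429465190a528ca4298a41906329083210842148411084290a429063190852108430c84208842906419065298851108420c842108320c8320c8420ca418c6529065194a61906419063190852108421484210c,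
 0x62088421084210862108421084210c421084210842188421884208842188421084210c42104421086210c42108421086210822108411044210842108421084210442104421086210442108421084108842108421084310822108411044210843108421084210841108421084210842188421884218842088421082210822108431044210842108411044210841108421084210843108421084210842088421884218842188421084308842108421084110822108421084108842108421084110862108421082210862108411044210842108421086210862108431044210842108421084308842108421084310862108421084210442104421082210c42108421084210c421044210822104421084110c42108411084210842108411084210842108420884218842088420884110c421084310842108421084310862188421084210862108421084210462088421084210822108421084210462188421084210822108421084210c,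
 0x62108419484214842148429483214c42108428c842148430c4428c8321485294a5210a5290a31906321064290642108418cc420c842148618c83214842108418c842144420c841944320c85294a32106329063290a5210a42906528ca5210a519065290a3210a41906519463210a3190a3290a3210641906519465210651906319065210a41906518c6521065290a5290a52106429064210842948420c442148428c4521484210841948420c84314441948520c843104429484214842148418c8320c84210842948430c8420c8419483114842108228c8620c84214842948320c8421084294c42148420c862948520c8421082194862148420c8418c85214843104418c8420c8420c842948521484218841948420c8620c8428c8320c842108418c84314842148428c8510c8528ca321063190a51906521064190642188428c842148621484194852148518c63210a32906519063210a4290662108428c8420c8420c8418c8520cc,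
 0x71908529084210842908421085290a421464214a51946520c6318c6420c8420c6420ca529465214a3194a421484214a4214a31946321463294a42148529083190842108439084210831906529087190842108419084210831906529083390842108419084210831906420ca420ca318ca52146318c642148529083190842108419084210833906420ca4214a5294a3214651946420c8509083190842108419084210831906420ca421465194a5214a328ca420c8420c6420c65194632146528c642148420ca420ca32946320ca328c6420c8420ca4214a518c6520ca5294642148421464214a528ca3214a328c6421484214a42146329465214a518c642148420c642146328c65214632946420c8420ca42146528c6320c6318ca42148420c64214a3294a520c6528ca421484214a420c65294a520c632946421484214a420ca528c652146528ca420c831908529084210842908421081290a52908319084210841908421083190e,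
 0x69ce73a52929ce73a4e94a5293a4eb3a5294ace73a5254ad275ace749d293a4a929ce73a5292ad2b39ce749d2949d673a4a94ace73a5692a5293a4e74ace73a4a949ce73a4e549529394e74aceb5a52549ce73a4e92a5293a4e7394a949ce73a52549d2739ce729ca949d673952549ce73a4e94a4a9394e73952949ce7394a94ad2739d6749d2949ce75a52949ce73a569494a95a4e7395294ace73a52929ca739ceb49d293a52549ce73a5294aca739ce74aca93a52549d673a52529d2739d6749d293a52929ce73952549d2739ceb4ad293a52949ceb3952929d273ace749ca93a4a549ce73a4a949d273aceb49d293a52949ceb3a4a549cab39ce749d293a52949ce73a52949d2b59d6b49ca93a52949ce73a4a929d2759ce72ad293a5292ad673a4a949d2739ce749ca93a52949d6b3a5294ad2739ceb29d2949ceb395294ace73a4e54a5295a4e729ce73a52969ce73a4e94a5293a4eb5a52949ce75a52949d2739ce749d2d]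

theorem co2F_in : TabIn (stabilizer Co0 leechU) co2F :=
  tabIn_of_ok (q := mapsC cU cU) (fun _ _ _ hg h => mapsC_spec hg le_U le_U enc_U enc_U h)
    (by decide +kernel)

def co0F : List ℕ := [0x821084210842108421084210842108441084210842108421084210842108422084210842108421084210842108421104210842108421084210842108421088210842108421084210842108421084410842108421084210842108421084220842108421084210842108421084211042108421084210842108421084210882108421084210842108421084210844108421084210842108421084210842208421084210842108421084210842110421084210842108421084210842108821084210842108421084210842108441084210842108421084210842108422084210842108421084210842108421104210842108421084210842108421088210842108421084210842108421084410842108421084210842108421084220842108421084210842108421084211042108421084210842108421084210882108421084210842108421084210844108421084210842108421084210842208421084210842108421084210842110,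
 0x821084210842108421084210842108422084210842108421084210842108421104210842108421084210842108421088210842108421084210842108421084410842108421084210842108421084220842108421084210842108421084211042108421084210842108421084210882108421084210842108421084210844108421084210842108421084210842208421084210842108421084210842110421084210842108421084210842108821084210842108421084210842108441084210842108421084210842108422084210842108421084210842108421104210842108421084210842108421088210842108421084210842108421084410842108421084210842108421084220842108421084210842108421084211042108421084210842108421084210882108421084210842108421084210844108421084210842108421084210842208421084210842108421084210842110441084210842108421084210842108,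
 0x6314a4210642106420ca4190a4210851908318c8528c8519085214832946420c64210622106421464198a4210851908518c8519483290852148318ca51908329485194852908321485294a5190851948328c852908320c83194a420c6420864210a420ca2290a42108420ca4210a421064114a4290a4210c4214a4208a4210642146219064210851908328c8328c832908520c8528ca32908318c83194852908520c83294a421464210a4210a6214a4190a42088420ca421064108a4214a4190642108420c64210662106421464188a42108420ca2210a4210a420c64190a41108420ca6210a4210a420c64190a43108420ca4210642106620c642906420884214a411064210a421464290a621084214a431064210a421464290a2210851908528c83194851908520c851946420ca421064318a4214a419064210842146421064210a410c6419064210c630c64210a4210a42146429064210832908528c8528c852908521485194a,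
 0x821084210842108421084210842108421084210842108401084210842108421084210842108421084010842108421084210842208421084210842108421084210842108421084210042108421084210882108421084210842108421084210842108821084210842108421088210842108421084210842108421084210842108420084210842108421084210842108421104210842108421084010842108421084210842108422084210842108421084210842108421084210842108421084210842208421084220842108421084210842108421004210842108421084210842108421084210842110421084210842108421084210842108421088210842108421084210844108421084210842108421084210842108421084220842108421084210842108421084210844108421084211042108421084210842108421084210842108421084210802108441084210842108421084210842108421084210842108421084210842100]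

theorem co0F_in : TabIn ⊤ co0F :=
  tabIn_of_ok (q := fun _ _ => true) (fun _ _ _ _ _ => Subgroup.mem_top _) (by decide +kernel)

/-- representative under the full stabiliser -/
def nvF : Fin 19 → Fin 19 := ![0, 0, 0, 3, 3, 3, 6, 6, 6, 6, 6, 11, 11, 11, 14, 14, 14, 17, 18]

theorem nb_fuse (i j : Fin 11) (w : ℕ) (h : wapp co2F (nbC i) 1 w = nbC j) :
    nb j ∈ orbit (stabilizer Co0 leechU) (nb i) :=
  mem_orbit_of_wapp co2F_in (le_nb i) (le_nb j) 1 w (enc_nb i) (enc_nb j) h

theorem neg_mem_orbit_neg {H : Subgroup Co0} {x y : leechLattice} (h : y ∈ orbit H x) :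
    -y ∈ orbit H (-x) := by rw [orbit_neg]; exact ⟨y, h, rfl⟩

theorem nv_fuse : ∀ i, nv i ∈ orbit (stabilizer Co0 leechU) (nv (nvF i)) := by
  have h1 := nb_fuse 0 1 1 (by decide +kernel)
  have h2 := nb_fuse 0 2 2 (by decide +kernel)
  have h4 := nb_fuse 3 4 3 (by decide +kernel)
  have h5 := nb_fuse 3 5 4 (by decide +kernel)
  intro i
  fin_cases i
  · exact mem_orbit_self _
  · exact h1
  · exact h2
  · exact mem_orbit_self _
  · exact h4
  · exact h5
  · exact mem_orbit_self _
  · exact nb_fuse 6 7 5 (by decide +kernel)
  · exact nb_fuse 6 8 6 (by decide +kernel)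
  · exact nb_fuse 6 9 7 (by decide +kernel)
  · exact nb_fuse 6 10 8 (by decide +kernel)
  · exact mem_orbit_self _
  · exact neg_mem_orbit_neg h1
  · exact neg_mem_orbit_neg h2
  · exact mem_orbit_self _
  · exact neg_mem_orbit_neg h4
  · exact neg_mem_orbit_neg h5
  · exact mem_orbit_self _
  · exact mem_orbit_self _

theorem nvF_eq : ∀ i j, nvD i = nvD j → nvF i = nvF j := by decide

/-- the stabiliser of `(4, 4, 0, ...)` is transitive on minimal vectors with given inner product -/
theorem stabU_trans {x y : leechLattice} (hx : sqNorm (x : GolayPt → ℤ) = 32)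
    (hy : sqNorm (y : GolayPt → ℤ) = 32) (h : dotInt vecU x = dotInt vecU y) :
    ∃ g : Co0, g • leechU = leechU ∧ g • x = y := by
  obtain ⟨i, hi⟩ := nv_tight.1 x hx
  obtain ⟨j, hj⟩ := nv_tight.1 y hy
  have hij := nvF_eq i j (by rw [← (inv_of_mem_orbit hi).2.1, ← (inv_of_mem_orbit hj).2.1, h])
  obtain ⟨⟨a, _, ha⟩, rfl⟩ := hi
  obtain ⟨⟨b, _, hb⟩, rfl⟩ := hj
  obtain ⟨⟨c, hc⟩, e1⟩ := nv_fuse i
  obtain ⟨⟨d, hd⟩, e2⟩ := nv_fuse j
  have e1' : c • nv (nvF i) = nv i := e1
  have e2' : d • nv (nvF j) = nv j := e2
  refine ⟨b * d * (a * c)⁻¹, ?_, ?_⟩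
  · exact Subgroup.mul_mem (stabilizer Co0 leechU) (Subgroup.mul_mem _ hb hd)
      (Subgroup.inv_mem _ (Subgroup.mul_mem _ ha hc))
  · show (b * d * (a * c)⁻¹) • (a • nv i) = b • nv j
    rw [← e1', ← e2', hij, ← mul_smul a, mul_smul, inv_smul_smul, mul_smul]

theorem U_fuse (j : Fin 11) (w : ℕ) (h : wapp co0F cU 1 w = nbC j) : ∃ g : Co0, g • leechU = nb j := by
  obtain ⟨g, hg⟩ := mem_orbit_of_wapp co0F_in le_U (le_nb j) 1 w enc_U (enc_nb j) h
  exact ⟨g, hg⟩

theorem exists_smul_U {x : leechLattice} (hx : sqNorm (x : GolayPt → ℤ) = 32) :
    ∃ g : Co0, g • leechU = x := by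
  have key : ∀ i, ∃ g : Co0, g • leechU = nv (nvF i) := by
    obtain ⟨g0, h0⟩ := U_fuse 0 1 (by decide +kernel)
    obtain ⟨g3, h3⟩ := U_fuse 3 2 (by decide +kernel)
    obtain ⟨g6, h6⟩ := U_fuse 6 3 (by decide +kernel)
    have h11 : (neg1 * g0) • leechU = -nb 0 := by rw [mul_smul, h0, neg1_smul]
    have h14 : (neg1 * g3) • leechU = -nb 3 := by rw [mul_smul, h3, neg1_smul]
    intro i
    fin_cases i
    exacts [⟨_, h0⟩, ⟨_, h0⟩, ⟨_, h0⟩, ⟨_, h3⟩, ⟨_, h3⟩, ⟨_, h3⟩, ⟨_, h6⟩, ⟨_, h6⟩, ⟨_, h6⟩, ⟨_, h6⟩,
      ⟨_, h6⟩, ⟨_, h11⟩, ⟨_, h11⟩, ⟨_, h11⟩, ⟨_, h14⟩, ⟨_, h14⟩, ⟨_, h14⟩, ⟨1, one_smul _ _⟩,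
      ⟨neg1, neg1_smul _⟩]
  obtain ⟨i, ⟨a, ha⟩, rfl⟩ := nv_tight.1 x hx
  obtain ⟨⟨c, hc⟩, e1⟩ := nv_fuse i
  have e1' : c • nv (nvF i) = nv i := e1
  obtain ⟨g, hg⟩ := key i
  exact ⟨a * c * g, by rw [mul_smul, hg, mul_smul, e1']; rfl⟩

/-- transitivity on minimal vectors -/
theorem min_trans {x y : leechLattice} (hx : sqNorm (x : GolayPt → ℤ) = 32)
    (hy : sqNorm (y : GolayPt → ℤ) = 32) : ∃ g : Co0, g • x = y := by
  obtain ⟨a, rfl⟩ := exists_smul_U hx
  obtain ⟨b, rfl⟩ := exists_smul_U hy
  exact ⟨b * a⁻¹, by rw [mul_smul, inv_smul_smul]⟩

/-- transitivity on pairs of minimal vectors with a given inner product -/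
theorem pair_trans {v w v' w' : leechLattice} (hv : sqNorm (v : GolayPt → ℤ) = 32)
    (hw : sqNorm (w : GolayPt → ℤ) = 32) (hv' : sqNorm (v' : GolayPt → ℤ) = 32)
    (hw' : sqNorm (w' : GolayPt → ℤ) = 32)
    (h : dotInt (v : GolayPt → ℤ) w = dotInt (v' : GolayPt → ℤ) w') :
    ∃ g : Co0, g • v = v' ∧ g • w = w' := by
  obtain ⟨a, rfl⟩ := exists_smul_U hv
  obtain ⟨b, rfl⟩ := exists_smul_U hv'
  obtain ⟨g, h1, h2⟩ := stabU_trans (x := a⁻¹ • w) (y := b⁻¹ • w') (by rwa [sqNorm_smul])
    (by rwa [sqNorm_smul]) (by
      have e1 := dot_smul a leechU (a⁻¹ • w)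
      have e2 := dot_smul b leechU (b⁻¹ • w')
      rw [smul_inv_smul] at e1 e2
      exact e1.symm.trans (h.trans e2))
  refine ⟨b * g * a⁻¹, by rw [mul_smul, inv_smul_smul, mul_smul, h1], ?_⟩
  rw [mul_smul, mul_smul, h2, smul_inv_smul]

/-- number of minimal vectors with given inner product with a minimal vector -/
def censusN (d : ℤ) : ℕ := ∑ i, if nvD i = d then nvN i else 0

theorem census {v : leechLattice} (hv : sqNorm (v : GolayPt → ℤ) = 32) (d : ℤ) :
    {w : leechLattice | sqNorm (w : GolayPt → ℤ) = 32 ∧
      dotInt (v : GolayPt → ℤ) w = d}.ncard = censusN d := by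
  obtain ⟨a, rfl⟩ := exists_smul_U hv
  rw [censusN, ← census_U d, ← ncard_smul a (fun w : leechLattice => sqNorm (w : GolayPt → ℤ) = 32 ∧
      dotInt ((a • leechU : leechLattice) : GolayPt → ℤ) w = d)]
  simp only [sqNorm_smul, dot_smul]
  rfl

theorem censusN_16 : censusN 16 = 4600 := by decide
theorem censusN_8 : censusN 8 = 47104 := by decide
theorem censusN_0 : censusN 0 = 93150 := by decide
theorem censusN_neg8 : censusN (-8) = 47104 := by decide
theorem censusN_neg16 : censusN (-16) = 4600 := by decide

end CL.Leech
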