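/-
Kernel computations with lattice vectors (packed into one number) and with automorphisms of the
lattice (given by compact matrices).
-/
import Mathlib
import Cfsg.Agent.SPOR.LeechCo0
import Cfsg.Agent.SPOR.KPack

set_option autoImplicit false
set_option exponentiation.threshold 700

namespace CL.Leech

open Cfsg Finset CL.K CL.Pack
open CL.Golay (E)

/-- shifted coordinates -/
def xs (x : GolayPt → ℤ) (e : ℕ) : ℕ := (x (E.dec e) + 8).toNat

/-- the code number of a vector with coordinates between `-8` and `8` -/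
def enc (x : GolayPt → ℤ) : ℕ := pk (xs x)

/-- the vector with a given code number -/
def vec (X : ℕ) : GolayPt → ℤ := fun p => (dg X (E.enc p) : ℤ) - 8

/-- coordinates between `-8` and `8` -/
def Bd (x : GolayPt → ℤ) : Prop := ∀ p, -8 ≤ x p ∧ x p ≤ 8

theorem bd_of_sqNorm {x : GolayPt → ℤ} (h : sqNorm x ≤ 80) : Bd x := abs_le_of_sqNorm_le h

theorem xs_le {x : GolayPt → ℤ} (h : Bd x) (e : ℕ) : xs x e ≤ 16 := by
  have := h (E.dec e); unfold xs; omega

theorem cast_xs {x : GolayPt → ℤ} (h : Bd x) (e : ℕ) : (xs x e : ℤ) - 8 = x (E.dec e) := by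
  have := h (E.dec e); unfold xs; omega

theorem vec_enc {x : GolayPt → ℤ} (h : Bd x) : vec (enc x) = x := by
  funext p
  unfold vec enc
  rw [dg_pk (fun e _ => lt_of_le_of_lt (xs_le h e) (by norm_num)) (E.enc_lt p), cast_xs h, E.dec_enc]

theorem enc_inj {x y : GolayPt → ℤ} (hx : Bd x) (hy : Bd y) (h : enc x = enc y) : x = y := by
  rw [← vec_enc hx, h, vec_enc hy]

theorem vec_dec (X : ℕ) {e : ℕ} (he : e < 24) : vec X (E.dec e) = (dg X e : ℤ) - 8 := by
  unfold vec; rw [E.enc_dec e he]

theorem bd_vec {X : ℕ} (h : small X = true) : Bd (vec X) := fun p => by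
  have := (small_spec h).2 _ (E.enc_lt p)
  unfold vec; omega

theorem enc_vec {X : ℕ} (h : small X = true) : enc (vec X) = X := by
  rw [← (small_spec h).1]
  refine pk_congr fun e he => ?_
  rw [(small_spec h).1]
  unfold xs
  rw [vec_dec X he]; omega

theorem enc_neg {x : GolayPt → ℤ} (h : Bd x) : enc (-x) + enc x = 16 * ONES := by
  unfold enc
  rw [← pk_add, ONES_eq, ← pk_mul]
  refine pk_congr fun e _ => ?_
  have := h (E.dec e)
  unfold xs
  rw [Pi.neg_apply]; omega

theorem bd_neg {x : GolayPt → ℤ} (h : Bd x) : Bd (-x) := fun p => by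
  have := h p; rw [Pi.neg_apply]; omega

/-- row `k` of a compact matrix as a vector -/
def rowv (c k : ℕ) : GolayPt → ℤ := fun p => (ent c k (E.enc p) : ℤ) - 8

theorem dot_rowv (c k : ℕ) {x : GolayPt → ℤ} (h : Bd x) :
    dotInt (rowv c k) x = ∑ i ∈ range 24, ((ent c k i : ℤ) - 8) * ((xs x i : ℤ) - 8) := by
  unfold dotInt
  rw [E.sum_eq]
  refine Finset.sum_congr rfl fun i hi => ?_
  rw [cast_xs h, rowv, E.enc_dec i (Finset.mem_range.1 hi)]

theorem bd_rowv {c k : ℕ} (h : ∀ i < 24, ent c k i ≤ 16) : Bd (rowv c k) := fun p => by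
  have := h _ (E.enc_lt p)
  unfold rowv; omega

theorem enc_rowv (c k : ℕ) : enc (rowv c k) = rowOf c k := by
  rw [rowOf_eq]
  refine pk_congr fun e he => ?_
  unfold xs rowv
  rw [E.enc_dec e he]; omega

/-- generators of the lattice, first half -/
def g1 : ℕ := 0x2a5294a5294a5294a5294a5294a52942908421485210a5210a521485294a429484210a42908529085290a4294a4294a421085214842948429485214a4294a521084290a4214a4214a4290a4294a52908421485210a5210a521484214a529484210a42908529085290a4290a5294a42108521484294842948421485294a521084290a4214a4214a4290a4294a52908421485210a5210a429485214a529484210a42908529084214a4290a5294a4210852148429484210a521485294a521084290a4214a429085290a4294a52908421485210a42948429485214a529484210a429084214a4214a4290a5294a42108521484210a5210a521485294a521084290a42908529085290a4294a52908421484214842948429485214a529484210a4290a4214a4214a4290a5294a42108421485210a5210a521485294a521084210a42908529085290a4294a52908421085214842948429485214a52948421084290a4214a4214a4290a5294a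
/-- generators of the lattice, second half -/
def g2 : ℕ := 0x8210842108421084210842108421086310842108421084210842108421086218842108421084210842108421086210c4210842108421084210842108621086210842108421084210842108621084310842108421084210842108621084218842108421084210842108621084210c4210842108421084210862108421086210842108421084210862108421084310842108421084210862108421084218842108421084210862108421084210c4210842108421086210842108421086210842108421086210842108421084310842108421086210842108421084218842108421086210842108421084210c4210842108621084210842108421086210842108621084210842108421084310842108621084210842108421084218842108621084210842108421084210c4210862108421084210842108421086210862108421084210842108421084310862108421084210842108421084218862108421084210842108421084210c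

theorem ent_g1 : ∀ j < 24, ∀ i < 24, ent g1 j i ≤ 16 := by decide +kernel
theorem ent_g2 : ∀ j < 24, ∀ i < 24, ent g2 j i ≤ 16 := by decide +kernel

theorem rowv_g1 : ∀ (t : ZMod 23) (p : GolayPt),
    rowv g1 t.val p = if qrWord t p = 0 then 0 else 2 := by decide +kernel
theorem rowv_g1' : ∀ p : GolayPt, rowv g1 23 p = if p = none then -3 else 1 := by decide +kernel
theorem rowv_g2 : ∀ i p : GolayPt, rowv g2 (E.enc i) p =
    (if p = i then 4 else 0) + if p = none then 4 else 0 := by decide +kernel

theorem rowv_g1_eq (t : ZMod 23) : rowv g1 t.val = (2 : ℤ) • lift (qrWord t) := by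
  funext p
  rw [rowv_g1, Pi.smul_apply, lift]
  split_ifs <;> simp

theorem rowv_g1_eq' : rowv g1 23 = odd3 none := funext rowv_g1'

theorem rowv_g2_eq (i : GolayPt) : rowv g2 (E.enc i) = Pi.single i 4 + Pi.single none 4 := by
  funext p
  rw [rowv_g2, Pi.add_apply, Pi.single_apply, Pi.single_apply]

theorem le_of_rows (A : AddSubgroup (GolayPt → ℤ)) (h1 : ∀ k < 24, rowv g1 k ∈ A)
    (h2 : ∀ k < 24, rowv g2 k ∈ A) : leechLattice ≤ A :=
  le_of_gens A (rowv_g1_eq' ▸ h1 23 (by norm_num))
    (fun t => rowv_g1_eq t ▸ h1 _ (lt_trans (ZMod.val_lt t) (by norm_num)))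
    (fun i => rowv_g2_eq i ▸ h2 _ (E.enc_lt i))

noncomputable def GM1 : ℕ := matOf g1
noncomputable def GM2 : ℕ := matOf g2

/-- the number is the code of a lattice vector -/
noncomputable def isL (X : ℕ) : Bool := small X && (div8 GM1 X && div8 GM2 X)

theorem isL_small {X : ℕ} (h : isL X = true) : small X = true := (Bool.and_eq_true_iff.1 h).1

theorem isL_spec {X : ℕ} (h : isL X = true) : vec X ∈ leechLattice := by
  have hs := isL_small h
  obtain ⟨h1, h2⟩ := Bool.and_eq_true_iff.1 (Bool.and_eq_true_iff.1 h).2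
  have hb := bd_vec hs
  rw [← enc_vec hs, GM1, matOf_eq] at h1
  rw [← enc_vec hs, GM2, matOf_eq] at h2
  have h3 := div8_spec ent_g1 (fun i _ => xs_le hb i) h1
  have h4 := div8_spec ent_g2 (fun i _ => xs_le hb i) h2
  apply mem_of_dot
  intro y hy
  refine le_of_rows (dvdDot 8 (vec X)) (fun k hk => ?_) (fun k hk => ?_) hy
  · show (8 : ℤ) ∣ dotInt _ _
    rw [dot_comm, dot_rowv _ _ hb]; exact h3 k hk
  · show (8 : ℤ) ∣ dotInt _ _
    rw [dot_comm, dot_rowv _ _ hb]; exact h4 k hk

/-- the lattice vector with a given code -/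
noncomputable def lv (X : ℕ) (h : isL X = true) : leechLattice := ⟨vec X, isL_spec h⟩

theorem enc_lv (X : ℕ) (h : isL X = true) : enc (lv X h : GolayPt → ℤ) = X := enc_vec (isL_small h)

/-- dot product of shifted coordinates -/
noncomputable def dotC (X Y : ℕ) : ℤ :=
  Int.subNatNat (sumLt (fun e => Nat.add (Nat.mul (dg X e) (dg Y e)) 64) 24)
    (sumLt (fun e => Nat.mul 8 (Nat.add (dg X e) (dg Y e))) 24)

theorem dot_vec (X Y : ℕ) : dotInt (vec X) (vec Y) = dotC X Y := by
  unfold dotC dotInt
  rw [Int.subNatNat_eq_coe, sumLt_eq, sumLt_eq, E.sum_eq]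
  push_cast
  rw [← Finset.sum_sub_distrib]
  refine Finset.sum_congr rfl fun i hi => ?_
  rw [vec_dec X (Finset.mem_range.1 hi), vec_dec Y (Finset.mem_range.1 hi)]
  simp only [Nat.add_eq, Nat.mul_eq]
  push_cast
  ring

theorem sqNorm_vec (X : ℕ) : sqNorm (vec X) = dotC X X := by
  rw [← dot_vec, sqNorm_eq_dot]

/-- `M`, `K` compute the action of `g` on codes -/
def Rep (g : Co0) (M K : ℕ) : Prop :=
  ∀ x : leechLattice, sqNorm (x : GolayPt → ℤ) ≤ 80 →
    app M K (enc x) = enc (g • x : leechLattice)

theorem Rep.smul_eq {g : Co0} {M K : ℕ} (h : Rep g M K) {x y : leechLattice}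
    (hx : sqNorm (x : GolayPt → ℤ) ≤ 80) (hy : sqNorm (y : GolayPt → ℤ) ≤ 80)
    (e : app M K (enc x) = enc y) : g • x = y := by
  rw [h x hx] at e
  exact Subtype.ext (enc_inj (bd_of_sqNorm (by rwa [sqNorm_smul])) (bd_of_sqNorm hy) e)

/-- code of `8 e_k` -/
def c8 (k : ℕ) : ℕ := Nat.mul 8 (Nat.add ONES (Nat.shiftLeft 1 (Nat.mul 13 k)))

theorem c8_eq {k : ℕ} (hk : k < 24) : c8 k = pk fun j => if j = k then 16 else 8 := by
  have : ∀ k < 24, c8 k = pk fun j => if j = k then 16 else 8 := by decide +kernel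
  exact this k hk

theorem enc_e8 (i : GolayPt) : enc (e8 i : GolayPt → ℤ) = c8 (E.enc i) := by
  rw [c8_eq (E.enc_lt i)]
  refine pk_congr fun e he => ?_
  unfold xs
  rw [coe_e8, Pi.single_apply]
  by_cases h : e = E.enc i
  · rw [if_pos h, if_pos (by rw [h, E.dec_enc])]; rfl
  · rw [if_neg h, if_neg (fun h' => h (by rw [← h', E.enc_dec e he]))]; rfl

/-- The second argument is never evaluated; it only spreads the hash values of terms. -/
def kk (a _b : ℕ) : ℕ := a

theorem kk_eq (a b : ℕ) : kk a b = a := Eq.trans rfl rfl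

/-- the image of `Z` is a lattice vector -/
noncomputable def okZ (s M K Z : ℕ) : Bool :=
  force Z fun Z => force (app M K (kk Z s)) fun Y => exact M K (kk Z s) (kk Y s) && isL (kk Y s)

/-- the compact matrix is eight times an automorphism of the lattice -/
noncomputable def okMK (c M K : ℕ) : Bool :=
  force (Nat.mod c 1000000007) fun s =>
  allLt2 (fun t => Nat.ble (fld 5 31 (kk c s) t) 16) 24 24 &&
    (allLt (fun k => force (rowOf c k) fun X => exact M K (kk X (Nat.add s k)) (c8 k)) 24 &&
      (allLt (fun k => okZ (Nat.add s k) M K (rowOf g1 k)) 24 &&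
        allLt (fun k => okZ (Nat.add s k) M K (rowOf g2 k)) 24))

theorem okZ_spec {s c k g : ℕ} (ha : ∀ j < 24, ∀ i < 24, ent c j i ≤ 16) (hg : ∀ i < 24, ent g k i ≤ 16)
    (h : okZ s (matOf c) (kOf (matOf c)) (rowOf g k) = true) :
    ∃ y ∈ leechLattice, ∀ p, dotInt (rowv c (E.enc p)) (rowv g k) = 8 * y p := by
  simp only [okZ, force_eq, Bool.and_eq_true, kk_eq] at h
  obtain ⟨h1, h2⟩ := h
  generalize app (matOf c) (kOf (matOf c)) (rowOf g k) = Y at h1 h2
  have hs := isL_small h2
  refine ⟨vec Y, isL_spec h2, fun p => ?_⟩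
  rw [← enc_rowv, ← enc_vec hs, matOf_eq] at h1
  have hb := bd_rowv hg
  have := exact_spec ha (fun i _ => xs_le hb i) (fun i _ => xs_le (bd_vec hs) i) h1 _ (E.enc_lt p)
  rw [dot_rowv _ _ hb, this, cast_xs (bd_vec hs), E.dec_enc]

theorem transpose_orth (A : GolayPt → GolayPt → ℤ)
    (h : ∀ p q, dotInt (A p) (A q) = if p = q then 64 else 0) (x : GolayPt → ℤ) :
    sqNorm (fun p => dotInt (A p) x) = 64 * sqNorm x := by
  let B : Matrix GolayPt GolayPt ℚ := Matrix.of fun p q => (A p q : ℚ) / 8
  have h1 : B * B.transpose = 1 := by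
    ext p q
    have h2 : ((dotInt (A p) (A q) : ℤ) : ℚ) = ((if p = q then 64 else 0 : ℤ) : ℚ) := by rw [h]
    unfold dotInt at h2
    push_cast at h2
    rw [Matrix.mul_apply, Matrix.one_apply]
    simp only [B, Matrix.transpose_apply, Matrix.of_apply]
    have h3 : ∑ r, (A p r : ℚ) / 8 * ((A q r : ℚ) / 8) = (∑ r, (A p r : ℚ) * (A q r : ℚ)) / 64 := by
      rw [Finset.sum_div]; exact Finset.sum_congr rfl fun r _ => by ring
    rw [h3, h2]
    split_ifs <;> norm_num
  have h2 := mul_eq_one_comm.1 h1
  have h3 : ∀ q r, ∑ p, A p q * A p r = if q = r then 64 else 0 := by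
    intro q r
    have h4 := congrFun (congrFun h2 q) r
    rw [Matrix.mul_apply, Matrix.one_apply] at h4
    simp only [B, Matrix.transpose_apply, Matrix.of_apply] at h4
    have h3 : ∑ p, (A p q : ℚ) / 8 * ((A p r : ℚ) / 8) = (∑ p, (A p q : ℚ) * (A p r : ℚ)) / 64 := by
      rw [Finset.sum_div]; exact Finset.sum_congr rfl fun r _ => by ring
    rw [h3, div_eq_iff (by norm_num)] at h4
    have h5 : ((∑ p, A p q * A p r : ℤ) : ℚ) = ((if q = r then 64 else 0 : ℤ) : ℚ) := by
      push_cast
      rw [h4]
      split_ifs <;> norm_num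
    exact_mod_cast h5
  unfold sqNorm dotInt
  calc ∑ p, (∑ q, A p q * x q) ^ 2 = ∑ p, ∑ q, ∑ r, A p q * A p r * (x q * x r) := by
        refine Finset.sum_congr rfl fun p _ => ?_
        rw [sq, Finset.sum_mul_sum]
        exact Finset.sum_congr rfl fun q _ => Finset.sum_congr rfl fun r _ => by ring
    _ = ∑ q, ∑ r, (∑ p, A p q * A p r) * (x q * x r) := by
        rw [Finset.sum_comm]
        refine Finset.sum_congr rfl fun q _ => ?_
        rw [Finset.sum_comm]
        exact Finset.sum_congr rfl fun r _ => by rw [Finset.sum_mul]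
    _ = 64 * ∑ q, x q ^ 2 := by
        rw [Finset.mul_sum]
        refine Finset.sum_congr rfl fun q _ => ?_
        simp only [h3, ite_mul, zero_mul, Finset.sum_ite_eq, Finset.mem_univ, if_true]
        ring

theorem okMK_spec {c : ℕ} (h : okMK c (matOf c) (kOf (matOf c)) = true) :
    ∃ g : Co0, Rep g (matOf c) (kOf (matOf c)) := by
  simp only [okMK, Bool.and_eq_true, allLt_iff, allLt2_iff, force_eq, kk_eq] at h
  obtain ⟨h1, h2, h3, h4⟩ := h
  have ha : ∀ j < 24, ∀ i < 24, ent c j i ≤ 16 := fun j hj i hi =>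
    Nat.le_of_ble_eq_true (h1 (24 * j + i) (by omega))
  have horth : ∀ p q, dotInt (rowv c (E.enc p)) (rowv c (E.enc q)) = if p = q then 64 else 0 := by
    intro p q
    have h5 := h2 _ (E.enc_lt q)
    have hb := bd_rowv (ha _ (E.enc_lt q))
    rw [← enc_rowv, c8_eq (E.enc_lt q), matOf_eq] at h5
    have h6 := exact_spec ha (fun i _ => xs_le hb i) (fun i _ => by split_ifs <;> norm_num) h5 _
      (E.enc_lt p)
    rw [dot_rowv _ _ hb, h6]
    simp only [E.enc_inj]
    split_ifs <;> norm_num
  let S : AddSubgroup (GolayPt → ℤ) :=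
    { carrier := {x | ∃ y ∈ leechLattice, ∀ p, dotInt (rowv c (E.enc p)) x = 8 * y p}
      zero_mem' := ⟨0, leechLattice.zero_mem, fun p => by simp [dot_zero_right]⟩
      add_mem' := by
        rintro x x' ⟨y, hy, e⟩ ⟨y', hy', e'⟩
        exact ⟨y + y', leechLattice.add_mem hy hy', fun p => by
          rw [dot_add_right, e, e', Pi.add_apply, mul_add]⟩
      neg_mem' := by
        rintro x ⟨y, hy, e⟩
        exact ⟨-y, leechLattice.neg_mem hy, fun p => by
          rw [dot_neg_right, e, Pi.neg_apply, mul_neg]⟩ }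
  have hS : leechLattice ≤ S := le_of_rows S (fun k hk => okZ_spec ha (ent_g1 k hk) (h3 k hk))
    (fun k hk => okZ_spec ha (ent_g2 k hk) (h4 k hk))
  have h5 : ∀ x : leechLattice, ∃ y : leechLattice,
      ∀ p, dotInt (rowv c (E.enc p)) x = 8 * (y : GolayPt → ℤ) p := fun x => by
    obtain ⟨y, hy, e⟩ := hS x.2
    exact ⟨⟨y, hy⟩, e⟩
  choose f hf using h5
  obtain ⟨g, hg⟩ := exists_co_of_hom (AddMonoidHom.mk' f (fun x y => by
    apply Subtype.ext
    funext p
    have h6 := hf (x + y) p
    rw [AddSubgroup.coe_add, dot_add_right, hf, hf] at h6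
    rw [AddSubgroup.coe_add, Pi.add_apply]
    omega)) (fun v => by
    have h6 := transpose_orth (fun p => rowv c (E.enc p)) horth v
    have h7 : (fun p => dotInt (rowv c (E.enc p)) v) = (8 : ℤ) • (f v : GolayPt → ℤ) :=
      funext fun p => hf v p
    rw [h7, sqNorm_zsmul] at h6
    show sqNorm (f v : GolayPt → ℤ) = _
    omega)
  refine ⟨g, fun x hx => ?_⟩
  have hb := bd_of_sqNorm hx
  have hb' : Bd (g • x : leechLattice) := bd_of_sqNorm (by rwa [sqNorm_smul])
  rw [matOf_eq]
  refine app_eq ha (fun i _ => xs_le hb i) fun j hj => ?_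
  have h6 := hf x (E.dec j)
  rw [E.enc_dec j hj, dot_rowv _ _ hb] at h6
  rw [h6, cast_xs hb', hg]
  rfl

end CL.Leech
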