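import Cfsg.Agent.SPOR.FiE24M
set_option autoImplicit false
set_option Elab.async false
set_option maxRecDepth 100000

namespace CL.Fi.E24
open CL.CE CL.K

theorem blk8 : cert.alive (nat_lit 51648) (nat_lit 104) (nat_lit 64) = 0 := by decide +kernel
theorem blk9 : cert.alive (nat_lit 58304) (nat_lit 100) (nat_lit 64) = 0 := by decide +kernel
theorem blk10 : cert.alive (nat_lit 64704) (nat_lit 104) (nat_lit 64) = 0 := by decide +kernel
theorem blk11 : cert.alive (nat_lit 71360) (nat_lit 100) (nat_lit 64) = 0 := by decide +kernel

end CL.Fi.E24
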