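import Cfsg.Agent.SPOR.FiE24M
set_option autoImplicit false
set_option Elab.async false
set_option maxRecDepth 100000

namespace CL.Fi.E24
open CL.CE CL.K

theorem blk20 : cert.alive (nat_lit 129984) (nat_lit 101) (nat_lit 64) = 0 := by decide +kernel
theorem blk21 : cert.alive (nat_lit 136448) (nat_lit 103) (nat_lit 64) = 0 := by decide +kernel
theorem blk22 : cert.alive (nat_lit 143040) (nat_lit 104) (nat_lit 64) = 0 := by decide +kernel
theorem blk23 : cert.alive (nat_lit 149696) (nat_lit 100) (nat_lit 64) = 0 := by decide +kernel

end CL.Fi.E24
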