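import Cfsg.Agent.SPOR.FiE24M
set_option autoImplicit false
set_option Elab.async false
set_option maxRecDepth 100000

namespace CL.Fi.E24
open CL.CE CL.K

theorem blk24 : cert.alive (nat_lit 156096) (nat_lit 102) (nat_lit 64) = 0 := by decide +kernel
theorem blk25 : cert.alive (nat_lit 162624) (nat_lit 106) (nat_lit 64) = 0 := by decide +kernel
theorem blk26 : cert.alive (nat_lit 169408) (nat_lit 99) (nat_lit 64) = 0 := by decide +kernel
theorem blk27 : cert.alive (nat_lit 175744) (nat_lit 101) (nat_lit 64) = 0 := by decide +kernel

end CL.Fi.E24
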