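import Cfsg.Agent.SPOR.FiE24B0
import Cfsg.Agent.SPOR.FiE24B1
import Cfsg.Agent.SPOR.FiE24B2
import Cfsg.Agent.SPOR.FiE24B3
import Cfsg.Agent.SPOR.FiE24B4
import Cfsg.Agent.SPOR.FiE24B5
import Cfsg.Agent.SPOR.FiE24B6
import Cfsg.Agent.SPOR.FiE24B7
import Cfsg.Agent.SPOR.FiE24B8
import Cfsg.Agent.SPOR.FiE24B9
import Cfsg.Agent.SPOR.FiE24B10
import Cfsg.Agent.SPOR.FiE24B11
import Cfsg.Agent.SPOR.FiE24B12
set_option autoImplicit false
set_option Elab.async false
set_option maxRecDepth 100000

namespace CL.Fi.E24
open CL.CE CL.K

theorem up0 : cert.Upto 0 := PCert.upto_zero _
theorem up1 : cert.Upto 6272 := up0.alive params blk0 (by decide)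
theorem up2 : cert.Upto 12672 := up1.alive params blk1 (by decide)
theorem up3 : cert.Upto 19136 := up2.alive params blk2 (by decide)
theorem up4 : cert.Upto 25664 := up3.alive params blk3 (by decide)
theorem up5 : cert.Upto 32128 := up4.alive params blk4 (by decide)
theorem up6 : cert.Upto 38656 := up5.alive params blk5 (by decide)
theorem up7 : cert.Upto 45248 := up6.alive params blk6 (by decide)
theorem up8 : cert.Upto 51648 := up7.alive params blk7 (by decide)
theorem up9 : cert.Upto 58304 := up8.alive params blk8 (by decide)
theorem up10 : cert.Upto 64704 := up9.alive params blk9 (by decide)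
theorem up11 : cert.Upto 71360 := up10.alive params blk10 (by decide)
theorem up12 : cert.Upto 77760 := up11.alive params blk11 (by decide)
theorem up13 : cert.Upto 84288 := up12.alive params blk12 (by decide)
theorem up14 : cert.Upto 90816 := up13.alive params blk13 (by decide)
theorem up15 : cert.Upto 97280 := up14.alive params blk14 (by decide)
theorem up16 : cert.Upto 103936 := up15.alive params blk15 (by decide)
theorem up17 : cert.Upto 110400 := up16.alive params blk16 (by decide)
theorem up18 : cert.Upto 116864 := up17.alive params blk17 (by decide)
theorem up19 : cert.Upto 123520 := up18.alive params blk18 (by decide)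
theorem up20 : cert.Upto 129984 := up19.alive params blk19 (by decide)
theorem up21 : cert.Upto 136448 := up20.alive params blk20 (by decide)
theorem up22 : cert.Upto 143040 := up21.alive params blk21 (by decide)
theorem up23 : cert.Upto 149696 := up22.alive params blk22 (by decide)
theorem up24 : cert.Upto 156096 := up23.alive params blk23 (by decide)
theorem up25 : cert.Upto 162624 := up24.alive params blk24 (by decide)
theorem up26 : cert.Upto 169408 := up25.alive params blk25 (by decide)
theorem up27 : cert.Upto 175744 := up26.alive params blk26 (by decide)
theorem up28 : cert.Upto 182208 := up27.alive params blk27 (by decide)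
theorem up29 : cert.Upto 188800 := up28.alive params blk28 (by decide)
theorem up30 : cert.Upto 195584 := up29.alive params blk29 (by decide)
theorem up31 : cert.Upto 201856 := up30.alive params blk30 (by decide)
theorem up32 : cert.Upto 208320 := up31.alive params blk31 (by decide)
theorem up33 : cert.Upto 214912 := up32.alive params blk32 (by decide)
theorem up34 : cert.Upto 221632 := up33.alive params blk33 (by decide)
theorem up35 : cert.Upto 227904 := up34.alive params blk34 (by decide)
theorem up36 : cert.Upto 234304 := up35.alive params blk35 (by decide)
theorem up37 : cert.Upto 240832 := up36.alive params blk36 (by decide)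
theorem up38 : cert.Upto 247360 := up37.alive params blk37 (by decide)
theorem up39 : cert.Upto 253568 := up38.alive params blk38 (by decide)
theorem up40 : cert.Upto 259904 := up39.alive params blk39 (by decide)
theorem up41 : cert.Upto 266496 := up40.alive params blk40 (by decide)
theorem up42 : cert.Upto 272576 := up41.alive params blk41 (by decide)
theorem up43 : cert.Upto 278720 := up42.alive params blk42 (by decide)
theorem up44 : cert.Upto 285120 := up43.alive params blk43 (by decide)
theorem up45 : cert.Upto 291008 := up44.alive params blk44 (by decide)
theorem up46 : cert.Upto 297088 := up45.alive params blk45 (by decide)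
theorem up47 : cert.Upto 302848 := up46.alive params blk46 (by decide)
theorem up48 : cert.Upto 306880 := up47.alive params blk47 (by decide)
theorem up49 : cert.Upto 306936 := up48.alive params blk48 (by decide)

theorem covers {G : Type*} [Group G] {g : ℕ → G} {H : Subgroup G}
    (h : Sat g H 12 iv rels subs) : Covers g 12 H 306936 :=
  PCert.covers (p := cert) params rules (by decide +kernel) up49 h

end CL.Fi.E24
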