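/-
The checks for the labelled model of level 24.
Generated by tools/fi/mkchk.py.
-/
import Cfsg.Agent.SPOR.FiMod
import Cfsg.Agent.SPOR.Fi24Def

set_option autoImplicit false
set_option maxRecDepth 100000
set_option Elab.async false

namespace CL.Fi.D24

open CL.K CL.CE CL.Net CL.TTU

def es0 : List (List ℕ × List ℕ) := [([0, 0], []), ([1, 1], []), ([2, 2], []), ([3, 3], []), ([4, 4], []), ([5, 5], []), ([6, 6], []), ([7, 7], []), ([8, 8], []), ([9, 9], []), ([10, 10], []), ([11, 11], []), ([12, 12], []), ([13, 13], []), ([14, 14], []), ([15, 15], []), ([16, 16], []), ([0, 1, 0], [1, 0, 1]), ([0, 2], [2, 0]), ([0, 3], [3, 0]), ([0, 4], [4, 0]), ([0, 5], [5, 0]), ([0, 6], [6, 0]), ([0, 8], [8, 0]), ([0, 9, 0], [9, 0, 9]), ([0, 12], [12, 0]), ([0, 14], [14, 0]), ([0, 15], [15, 0]), ([1, 2, 1], [2, 1, 2]), ([1, 3], [3, 1]), ([1, 4], [4, 1]), ([1, 5, 1], [5, 1, 5]), ([1, 6], [6, 1]), ([1, 8], [8, 1]), ([1, 9], [9, 1]), ([1, 12], [12, 1]), ([1, 14], [14, 1]), ([1,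 15], [15, 1]), ([2, 3, 2], [3, 2, 3]), ([2, 4], [4, 2]), ([2, 5], [5, 2]), ([2, 6], [6, 2]), ([2, 8], [8, 2]), ([2, 9], [9, 2]), ([2, 12], [12, 2]), ([2, 14], [14, 2]), ([2, 15], [15, 2]), ([3, 4, 3], [4, 3, 4]), ([3, 5], [5, 3]), ([3, 6], [6, 3]), ([3, 8], [8, 3]), ([3, 9], [9, 3]), ([3, 12], [12, 3]), ([3, 14], [14, 3]), ([3, 15], [15, 3])]
theorem eq0_0 : chkE nets 306936 19 [16, 15, 13, 16] es0 0 = true := by decide +kernel
theorem eq0_1 : chkE nets 306936 19 [16, 15, 13, 16] es0 1 = true := by decide +kernel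
theorem eq0_2 : chkE nets 306936 19 [16, 15, 13, 16] es0 2 = true := by decide +kernel
theorem eq0_3 : chkE nets 306936 19 [16, 15, 13, 16] es0 3 = true := by decide +kernel
theorem eq0_4 : chkE nets 306936 19 [16, 15, 13, 16] es0 4 = true := by decide +kernel
theorem eq0_5 : chkE nets 306936 19 [16, 15, 13, 16] es0 5 = true := by decide +kernel
theorem eq0_6 : chkE nets 306936 19 [16, 15, 13, 16] es0 6 = true := by decide +kernel
theorem eq0_7 : chkE nets 306936 19 [16, 15, 13, 16] es0 7 = true := by decide +kernel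
theorem eq0_8 : chkE nets 306936 19 [16, 15, 13, 16] es0 8 = true := by decide +kernel
theorem eq0_9 : chkE nets 306936 19 [16, 15, 13, 16] es0 9 = true := by decide +kernel
theorem eq0_10 : chkE nets 306936 19 [16, 15, 13, 16] es0 10 = true := by decide +kernel
theorem eq0_11 : chkE nets 306936 19 [16, 15, 13, 16] es0 11 = true := by decide +kernel
theorem eq0_12 : chkE nets 306936 19 [16, 15, 13, 16] es0 12 = true := by decide +kernel
theorem eq0_13 : chkE nets 306936 19 [16, 15, 13, 16] es0 13 = true := by decide +kernel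
theorem eq0_14 : chkE nets 306936 19 [16, 15, 13, 16] es0 14 = true := by decide +kernel
theorem eq0_15 : chkE nets 306936 19 [16, 15, 13, 16] es0 15 = true := by decide +kernel
theorem eq0_16 : chkE nets 306936 19 [16, 15, 13, 16] es0 16 = true := by decide +kernel
theorem eq0_17 : chkE nets 306936 19 [16, 15, 13, 16] es0 17 = true := by decide +kernel
theorem eq0_18 : chkE nets 306936 19 [16, 15, 13, 16] es0 18 = true := by decide +kernel
theorem eq0 : ∀ j < 19, chkE nets 306936 19 [16, 15, 13, 16] es0 j = true := by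
  intro j h
  interval_cases j
  exacts [eq0_0, eq0_1, eq0_2, eq0_3, eq0_4, eq0_5, eq0_6, eq0_7, eq0_8, eq0_9, eq0_10, eq0_11, eq0_12, eq0_13, eq0_14, eq0_15, eq0_16, eq0_17, eq0_18]

end CL.Fi.D24
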