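/-
The checks for the labelled model of level 24.
Generated by tools/fi/mkchk.py.
-/
import Cfsg.Agent.SPOR.FiMod
import Cfsg.Agent.SPOR.Fi24Def

set_option autoImplicit false
set_option maxRecDepth 100000
set_option Elab.async false

namespace CL.Fi.D24

open CL.K CL.CE CL.Net CL.TTU

def es3 : List (List ℕ × List ℕ) := [([1, 0, 9, 8, 15, 14, 1, 2, 3, 4, 12, 1, 5, 6, 1, 0, 9, 8, 15, 14, 1, 2, 3, 4, 12, 1, 5, 6, 1, 0, 9, 8, 15, 14, 1, 2, 3, 4, 12, 1, 5, 6, 1, 0, 9, 8, 15, 14, 1, 2, 3, 4, 12, 1, 5, 6, 1, 0, 9, 8, 15, 14, 1, 2, 3, 4, 12, 1, 5, 6, 1, 0, 9, 8, 15, 14, 1, 2, 3, 4, 12, 1, 5, 6, 1, 0, 9, 8, 15, 14, 1, 2, 3, 4, 12, 1, 5, 6, 1, 0, 9, 8, 15, 14, 1, 2, 3, 4, 12, 1, 5, 6, 1, 0, 9, 8, 15, 14, 1], [6, 5, 1, 12, 4, 3, 2, 1, 14, 15, 8, 9, 0, 1, 6, 5, 1, 12, 4, 3, 2, 1, 14, 15, 8, 9, 0, 1, 6, 5, 1, 12, 4, 3, 2, 1, 14, 15, 8, 9, 0, 1, 6, 5, 1, 12, 4, 3, 2, 1, 14, 15, 8, 9, 0, 1, 6, 5, 1, 12, 4, 3,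 2, 1, 14, 15, 8, 9, 0, 1, 6, 5, 1, 12, 4, 3, 2, 1, 14, 15, 8, 9, 0, 1, 6, 5, 1, 12, 4, 3, 2, 1, 14, 15, 8, 9, 0, 1, 6, 5, 1, 12, 4, 3, 2, 1, 14, 15, 8, 9, 0, 1, 6, 5, 1, 12, 4, 3, 2])]
theorem eq3_0 : chkE nets 306936 19 [16, 15, 13, 16] es3 0 = true := by decide +kernel
theorem eq3_1 : chkE nets 306936 19 [16, 15, 13, 16] es3 1 = true := by decide +kernel
theorem eq3_2 : chkE nets 306936 19 [16, 15, 13, 16] es3 2 = true := by decide +kernel
theorem eq3_3 : chkE nets 306936 19 [16, 15, 13, 16] es3 3 = true := by decide +kernel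
theorem eq3_4 : chkE nets 306936 19 [16, 15, 13, 16] es3 4 = true := by decide +kernel
theorem eq3_5 : chkE nets 306936 19 [16, 15, 13, 16] es3 5 = true := by decide +kernel
theorem eq3_6 : chkE nets 306936 19 [16, 15, 13, 16] es3 6 = true := by decide +kernel
theorem eq3_7 : chkE nets 306936 19 [16, 15, 13, 16] es3 7 = true := by decide +kernel
theorem eq3_8 : chkE nets 306936 19 [16, 15, 13, 16] es3 8 = true := by decide +kernel
theorem eq3_9 : chkE nets 306936 19 [16, 15, 13, 16] es3 9 = true := by decide +kernel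
theorem eq3_10 : chkE nets 306936 19 [16, 15, 13, 16] es3 10 = true := by decide +kernel
theorem eq3_11 : chkE nets 306936 19 [16, 15, 13, 16] es3 11 = true := by decide +kernel
theorem eq3_12 : chkE nets 306936 19 [16, 15, 13, 16] es3 12 = true := by decide +kernel
theorem eq3_13 : chkE nets 306936 19 [16, 15, 13, 16] es3 13 = true := by decide +kernel
theorem eq3_14 : chkE nets 306936 19 [16, 15, 13, 16] es3 14 = true := by decide +kernel
theorem eq3_15 : chkE nets 306936 19 [16, 15, 13, 16] es3 15 = true := by decide +kernel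
theorem eq3_16 : chkE nets 306936 19 [16, 15, 13, 16] es3 16 = true := by decide +kernel
theorem eq3_17 : chkE nets 306936 19 [16, 15, 13, 16] es3 17 = true := by decide +kernel
theorem eq3_18 : chkE nets 306936 19 [16, 15, 13, 16] es3 18 = true := by decide +kernel
theorem eq3 : ∀ j < 19, chkE nets 306936 19 [16, 15, 13, 16] es3 j = true := by
  intro j h
  interval_cases j
  exacts [eq3_0, eq3_1, eq3_2, eq3_3, eq3_4, eq3_5, eq3_6, eq3_7, eq3_8, eq3_9, eq3_10, eq3_11, eq3_12, eq3_13, eq3_14, eq3_15, eq3_16, eq3_17, eq3_18]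

end CL.Fi.D24
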