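import Mathlib
import Cfsg.Agent.SPOR.MonOdd
import Cfsg.Agent.SIG.CompIn

/-!
Groups of Monster type: involutions over sign changes, involutions inverting elements of odd order,
and membership of the central involution in the layer of the centraliser.
-/

set_option autoImplicit false
set_option linter.dupNamespace false

namespace CL.MT

open Cfsg CL.Leech CL.LX CL.MSS CL.Comp

variable {G : Type*} [Group G]

theorem layer_le_map_of_ker_le_center {H : Type*} [Group H] (f : G →* H) (hf : Function.Surjective f)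
    (hk : f.ker ≤ Subgroup.center G) : layer H ≤ (layer G).map f := by
  refine layer_le_iff.2 fun K hK => ?_
  have h1 : (K.comap f).map f = K := Subgroup.map_comap_eq_self_of_surjective hf K
  have h2 : (⁅K.comap f, K.comap f⁆).map f = K := by rw [Subgroup.map_commutator, h1, hK.commutator_self]
  have h3 : ⁅K.comap f, K.comap f⁆ ⊔ f.ker = K.comap f := by
    rw [← Subgroup.comap_map_eq, h2]
  have hc : ∀ {S : Set G}, f.ker ≤ Subgroup.centralizer S :=
    fun {_} x hx y _ => Subgroup.mem_center_iff.1 (hk hx) y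
  have h4 := commutator_sup_central (N := ⁅K.comap f, K.comap f⁆) (C := f.ker) hc
  rw [h3] at h4
  have h5 : IsComponent ⁅K.comap f, K.comap f⁆ := by
    refine ⟨?_, IsQuasisimple.of_map f h4.symm (h2.symm ▸ hK.2) (inf_le_left.trans hc)⟩
    refine Subgroup.IsSubnormal.step _ _ (Subgroup.commutator_le_self _) (hK.1.comap f) ?_
    exact (Subgroup.normal_subgroupOf_iff_le_normalizer (Subgroup.commutator_le_self _)).2
      (Subgroup.normalizer_commutator_ge_left _ _)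
  rw [← h2]
  exact Subgroup.map_mono h5.le_layer

theorem mem_layer_of_large [Finite G] {Q : Subgroup G} {z : G} (h : LX Q z) (hQ : IsLargeExtraspecial Q)
    {x y : G} (hx : IsConj z x) (hy : IsConj z y) (hxy : x * y ≠ y * x) : z ∈ layer G := by
  have hm : ∀ {x}, IsConj z x → x ∈ Subgroup.normalClosure ({z} : Set G) := fun hx =>
    Subgroup.subset_closure (Group.mem_conjugatesOfSet_iff.2 ⟨z, rfl, hx⟩)
  refine (show Subgroup.normalClosure ({z} : Set G) ≤ layer G from ?_) (hm (IsConj.refl z))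
  rcases h.structure_thm hQ _ rfl with ⟨h1, -⟩ | ⟨-, h1, h2⟩ | ⟨-, L, u, -, h1, h2, -, h3, h4, -⟩
  · exact absurd (congrArg Subtype.val (h1.is_comm.comm ⟨x, hm hx⟩ ⟨y, hm hy⟩)) hxy
  · exact (isComponent_of_normal (isQuasisimple_of_isSimpleGroup h2)).le_layer
  · have hL : IsComponent L := by
      refine ⟨Subgroup.IsSubnormal.step _ _ (h4 ▸ le_sup_left)
        (Subgroup.normalClosure_normal (s := {z})).isSubnormal ?_, isQuasisimple_of_isSimpleGroup h2⟩
      rw [Subgroup.normal_subgroupOf_iff_le_normalizer (h4 ▸ le_sup_left), ← h4]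
      exact sup_le Subgroup.le_normalizer
        fun y hy => Subgroup.centralizer_le_normalizer _ fun x hx => h3 x hx y hy
    rw [← h4]
    exact sup_le hL.le_layer (hL.conj u).le_layer

theorem normal_zpowers_cent (b : G) :
    ((Subgroup.zpowers b).subgroupOf (Subgroup.centralizer (Subgroup.zpowers b : Set G))).Normal :=
  ⟨fun x hx c => by
    show (c : G) * x * (c : G)⁻¹ ∈ Subgroup.zpowers b
    rw [← c.2 x hx, mul_inv_cancel_right]; exact hx⟩

namespace MT

variable {z : G} {Q : Subgroup G} {R : leechLattice → G → Prop} {A : Co0 → G → Prop}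

theorem exists_invol_over_sgn [Finite G] (h : MT z Q R A) {ε : Co0} (hε : ε ∈ Sgn)
    (hc : ε ∉ Subgroup.center Co0) : ∃ x, A ε x ∧ x * x = 1 := by
  obtain ⟨s, hs⟩ := h.ex_x (e8 none)
  obtain ⟨g, rfl⟩ := isConj_iff.1 (h.conj_of_64 hs (sqNorm_e8 _))
  have hne := (h.ne_of_norm hs (by rw [sqNorm_e8]) (by rw [sqNorm_e8]; norm_num)).2
  obtain ⟨h1, h2⟩ := h.pair_main' hs hne (A0 := Sgn) (K := permHom.range) (by rw [St_e8]; exact frame_NN)
  have hP := h.lx.conj g
  have hcard : Nat.card (g •ᶜ Q) = 2 ^ 25 := by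
    rw [Subgroup.card_map_of_injective (MulAut.conj g).injective]; exact h.card
  have hsQ := h.R_mem hs
  generalize g * z * g⁻¹ = s at *
  generalize g •ᶜ Q = P at *
  obtain ⟨x, hx, hA⟩ : ε ∈ h.lifts P := h1 ▸ hε
  rcases hP.sq x hx with e | e
  · exact ⟨x, hA, e⟩
  have h3 := hP.card_centralizer (A := Q ⊓ P) inf_le_right ⟨hsQ, hP.z_mem⟩
  rw [h2, hcard] at h3
  have h4 : Q ⊓ P = P ⊓ Subgroup.centralizer ((Q ⊓ P : Subgroup G) : Set G) :=
    Subgroup.eq_of_le_of_card_ge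
      (fun a ha => ⟨ha.2, fun c hc => inf_comm h.lx.toES hP.toES hne hc ha⟩) (by rw [h2]; omega)
  by_cases h5 : ∀ y ∈ Q ⊓ P, y * x = x * y
  · exact absurd ((h.A_ker hA).1 (h4.ge ⟨hx, h5⟩).1) hc
  · push Not at h5
    obtain ⟨y, hy, h5⟩ := h5
    refine ⟨x * y, by simpa using h.A_mul hA (h.A_one hy.1), ?_⟩
    rw [hP.mul_sq_of_not_comm hx hy.2 h5.symm, e, inf_sq h.lx.toES hP.toES hne hy, mul_one, hP.z_sq]

theorem exists_invol_inverting [Finite G] (h : MT z Q R A) {n : ℕ} (hn : Odd n) {σ t : Co0} {b x : G}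
    (h1 : b ^ n = 1) (h2 : σ ^ n = 1) (hb : A σ b) (hx : A t x) (hx2 : x * x = 1)
    (ht : t * σ * t⁻¹ = σ⁻¹) : ∃ u, u * u = 1 ∧ u * b ^ 8 * u⁻¹ = (b ^ 8)⁻¹ := by
  have hxi : x⁻¹ = x := inv_eq_of_mul_eq_one_right hx2
  have h3 := h.A_mul (h.A_mul (h.A_mul hx hb) (h.A_inv hx)) (h.A_inv hb)
  rw [ht] at h3
  have h4 := h.A_pow h3 4
  have h5 : A ((σ⁻¹ * σ⁻¹) ^ 4) (b ^ 8)⁻¹ := by
    have := h.A_inv (h.A_pow hb 8)
    rwa [show (σ ^ 8)⁻¹ = (σ⁻¹ * σ⁻¹) ^ 4 by group] at this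
  obtain ⟨q, hq, e⟩ := exists_conj_of_two h.lx.isPGroup hn (h.lx.norm _ (h.A_comm h4))
    (h.mem_of_A h5 h4) (by rw [inv_pow, ← pow_mul, mul_comm, pow_mul, h1]; simp) (by
      rw [← pow_mul, mul_comm, pow_mul]
      refine h.lx.pow_four ((h.A_ker (h.A_pow h3 n)).2 ?_)
      rw [← pow_two, ← pow_mul, mul_comm, pow_mul, inv_pow, h2]; simp)
  refine ⟨q * x * q⁻¹, by
    calc _ = q * (x * x) * q⁻¹ := by group
      _ = 1 := by rw [hx2]; group, ?_⟩
  have h6 : x * (x * b * x⁻¹ * b⁻¹) * x⁻¹ = (x * b * x⁻¹ * b⁻¹)⁻¹ := by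
    calc _ = (x * x) * b * x⁻¹ * b⁻¹ * x⁻¹ := by group
      _ = _ := by rw [hx2, one_mul, mul_inv_rev, mul_inv_rev, mul_inv_rev, inv_inv, inv_inv, hxi]; group
  rw [← e, ← inv_inv (b ^ 8), ← e]
  calc _ = q * (x * (x * b * x⁻¹ * b⁻¹) * x⁻¹)⁻¹ ^ 4 * q⁻¹ := by rw [inv_pow, conj_pow]; group
    _ = _ := by rw [h6, inv_inv]

theorem mem_layer [Finite G] (h : MT z Q R A)
    (hF : (generalizedFittingSubgroup ↥(Subgroup.centralizer ({z} : Set G))).map
      (Subgroup.centralizer ({z} : Set G)).subtype = Q)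
    {n : ℕ} (hn : Odd n) {σ : Co0} {b : G} (h1 : b ^ n = 1)
    (h2 : σ ^ n = 1) (hb : A σ b) {w : ℕ} (hw : 2 ≤ w) {ι : ℕ → leechLattice} {idx : ℕ → ℕ}
    (t : Tab σ (2 ^ (2 * w)) ι idx)
    (faith : ∀ k, k * σ = σ * k → (∀ i < 2 ^ (2 * w), Cong (k • ι i) (ι i)) → k ∈ Zs σ)
    {L : Type*} [Group L] {B : Co0 → L → Prop} (d : CData σ B)
    {s : G} (hs : R (e8 none) s) (hsb : s * b = b * s) {j : ℕ} (hj : j < 2 ^ (2 * w))
    (hj1 : sqNorm (ι j : GolayPt → ℤ) = 64)
    (hj2 : ¬ (16 : ℤ) ∣ dotInt (ι j : GolayPt → ℤ) (e8 none : GolayPt → ℤ)) :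
    z ∈ layerOf (Subgroup.centralizer (Subgroup.zpowers b : Set G)) ∧
      s ∈ layerOf (Subgroup.centralizer (Subgroup.zpowers b : Set G)) := by
  have := normal_zpowers_cent b
  have hN : 16 ≤ 2 ^ (2 * w) := le_trans (by norm_num) (Nat.pow_le_pow_right (by norm_num)
    (show 4 ≤ 2 * w by omega))
  have hM : ∀ {a : G}, a ∈ Subgroup.centralizer (Subgroup.zpowers b : Set G) ↔ a * b = b * a := by
    intro a; rw [centralizer_zpowers]; exact Subgroup.mem_centralizer_singleton_iff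
  have key : ∀ {v s}, R v s → sqNorm (v : GolayPt → ℤ) = 64 → ∀ hsb : s * b = b * s,
      IsConj (⟨z, h.z_mem_cent hb⟩ : Subgroup.centralizer (Subgroup.zpowers b : Set G)) ⟨s, hM.2 hsb⟩ := by
    intro v s hs hv hsb
    obtain ⟨-, x, hx, e⟩ := h.odd_large hF hn h1 h2 hb hN t faith (h.R_mem hs) hsb (h.conj_of_64 hs hv)
      (h.ne_of_norm hs hv.le (by omega)).2
    exact (isConj_iff.2 ⟨⟨x, hx⟩, Subtype.ext e⟩).symm
  obtain ⟨y, rfl, P, -, hP, hL, -⟩ := h.odd_main hF hn h1 h2 hb hw t faith d (h.R_mem hs) hsb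
    (h.conj_of_64 hs (sqNorm_e8 _)) (h.ne_of_norm hs (by rw [sqNorm_e8]) (by rw [sqNorm_e8]; norm_num)).2
  obtain ⟨s', hs'⟩ := h.ex_x (ι j)
  have hsb' := ((h.comm_iff_fix hn h1 hb hs').2 (t.fix j hj)).symm
  have c1 := key hs (sqNorm_e8 _) hsb
  obtain ⟨e, he, he'⟩ := layer_le_map_of_ker_le_center (qm (Subgroup.zpowers b))
    (QuotientGroup.mk'_surjective _) (fun x hx => by
      rw [QuotientGroup.ker_mk'] at hx
      exact Subgroup.mem_center_iff.2 fun c => Subtype.ext (c.2 x hx).symm)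
    (mem_layer_of_large hP hL ((qm _).map_isConj (key hs' hj1 hsb')) ((qm _).map_isConj c1) fun e => by
      rw [← map_mul, ← map_mul] at e
      exact hj2 ((h.comm_iff hs' hs).1 (congrArg Subtype.val (eq_of_qm_eq (odd_card_zpowers hn h1)
        (h.lx.pow_four (mul_mem (h.R_mem hs') (h.R_mem hs)))
        (h.lx.pow_four (mul_mem (h.R_mem hs) (h.R_mem hs'))) e))))
  have hz : (⟨z, h.z_mem_cent hb⟩ : Subgroup.centralizer (Subgroup.zpowers b : Set G)) ∈ layer _ := by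
    obtain ⟨i, hi⟩ := qm_eq_iff.1 he'
    have hi' : (e : G) = z * (b ^ i)⁻¹ := by
      have : b ^ i = (e : G)⁻¹ * z := hi
      rw [this]; group
    have : e ^ n = ⟨z, h.z_mem_cent hb⟩ := Subtype.ext (by
      show (e : G) ^ n = z
      rw [hi', ((show Commute b z from h.A_comm hb).zpow_left i).inv_left.symm.mul_pow,
        pow_odd_of_sq h.lx.z_sq hn, inv_pow, ← zpow_natCast, ← zpow_mul, mul_comm i, zpow_mul,
        zpow_natCast, h1]
      simp)
    exact this ▸ pow_mem he n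
  obtain ⟨c, hc⟩ := isConj_iff.1 c1
  exact ⟨⟨_, hz, rfl⟩, ⟨_, hc ▸ (inferInstance : (layer _).Normal).conj_mem _ hz c, rfl⟩⟩

end MT

theorem relIndex_eq_six [Finite G] {b c : G} (hb : orderOf b = 7) (hc : c * b * c⁻¹ = b ^ 3) :
    (Subgroup.centralizer (Subgroup.zpowers b : Set G)).relIndex
      (Subgroup.normalizer (Subgroup.zpowers b : Set G)) = 6 := by
  have hcN : c ∈ Subgroup.normalizer (Subgroup.zpowers b : Set G) :=
    Subgroup.mem_normalizer_fintype (by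
      rintro _ ⟨i, rfl⟩
      show c * b ^ i * c⁻¹ ∈ Subgroup.zpowers b
      rw [← conj_zpow, hc]
      exact zpow_mem (pow_mem (Subgroup.mem_zpowers b) 3) i)
  have h1 : Nat.card (MulAut (Subgroup.zpowers b)) = 6 := by
    rw [IsCyclic.card_mulAut, Nat.card_zpowers, hb]; decide
  rw [Subgroup.relIndex, ← Subgroup.normalizerMonoidHom_ker, Subgroup.index_ker]
  set f := (Subgroup.zpowers b).normalizerMonoidHom ⟨c, hcN⟩ with hf
  have h2 : ∀ m : ℕ, (((f ^ m) ⟨b, Subgroup.mem_zpowers b⟩ : Subgroup.zpowers b) : G) = b ^ 3 ^ m := by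
    intro m
    rw [hf, ← map_pow]
    show c ^ m * b * (c ^ m)⁻¹ = _
    induction m with
    | zero => simp
    | succ m ih => rw [pow_succ', pow_succ' 3, pow_mul, ← hc, conj_pow, ← ih]; group
  have h3 : ∀ m : ℕ, f ^ m = 1 → 3 ^ m % 7 = 1 := fun m e => by
    have := h2 m
    rw [e] at this
    have h4 : b ^ 1 = b ^ 3 ^ m := by simpa using this
    rw [pow_eq_pow_iff_modEq, hb] at h4
    exact h4.symm
  have h4 : orderOf f ∣ Nat.card (Subgroup.zpowers b).normalizerMonoidHom.range :=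
    Subgroup.orderOf_dvd_natCard _ ⟨_, rfl⟩
  have h5 := h1 ▸ Subgroup.card_subgroup_dvd_card (Subgroup.zpowers b).normalizerMonoidHom.range
  have h6 := h3 _ (orderOf_dvd_iff_pow_eq_one.1 h4)
  have h7 := Nat.le_of_dvd (by norm_num) h5
  generalize Nat.card (Subgroup.zpowers b).normalizerMonoidHom.range = m at *
  interval_cases m <;> simp_all

end CL.MT
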