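/-
Orbits of the monomial group on minimal vectors; the monomial group is a maximal subgroup.
-/
import Mathlib
import Cfsg.Agent.SPOR.LeechOrder

set_option autoImplicit false
set_option maxRecDepth 100000

namespace CL.Leech

open Cfsg Cfsg.Spor MulAction Finset CL.K CL.Pack

def nnF : List ℕ := [0x821084210842108421084210842108441084210842108421084210842108422084210842108421084210842108421104210842108421084210842108421088210842108421084210842108421084410842108421084210842108421084220842108421084210842108421084211042108421084210842108421084210882108421084210842108421084210844108421084210842108421084210842208421084210842108421084210842110421084210842108421084210842108821084210842108421084210842108441084210842108421084210842108422084210842108421084210842108421104210842108421084210842108421088210842108421084210842108421084410842108421084210842108421084220842108421084210842108421084211042108421084210842108421084210882108421084210842108421084210844108421084210842108421084210842208421084210842108421084210842110,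
 0x421084210842108421084210842110421084210882108421084210842108441084210842108421084210842108421084410842108421084210842108421084210842108420084210842108421084210842108421084210844108421084200842108421084210842108421084210840108421084210842108421088210842108421084210842108421084210842208421084210842108421084210842108821084210842108421104210842108421084210842108421084210842108421084210882108421084210842108421084210042108421084210842108421004210842108421084210842110421084210842108421084210842108441084210842108420084210842108421084210842108421084210842108421084200842108421084210842108421084210842008421084210842108421088210842108421084210842108421084410842108821084210842108421084210842108421084211042108421084210842108,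
 0x421084210842108421084210842110421084210842108401084210842108421088210842108421084210842108421084210842108421084210844108421084210842108421084210042108421084210842110421084210842108421084210842108421088210842108421084210842108421084010842108421084210842108821084210842108421084410842108421084210842108421084211042108421084210842108421084210802108421084210842108421084210842108421084210882108421104210842108421084210842108421084210840108421084210842108421084210842108421084210842208421084210842108421084220842108421084220842108421084210842108421084210842208421084210842108421084210842108420084210842108421084210842108421004210842108441084210842108421084210842108422084210842108421084210842108021084210842108421084210842108,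
 0x421084210842108821084210842108421084210842108421084210844108421088210842108421084210842108420084210842108421084210842108421084210842110421084210842108421084211042108421084210842108421084220842108421084210842108421084210842108421080210842108421084210842108421084210842008421084210842108421084211042108421084210842108421084210802108421084210842108401084210842108421084010842108421084210842108421084210842108421084220842108421084210842108422084210842108421104210842108421084210842108401084210842108421084210842108421084210842108421084010842108421084210842108421104210842108421084210882108421084210842108421084210844108421084210842108821084210842108421084210842108421084210842108421084210842110421084210842208421084210842108,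
 0x821084210842108421084210842108421084210842108421084210882108421084210842110421084210842108421088210842108421084210842108421084210882108421084210842108421084220842108421084210842108421004210842108421084210842108421084210842108421084210842110421084210842108421084410842108421084210842208421084210842108421084211042108421084210842108441084210842108421084210842108421084210842108421084210840108421084210842108821084210842108421084210842108401084210842108422084210842108421084210842108421084210842108421084200842108421084210844108421084210842108421084210842108421084210042108421084210842108421080210842108421084210842108421004210842108421084210842108421084210842208421084410842108421084210842108421084210842108420084210842108,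
 0x420084210842108421084210842108421084210840108421084210842108421084210842208421084210842108441084210842108421084210842108421084210842108421104210842108421084210842108421084210842208421084410842108421084210842108421084220842108421084210842108821084210842108421084210842108421084210882108421084210842108421084210842108421084220842108421084210042108421084210842108421104210842108421084210842108421084210842108821084210842108421084210842108420084210842108421084210842110421084210842108421084210842108401084210842108421084210842108421084210844108421084210842108421084210042108421084210842108421084410842108421084210842108421084210842110421084210842108421080210842108421088210842108421084210842108421084210842108421084210802108,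
 0x421084210882108421084210842108421084210844108421084210842108421084210842108821084210842108421084210842108421080210842108421084210842108421084210842208421084210842108421084210842110421084410842108421084210842108421084210842108441084210842108821084210842108421084210842108421084210042108421084210842108421084220842108421084210842108421084210842108422084210842108421084210842108421084210844108421084210842108421084220842108421084210842110421084210842108401084210842108421084210842108421084210842108421084210882108421084210842108421084010842108421084210842108421104210842108421084210842108421084210042108421104210842108421084210842108420084210842108421084210842108421084210842008421084210842108421080210842108421084210842108,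
 0x421004210842108421084210842108421084210842108421088210842108422084210842108421084210842108421084210842108421084211042108421084210840108421084210842108421084210842108421084210842110421084210842108441084210842108421084210842108422084210842108421084210842108421084410842108421084210042108421084210842108421080210842108421084210842108421084210842110421084210842108421084210882108421084210842108421084210842108421104210842108421084210842108421084210882108421084210842108821084210842108421084210842208421084210842108421084010842108421084210842108421084210842108421084210840108421084210842108421084210842008441084210842108421084210842108421084210842108421084220842108021084210842108421084210842108421084220842108421084210842108,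
 0x821084210842108421084210842108421084210842108021084210842108421084211042108421084210842108421084210842108421084210842208421084210842108420084210842108421084210842108421004210842108421084200842108421084210842108421084210842108421080210842108421084210844108421084210842108420084210842108421084210842108421104210842108421084210842108421084210842108421084200842108421084210842108421084210802108401084210842108421084210842108421084210842108421084010842108421084210802108421084210842108421084210842108421084210042108421084410842108421084210842108421084210842108421084210842100421088210842108421084210842108421084210842008421084210842108421084210842108401084210842108421084210842100421084210842108421084210842108421084210844108,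
 0x421084210842108421084210882108421084210802108421084210842108421084210842108421004210842108421084210042108421084210842108422084210842108421084210842108421084210842108821084210842108421084210842108420084210842108421084210842108441084210842108401084210842108421084210842108421084210842108421084210840108421084210842108421080210842108421084210842108421084210042108421084210842108421084210842100421084210842108421084010842108421084200842108421084210842108421104210842108421084210842108421084210842108421084200842108421084410842108421084210842108421084210842100421084210842108421084210844108421084210842108421084210842008421084210842108421084210842108421084210842008021084210842108421084210842108421088210842108421084210842108]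

theorem nnF_in : TabIn NN nnF :=
  tabIn_of_ok (q := monoC) (fun _ _ _ hg h => monoC_spec hg h) (by decide +kernel)

theorem neg_mem_orbit {H : Subgroup Co0} (hH : neg1 ∈ H) {x y : leechLattice} (h : y ∈ orbit H x) :
    -y ∈ orbit H x := by
  obtain ⟨g, rfl⟩ := h
  exact ⟨⟨neg1, hH⟩ * g, (mul_smul _ _ _).trans (neg1_smul _)⟩

/-- representative of the shape -/
def nvS : Fin 19 → Fin 19 := ![17, 1, 2, 1, 2, 2, 17, 17, 1, 1, 2, 17, 1, 2, 1, 2, 2, 17, 17]

theorem nv_shape : ∀ i, nv i ∈ orbit NN (nv (nvS i)) := by
  have hU : ∀ (j : Fin 11) (w : ℕ), wapp nnF cU 1 w = nbC j → nb j ∈ orbit NN leechU :=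
    fun j w h => mem_orbit_of_wapp nnF_in le_U (le_nb j) 1 w enc_U (enc_nb j) h
  have hb : ∀ (i j : Fin 11) (w : ℕ), wapp nnF (nbC i) 1 w = nbC j → nb j ∈ orbit NN (nb i) :=
    fun i j w h => mem_orbit_of_wapp nnF_in (le_nb i) (le_nb j) 1 w (enc_nb i) (enc_nb j) h
  have h0 := hU 0 1 (by decide +kernel)
  have h3 := hb 1 3 4 (by decide +kernel)
  have h4 := hb 2 4 7 (by decide +kernel)
  have h5 := hb 2 5 8 (by decide +kernel)
  intro i
  fin_cases i
  exacts [h0, mem_orbit_self _, mem_orbit_self _, h3, h4, h5, hU 6 2 (by decide +kernel),
    hU 7 3 (by decide +kernel), hb 1 8 5 (by decide +kernel), hb 1 9 6 (by decide +kernel),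
    hb 2 10 9 (by decide +kernel), neg_mem_orbit neg1_mem_NN h0,
    neg_mem_orbit neg1_mem_NN (mem_orbit_self _), neg_mem_orbit neg1_mem_NN (mem_orbit_self _),
    neg_mem_orbit neg1_mem_NN h3, neg_mem_orbit neg1_mem_NN h4, neg_mem_orbit neg1_mem_NN h5,
    mem_orbit_self _, neg_mem_orbit neg1_mem_NN (mem_orbit_self _)]

theorem mem_orbit_iff_of_le {H K : Subgroup Co0} (h : H ≤ K) {x y z : leechLattice}
    (hy : y ∈ orbit H z) : y ∈ orbit K x ↔ z ∈ orbit K x := by
  obtain ⟨⟨g, hg⟩, rfl⟩ := hy
  constructor
  · rintro ⟨k, hk⟩
    refine ⟨⟨g, h hg⟩⁻¹ * k, ?_⟩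
    have hk' : k • x = (⟨g, h hg⟩ : K) • z := hk
    show ((⟨g, h hg⟩⁻¹ * k : K)) • x = z
    rw [mul_smul, hk', inv_smul_smul]
  · rintro ⟨k, rfl⟩
    exact ⟨⟨g, h hg⟩ * k, mul_smul _ _ _⟩

theorem smul_mem_orbit {H : Subgroup Co0} {g : Co0} (hg : g ∈ H) {x y : leechLattice}
    (hy : y ∈ orbit H x) : g • y ∈ orbit H x := by
  obtain ⟨k, rfl⟩ := hy
  exact ⟨⟨g, hg⟩ * k, mul_smul _ _ _⟩

theorem ncard_orbit_dvd (H : Subgroup Co0) (x : leechLattice) : (orbit H x).ncard ∣ Nat.card H :=
  ⟨_, card_eq_orbit_mul H x⟩

theorem four_dvd_of_mem_orbit {x : leechLattice} (hx : x ∈ orbit NN leechU) (p : GolayPt) :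
    (x : GolayPt → ℤ) p % 4 = 0 := by
  obtain ⟨⟨g, hg⟩, rfl⟩ := hx
  obtain ⟨σ, c, rfl⟩ := exists_mono_of_mem_NN hg
  show ((mono σ c • leechU : leechLattice) : GolayPt → ℤ) p % 4 = 0
  rw [coe_mono_smul]
  show (if _ then -vecU _ else vecU _) % 4 = 0
  unfold vecU
  split_ifs <;> rfl

theorem v44_mem_orbit {i j : GolayPt} (hij : i ≠ j) {b : ℤ} (hb : b % 8 = 4) (hb' : b = 4 ∨ b = -4) :
    v44 i j 4 b rfl hb ∈ orbit NN leechU := by
  have hn : sqNorm (v44 i j 4 b rfl hb : GolayPt → ℤ) = 32 := by
    rw [coe_v44, sqNorm_single_add_single hij]; rcases hb' with rfl | rfl <;> norm_num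
  obtain ⟨k, hk⟩ := nv_tight.1 _ hn
  have h1 := (inv_of_mem_orbit hk).2.2.1
  have h2 : b22 (v44 i j 4 b rfl hb) (v44 i j 4 b rfl hb) = 512 := by
    have h3 : ∀ p, (v44 i j 4 b rfl hb : GolayPt → ℤ) p ^ 2 * (v44 i j 4 b rfl hb : GolayPt → ℤ) p ^ 2 =
        16 * (v44 i j 4 b rfl hb : GolayPt → ℤ) p ^ 2 := by
      intro p
      simp only [coe_v44, Pi.add_apply, Pi.single_apply]
      rcases hb' with rfl | rfl <;> split_ifs with e1 e2 <;>
        first | exact absurd (e1.symm.trans e2) hij | norm_num
    unfold b22
    simp only [h3, ← Finset.mul_sum]
    unfold sqNorm at hn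
    rw [hn]; norm_num
  have h3 : ∀ k, nvQ k = 512 → nvS k = 17 := by decide
  have h4 := nv_shape k
  rw [h3 k (h1.symm.trans h2)] at h4
  obtain ⟨⟨g, hg⟩, e⟩ := hk
  rw [← e]
  exact smul_mem_orbit hg.1 h4

theorem mem_NN_of_orbit {g : Co0} (h : ∀ x ∈ orbit NN leechU, g • x ∈ orbit NN leechU) : g ∈ NN := by
  have h1 : ∀ (i j : GolayPt) (hij : i ≠ j) (b : ℤ) (hb : b % 8 = 4) (_ : b = 4 ∨ b = -4) (p : GolayPt),
      ((g • v44 i j 4 b rfl hb : leechLattice) : GolayPt → ℤ) p % 4 = 0 :=
    fun i j hij b hb hb' p => four_dvd_of_mem_orbit (h _ (v44_mem_orbit hij hb hb')) p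
  have h2 : ∀ p, ((g • e8 none : leechLattice) : GolayPt → ℤ) p % 8 = 0 := by
    intro p
    by_contra hp
    have h3 : ∀ i, 16 ≤ ((g⁻¹ • e8 p : leechLattice) : GolayPt → ℤ) i ^ 2 := by
      intro i
      have h4 := dot_smul g (e8 i) (g⁻¹ • e8 p)
      rw [smul_inv_smul, coe_e8, coe_e8, dot_single_right, dot_single_left] at h4
      have h5 : ((g • e8 i : leechLattice) : GolayPt → ℤ) p % 8 = 4 := by
        have h6 := h1 none (some 0) (by simp) 4 rfl (Or.inl rfl) p
        have h7 := h1 none (some 0) (by simp) (-4) rfl (Or.inr rfl) p
        have h8 := congrArg (fun v : leechLattice => ((g • v : leechLattice) : GolayPt → ℤ) p)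
          (e8_eq_add none (some 0))
        simp only [smul_add, AddSubgroup.coe_add, Pi.add_apply] at h8
        by_cases hi : i = none
        · subst hi; omega
        · have h9 := h1 none i (Ne.symm hi) 4 rfl (Or.inl rfl) p
          have h10 := h1 none i (Ne.symm hi) (-4) rfl (Or.inr rfl) p
          have h11 := congrArg (fun v : leechLattice => ((g • v : leechLattice) : GolayPt → ℤ) p)
            (e8_eq_add none i)
          have h12 := congrArg (fun v : leechLattice => ((g • v : leechLattice) : GolayPt → ℤ) p)
            (e8_eq_sub none i)
          simp only [smul_add, smul_sub, AddSubgroup.coe_add, AddSubgroup.coe_sub, Pi.add_apply,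
            Pi.sub_apply] at h11 h12
          omega
      generalize ((g⁻¹ • e8 p : leechLattice) : GolayPt → ℤ) i = a at h4 ⊢
      have : a ≤ -4 ∨ 4 ≤ a := by omega
      rcases this with e | e <;> nlinarith
    have h4 := Finset.sum_le_sum fun i (_ : i ∈ Finset.univ) => h3 i
    rw [sum_const_pt] at h4
    have h5 := (sqNorm_smul g⁻¹ (e8 p)).trans (sqNorm_e8 p)
    unfold sqNorm at h5
    omega
  apply mem_NN_of_smul_mem (e8_mem_stdX none)
  rw [stdX_eq_class none]
  have hn := (sqNorm_smul g (e8 none)).trans (sqNorm_e8 none)
  refine ⟨hn, ?_⟩
  generalize g • e8 none = y at h2 hn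
  let w : GolayPt → ℤ := fun p => (y : GolayPt → ℤ) p / 8
  have hw : (y : GolayPt → ℤ) = (8 : ℤ) • w := funext fun p => by
    have := h2 p; simp only [w, Pi.smul_apply, smul_eq_mul]; omega
  rw [hw, sqNorm_zsmul] at hn
  have h3 := sum_sq_mod_two w
  unfold sqNorm at hn
  refine ⟨⟨(4 : ℤ) • (Pi.single none 1 - w), four_mem ?_⟩, Subtype.ext ?_⟩
  · simp only [Pi.sub_apply, Finset.sum_sub_distrib, Finset.sum_pi_single', Finset.mem_univ, if_true]
    omega
  · rw [AddSubgroup.coe_sub, hw, coe_e8]
    funext p
    simp only [Pi.sub_apply, Pi.smul_apply, smul_eq_mul, AddSubgroup.coe_nsmul, Pi.single_apply,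
      nsmul_eq_mul]
    split_ifs <;> ring

theorem trans_of_NN_lt {K : Subgroup Co0} (hK : NN < K) {x : leechLattice}
    (hx : sqNorm (x : GolayPt → ℤ) = 32) : x ∈ orbit K leechU := by
  classical
  have hcl : ∀ g ∈ NV, ∀ y ∈ orbit K leechU, g • y ∈ orbit K leechU :=
    fun g hg y hy => smul_mem_orbit (hK.le hg.1) hy
  have hn : ∀ y ∈ orbit K leechU, sqNorm (y : GolayPt → ℤ) = 32 := by
    rintro _ ⟨g, rfl⟩; exact (sqNorm_smul g _).trans sqNorm_U
  have hdvd : (orbit K leechU).ncard ∣ 8315553613086720000 :=
    (ncard_orbit_dvd K _).trans (card_Co0 ▸ Subgroup.card_subgroup_dvd_card K)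
  have hs : ∀ i, nv i ∈ orbit K leechU ↔ nv (nvS i) ∈ orbit K leechU :=
    fun i => mem_orbit_iff_of_le hK.le (nv_shape i)
  have hS : ∀ i, nvS i = 17 ∨ nvS i = 1 ∨ nvS i = 2 := by decide
  have h17 : nv 17 ∈ orbit K leechU := mem_orbit_self _
  have key : nv 1 ∈ orbit K leechU ∧ nv 2 ∈ orbit K leechU := by
    by_cases h1 : nv 1 ∈ orbit K leechU <;> by_cases h2 : nv 2 ∈ orbit K leechU
    · exact ⟨h1, h2⟩
    · rw [ncard_of_NV hn hcl (fun i => nvS i ≠ 2) fun i => by
        rw [hs]; rcases hS i with e | e | e <;> simp [e, h1, h2, h17]] at hdvd
      exact absurd hdvd (by decide +kernel)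
    · rw [ncard_of_NV hn hcl (fun i => nvS i ≠ 1) fun i => by
        rw [hs]; rcases hS i with e | e | e <;> simp [e, h1, h2, h17]] at hdvd
      exact absurd hdvd (by decide +kernel)
    · exfalso
      refine hK.not_ge fun g hg => mem_NN_of_orbit fun y hy => ?_
      have h3 : g • y ∈ orbit K leechU := by
        obtain ⟨⟨k, hk⟩, rfl⟩ := hy
        exact smul_mem_orbit hg ⟨⟨k, hK.le hk⟩, rfl⟩
      obtain ⟨i, ⟨a, ha⟩, e⟩ := nv_tight.1 _ (hn _ h3)
      have h4 : nv i ∈ orbit K leechU :=
        (mem_orbit_iff_of_le (fun _ h => hK.le h.1 : NV ≤ K) ⟨⟨a, ha⟩, e⟩).1 h3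
      have h5 := nv_shape i
      rw [hs] at h4
      rcases hS i with e' | e' | e' <;> rw [e'] at h4 h5
      · rw [← e]; exact smul_mem_orbit ha.1 h5
      · exact absurd h4 h1
      · exact absurd h4 h2
  obtain ⟨i, hi⟩ := nv_tight.1 x hx
  rw [mem_orbit_iff_of_le (fun _ h => hK.le h.1 : NV ≤ K) hi, hs]
  rcases hS i with e | e | e <;> rw [e]
  exacts [h17, key.1, key.2]

theorem eq_top_of_NN_lt {K : Subgroup Co0} (hK : NN < K) : K = ⊤ := by
  classical
  have h1 : orbit K leechU = {y : leechLattice | sqNorm (y : GolayPt → ℤ) = 32} := by
    ext y
    exact ⟨by rintro ⟨g, rfl⟩; exact (sqNorm_smul g _).trans sqNorm_U, trans_of_NN_lt hK⟩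
  have h2 := card_eq_orbit_mul K leechU
  rw [h1, ncard_shell_32] at h2
  have h3 : 23 ∣ Nat.card ↥(K ⊓ stabilizer Co0 leechU) := by
    have h4 := Subgroup.card_dvd_of_le hK.le
    rw [card_NN, h2] at h4
    exact (Nat.Coprime.dvd_of_dvd_mul_left (by norm_num) ((by norm_num : 23 ∣ _).trans h4))
  set L := K ⊓ stabilizer Co0 leechU with hL
  have hNV : NV ≤ L := inf_le_inf_right _ hK.le
  have h4 : 23 ∣ (orbit L (nv 6)).ncard := by
    have h5 := card_eq_orbit_mul L (nv 6)
    have h6 := card_stab_pair sqNorm_U (nv_inv 6).1
    rw [show dotInt (leechU : GolayPt → ℤ) (nv 6) = 0 from (nv_inv 6).2.1, censusN_0] at h6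
    have h7 : Nat.card ↥(L ⊓ stabilizer Co0 (nv 6)) ∣ 454164480 := by
      rw [show 454164480 = Nat.card ↥(stabilizer Co0 leechU ⊓ stabilizer Co0 (nv 6)) by omega]
      exact Subgroup.card_dvd_of_le (inf_le_inf_right _ inf_le_right)
    rw [h5] at h3
    exact Nat.Coprime.dvd_of_dvd_mul_right (Nat.Coprime.coprime_dvd_right h7 (by norm_num)) h3
  have hd : ∀ y ∈ orbit L (nv 6), sqNorm (y : GolayPt → ℤ) = 32 ∧ dotInt vecU y = 0 := by
    rintro _ ⟨⟨g, hg⟩, rfl⟩
    refine ⟨(sqNorm_smul g _).trans (nv_inv 6).1, ?_⟩
    have := dot_smul g leechU (nv 6)
    rw [mem_stabilizer_iff.1 hg.2] at this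
    exact this.trans (nv_inv 6).2.1
  have h5 : ∀ i, nvD i = 0 → nv i ∈ orbit L (nv 6) := by
    have h6 := ncard_of_NV (fun y hy => (hd y hy).1) (fun g hg y hy => smul_mem_orbit (hNV hg) hy)
      (fun i => i = 6 ∨ (i = 7 ∧ nv 7 ∈ orbit L (nv 6)) ∨ (i = 8 ∧ nv 8 ∈ orbit L (nv 6)) ∨
        (i = 9 ∧ nv 9 ∈ orbit L (nv 6)) ∨ (i = 10 ∧ nv 10 ∈ orbit L (nv 6))) (fun i => by
      constructor
      · rintro (rfl | ⟨rfl, h⟩ | ⟨rfl, h⟩ | ⟨rfl, h⟩ | ⟨rfl, h⟩)
        exacts [mem_orbit_self _, h, h, h, h]
      · intro h
        have h7 : ∀ i, nvD i = 0 → i = 6 ∨ i = 7 ∨ i = 8 ∨ i = 9 ∨ i = 10 := by decide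
        rcases h7 i ((nv_inv i).2.1.symm.trans (hd _ h).2) with rfl | rfl | rfl | rfl | rfl <;>
          simp [h])
    rw [h6] at h4
    have h7 : ∀ i, nvD i = 0 → i = 6 ∨ i = 7 ∨ i = 8 ∨ i = 9 ∨ i = 10 := by decide
    have h8 : nv 7 ∈ orbit L (nv 6) ∧ nv 8 ∈ orbit L (nv 6) ∧ nv 9 ∈ orbit L (nv 6) ∧
        nv 10 ∈ orbit L (nv 6) := by
      by_cases a7 : nv 7 ∈ orbit L (nv 6) <;> by_cases a8 : nv 8 ∈ orbit L (nv 6) <;>
        by_cases a9 : nv 9 ∈ orbit L (nv 6) <;> by_cases a10 : nv 10 ∈ orbit L (nv 6) <;>
        first
        | exact ⟨a7, a8, a9, a10⟩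
        | (simp only [a7, a8, a9, a10, and_true, and_false, false_or, or_false] at h4
           exact absurd h4 (by decide +kernel))
    intro i hi
    rcases h7 i hi with rfl | rfl | rfl | rfl | rfl
    exacts [mem_orbit_self _, h8.1, h8.2.1, h8.2.2.1, h8.2.2.2]
  have h6 : ∀ y : leechLattice, sqNorm (y : GolayPt → ℤ) = 64 → y ∈ orbit K (leechU + nv 6) := by
    intro y hy
    obtain ⟨a, b, ha, hb, hab, rfl⟩ := exists_split_64 hy
    obtain ⟨⟨k, hk⟩, e⟩ := trans_of_NN_lt hK ha
    have e' : k • leechU = a := e
    obtain ⟨i, hi⟩ := nv_tight.1 (k⁻¹ • b) ((sqNorm_smul _ _).trans hb)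
    have h7 := dot_smul k leechU (k⁻¹ • b)
    rw [e', smul_inv_smul, hab] at h7
    have h8 := (mem_orbit_iff_of_le hNV hi).2 (h5 i ((inv_of_mem_orbit hi).2.1.symm.trans h7.symm))
    obtain ⟨⟨l, hl⟩, e2⟩ := h8
    have e2' : l • nv 6 = k⁻¹ • b := e2
    refine ⟨⟨k * l, K.mul_mem hk hl.1⟩, ?_⟩
    show (k * l) • (leechU + nv 6) = a + b
    rw [mul_smul, smul_add, mem_stabilizer_iff.1 hl.2, e2', smul_add, e', smul_inv_smul]
  rw [eq_top_iff]
  intro g _
  obtain ⟨⟨k, hk⟩, e⟩ := h6 (e8 none) (sqNorm_e8 _)
  obtain ⟨⟨l, hl⟩, e2⟩ := h6 (g • e8 none) ((sqNorm_smul _ _).trans (sqNorm_e8 _))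
  have e' : k • (leechU + nv 6) = e8 none := e
  have e2' : l • (leechU + nv 6) = g • e8 none := e2
  have h7 : k * l⁻¹ * g ∈ stabilizer Co0 (e8 none) := by
    rw [mem_stabilizer_iff, mul_smul, ← e2', mul_smul, inv_smul_smul, e']
  have h8 := K.mul_mem (K.inv_mem (K.mul_mem hk (K.inv_mem hl))) (hK.le (stab_e8_le _ h7))
  rwa [inv_mul_cancel_left] at h8

theorem isCoatom_NN : IsCoatom NN := by
  refine ⟨fun h => ?_, fun K hK => eq_top_of_NN_lt hK⟩
  have := card_NN
  rw [h, Subgroup.card_top, card_Co0] at this
  omega

end CL.Leech
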