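/-
The Schur multiplier of `Co0` is trivial.
-/
import Cfsg.Agent.SPOR.Co0Mult3
import Cfsg.Agent.SPOR.GolayFib
import Cfsg.Agent.INV.STD.Co0Inv
import Cfsg.Agent.KSG.SchurAm
import Cfsg.Agent.KSG.SchurQuo
import Cfsg.Agent.KSG.SchurFin
import Cfsg.Agent.S2038
import Cfsg.Agent.S0365

set_option autoImplicit false
set_option maxRecDepth 100000

namespace CL.Co0M

open Cfsg CL.Leech CL.K CL.StdCo CL.SchurC CL.Schur Subgroup
open CL.Golay (E Code O0 O0_mem cw)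
open CL.MT (Sgn exists_sgn Sgn_sq sgn_mem card_Sgn neg1_mem_Sgn)
open scoped Pointwise

theorem perfect_of_simple {K : Type*} [Group K] [IsSimpleGroup K] (h : ¬ (Nat.card K).Prime) : Group.IsPerfect K :=
  ⟨(inferInstance : (_root_.commutator K).Normal).eq_bot_or_eq_top.resolve_left fun e =>
    have : IsMulCommutative K := ⟨⟨fun a b => commutatorElement_eq_one_iff_mul_comm.1 (mem_bot.1
      (e ▸ commutator_mem_commutator (mem_top a) (mem_top b)))⟩⟩
    h (Group.is_simple_iff_prime_card.1 inferInstance)⟩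

theorem perfect_M24 : Group.IsPerfect M24 :=
  have := Cfsg.Agent.S0365.result
  perfect_of_simple (by rw [Golay.closure_gens_eq.2]; norm_num)

/-- the code word number `k` -/
def cc (k : ℕ) : Code := ⟨_, Golay.setOf_cw_mem (Golay.and_4095_lt k)⟩

theorem cc_val {k : ℕ} (h : k < 4096) : (cc k).1 = E.setOf (cw k) :=
  congrArg (fun n => E.setOf (cw n)) ((Nat.and_two_pow_sub_one_eq_mod k 12).trans (Nat.mod_eq_of_lt h))

theorem cc_xor {k l : ℕ} (hk : k < 4096) (hl : l < 4096) : cc (k ^^^ l) = cx (cc k) (cc l) := Subtype.ext (by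
  change _ = symmDiff (cc k).1 (cc l).1
  rw [cc_val hk, cc_val hl, cc_val (Golay.xor_lt_4096 hk hl), Golay.cw_xor hk hl, E.setOf_xor])

theorem Sgn_le {H : Subgroup Co0} (h : ∀ j < 12, sgn (cc (2 ^ j)) ∈ H) : Sgn ≤ H := fun g hg => by
  obtain ⟨c, rfl⟩ := exists_sgn hg
  obtain ⟨k, hk, e⟩ := Golay.mem_code_iff.1 c.2
  obtain ⟨hc, h⟩ := Golay.sel_induction (p := fun n => ∃ h : E.setOf n ∈ Code, sgn ⟨_, h⟩ ∈ H)
    ⟨E.setOf_zero ▸ Golay.empty_mem_code, by convert one_mem H; exact (congrArg _ (Subtype.ext E.setOf_zero)).trans sgn_c0⟩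
    (fun a b ⟨ha, h1⟩ ⟨hb, h2⟩ => ⟨E.setOf_xor a b ▸ Golay.symmDiff_mem_code ha hb, by
      convert mul_mem h1 h2; rw [sgn_mul]; exact congrArg _ (Subtype.ext (E.setOf_xor a b))⟩)
    (f := Golay.bas) (n := 12) (fun j hj => by
      have e : (cc (2 ^ j)).1 = E.setOf (Golay.bas j) := by revert j; decide +kernel
      exact ⟨e ▸ (cc _).2, by convert h j hj; exact e.symm⟩) k
  convert h
  rw [← e, Golay.cw_eq_sel hk]

/-- two octads meeting in a tetrad -/
noncomputable def ln (k l : ℕ) : Bool :=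
  Nat.beq (pc24 (cw l)) 8 && Nat.beq (pc24 (cw k &&& cw l)) 4 && Nat.beq (pc24 (cw k)) 8 && Nat.ble k 4095 && Nat.ble l 4095

theorem ln_spec {k l : ℕ} (h : ln k l = true) : k < 4096 ∧ l < 4096 ∧ (cc k).1.card = 8 ∧ (cc l).1.card = 8 ∧
    ((cc k).1 ∩ (cc l).1).card = 4 := by
  simp only [ln, Bool.and_eq_true, Nat.beq_eq, Nat.ble_eq] at h
  obtain ⟨⟨⟨⟨h1, h2⟩, h3⟩, h4⟩, h5⟩ := h
  rw [cc_val (Nat.lt_succ_of_le h4), cc_val (Nat.lt_succ_of_le h5), ← E.setOf_and, Golay.card_setOf, Golay.card_setOf,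
    Golay.card_setOf]
  exact ⟨Nat.lt_succ_of_le h4, Nat.lt_succ_of_le h5, h3, h1, h2⟩

theorem exists_cs {a b : Code} (ha : a.1.card = 8) (hb : b.1.card = 8) : ∃ g, cs g a = b := by
  obtain ⟨g, hg, e⟩ := Golay.exists_smul_octad ⟨a.2, ha⟩ ⟨b.2, hb⟩
  exact ⟨⟨g, hg⟩, Subtype.ext e⟩

theorem card_cs (g : M24) (c : Code) : (cs g c).1.card = c.1.card := Finset.card_smul_finset _ _

theorem cs_mul (g h : M24) (c : Code) : cs (g * h) c = cs g (cs h c) := Subtype.ext (mul_smul _ _ _)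

theorem cs_cx (g : M24) (a b : Code) : cs g (cx a b) = cx (cs g a) (cs g b) :=
  sgn_inj (by rw [← conj_sgn g c0, ← sgn_mul, ← sgn_mul, ← conj_sgn g c0, ← conj_sgn g c0, conj_mul])

theorem perfect_Co0 : Group.IsPerfect Co0 := by
  have := simple_Co1
  have h1 := (perfect_of_simple (K := Co0 ⧸ center Co0) (by rw [card_Co1]; norm_num)).1
  have h2 : ∀ a b : Code, a.1.card = 8 → b.1.card = 8 → sgn (cx a b) ∈ _root_.commutator Co0 := fun a b ha hb => by
    obtain ⟨g, rfl⟩ := exists_cs ha hb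
    have := commutator_mem_commutator (mem_top (sgn a)) (mem_top (mono g c0))
    rwa [commutatorElement_def, sgn_inv, mul_assoc, mul_assoc, ← mul_assoc (mono g c0), conj_sgn, sgn_mul] at this
  have h3 : Sgn ≤ _root_.commutator Co0 := Sgn_le fun j hj => by
    obtain ⟨l, -, h⟩ := anyLt_iff.1 (allLt_iff.1
      (show allLt (fun j => anyLt (fun l => ln l (l ^^^ 2 ^ j)) 4096) 12 = true by decide +kernel) j hj)
    obtain ⟨a1, a2, a3, a4, -⟩ := ln_spec h
    have := h2 _ _ a3 a4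
    rwa [← cc_xor a1 a2, Nat.xor_xor_cancel_left] at this
  have h4 : center Co0 ≤ _root_.commutator Co0 := fun z hz => by
    obtain rfl | rfl := Leech.mem_center_iff.1 hz
    exacts [one_mem _, h3 neg1_mem_Sgn]
  refine ⟨?_⟩
  rw [← sup_eq_left.2 h4, ← QuotientGroup.ker_mk' (center Co0), ← comap_map_eq, map_commutator_eq,
    MonoidHom.range_eq_top.2 (QuotientGroup.mk'_surjective _), ← commutator_def, h1, comap_top]

theorem mem_of_sq {F : Subgroup (Equiv.Perm GolayPt)}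
    (sq : ∀ g ∈ M24 ⊓ MulAction.stabilizer _ (E.setOf O0), g * g ∈ F) : M24 ⊓ MulAction.stabilizer _ (E.setOf O0) ≤ F := by
  have od : ∀ (n : ℕ), ∀ g ∈ M24 ⊓ MulAction.stabilizer _ (E.setOf O0), g ^ (2 * n + 1) = 1 → g ∈ F := fun n g hg h => by
    have := pow_mem (sq g hg) (n + 1)
    rwa [← pow_two, ← pow_mul, show 2 * (n + 1) = 2 * n + 1 + 1 by ring, pow_succ, h, one_mul] at this
  obtain ⟨a, a1, a2⟩ := Golay.gOct_in _ List.mem_cons_self
  obtain ⟨b, b1, b2⟩ := Golay.gOct_in _ (List.mem_cons_of_mem _ List.mem_cons_self)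
  change Golay.R _ _ at a2 b2
  have h1 := od 7 _ (mul_mem (mul_mem (mul_mem a1 a1) (mul_mem b1 b1)) b1)
    (((((a2.mul a2).mul (b2.mul b2)).mul b2).pow_succ_eq_one_iff 14).1 (by decide +kernel))
  rw [mul_mem_cancel_left (mul_mem (sq _ a1) (sq _ b1))] at h1
  have h2 := od 3 _ (mul_mem (mul_mem (mul_mem a1 a1) a1) b1)
    (((((a2.mul a2).mul a2).mul b2).pow_succ_eq_one_iff 6).1 (by decide +kernel))
  rw [mul_mem_cancel_right h1, mul_mem_cancel_left (sq _ a1)] at h2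
  refine Golay.stab_oct_eq.trans_le (E.gen_le fun P hP => ?_)
  rcases List.mem_pair.1 hP with rfl | rfl
  exacts [⟨a, h2, a2⟩, ⟨b, h1, b2⟩]

variable {Γ : Type} [Group Γ] {σ : Γ →* Co0} (hσ : IsCentralExt σ) {τ : M24 →* Γ}
  (hτ : ∀ g, σ (τ g) = mono g c0)
include hσ hτ

theorem comm_of_stab {w : Γ} {c : Code} (hc : c.1 = E.setOf O0) (hw : σ w = sgn c) {g : M24} (hg : cs g c = c) :
    τ g * w = w * τ g := by
  obtain ⟨k, hk, e⟩ := mem_of_sq (F := ((centralizer {w}).comap τ).map M24.subtype) (fun g hg => by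
    refine ⟨⟨g, hg.1⟩ * ⟨g, hg.1⟩, ?_, rfl⟩
    have hg' : cs ⟨g, hg.1⟩ c = c := Subtype.ext (hc ▸ hg.2 : g • c.1 = c.1)
    generalize (⟨g, hg.1⟩ : M24) = g at hg' ⊢
    have h1 : σ (w⁻¹ * (τ g * w * (τ g)⁻¹)) = 1 := by
      rw [map_mul, map_mul, map_mul, map_inv, map_inv, hτ, hw, conj_sgn, hg', inv_mul_cancel]
    have h2 : σ (w * w) = 1 := by rw [map_mul, hw, Sgn_sq (sgn_mem _)]
    generalize hz : w⁻¹ * (τ g * w * (τ g)⁻¹) = z at h1
    have h3 : τ g * w * (τ g)⁻¹ = w * z := by rw [← hz]; group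
    have h4 : z * z = 1 := by
      have : w * z * (w * z) = w * w := by rw [← h3, conj_mul, hσ.comm h2, mul_inv_cancel_right]
      rwa [mul_assoc, ← mul_assoc z, ← hσ.comm h1, mul_assoc, ← mul_assoc w, mul_eq_left] at this
    refine mem_centralizer_singleton_iff.2 (mul_inv_eq_iff_eq_mul.1 ?_)
    calc _ = τ g * (τ g * w * (τ g)⁻¹) * (τ g)⁻¹ := by rw [map_mul]; group
      _ = τ g * (w * z) * (τ g)⁻¹ := by rw [h3]
      _ = τ g * w * (τ g)⁻¹ * z := by rw [← mul_assoc, mul_assoc _ z, ← hσ.comm h1, ← mul_assoc]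
      _ = w := by rw [h3, mul_assoc, h4, mul_one]) (x := g) ⟨g.2, (hc ▸ congrArg Subtype.val hg : g.1 • _ = _)⟩
  obtain rfl : k = g := Subtype.ext e
  exact mem_centralizer_singleton_iff.1 hk

theorem exists_w : ∃ w : Code → Γ, (∀ c, c.1.card = 8 → σ (w c) = sgn c) ∧
    (∀ g c, c.1.card = 8 → τ g * w c * (τ g)⁻¹ = w (cs g c)) ∧
    ∀ a b, a.1.card = 8 → b.1.card = 8 → (a.1 ∩ b.1).card = 4 → w a * w b = w (cx a b) := by
  obtain ⟨w0, hw⟩ := hσ.surj (sgn ⟨_, O0_mem.1⟩)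
  choose! g hg using fun c => exists_cs (a := ⟨_, O0_mem.1⟩) (b := c) O0_mem.2
  obtain ⟨w, h1, h2⟩ : ∃ w : Code → Γ, (∀ c, c.1.card = 8 → σ (w c) = sgn c) ∧
      ∀ g c, c.1.card = 8 → τ g * w c * (τ g)⁻¹ = w (cs g c) := by
    refine ⟨fun c => τ (g c) * w0 * (τ (g c))⁻¹, fun c hc => ?_, fun k c hc => ?_⟩
    · rw [map_mul, map_mul, map_inv, hτ, hw, conj_sgn, hg c hc]
    · have := comm_of_stab hσ hτ rfl hw (g := (g (cs k c))⁻¹ * k * g c) (by
        rw [cs_mul, cs_mul, hg c hc]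
        nth_rw 2 [← hg _ ((card_cs k c).trans hc)]
        rw [← cs_mul, inv_mul_cancel, cs_one])
      simp only [map_mul, map_inv] at this
      calc _ = τ (g (cs k c)) * ((τ (g (cs k c)))⁻¹ * τ k * τ (g c) * w0) * (τ k * τ (g c))⁻¹ := by group
        _ = _ := by rw [this]; group
  have h8 : ∀ a b : Code, a.1.card = 8 → b.1.card = 8 → (a.1 ∩ b.1).card = 4 → (cx a b).1.card = 8 :=
    fun a b ha hb h => by have := Golay.card_symmDiff_add a.1 b.1; change (symmDiff a.1 b.1).card = 8; omega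
  obtain ⟨-, -, a0, b0, h0⟩ := ln_spec (k := 1) (l := 2) (by decide +kernel)
  generalize hz : w (cc 1) * w (cc 2) * (w (cx (cc 1) (cc 2)))⁻¹ = z
  have hz1 : σ z = 1 := by
    rw [← hz, map_mul, map_mul, map_inv, h1 _ a0, h1 _ b0, h1 _ (h8 _ _ a0 b0 h0), sgn_mul, mul_inv_cancel]
  have hz2 : σ z⁻¹ = 1 := by rw [map_inv, hz1, inv_one]
  refine ⟨fun c => z⁻¹ * w c, fun c hc => by rw [map_mul, hz2, one_mul, h1 c hc], fun k c hc => by
    rw [← mul_assoc, hσ.comm hz2, mul_assoc, mul_assoc, ← mul_assoc (τ k), h2 k c hc], fun a b ha hb h => ?_⟩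
  obtain ⟨k, hk, e1, e2⟩ := Golay.exists_map_octad_pair ⟨(cc 1).2, a0⟩ ⟨(cc 2).2, b0⟩ ⟨a.2, ha⟩ ⟨b.2, hb⟩ (h0.trans h.symm)
  obtain rfl : cs ⟨k, hk⟩ (cc 1) = a := Subtype.ext e1
  obtain rfl : cs ⟨k, hk⟩ (cc 2) = b := Subtype.ext e2
  beta_reduce
  rw [← cs_cx, ← h2 _ _ a0, ← h2 _ _ b0, ← h2 _ _ (h8 _ _ a0 b0 h0), mul_assoc, ← mul_assoc _ z⁻¹, hσ.comm hz2,
    mul_assoc z⁻¹, conj_mul, mul_inv_eq_iff_eq_mul.1 hz, ← mul_assoc _ z, hσ.comm hz1]
  group

omit hσ hτ in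
theorem pb2 : PBound Co0 2 0 1 := by
  intro Γ _ _ σ hs
  have hσ := isCentralExt_of_stem hs
  obtain ⟨τ, hτ⟩ := exists_lift_of_trivial_of_perfect Cfsg.Agent.S2038.result perfect_M24 permHom hσ
  replace hτ : ∀ g, σ (τ g) = mono g c0 := fun g => DFunLike.congr_fun hτ g
  obtain ⟨w, h1, h2, h3⟩ := exists_w hσ hτ
  have mul : ∀ k l, ln k l = true → w (cc k) * w (cc l) = w (cc (k ^^^ l)) := fun k l h => by
    obtain ⟨a1, a2, a3, a4, a5⟩ := ln_spec h
    rw [h3 _ _ a3 a4 a5, cc_xor a1 a2]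
  have com : ∀ k l, (ln k l && ln l k) = true → Commute (w (cc k)) (w (cc l)) := fun k l h => by
    rw [Bool.and_eq_true] at h
    exact (mul _ _ h.1).trans (Nat.xor_comm k l ▸ (mul _ _ h.2).symm)
  let W := closure ((fun j => w (cc (2 ^ j))) '' {j | j < 12})
  have hW : Nat.card W ≤ 2 ^ 12 := card_closure_pc_le two_pos _ 12 (fun i hi => by
    obtain ⟨l, -, h⟩ := anyLt_iff.1 (allLt_iff.1 (show allLt (fun i => anyLt (fun l =>
      ln (2 ^ i) l && ln (2 ^ i) (2 ^ i ^^^ l)) 4096) 12 = true by decide +kernel) i hi)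
    rw [Bool.and_eq_true] at h
    have := mul _ _ h.2
    rw [← mul _ _ h.1, Nat.xor_xor_cancel_left, ← mul_assoc, mul_eq_right] at this
    rw [pow_two, this]; exact one_mem _) fun i hi j hj => by
    have : Commute (w (cc (2 ^ i))) (w (cc (2 ^ j))) := by
      have := allLt_iff.1 (allLt_iff.1 (show allLt (fun i => allLt (fun j => (ln (2 ^ i) (2 ^ j) && ln (2 ^ j) (2 ^ i)) ||
        anyLt (fun l => ln l (l ^^^ 2 ^ j) && ((ln (2 ^ i) l && ln l (2 ^ i)) &&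
          (ln (2 ^ i) (l ^^^ 2 ^ j) && ln (l ^^^ 2 ^ j) (2 ^ i)))) 4096) i) 12 = true by decide +kernel) i hi) j hj
      rw [Bool.or_eq_true, anyLt_iff] at this
      obtain h | ⟨l, -, h⟩ := this
      · exact com _ _ h
      rw [Bool.and_eq_true, Bool.and_eq_true] at h
      have := (com _ _ h.2.1).mul_right (com _ _ h.2.2)
      rwa [mul _ _ h.1, Nat.xor_xor_cancel_left] at this
    rw [mul_assoc, ← this.eq, inv_mul_cancel_left]
    exact subset_closure ⟨j, hj, rfl⟩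
  have h4 : ∀ k < 4096, pc24 (cw k) = 8 → w (cc k) ∈ W := fun k => Nat.strong_induction_on k fun k ih hk h => by
    have := allLt2_iff.1 (show allLt2 (fun k => !Nat.beq (pc24 (cw k)) 8 || anyLt (fun j => Nat.beq k (2 ^ j)) 12 ||
      anyLt (fun l => ln (l ^^^ k) l && Nat.blt (l ^^^ k) k) k) 64 64 = true by decide +kernel) k hk
    simp only [h, Nat.beq_refl, Bool.not_true, Bool.false_or, Bool.or_eq_true, anyLt_iff, Nat.beq_eq,
      Bool.and_eq_true] at this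
    obtain ⟨j, hj, rfl⟩ | ⟨l, hl, a, b⟩ := this
    · exact subset_closure ⟨j, hj, rfl⟩
    obtain ⟨a1, a2, a3, a4, -⟩ := ln_spec a
    rw [cc_val a1, Golay.card_setOf] at a3
    rw [cc_val a2, Golay.card_setOf] at a4
    have := mul_mem (ih _ (Nat.blt_eq.mp b) a1 a3) (ih _ hl a2 a4)
    rwa [mul _ _ a, Nat.xor_comm l, Nat.xor_xor_cancel_right] at this
  have h8 : ∀ j < 12, (cc (2 ^ j)).1.card = 8 := by decide +kernel
  have h5 : W.map σ = Sgn := le_antisymm (map_le_iff_le_comap.2 ((closure_le _).2 (by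
    rintro _ ⟨j, hj, rfl⟩; exact mem_comap.2 (h1 _ (h8 j hj) ▸ sgn_mem _))))
    (Sgn_le fun j hj => ⟨_, subset_closure ⟨j, hj, rfl⟩, h1 _ (h8 j hj)⟩)
  have h6 := ((σ.subgroupMap_surjective W).bijective_of_nat_card_le (by rw [h5, card_Sgn]; exact hW)).1
  have h7 : τ.range ≤ normalizer (W : Set Γ) := by
    rintro _ ⟨g, rfl⟩
    refine mem_normalizer_fintype ((closure_le (W.comap (MulAut.conj (τ g)).toMonoidHom)).2 ?_)
    rintro _ ⟨j, hj, rfl⟩
    obtain ⟨k, hk, e⟩ := Golay.mem_code_iff.1 (cs g (cc (2 ^ j))).2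
    have := h4 k hk (by rw [← Golay.card_setOf, e, card_cs, h8 j hj])
    rwa [show cc k = _ from Subtype.ext ((cc_val hk).trans e), ← h2 _ _ (h8 j hj)] at this
  refine ⟨Fin.elim0, fun l => l.elim0, ?_⟩
  rintro z hz ⟨k, hk⟩
  have h9 : NN ≤ (W ⊔ τ.range).map σ := fun x hx => by
    obtain ⟨g, c, rfl⟩ := exists_mono_of_mem_NN hx
    have : mono g c = sgn c * σ (τ g) := by
      rw [hτ, sgn, mono_mul, one_mul, cs_one]; exact congrArg _ (Subtype.ext (symmDiff_bot _).symm)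
    exact this ▸ mul_mem (map_mono le_sup_left (h5 ▸ sgn_mem c)) (mem_map_of_mem _ (mem_sup_right ⟨g, rfl⟩))
  have h10 : z ∈ ((W ⊔ τ.range : Subgroup Γ) : Set Γ) := commutator_le_self _ (mem_of_index hs Nat.prime_two _
    (fun h => odd_index_NN.not_two_dvd_nat (h.trans (index_dvd_of_le h9))) hz hk)
  rw [coe_mul_of_right_le_normalizer_left _ _ h7] at h10
  obtain ⟨x, hx, _, ⟨g, rfl⟩, rfl⟩ := h10
  obtain ⟨c, e⟩ := exists_sgn (h5 ▸ mem_map_of_mem σ hx)
  have h11 : σ x * σ (τ g) = 1 := (map_mul σ _ _).symm.trans hz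
  rw [e, hτ, sgn, mono_mul, ← mono_one, one_mul] at h11
  obtain rfl := (mono_inj h11).1
  simp only [map_one, mul_one] at hz ⊢
  rw [show x = 1 from congrArg Subtype.val (h6 (a₁ := ⟨x, hx⟩) (a₂ := 1) (Subtype.ext (hz.trans (map_one σ).symm)))]
  exact one_mem _

omit hσ hτ in
theorem mult_Co0 : HasCyclicSchurMultiplier Co0 1 :=
  have top : ∀ {p}, p.Prime → PBound (⊤ : Subgroup Co0) p 0 1 → PBound Co0 p 0 1 := fun hp h =>
    pbound_of_sub hp (h.not_dvd hp) (⊤ : Subgroup Co0).subtype (subtype_injective _)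
      (by rw [range_subtype, index_top]; exact hp.not_dvd_one)
  trivial_of_pbound pb2 (top Nat.prime_three pb3) (pbound_rest card_Co0 23 2 [5, 7] (by decide +kernel)
    (by decide +kernel) (List.forall_mem_cons.2 ⟨top Nat.prime_five pb5, List.forall_mem_singleton.2 (top (by norm_num) pb7)⟩))

end CL.Co0M
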