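import Cfsg.Agent.SPOR.FiL2
import Cfsg.Agent.SPOR.FiEx23
import Cfsg.Agent.SPOR.Model3

/-!
Reflection classes inside the labelled models of levels 22 and 23.
-/

set_option autoImplicit false

namespace CL.FiL

open Cfsg CL.TTU CL.TT CL.K CL.CE CL.Net CL.Orth CL.OrthE CL.RC QuadraticMap CL.FiC CL.FiA CL.Fi

variable {G : Type*} {G' : Type*} [Group G] [Group G']

/-- the mask of the values -/
noncomputable def msk (π : ℕ → ℕ) (n : ℕ) : ℕ := orLt (fun b => Nat.shiftLeft 1 (π b)) n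

theorem testBit_msk (π : ℕ → ℕ) (n i : ℕ) : (msk π n).testBit i = true ↔ ∃ b < n, π b = i := by
  rw [msk, testBit_orLt]
  refine exists_congr fun b => and_congr_right fun _ => ?_
  show (1 <<< π b).testBit i = true ↔ _
  rw [Nat.one_shiftLeft, Nat.testBit_two_pow, decide_eq_true_iff]

theorem injOn_of_hasCard {π : ℕ → ℕ} {n d : ℕ} (h : hasCard d (msk π n) n = true) :
    Set.InjOn π (Set.Iio n) :=
  Set.injOn_of_ncard_image_eq (by
    rw [show π '' Set.Iio n = bits (msk π n) from Set.ext fun i => (testBit_msk π n i).symm,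
      ncard_bits h, Set.ncard_Iio_nat]) (Set.finite_Iio n)

theorem image_eq_msk {n n' : ℕ} (f : ℕ → G) {π : ℕ → ℕ} (h : ∀ b < n', π b < n) :
    (f ∘ π) '' Set.Iio n' = ms n f (msk π n') := by
  rw [Set.image_comp, ms]
  congr 1
  ext i
  simp only [Set.mem_ofPred_eq, tb_eq, testBit_msk]
  exact ⟨by rintro ⟨b, hb, rfl⟩; exact ⟨h b hb, b, hb, rfl⟩, fun hi => hi.2⟩

theorem closure_of_covers {n : ℕ} {op : ℕ → ℕ → ℕ} {E : Set G} {f : ℕ → G} (R : Real n op E f)
    {x : ℕ} {L : List ℕ} (hc : covers n op ((x :: L).map fun s => [s]) x (fun _ => true) = true)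
    (hL : ∀ s ∈ x :: L, s < n) {K : Subgroup G} (hK : ∀ s ∈ x :: L, f s ∈ K) :
    Subgroup.closure E ≤ K := by
  rw [Subgroup.closure_le]
  intro y hy
  obtain ⟨i, hi, rfl⟩ := R.surj hy
  exact (R.mem_of_covers (hL x List.mem_cons_self) hc (X := E ∩ K)
    (R.fs.subset Set.inter_subset_left fun a ha b hb =>
      ⟨R.fs.conj a ha.1 b hb.1, mul_mem (mul_mem ha.2 hb.2) ha.2⟩)
    (fun s hs => ⟨hL s hs, R.mem (hL s hs), hK s hs⟩)
    ⟨R.mem (hL x List.mem_cons_self), hK x List.mem_cons_self⟩ hi rfl).2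

/-- check of an embedding of a model in another -/
noncomputable def embM (n : ℕ) (op : ℕ → ℕ → ℕ) (n' : ℕ) (op' : ℕ → ℕ → ℕ) (π : ℕ → ℕ) (d : ℕ)
    (L : List ℕ) : Bool :=
  an (an (allLt (fun b => Nat.blt (π b) n) n') (hasCard d (msk π n') n'))
    (lall (fun s => an (Nat.blt s n') (force (π s) fun p =>
      allLt (fun b => Nat.beq (op p (π b)) (π (op' s b))) n')) L)

theorem real_embM {n n' : ℕ} {op op' : ℕ → ℕ → ℕ} {E : Set G} {f : ℕ → G} (R : Real n op E f)
    {E₀ : Set G'} {f₀ : ℕ → G'} (R₀ : Real n' op' E₀ f₀) {π : ℕ → ℕ} {d x : ℕ} {L : List ℕ}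
    (hc : covers n' op' ((x :: L).map fun s => [s]) x (fun _ => true) = true)
    (h : embM n op n' op' π d (x :: L) = true) :
    (∀ b < n', π b < n) ∧ Real n' op' (ms n f (msk π n')) (f ∘ π) ∧
      ∀ K : Subgroup G, Subgroup.closure (ms n f (msk π n')) ≤ K ↔ ∀ s ∈ x :: L, f (π s) ∈ K := by
  simp only [embM, an_iff, allLt_iff, TTU.lall_iff, force_eq, blt_iff, beq_iff] at h
  obtain ⟨⟨h1, h3⟩, h2⟩ := h
  have h4 := real_of_gens R₀ R.fs (F := f ∘ π) (fun i hi => R.mem (h1 i hi))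
    (fun a ha b hb e => injOn_of_hasCard h3 ha hb (R.inj (h1 a ha) (h1 b hb) e)) hc
    fun s hs => ⟨(h2 s hs).1, fun b hb => by
      simp only [Function.comp]
      rw [← (h2 s hs).2 b hb, R.hop _ (h1 s (h2 s hs).1) _ (h1 b hb)]⟩
  rw [image_eq_msk f h1] at h4
  exact ⟨h1, h4, fun K => ⟨fun h s hs => h (Subgroup.subset_closure (h4.mem (h2 s hs).1)),
    closure_of_covers h4 hc fun s hs => (h2 s hs).1⟩⟩

theorem fi_22 : Fi 1 CL.Fi22.D :=
  have h := isGroup_of_isClass CL.Fi22.isThreeTranspositionClass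
  ⟨D22.is22, h.2.2, CL.Fi23.center_Fi22⟩

theorem fi_23 : Fi 2 CL.Fi23.D :=
  have h := isGroup_of_isClass CL.Fi23.isThreeTranspositionClass
  haveI := CL.Fi23.isSimpleGroup
  ⟨D23.is23, h.2.2, let ⟨_, _, e⟩ := not_comm_of_simple (X := Spor.Fi23) (by
    rw [CL.Fi23.card]; norm_num); center_eq_bot_of_simple e⟩

theorem isNonsplit_of_perfect {K : Type*} [Group K] (h1 : Nat.card (Subgroup.center G) = 2)
    (h2 : Nonempty (G ⧸ Subgroup.center G ≃* K)) (h3 : Group.IsPerfect G) :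
    IsNonsplitDoubleCover G K := by
  refine ⟨h1, h2, fun L hL => ?_⟩
  have h4 : L.index = 2 := by rw [hL.index_eq_card, h1]
  haveI := Subgroup.normal_of_index_eq_two h4
  have h5 : commutator G ≤ L := by
    rw [commutator_def, Subgroup.commutator_le]
    intro a _ b _
    simp only [commutatorElement_def, Subgroup.mul_mem_iff_of_index_two h4, inv_mem_iff]
    tauto
  rw [h3.commutator_eq_top, top_le_iff] at h5
  rw [h5, Subgroup.index_top] at h4
  omega

theorem cover22 {D : Set G} (h : Fi 1 D) {d : G} (hd : d ∈ D) :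
    IsNonsplitDoubleCover (Subgroup.centralizer ({d} : Set G)) (PSU 6 F4 2) := by
  rw [← h.closure_nb hd]
  exact isNonsplit_of_perfect (h.card_center_nb hd) (T21.nonempty_qt (Is22.loc h.is d hd))
    (T22.quasi_nb h.is (gp_of_fi h) hd).1

/-- the points of a class of type `O₇(3)` -/
def o22 : ℕ := 0x3464b738346787839180b2de4ae34e10ea1d263bc39899165385fc54f1403a23dbc1d60268751fc81bed1cfa8413180f8907f785232ca5cb107d364a797b3e02b751b4293839e3ee79cd1896dd98d08149a6f8f999249f2965312d5bacbcf644a9b7bbb54ce4c48d11bf2b5d34a30b7d8bd68a67afbeb4d4d8f99a096c54266aa86037b99904e2b0518b73a56accad213714963fcb5a00aa7c213bca580738d7974446e786bbb4315e8ce31a9adc9295f5b07db199dc8952bab8c0c1663b45fa4d57cb03d535328d9fd4a955cdd36ccfb8a0d7daa271ab3475e61064d5c2d1c68233304fc196db14c5e63c33ef2d7ab14929c716bd261d0bba1137d61ad324b12a6a9201023633dcd28ab7b26a69ae02f37d020a5df471c94523b1d2b1bd01080611f688a0f5a56d4d3cab839d7b6a398a798d7aca96b8651d30780e131fa6e881ae44516f26b252969c4d62d9c2f6121a3d750c8168059d72004b084a688b93c7ee59d2d34cf3fe63dad4bff59c285cce5ee337be67ec67584b620da345a2006231d92a00c58e3882330069655c9bbc13ba9957229b29acc5ab65b978c994cb1c867be22a5308b89c28bfc8ed85022472666095c44a4b35cc6de4d7cc60935ad05276e9de0fcb1804c0c140a9ba4012915a367a123715cdbcf05455d597d971280ae10370485582709192995ac24b81fd7b80e90956b0849a41483cf6d6ad1703c025db13e9af08fbad2c120dd86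

theorem chk_o22 : embM 3510 D22.op 351 R7.op (fld 12 4095 o22) 8 [0, 4, 1, 27, 95, 45, 141, 126] = true ∧
    [0, 4, 1, 27, 95, 45, 141, 126].map (fld 12 4095 o22) = [9, 0, 1, 2, 3, 4, 5, 6].map D22.pt := by
  decide +kernel

theorem real_o22 {D : Set G} {p : ℕ → G} (R : Real 3510 D22.op D p) :
    Real 351 R7.op (ms 3510 p (msk (fld 12 4095 o22) 351)) (p ∘ fld 12 4095 o22) ∧
    Subgroup.closure (ms 3510 p (msk (fld 12 4095 o22) 351)) =
      Subgroup.closure {x | x ∈ ([9, 0, 1, 2, 3, 4, 5, 6].map D22.pt).map p} := by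
  obtain ⟨-, h1, h2⟩ := real_embM R R7.real R7.cov chk_o22.1
  rw [← chk_o22.2, List.map_map]
  exact ⟨h1, ((h2 _).2 fun s hs => Subgroup.subset_closure
    (List.mem_map_of_mem (f := p ∘ fld 12 4095 o22) hs)).antisymm
    ((Subgroup.closure_le _).2 fun x hx => by
      obtain ⟨s, hs, rfl⟩ := List.mem_map.1 hx
      exact (h2 _).1 le_rfl s hs)⟩

theorem qt7 {X : Set G} {f : ℕ → G} (R : Real 351 R7.op X f) :
    Nonempty (Qt X ≃* POmega (ZMod 3) (quadFormOdd 3 (ZMod 3))) :=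
  nonempty_of_proj7 one_ne_zero (proj7 R)

theorem nonempty_of_card_qt {K H : Type*} [Group K] [Group H] [Finite K]
    (e : Nonempty (K ⧸ Subgroup.center K ≃* H)) (h : Nat.card K = Nat.card H) : Nonempty (K ≃* H) := by
  obtain ⟨e⟩ := e
  have h1 := Subgroup.card_eq_card_quotient_mul_card_subgroup (Subgroup.center K)
  rw [Nat.card_congr e.toEquiv, ← h] at h1
  have h2 : Subgroup.center K = ⊥ := Subgroup.card_eq_one.1
    (Nat.eq_of_mul_eq_mul_left Nat.card_pos (h1.symm.trans (mul_one _).symm))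
  exact ⟨(quotCenterEquiv h2).symm.trans e⟩

theorem exists_o22 : ∃ X ⊆ CL.Fi22.D, (∃ f, Real 351 R7.op X f) ∧ Subgroup.closure X =
    gen CL.Fi22.g [[1], [2], [3], [4], [5], [6], [7], [8]] := by
  obtain ⟨-, p, R, hp⟩ := D22.exists_model
  obtain ⟨h1, h2⟩ := real_o22 R
  refine ⟨_, R.ms_subset _, ⟨_, h1⟩, h2.trans ?_⟩
  have e : ([9, 0, 1, 2, 3, 4, 5, 6].map D22.pt).map p =
      [[1], [2], [3], [4], [5], [6], [7], [8]].map (ev CL.Fi22.g) := by
    simp only [List.map_cons, List.map_nil, ev_singleton]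
    exact congrArg₂ _ (hp .b) (congrArg₂ _ (hp .c) (congrArg₂ _ (hp .d) (congrArg₂ _ (hp .e)
      (congrArg₂ _ (hp .f) (congrArg₂ _ (hp .g) (congrArg₂ _ (hp .h) (congrArg₂ _ (hp .i) rfl)))))))
  rw [e, gen]
  congr 1
  ext x
  simp only [List.mem_map, Set.mem_ofPred_eq, Set.mem_image]

theorem nonempty_o22 : Nonempty (gen CL.Fi22.g [[1], [2], [3], [4], [5], [6], [7], [8]] ≃*
    POmega (ZMod 3) (quadFormOdd 3 (ZMod 3))) := by
  obtain ⟨X, -, ⟨f, R⟩, e⟩ := exists_o22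
  have h := CL.Fi22.index_O7.2
  rw [← e] at h ⊢
  exact nonempty_of_card_qt (qt7 R) (h.trans card_POmega7.symm)

/-- the common neighbours of two points -/
def o23 : ℕ := 0x55846688e67e7c47074cbcf41147d77fe75f992550abe8795960de27e2aa14225575d3925872dfa605fdceed9058b99b1c554175a7997159453176687570970af0e50cc19780c6a91b21cc2ae037bbbc8b06114f1d2209ae9c5526718c74d78d0501d13236f98177144563e84246eaa8643434284d979a44132810782b3f35d5814007397331c80f40d405d0b69a8d7a81546faf3add3573dd864b1e2b17a8bcc66085d4517d33afa0e2b218600a24b0867456271cf160215237a854b223208b1b00a6c6bbd11091aebffa2302c1d0cd7c16aaca1f5ead961670620f61d4d66dac18a1d30172add19aca1b415e3e7ab91ca1af88188b81e36da4fc0d09f02e13e299b613b50792971f70e2a072db2771f4320cc92b50f99937e55324182d66981d8082bad6021a60b4cfc6b84a037bbd0b3111917e6ed6451451e4678cde3748a1b3a52cd498c5a168657a38edc63a731a427105a29203869c5290461680071003d075b16505c6166211872733834026e59bbb0055911c2221de24363bb09049005169286bf471324024e59dc9625c08dc9cd30d735e8c0054a21c265ad58b52000df3bb813bc2337da4a36039003a8b45b2a704b91940b78a996d5884ccc55d096f3b446aab3540b8120126228d7df5dc0ae058afd309b919df510bfd2250fdcf8c9d13f20ec5d907be9470a3e5bf85177eb8aaa8c298077272bd16b51c8ee7f3b198bc9b0306d8729404d090001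

theorem cov23 : covers 351 R7.op ([0, 4, 1, 27, 95, 45, 176, 126].map fun s => [s]) 0
    (fun _ => true) = true := by decide +kernel

theorem chk_o23 : embM 31671 D23.op 351 R7.op (fld 12 4095 o23) 8 [0, 4, 1, 27, 95, 45, 176, 126] = true ∧
    allLt (fun b => force (fld 12 4095 o23 b) fun x => an (Nat.ble x 3510) (D23.cm 14458 x)) 351 = true := by
  decide +kernel

theorem real_inter23 {D : Set G} (h : Is23 D) : ∃ a ∈ D, ∃ d ∈ far D a, ∃ f,
    Real 351 R7.op (nb D a ∩ nb D d) f := by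
  obtain ⟨p, R⟩ := D23.exists_real h
  obtain ⟨h0, h1, -⟩ := real_embM R R7.real cov23 chk_o23.1
  have h2 := chk_o23.2
  simp only [allLt_iff, force_eq, an_iff, ble_iff] at h2
  have h3 : p 14458 ∈ far D (p 0) := ⟨R.mem (by norm_num), fun e =>
    absurd ((D23.mod.commute_zero_iff R (by norm_num)).1 e) (by norm_num)⟩
  refine ⟨_, R.mem D23.mod.pos, _, h3, p ∘ fld 12 4095 o23, ?_⟩
  rw [← Set.eq_of_subset_of_ncard_le (s := ms 31671 p (msk (fld 12 4095 o23) 351))
    (t := nb D (p 0) ∩ nb D (p 14458)) ?_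
    (by rw [h.ncard_inter (R.mem D23.mod.pos) h3, h1.ncard]) (h.fin.subset fun _ h => h.1.1)]
  · exact h1
  intro y hy
  obtain ⟨b, hb, rfl⟩ := h1.surj hy
  have c1 := (D23.mod.commute_zero_iff R (h0 b hb)).2 (h2 b hb).1
  have c2 := (D23.mod.commute_iff_cm R (by norm_num) (h0 b hb)).2 (h2 b hb).2
  exact ⟨⟨R.mem (h0 b hb), fun e => h3.2 ((show p _ = p 0 from e) ▸ c2).symm, c1⟩,
    R.mem (h0 b hb), fun e => h3.2 ((show p _ = p 14458 from e) ▸ c1), c2⟩

/-- the image of a class in the quotient by the centre -/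
theorem fi_qt {k : ℕ} {E : Set G} (h : IsL k E) : Fi k ((QuotientGroup.mk : Subgroup.closure E → Qt E) ''
    {x : Subgroup.closure E | (x : G) ∈ E}) := by
  obtain ⟨φ, h1, -, h2⟩ := fi_quot h
  convert h2 using 1
  ext y
  exact ⟨by rintro ⟨x, hx, rfl⟩; exact ⟨x, hx, h1 x hx⟩,
    by rintro ⟨x, hx, rfl⟩; exact ⟨⟨x, Subgroup.subset_closure hx⟩, hx, (h1 x hx).symm⟩⟩

theorem type23 {D : Set G} (h : Fi 2 D) : IsOfTypeM23 G D := by
  obtain ⟨a, ha, d, hd, f, R⟩ := real_inter23 h.is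
  exact ⟨h.cen, a, ha, d, hd.1, hd.2, type22 (fi_qt (h.is.loc ha)), 1, one_ne_zero, proj7 R⟩

theorem real_inter23' {D : Set G} (h : Fi 2 D) {a d : G} (ha : a ∈ D) (hd : d ∈ D)
    (hn : ¬ Commute a d) : ∃ f, Real 351 R7.op (nb D a ∩ nb D d) f := by
  obtain ⟨a', ha', d', hd', f, R⟩ := real_inter23 h.is
  obtain ⟨g, rfl, rfl⟩ := h.exists_cj_pair ha' hd'.1 ha hd hd'.2 hn
  rw [← image_cj_inter h.cj]
  exact ⟨_, R.map (isoOn_cj_image g _) (by rw [image_cj_inter h.cj]; exact fs_inter h.fs _ _)⟩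

end CL.FiL
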