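import Cfsg.Agent.SPOR.FiA10
import Cfsg.Agent.SPOR.FiL3
import Cfsg.Agent.SPOR.FiP3
import Cfsg.Agent.CLAS.OutOrth3
import Cfsg.Agent.CLAS.SpForm

/-!
Labelled models of the transvections of `O₈⁺(2)`, `O₆⁻(2)` and `Sp₆(2)`.
-/

set_option autoImplicit false

namespace CL.FiA

open Cfsg CL.TT CL.TTU CL.K Subgroup

variable {G : Type*} {H : Type*} [Group G] [Group H]

/-- The group generated by `X` maps onto `H` with kernel its centre. -/
def Onto (X : Set G) (H : Type*) [Group H] : Prop :=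
  ∃ π : Subgroup.closure X →* H, Function.Surjective π ∧ π.ker = center (Subgroup.closure X)

theorem Onto.congr {X : Set G} {K : Type*} [Group K] (h : Onto X H) (e : H ≃* K) : Onto X K :=
  let ⟨π, h1, h2⟩ := h
  ⟨e.toMonoidHom.comp π, e.surjective.comp h1, by
    rw [← h2, ← MonoidHom.comap_ker, (MonoidHom.ker_eq_bot_iff _).2 e.injective]; rfl⟩

theorem onto_of_real {n : ℕ} {op : ℕ → ℕ → ℕ} {X : Set G} {f : ℕ → G} (R : Real n op X f)
    {E : Set H} {f₀ : ℕ → H} (R₀ : Real n op E f₀) (hg : Subgroup.closure E = ⊤)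
    (hZ : center H = ⊥) : Onto X H := by
  obtain ⟨φ, hφ, -⟩ := R.exists_isoOn R₀
  obtain ⟨π, h1, h2, -⟩ := FiC.exists_hom hφ R.fs R₀.fs fun g _ e =>
    Eqv.eq hg hZ (eqv_one_iff.2 e)
  refine ⟨π, MonoidHom.range_eq_top.1 (h1.trans hg), ?_⟩
  ext g
  rw [MonoidHom.mem_ker, h2, FiC.mem_center_closure_iff]

section Vec

variable {ι : Type}

/-- the vector with a binary code -/
def v2 (c : ι → ℕ) (x : ℕ) : ι → ZMod 2 := fun k => bit x (c k)

theorem cast_bit_xor (x y i j : ℕ) (z k : ℕ) (h : z.testBit k = (x.testBit i ^^ y.testBit j)) :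
    (bit z k : ZMod 2) = bit x i + bit y j := by
  rw [bit_eq, bit_eq, bit_eq, h]
  cases x.testBit i <;> cases y.testBit j <;> decide

theorem v2_xor (c : ι → ℕ) (x y : ℕ) : v2 c (Nat.xor x y) = v2 c x + v2 c y :=
  funext fun _ => cast_bit_xor _ _ _ _ _ _ (Nat.testBit_xor _ _ _)

theorem v2_inj {c : ι → ℕ} {n : ℕ} (hc : ∀ j < n, ∃ k, c k = j) {x y : ℕ} (hx : x < 2 ^ n)
    (hy : y < 2 ^ n) (h : v2 c x = v2 c y) : x = y := by
  refine Fi.eq_of_testBit_lt hx hy fun j hj => ?_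
  obtain ⟨k, rfl⟩ := hc j hj
  have := congrFun h k
  simp only [v2, bit_eq] at this
  revert this
  cases x.testBit (c k) <;> cases y.testBit (c k) <;> decide

theorem v2_surj [Fintype ι] {c : ι → ℕ} {n : ℕ} (hc : ∀ j < n, ∃ k, c k = j)
    (hn : Fintype.card ι = n) (v : ι → ZMod 2) : ∃ x < 2 ^ n, v2 c x = v := by
  classical
  obtain ⟨x, hx⟩ := ((Fintype.bijective_iff_injective_and_card
    (fun x : Fin (2 ^ n) => v2 c x)).2 ⟨fun x y h => Fin.ext (v2_inj hc x.2 y.2 h),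
      by simp [hn]⟩).2 v
  exact ⟨x, x.2, hx⟩

/-- the operation of the model -/
noncomputable def op2 (Q V I : ℕ) (a b : ℕ) : ℕ :=
  force (fld 8 255 V a) fun x => force (fld 8 255 V b) fun y => force (Nat.xor x y) fun z =>
    Nat.rec (motive := fun _ => ℕ) b (fun _ _ => fld 8 255 I z)
      (Nat.xor (Nat.xor (bit Q x) (bit Q y)) (bit Q z))

/-- check of the tables -/
noncomputable def ok2 (n N P V I : ℕ) : Bool :=
  an (allLt (fun i => force (fld 8 255 V i) fun x => an (Nat.blt x (Nat.pow 2 n))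
      (an (tb P x) (Nat.beq (fld 8 255 I x) i))) N)
    (allLt (fun x => imp (tb P x) (force (fld 8 255 I x) fun i =>
      an (Nat.blt i N) (Nat.beq (fld 8 255 V i) x))) (Nat.pow 2 n))

theorem real2 [Fintype ι] {c : ι → ℕ} {n N Qm Pm V I : ℕ} (hc : ∀ j < n, ∃ k, c k = j)
    (hn : Fintype.card ι = n) (h : ok2 n N Pm V I = true) {τ : (ι → ZMod 2) → G}
    {P : (ι → ZMod 2) → Prop} {Q : (ι → ZMod 2) → ZMod 2} (hE : FS {g | ∃ v, P v ∧ g = τ v})
    (hi : ∀ u v, P u → P v → τ u = τ v → u = v)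
    (ho : ∀ u v, P u → P v → P (v + (Q u + Q v + Q (u + v)) • u) ∧
      τ u * τ v * τ u = τ (v + (Q u + Q v + Q (u + v)) • u))
    (hQ : ∀ x < 2 ^ n, Q (v2 c x) = bit Qm x) (hP : ∀ x < 2 ^ n, P (v2 c x) ↔ tb Pm x = true) :
    Real N (op2 Qm V I) {g | ∃ v, P v ∧ g = τ v} fun i => τ (v2 c (fld 8 255 V i)) := by
  simp only [ok2, an_iff, imp_iff, allLt_iff, force_eq, blt_iff, beq_iff] at h
  obtain ⟨h1, h2⟩ := h
  have hv : ∀ i < N, P (v2 c (fld 8 255 V i)) := fun i hi => (hP _ (h1 i hi).1).2 (h1 i hi).2.1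
  have hop : ∀ a < N, ∀ b < N, op2 Qm V I a b < N ∧ τ (v2 c (fld 8 255 V (op2 Qm V I a b))) =
      τ (v2 c (fld 8 255 V a)) * τ (v2 c (fld 8 255 V b)) * τ (v2 c (fld 8 255 V a)) := by
    intro a ha b hb
    obtain ⟨h3, h4⟩ := ho _ _ (hv a ha) (hv b hb)
    have hz : Nat.xor (fld 8 255 V a) (fld 8 255 V b) < 2 ^ n :=
      Nat.xor_lt_two_pow (h1 a ha).1 (h1 b hb).1
    rw [h4]
    rw [← v2_xor, hQ _ (h1 a ha).1, hQ _ (h1 b hb).1, hQ _ hz] at h3 ⊢
    simp only [op2, force_eq, bit_eq] at h3 ⊢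
    have e1 : ∀ (t : ZMod 2), t = 1 → (P (v2 c (fld 8 255 V b) + t • v2 c (fld 8 255 V a)) →
        fld 8 255 I (Nat.xor (fld 8 255 V a) (fld 8 255 V b)) < N ∧
        τ (v2 c (fld 8 255 V (fld 8 255 I (Nat.xor (fld 8 255 V a) (fld 8 255 V b))))) =
          τ (v2 c (fld 8 255 V b) + t • v2 c (fld 8 255 V a))) := by
      rintro _ rfl h5
      rw [one_smul, add_comm, ← v2_xor] at h5 ⊢
      obtain ⟨h6, h7⟩ := h2 _ hz ((hP _ hz).1 h5)
      exact ⟨h6, by rw [h7]⟩
    have e0 : ∀ (t : ZMod 2), t = 0 → b < N ∧ τ (v2 c (fld 8 255 V b)) =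
        τ (v2 c (fld 8 255 V b) + t • v2 c (fld 8 255 V a)) := by
      rintro _ rfl
      exact ⟨hb, by rw [zero_smul, add_zero]⟩
    revert h3
    cases Qm.testBit (fld 8 255 V a) <;> cases Qm.testBit (fld 8 255 V b) <;>
      cases Qm.testBit (Nat.xor (fld 8 255 V a) (fld 8 255 V b)) <;>
      first | exact e1 _ (by decide) | exact fun _ => e0 _ (by decide)
  refine ⟨hE, ⟨fun i hi => ⟨_, hv i hi, rfl⟩, fun a ha b hb e => ?_, ?_⟩,
    fun a ha b hb => (hop a ha b hb).1, fun a ha b hb => (hop a ha b hb).2⟩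
  · rw [← (h1 a ha).2.2, v2_inj hc (h1 a ha).1 (h1 b hb).1 (hi _ _ (hv a ha) (hv b hb) e),
      (h1 b hb).2.2]
  · rintro _ ⟨v, h3, rfl⟩
    obtain ⟨x, hx, rfl⟩ := v2_surj hc hn v
    obtain ⟨h4, h5⟩ := h2 x hx ((hP x hx).1 h3)
    exact ⟨_, h4, by simp only [h5]⟩

end Vec

section Orth

open CL.Orth CL.OrthE CL.RC QuadraticMap

variable {ι : Type} [Fintype ι] [DecidableEq ι] {Q : QuadraticForm (ZMod 2) (ι → ZMod 2)}
  (hQ : (polarBilin Q).Nondegenerate) (h5 : 5 ≤ Fintype.card ι)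
include hQ h5

theorem center_O2 : center (O Q) = ⊥ :=
  eq_bot_iff.2 fun g hg => FiP.conjNormal_injective hQ h5 (MulEquiv.ext fun x => Subtype.ext (by
    rw [map_one, MulAut.conjNormal_apply, ← mem_center_iff.1 hg, mul_inv_cancel_right]; rfl))

theorem onto_O2 {c : ι → ℕ} {n N Qm V I : ℕ} (hc : ∀ j < n, ∃ k, c k = j)
    (hn : Fintype.card ι = n) (h : ok2 n N Qm V I = true)
    (hq : ∀ x < 2 ^ n, Q (v2 c x) = bit Qm x) :
    (∃ f₀ : ℕ → O Q, Real N (op2 Qm V I) (Rset Q 1) f₀) ∧ ∀ {X : Set G} {f : ℕ → G},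
      Real N (op2 Qm V I) X f → Onto X (isometryGroup (ZMod 2) Q) := by
  have z : ∀ a : ZMod 2, -a = a := by decide
  have key : ∀ u v, Q u = 1 → (refl Q u).1 v = v + (Q u + Q v + Q (u + v)) • u := fun u v hu => by
    rw [refl_apply, hu, inv_one, one_mul, polar, hu, sub_eq_add_neg, ← neg_smul, z, sub_eq_add_neg,
      sub_eq_add_neg, z, z]
    congr 2
    ring
  have R₀ := real2 (Qm := Qm) (τ := refl Q) (P := fun v => Q v = 1) (Q := Q) hc hn h
    ⟨isSet_Rset sq_zmod2 hQ one_ne_zero, by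
      rintro _ ⟨u, -, rfl⟩ b hb
      have := conj_mem_Rset (refl Q u) hb
      rwa [refl_inv] at this⟩
    (fun u v hu hv e => by
      by_contra hne
      obtain ⟨y, hy⟩ : ∃ y, polar Q u y ≠ 0 := by
        by_contra hn
        push Not at hn
        have := hQ.1 u hn
        rw [this, map_zero] at hu
        exact zero_ne_one hu
      have h1 := congrArg (fun g : O Q => g.1 y) e
      simp only [refl_apply, hu, hv, inv_one, one_mul, sub_right_inj] at h1
      have z2 : ∀ a : ZMod 2, a = 0 ∨ a = 1 := by decide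
      rw [(z2 _).resolve_left hy, one_smul] at h1
      rcases z2 (polar Q v y) with h2 | h2
      · rw [h1, h2, zero_smul, map_zero] at hu
        exact zero_ne_one hu
      · exact hne (by rw [h1, h2, one_smul]))
    (fun u v hu hv => by rw [← key u v hu, (refl Q u).2, refl_op]; exact ⟨hv, rfl⟩) hq
    (fun x hx => by rw [hq x hx, tb_eq, bit_eq]; cases Qm.testBit x <;> decide)
  exact ⟨⟨_, R₀⟩, fun R => (onto_of_real R R₀ (R_eq_top hQ (by simpa using h5) rfl one_ne_zero)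
    (center_O2 hQ h5)).congr (toO Q).symm⟩

theorem simple_Omega2 : IsSimpleGroup (Omega (ZMod 2) Q) ∧ center (Omega (ZMod 2) Q) = ⊥ ∧
    (Omega (ZMod 2) Q).index = 2 ∧
    centralizer (Omega (ZMod 2) Q : Set (isometryGroup (ZMod 2) Q)) = ⊥ := by
  have h5' : 5 ≤ Module.finrank (ZMod 2) (ι → ZMod 2) := by simpa using h5
  have hZ := card_eq_one.1 (card_center_commutator_eq_one hQ h5' (Or.inl rfl))
  have hZ' : center (Omega (ZMod 2) Q) = ⊥ := by
    rw [← map_center_mulEquiv (commutatorCongr (toO Q)).symm, hZ, Subgroup.map_bot]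
  have := isSimpleGroup_POmega Q hQ h5
  refine ⟨(FiC.quotCenterEquiv hZ').symm.isSimpleGroup, hZ', ?_, eq_bot_iff.2 fun g hg => ?_⟩
  · have := OrthE.index_commutator_of_two_eq_zero rfl hQ (Or.inr (by omega)) (by omega)
    rw [← map_commutator_mulEquiv (toO Q)] at this
    exact (index_map_equiv _ (toO Q)).symm.trans this
  · refine (toO Q).injective (FiP.conjNormal_injective hQ h5 (MulEquiv.ext fun x => Subtype.ext ?_))
    obtain ⟨y, rfl⟩ := (commutatorCongr (toO Q)).surjective x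
    rw [map_one, map_one, MulAut.conjNormal_apply, MulAut.one_apply, coe_commutatorCongr, ← map_mul,
      ← hg y y.2, map_mul, mul_inv_cancel_right]

/-- no normal `2`-subgroups -/
theorem eq_bot_O2 (hc : ∃ p, p.Prime ∧ p ≠ 2 ∧ p ∣ Nat.card (isometryGroup (ZMod 2) Q))
    {P : Subgroup (isometryGroup (ZMod 2) Q)} [P.Normal] (hP : IsPGroup 2 P) : P = ⊥ := by
  obtain ⟨h1, -, h3, h4⟩ := simple_Omega2 hQ h5
  have : Finite (isometryGroup (ZMod 2) Q) := inferInstance
  rcases h1.eq_bot_or_eq_top_of_normal (P.subgroupOf (Omega (ZMod 2) Q)) inferInstance with e | e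
  · rw [eq_bot_iff, ← h4, ← le_centralizer_iff, ← commutator_eq_bot_iff_le_centralizer, eq_bot_iff]
    refine (commutator_le_inf _ _).trans ?_
    rw [inf_comm, ← disjoint_iff_inf_le]
    exact subgroupOf_eq_bot.1 e
  · obtain ⟨p, hp, h2, hd⟩ := hc
    obtain ⟨k, hk⟩ := IsPGroup.iff_card.1 (hP.to_le (subgroupOf_eq_top.1 e))
    rw [← (Omega (ZMod 2) Q).card_mul_index, hk, h3, ← pow_succ] at hd
    exact absurd ((Nat.prime_dvd_prime_iff_eq hp Nat.prime_two).1 (hp.dvd_of_dvd_pow hd)) h2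

end Orth

/-- the orthogonal group `O₈⁺(2)` -/
abbrev O8p : Type := isometryGroup (ZMod 2) (quadFormPlus 4 (ZMod 2))
/-- its commutator subgroup -/
abbrev Om8 : Type := Omega (ZMod 2) (quadFormPlus 4 (ZMod 2))

/-- tables -/
def q8 : ℕ := 0x6996c33ca55a0ff0996633cc55aaff0096963c3c5a5af0f06666ccccaaaa0000
/-- tables -/
def v8 : ℕ := 0xfefdfbf8f7f4f2f1efeee9e8e5e4e3e2dfdddad8d6d4d3d1cbcac9c8c7c6c5c4bfbcbbb8b6b5b2b1adaca9a8a7a6a3a29e9c9a98979593918f8e8d8c8b8a89887f7c7a79777472716d6c6b6a656463625e5c5b59565453514f4e4d4c474645443e3d3a39363532312f2e2b2a272623221f1d1b1917151311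
/-- tables -/
def i8 : ℕ := 0x7776007500007473000072007170006f6e000000006d6c00006b6a6968000067006600006500640063006261006000000000005f5e5d5c5b5a5958000000005700005655000054005352000051500000004f4e00004d4c4b4a000049480000004700460045004443004200410040003f3e3d3c3b3a393800000000000000003700003600353400330000320031300000002f2e2d2c000000002b2a29280000002700262500240000230022210020001f1e1d1c000000001b1a191800000000001716000015140000131200001110000f0e00000d0c00000b0a0000090800000700060005000400030002000100000000000000000000000000000000000000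
/-- tables -/
def q6 : ℕ := 0x935f935f935f6ca0
/-- tables -/
def v6 : ℕ := 0x3f3c39383634333231302f2c29282624232221201f1c19181614131211100e0d0b0a0705
/-- tables -/
def i6 : ℕ := 0x2300002200002120001f001e1d1c1b1a190000180000171600150014131211100f00000e00000d0c000b000a0908070600050400030200000100000000000000
/-- tables -/
def qs : ℕ := 0x963c5af066ccaa00
/-- tables -/
def vs : ℕ := 0x3f3e3d3c3b3a393837363534333231302f2e2d2c2b2a292827262524232221201f1e1d1c1b1a191817161514131211100f0e0d0c0b0a090807060504030201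
/-- tables -/
def is : ℕ := 0x3e3d3c3b3a393837363534333231302f2e2d2c2b2a292827262524232221201f1e1d1c1b1a191817161514131211100f0e0d0c0b0a0908070605040302010000

/-- the model of `O₈⁺(2)` -/
noncomputable def op8 : ℕ → ℕ → ℕ := op2 q8 v8 i8
/-- the model of `O₆⁻(2)` -/
noncomputable def op6 : ℕ → ℕ → ℕ := op2 q6 v6 i6
/-- the model of `Sp₆(2)` -/
noncomputable def opS : ℕ → ℕ → ℕ := op2 qs vs is

theorem onto8 : (∃ (E : Set (Orth.O (Orth.QPlus 4 (ZMod 2)))) (f₀ : ℕ → _), Real 120 op8 E f₀) ∧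
    ∀ {X : Set G} {f : ℕ → G}, Real 120 op8 X f → Onto X O8p :=
  (onto_O2 (Orth.QPlus_nondeg 4 (ZMod 2)) (by simp) (c := Sum.elim Fin.val fun i => 4 + i) (n := 8)
    (by decide) (by simp) (by decide +kernel) (by decide +kernel)).imp_left fun h => ⟨_, h⟩

theorem onto6 : (∃ (E : Set (Orth.O (Orth.QMinus 2 (ZMod 2) 1 1))) (f₀ : ℕ → _), Real 36 op6 E f₀) ∧
    ∀ {X : Set G} {f : ℕ → G}, Real 36 op6 X f → Onto X FiP.O6m :=
  (onto_O2 (Orth.QMinus_nondeg 2 (ZMod 2) (a := 1) (b := 1) (by decide)) (by simp)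
    (c := Sum.elim (Sum.elim Fin.val fun i => 2 + i) fun i => 4 + i) (n := 6)
    (by decide) (by simp) (by decide +kernel) (by decide +kernel)).imp_left fun h => ⟨_, h⟩

theorem eq_bot_O6m {P : Subgroup FiP.O6m} [h : P.Normal] (hP : IsPGroup 2 P) : P = ⊥ :=
  @eq_bot_O2 _ _ _ _ (Orth.QMinus_nondeg 2 (ZMod 2) (a := 1) (b := 1) (by decide)) (by simp)
    ⟨3, Nat.prime_three, by norm_num, FiP.card_O6m ▸ by norm_num⟩ P h hP

theorem card_O8p : Nat.card O8p = 348364800 := by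
  refine (Nat.card_congr (Orth.toO (Orth.QPlus 4 (ZMod 2))).toEquiv).trans ?_
  rw [OrthE.card_O_QPlus (q := 2) (by simp)]
  decide

theorem om8 : IsSimpleGroup Om8 ∧ Nat.card Om8 = 174182400 ∧
    Nat.card (MulAut Om8) = 6 * 174182400 := by
  obtain ⟨h1, h2, h3, -⟩ := simple_Omega2 (Orth.QPlus_nondeg 4 (ZMod 2)) (by simp)
  have h4 := (Omega (ZMod 2) (quadFormPlus 4 (ZMod 2))).card_mul_index
  rw [show (Omega (ZMod 2) (quadFormPlus 4 (ZMod 2))).index = 2 from h3, card_O8p] at h4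
  have h5 : Nat.card Om8 = 174182400 := by unfold Om8; omega
  refine ⟨h1, h5, ?_⟩
  obtain ⟨e⟩ := (if_pos rfl).mp (OutOrth.out_QPlus_two (F := ZMod 2) (f := 1) (by simp) le_rfl)
  have h6 := Nat.card_congr e.toEquiv
  have e' : POmega (ZMod 2) (quadFormPlus 4 (ZMod 2)) ≃* Om8 := FiC.quotCenterEquiv h2
  have h7 := card_eq_card_quotient_mul_card_subgroup
    (Cfsg.Inn (POmega (ZMod 2) (quadFormPlus 4 (ZMod 2))))
  rw [h6, ← Nat.card_congr (MonoidHom.ofInjective (conj_injective (by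
    rw [← OrthE.map_center_mulEquiv e'.symm]; exact (congrArg _ h2).trans (Subgroup.map_bot _)))).toEquiv,
    Nat.card_congr e'.toEquiv, Nat.card_congr (MulAut.congr e').toEquiv, h5] at h7
  rw [h7, Nat.card_prod, Nat.card_perm, Nat.card_congr Multiplicative.toAdd, Nat.card_zmod,
    Nat.card_fin]
  rfl

theorem ontoS : (∃ (E : Set (Sp.spForm 3 (ZMod 2)).O) (f₀ : ℕ → _), Real 63 opS E f₀) ∧
    Nat.card (PSp 3 (ZMod 2)) = 1451520 ∧
    ∀ {X : Set G} {f : ℕ → G}, Real 63 opS X f → Onto X (PSp 3 (ZMod 2)) := by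
  let f := Sp.spForm 3 (ZMod 2)
  have hf : f.Nondeg := Sp.spForm_nondeg 3 (ZMod 2)
  have z2 : ∀ a : ZMod 2, a = 0 ∨ a = 1 := by decide
  have hB : ∀ u v, f.B u v = quadFormPlus 3 (ZMod 2) u + quadFormPlus 3 (ZMod 2) v +
      quadFormPlus 3 (ZMod 2) (u + v) := fun u v => by
    simp only [f, Sp.spForm_B_eq, quadFormPlus, ← Finset.sum_add_distrib, Pi.add_apply]
    have : ∀ a b c d : ZMod 2, a * b - c * d = c * a + b * d + (c + b) * (a + d) := by decide
    exact Finset.sum_congr rfl fun i _ => this _ _ _ _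
  have hs : ∀ u v, f.B u v = f.B v u := fun u v => by
    rw [hB, hB, add_comm u, add_comm (quadFormPlus 3 (ZMod 2) u)]
  have hsq : ∀ v, f.tvO v 1 * f.tvO v 1 = 1 := fun v =>
    (f.tvO_mul v 1 1).trans (Subtype.ext (f.tv_zero v))
  have hop : ∀ u v, f.tvO u 1 * f.tvO v 1 * f.tvO u 1 = f.tvO (v + f.B u v • u) 1 := fun u v => by
    have := Witt.Form.tvO_conj (f.tvO u 1) v 1
    rw [inv_eq_of_mul_eq_one_right (hsq u)] at this
    exact this.trans (congrArg (f.tvO · 1) ((f.tv_apply u 1 v).trans (by rw [one_mul])))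
  have hi : ∀ u v, u ≠ 0 → f.tvO u 1 = f.tvO v 1 → u = v := fun u v hu e => by
    obtain ⟨y, hy⟩ : ∃ y, f.B u y ≠ 0 := by
      by_contra h
      push Not at h
      exact hu (hf u h)
    have h1 : f.tv u 1 y = f.tv v 1 y := congrArg (fun g : f.O => g.1 y) e
    rw [f.tv_apply, f.tv_apply, (z2 _).resolve_left hy, one_mul, one_mul, one_smul,
      add_right_inj] at h1
    rcases z2 (f.B v y) with h2 | h2
    · exact absurd (by rw [h1, h2, zero_smul]) hu
    · rw [h1, h2, one_smul]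
  have h0 : f.tvO 0 1 = 1 := Subtype.ext (f.tv_zero_left 1)
  have hn : ∀ u v, v ≠ 0 → v + f.B u v • u ≠ 0 := fun u v hv e => hv (hi _ _ hv (by
    have := hop u v
    rw [e, h0, mul_eq_one_iff_eq_inv, inv_eq_of_mul_eq_one_right (hsq u), mul_eq_left] at this
    rw [this, h0]))
  have R₀ := real2 (c := Sum.elim Fin.val fun i : Fin 3 => 3 + i) (n := 6) (N := 63) (Qm := qs)
    (Pm := 0xfffffffffffffffe) (V := vs) (I := is) (τ := fun v => f.tvO v 1) (P := fun v => v ≠ 0)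
    (Q := quadFormPlus 3 (ZMod 2)) (by decide) (by simp) (by decide +kernel)
    (fs_of (by rintro _ ⟨v, hv, rfl⟩ e; exact hv (hi _ _ hv (e.trans h0.symm)))
      (by rintro _ ⟨v, -, rfl⟩; exact hsq v)
      (by
        rintro _ ⟨u, -, rfl⟩ _ ⟨v, -, rfl⟩
        rcases z2 (f.B u v) with h | h
        · have := hop u v
          rw [h, zero_smul, add_zero] at this
          exact Or.inl (commute_of_cj_eq (by rwa [inv_eq_of_mul_eq_one_right (hsq u)]))
        · exact Or.inr (by rw [hop, hop, hs v u, h, one_smul, one_smul, add_comm]))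
      (by rintro _ ⟨u, -, rfl⟩ _ ⟨v, hv, rfl⟩; exact ⟨_, hn u v hv, hop u v⟩))
    (fun u v hu _ => hi u v hu) (fun u v _ hv => hB u v ▸ ⟨hn u v hv, hop u v⟩)
    (by decide +kernel) (by decide +kernel)
  have hZ : center f.O = ⊥ := eq_bot_iff.2 fun g hg => Subtype.ext (LinearEquiv.ext fun v => by
    by_cases hv : v = 0
    · rw [hv, map_zero, map_zero]
    · refine (hi _ _ hv ?_).symm
      rw [← Witt.Form.tvO_conj, ← mem_center_iff.1 hg, mul_inv_cancel_right])
  have hZ' : center (Matrix.symplecticGroup (Fin 3) (ZMod 2)) = ⊥ := by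
    rw [← OrthE.map_center_mulEquiv (Sp.spEquiv 3 (ZMod 2)).symm, hZ, Subgroup.map_bot]
  refine ⟨⟨_, _, R₀⟩, ?_, fun R => (onto_of_real R R₀ (hf.eq_top_of_tvO fun v c => ?_) hZ).congr
    ((Sp.spEquiv 3 (ZMod 2)).symm.trans (FiC.quotCenterEquiv hZ').symm)⟩
  · rw [Nat.card_congr (FiC.quotCenterEquiv hZ').toEquiv, Sp.card_symplecticGroup, Nat.card_zmod]
    decide
  · rcases z2 c with rfl | rfl
    · exact (show f.tvO v 0 = 1 from Subtype.ext (f.tv_zero v)) ▸ one_mem _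
    · by_cases hv : v = 0
      · rw [hv, h0]; exact one_mem _
      · exact subset_closure ⟨v, hv, rfl⟩

end CL.FiA
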