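/- The presented group J4: order and simplicity (generated by tools/cgt/gen_j4.py). -/
import Cfsg.Agent.SPOR.J4GDce
import Cfsg.Agent.SPOR.J4GB
import Cfsg.Prelude.Def_Spor_J4

set_option autoImplicit false
set_option maxRecDepth 100000

namespace CL.J4G
open CL.CE CL.K CL.Net CL.DCE Cfsg Cfsg.Spor

def gens : List (J4.Gen × Bool) := [(.x, true), (.y, true), (.y, false), (.t, true)]

def code : J4.Gen → ℕ
  | .x => 0
  | .y => 1
  | .t => 3

theorem code_spec : ∀ x, gens[code x]? = some (x, true) := fun x => by cases x <;> rfl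

def ivl : List ℕ := [0,2,1,3]

/-- inverses of the letters -/
abbrev iv : ℕ → ℕ := fun a => ivl.getD a a

/-- the letters -/
noncomputable abbrev g : ℕ → J4 := coxG J4.edges J4.extra gens

def Rels0 : List (List ℕ) := [[1,1,1],
  [0,1,0,1,0,1,0,1,0,1,0,1,0,1,0,1,0,1,0,1,0,1,0,1,0,1,0,1,0,1,0,1,0,1,0,1,0,1,0,1,0,1,0,1,0,1],
  [0,2,0,1,0,2,0,1,0,2,0,1,0,2,0,1,0,2,0,1,0,2,0,1,0,2,0,1,0,2,0,1,0,2,0,1,0,2,0,1,0,2,0,1,0,2,0,1],
  [0,2,0,2,0,1,0,1,0,2,0,2,0,1,0,1,0,2,0,2,0,1,0,1,0,2,0,2,0,1,0,1,0,2,0,2,0,1,0,1],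
  [0,1,0,1,0,2,0,1,0,2,0,1,0,2,0,1,0,1,0,2,0,1,0,2,0,1,0,2,0,1,0,1,0,2,0,1,0,2,0,1,0,2,0,1,0,1,0,2,0,1,0,2,0,1,0,2],
  [0,1,0,1,0,2,0,1,0,1,0,2,0,1,0,1,0,2,0,1,0,2,0,2,0,1,0,2,0,2,0,1,0,2,0,2],
  [3,2,0,2,0,2,0,1,0,1,0,2,0,2,3,1,0,1,0,2,0,2,0,1,0,1,0,1],
  [3,0,3,0],
  [1,0,1,0,2,0,1,0,2,3,1,0,2,0,1,0,2,0,1,0,1,0,2,0,1,0,2,3,1,0,2,0,1,0,2,0,1,0,1,0,2,0,1,0,2,3,1,0,2,0,1,0,2,0],
  [1,0,1,0,1,0,1,1,0,1,0,1,0,1,1,0,1,0,1,0,1,3,2,2,0,2,0,2,0,2,0,2,0,2,0,2,2,0,2,0,2,0,3,0,1,0,1,0,1,1,0,1,0,1,0,1,0,1,0,1,0,1,1,1,0,1,0,1,0,1,1,0,1,0,1,0,1,1,0,1,0,1,0,1,3,2,2,0,2,0,2,0,2,0,2,0,2,0,2,2,0,2,0,2,0,3,0,1,0,1,0,1,1,0,1,0,1,0,1,0,1,0,1,0,1,1]]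

theorem presG0 : Pres g iv Rels0 :=
  cox_pres' code (cox_inv' (by decide +kernel)) code_spec (by decide +kernel)

def gw : List (List ℕ) := [[0], [1], [3]]

theorem gen_top : gen g gw = ⊤ :=
  cox_gen_top code code_spec fun x => by cases x <;> decide

theorem map_closure (l : List (FreeGroup J4.Gen)) {S : Set (FreeGroup J4.Gen)}
    (hS : ∀ x, x ∈ S ↔ x ∈ l) {ws : List (List ℕ)}
    (hw : (fun vs => vs.all (among iv (ws.map (red iv))) &&
      ws.all (among iv (vs.map (red iv)))) (l.map (enc code iv)) = true) :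
    (Subgroup.closure S).map (PresentedGroup.mk (coxRelators J4.edges ∪ {r | r ∈ J4.extra})) =
      gen g ws := cox_map_closure code presG0.inv code_spec l hS hw


theorem presM : Pres g ivM RM := presG0.mono (by decide +kernel)

/-- the letters: eight involutions generating `M₂₄`, `z`, `t`, `x`, `y`, `y⁻¹`, `v`, `v⁻¹` -/
noncomputable abbrev g2 : ℕ → J4 := subst (subst g ws1) ws2

theorem presG : Pres g2 iv1 R2 := pres2 presM

theorem gen_g2 {ws vs : List (List ℕ)}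
    (h : ((ws.map (substW ws2)).map (substW ws1) == vs) = true) : gen g2 ws = gen g vs := by
  rw [gen_subst, gen_subst, eq_of_beq h]

theorem gen_top2 : gen g2 [[10], [11], [9]] = ⊤ := (gen_g2 (by decide +kernel)).trans gen_top

theorem exists_ψ : ∃ ψ : A →* J4, (∀ a < 9, ψ (gA a) = g2 a) ∧ ψ.range = gen g2 (ltrs 9) :=
  exists_psi presA topA presG (by decide +kernel) le_H cardA.ge

/-- the homomorphism from the model of the subgroup -/
noncomputable def ψ : A →* J4 := exists_ψ.choose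

theorem ψ_apply : ∀ a < 9, ψ (gA a) = g2 a := exists_ψ.choose_spec.1

theorem ψ_range : ψ.range = gen g2 (ltrs 9) := exists_ψ.choose_spec.2

theorem ctx : Ctx π 15180 (lamOf π 15180 (tab tt)) (tab tt) (0 :: bs) pt.get ∧
    ∀ a < 50, lamOf π 15180 (tab tt) (a + 1) = ev gA (lw.getD a []) :=
  ctx_of modelA.1 liftA valid0 modelA.2.2 baseK tn_ok wordsOK ctx_ok

/-- the representatives of the double cosets -/
noncomputable abbrev γ (i : ℕ) : J4 := node (lamOf π 15180 (tab tt)) ψ (ev g2 [9]) (pt.get i)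

theorem table : Table π (gen gA ks) 15180 ψ (ev g2 [9]) γ 7 (DCE.tau (tab32 ct)) :=
  ctx.1.table modelA.1 (letters_of ctx.2 let_ok) ψ_apply presG
    (presG.top_of_grab gen_top2 ψ_range [(10, [7,4,2,4,7]), (11, [0,2,1,5,4,2,7,4,2,5,7,4,5,7,4,0]), (14, [10,11,10,12,10,12,10,12,10,12,8,11,10,11,10,11,10,11,10,12,10])] (by decide +kernel))
    upto (by norm_num) cover (ns := ns) (by decide +kernel)

theorem sep : Sep 7 (cntE 15180 (DCE.tau (tab32 ct))) fun i => szl.getD i 0 :=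
  table.sep_of (by norm_num) (by norm_num) rows sep_ok

theorem exists_ρ : ∃ ρ : J4 →* GL (Fin 112) (ZMod 2), ∀ a < 4, ρ (g a) = subst gM (ltrs 4) a :=
  cox_hom (gens := gens) (ivl := ivl) code (by decide +kernel)
    ((ltrsM.pres.append RM_ok).subst (Rels' := Rels0) (by decide +kernel)) (by decide +kernel)

/-- the matrix representation -/
noncomputable def ρ : J4 →* GL (Fin 112) (ZMod 2) := exists_ρ.choose

theorem ρ_apply : ∀ a < 4, ρ (g a) = subst gM (ltrs 4) a := exists_ρ.choose_spec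

theorem faithful : ev g2 [9] ∉ ψ.range ∧ Function.Injective ρ :=
  table.of_rep sep ρ_apply (p := 43) (by rw [cardA]; norm_num) (u := [1,3,0,2,0,3,2,3,2,3]) (by decide +kernel)
    (RP_ok _ (by decide +kernel)) (RP0_ok.2 _ (by simp))

instance : Finite J4 := table.finite

theorem index : ψ.range.index = 173067389 := (table.index faithful.1 sep).trans (by decide +kernel)

theorem card : Nat.card J4 = 86775571046077562880 := by
  rw [table.card faithful.1 sep, cardA]; decide +kernel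

theorem ψ_injective : Function.Injective ψ := table.injective faithful.1 sep

theorem isCoatom : IsCoatom ψ.range := table.isCoatom faithful.1

theorem normalCore : ψ.range.normalCore = ⊥ := table.normalCore faithful.1 sep

theorem card_range : Nat.card ψ.range = 501397585920 := (table.card_range faithful.1 sep).trans cardA

def stepsK : List (List ℕ × List (List ℕ × ℕ × ℕ)) := [([2,2,2,2,2,2,2,2,2,2,2,2,2,2,2,2,2,2,2,2,2,2,2,0,1,0,1,0,1,0,1,0,1,0,1,0,1,0,1,0,1,0,1,0,1,0,1,0,1,0,1,0,1,0,1,0,1,0,1,0,1,0,1,0,1,0,1,0], [([], 0, 1), ([], 0, 1), ([], 0, 1), ([], 0, 1), ([], 0, 1), ([], 0, 1), ([], 0, 1), ([], 0, 1), ([0], 1, 0)]),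
  ([1,2], []),
  ([1,0,1,0,2,0,1,0,2,3,1,0,2,0,1,0,2,0,1,0,1,0,2,0,1,0,2,3,1,0,2,0,1,0,2,0,1,0,1,0,2,0,1,0,2,3,1,0,2,0,1,0,2,0], [([], 8, 0)])]

theorem isSimpleGroup : IsSimpleGroup J4 :=
  ((presG0.derive (steps := stepsK) (by decide +kernel)).append_rep faithful.2 ρ_apply RP_ok
    (by decide +kernel)).isSimpleGroup isCoatom normalCore
    (p := 43) (by rw [card_range]; norm_num) gen_top [([1,3,0,2,0,3,2,3,2,3], 0)]
    [10,11,12] (by decide +kernel)

/-- the subgroup `2 ^ 11 : M₂₄` is generated by `x`, `y`, `v` -/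
theorem range_eq : ψ.range = gen g2 [[10], [11], [13]] := by
  rw [ψ_range]
  refine le_antisymm (presG.gen_le_of_grab [(0, [10,11,10,11,10,11,10,11,10,12,10,11,10,11,10,12,10,12,10,12,10,12,10,12,10,11,10,12,10,12,10,11,10,11,10,11,10,12,10,11,10,11,10,12,10,12,10,12,10,11,10,11,10]), (1, [11,10,11,10,12,10,11,10,11,10,11,10,12,10,12,10,11,10,12,10,12,10,12,10,11,10,11,10,11,10,12,10,11,10,11,10,12,10,12,10,12,10,11,10,12,10,12]), (2, [10,11,10,12,10,12,10,12,10,11,10,11,10,11,10,11,10,12,10,11,10,12,10,12,10,11,10,11,10,12,10,11,10,12,10,11,10,12,10,11,10,11,10,11,10,12]), (3, [10,11,10,12,10,11,10,11,10,12,10,12,10,11,10,12,10,11,10,12,10,11,10,11,10,11,10,11,10,12,10,12,10,12,10,11,10,11,10,12,10,11,10,12,10,11,10,12,10,11,10,11]), (4, [11,10,11,10,11,10,11,10,12,10,12,10,11,10,11,10,11,10,11,10,11,10,12,10,11,10,11,10,12,10,12,10,11,10,12,10,11,10,12,10,12,10,12,10,11,10,11,10,12,10,11,10,12]), (5, [11,10,12,10,11,10,12,10,11,10,12,10,11,10,12,10,11,10,12,10,11,10,12]),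 (6, [12,10,11,10,11,10,11,10,12,10,11,10,11,10,11,10,11,10,12,10,11,10,11,10,11,10,12,10,12,10,12,10,11,10,12,10,11,10,12,10,12,10,11]), (7, [10,11,10,11,10,11,10,12,10,11,10,12,10,11,10,12,10,12,10,11,10,11,10,11,10,11,10,12,10,11,10,12,10,11,10,12,10,12,10,12,10,12,10,11,10,11,10,12,10,12,10,11,10]), (8, [11,10,11,10,11,10,11,10,12,10,13,10,11,10,12,10,12,10,12,10,12])] (k := [10, 11, 12, 13, 14]) (fun a ha => ?_)
    (by decide +kernel)) (presG.gen_le_of_grab [(10, [7,4,2,4,7]), (11, [0,2,1,5,4,2,7,4,2,5,7,4,5,7,4,0]), (14, [10,11,10,12,10,12,10,12,10,12,8,11,10,11,10,11,10,11,10,12,10])] (k := List.range 9)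
    (fun a ha => mem_gen_ltrs _ (List.mem_range.1 ha)) (by decide +kernel))
  have h : ∀ a, [a] ∈ [[10], [11], [13]] → g2 a ∈ gen g2 [[10], [11], [13]] := fun a ha =>
    ev_singleton g2 a ▸ ev_mem_gen ha
  simp only [List.mem_cons, List.not_mem_nil, or_false] at ha
  rcases ha with rfl | rfl | rfl | rfl | rfl
  · exact h _ (by simp)
  · exact h _ (by simp)
  · exact (presG.inv 11).symm ▸ inv_mem (h _ (by simp))
  · exact h _ (by simp)
  · exact (presG.inv 13).symm ▸ inv_mem (h _ (by simp))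

theorem exists_χ : ∃ χ : M24 →* J4, (∀ a < 3, χ (PA.gN a) = g a) ∧ χ.range = gen g (ltrs 3) :=
  PA.exists_hom presM okA

theorem x_ne_one : g 0 ≠ 1 := fun e => RX0_ok.2 [0] (by simp) (by
  rw [← map_ev_subst ρ_apply (u := [0]) (by decide +kernel), ev_singleton, e, map_one])

/-- the subgroup generated by `x` and `y` -/
theorem nonempty_equiv_M24 : Nonempty (gen g (ltrs 3) ≃* M24) := by
  obtain ⟨χ, h1, h2⟩ := exists_χ
  have := Cfsg.Agent.S0365.result
  have h3 := injective_of_simple χ (x := PA.gN 0) (by rw [h1 0 (by norm_num)]; exact x_ne_one)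
  exact ⟨((MonoidHom.ofInjective h3).trans (MulEquiv.subgroupCongr h2)).symm⟩

end CL.J4G
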