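import Cfsg.Agent.SPOR.Ord12a
import Cfsg.Agent.INV.DegRec
import Cfsg.Agent.INV.Four
import Cfsg.Agent.CLAS.UniCongr
import Cfsg.Agent.SPOR.AutTree
import Cfsg.Agent.S0487
import Cfsg.Agent.S0243
import Cfsg.Agent.S2603

/-! The simple group of order `6048` and its automorphism group. -/

set_option autoImplicit false
open Cfsg Subgroup CL.Char CL.Small

namespace CL.Ord

universe u in
theorem isSolvable_of_sections {m : ℕ} (h : ∀ (S : Type u) [Group S] [Finite S] [IsSimpleGroup S],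
    Nat.card S ∣ m → IsMulCommutative S) (G : Type u) [Group G] [Finite G] (hG : Nat.card G ∣ m) :
    Group.IsSolvable G := by
  induction hn : Nat.card G using Nat.strong_induction_on generalizing G with
  | _ n ih =>
  rcases subsingleton_or_nontrivial G with h1 | h1
  · infer_instance
  by_cases hs : ∀ N : Subgroup G, N.Normal → N = ⊥ ∨ N = ⊤
  · have : IsSimpleGroup G := ⟨hs⟩
    exact Group.isSolvable_of_comm (h G hG).1.1
  push Not at hs
  obtain ⟨N, hN, h1, h2⟩ := hs
  have hmul := N.card_mul_index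
  have h3 := (one_lt_card_iff_ne_bot N).2 h1
  have h4 := one_lt_index_of_ne_top h2
  exact (Group.isSolvable_iff_subgroup_quotient N).2
    ⟨ih _ (by nlinarith) N ((card_subgroup_dvd_card N).trans hG) rfl,
      ih _ (by rw [← index_eq_card]; nlinarith) (G ⧸ N) ((card_quotient_dvd_card N).trans hG) rfl⟩

variable {G : Type*} [Group G] [Finite G]

theorem isSolvable_of_orders {m : ℕ} (hm : m ≤ 6232) (hm0 : 0 < m) (h : ∀ s ∈ CL.DR.OL, ¬ s ∣ m)
    (hG : Nat.card G ∣ m) : Group.IsSolvable G :=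
  isSolvable_of_sections (fun _ _ _ _ hS => by_contra fun hc =>
    h _ (CL.O6.orders hc ((Nat.le_of_dvd hm0 hS).trans hm)) hS) G hG

/-- The order of `PSL₂(q)`. -/
theorem card_of_psl2 {F : Type*} [Field F] [Fintype F]
    (e : G ≃* Matrix.ProjectiveSpecialLinearGroup (Fin 2) F) :
    Nat.gcd 2 (Fintype.card F - 1) * Nat.card G = Fintype.card F * (Fintype.card F ^ 2 - 1) := by
  have h := Cfsg.Agent.S0243.result (F := F) rfl 2 le_rfl
  have h1 : 1 < Fintype.card F := Fintype.one_lt_card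
  rw [← Nat.card_congr e.toEquiv, Fin.prod_univ_two] at h
  obtain ⟨k, hk⟩ : ∃ k, Fintype.card F = k + 1 := ⟨_, (Nat.sub_add_cancel h1.le).symm⟩
  rw [hk] at h h1 ⊢
  refine Nat.eq_of_mul_eq_mul_left (show 0 < k by omega) ?_
  simp only [Fin.val_zero, Fin.val_one, pow_zero, pow_one, Nat.add_sub_cancel] at h ⊢
  rw [show (k + 1) ^ 2 - (k + 1) = k * (k + 1) from Nat.sub_eq_of_eq_add (by ring)] at h
  rw [mul_left_comm, h]; ring

theorem iso_U33 [IsSimpleGroup G] (hG : Nat.card G = 6048) {F : Type*} [Field F] [Fintype F]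
    (hF : Fintype.card F = 9) : Nonempty (G ≃* PSU 3 F 3) := by
  have hc : ¬ IsMulCommutative G := not_comm_of_not_prime (by rw [hG]; norm_num)
  have : Fact (Nat.Prime 7) := ⟨by norm_num⟩
  obtain ⟨P, e, c, -, hP, hC, -, -, -, h⟩ := exists_of_surv hc (CL.D1.hasData_of_simple hc)
    (p := 7) (by rw [hG]; norm_num) (fun _ _ c _ _ => decide (c = 1)) (by rw [hG]; decide +kernel)
  obtain rfl := of_decide_eq_true h
  have h7 := fun g => orderOf_eq_of_cent (g := g)
    fun x hx => (CL.D1.card_centralizer_eq P hP hx).trans hC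
  have hN : IsNGroup G := by
    rintro _ ⟨p, T, hp, hT, h1, rfl⟩
    have := Fact.mk hp
    have h2 : Group.IsSolvable (T.subgroupOf (normalizer (T : Set G))) :=
      have := (hT.of_equiv (subgroupOfEquivOfLe T.le_normalizer).symm).isNilpotent
      inferInstance
    refine (Group.isSolvable_iff_subgroup_quotient (T.subgroupOf _)).2 ⟨h2, ?_⟩
    have h3 := card_eq_card_quotient_mul_card_subgroup (T.subgroupOf (normalizer (T : Set G)))
    rw [Nat.card_congr (subgroupOfEquivOfLe T.le_normalizer).toEquiv] at h3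
    have h4 := (card_subgroup_dvd_card (normalizer (T : Set G))).trans hG.dvd
    obtain ⟨k, hk⟩ := hT.exists_card_eq
    have h5 := (one_lt_card_iff_ne_bot T).2 h1
    by_cases h6 : 7 ∣ Nat.card (normalizer (T : Set G) ⧸ T.subgroupOf (normalizer (T : Set G)))
    · have h8 : p ≠ 7 := by
        rintro rfl
        rw [h3] at h4
        exact absurd ((mul_dvd_mul h6 (hk ▸ dvd_pow_self 7 (by rintro rfl; omega))).trans h4)
          (by norm_num)
      have h9 := modEq_one_of_normalizer h8.symm hT (h3 ▸ h6.mul_right _) fun g hg => by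
        have := h7 g (hg ▸ dvd_mul_right _ _)
        have := hp.one_lt
        omega
      have h10 : 8 ∣ Nat.card T := by
        have h11 := (card_subgroup_dvd_card T).trans hG.dvd
        have h12 := (by decide +kernel : ∀ d ∈ Nat.divisors 6048, d % 7 = 1 → d = 1 ∨ 8 ∣ d ∨
          CL.O6.comp d) _ (Nat.mem_divisors.2 ⟨h11, by norm_num⟩) h9
        rw [hk] at h12 h5 ⊢
        exact (h12.resolve_left h5.ne').resolve_right (CL.O6.not_comp_pow hp)
      refine isSolvable_of_orders (m := 756) (by norm_num) (by norm_num) (by decide) ?_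
      rw [h3] at h4
      exact Nat.dvd_of_mul_dvd_mul_right (by norm_num) ((mul_dvd_mul_left _ h10).trans h4)
    · refine isSolvable_of_orders (m := 864) (by norm_num) (by norm_num) (by decide) ?_
      exact ((Nat.Prime.coprime_iff_not_dvd (by norm_num)).2 h6).symm.dvd_of_dvd_mul_left
        ((card_quotient_dvd_card _).trans h4)
  rcases Cfsg.Agent.S0487.result hc hN with ⟨K, _, _, -, ⟨e⟩⟩ | ⟨-, m, hm, h⟩ | ⟨K, _, _, h, ⟨e⟩⟩ |
    ⟨K, _, _, h, ⟨e⟩⟩ | ⟨⟨e⟩⟩ | h | h
  · have h1 := card_of_psl2 e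
    have h2 := Nat.gcd_le_left (m := 2) (Fintype.card K - 1) two_pos
    rw [hG] at h1
    generalize Fintype.card K = q at h1 h2
    have h3 : q < 24 := by
      by_contra h3
      have : 24 ^ 2 ≤ q ^ 2 := Nat.pow_le_pow_left (by omega) 2
      have : 24 * (24 ^ 2 - 1) ≤ q * (q ^ 2 - 1) := Nat.mul_le_mul (by omega) (by omega)
      omega
    interval_cases q <;> simp at h1
  · refine absurd (Dvd.dvd.trans ?_ (hG ▸ h).symm.dvd) (show ¬ 64 ∣ 6048 by norm_num)
    rw [← pow_mul, mul_assoc]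
    exact (pow_dvd_pow 2 (show 6 ≤ _ by omega)).mul_right _
  · have h1 := Cfsg.Agent.S0243.result h 3 (by norm_num)
    rw [← Nat.card_congr e.toEquiv, hG, Fin.prod_univ_three] at h1
    norm_num at h1
  · exact ⟨e.trans (CL.Uni.nonempty_psuCongr (h.trans hF.symm) 3 3).some⟩
  · have h1 := Nat.card_congr e.toEquiv
    rw [hG, nat_card_alternatingGroup, Nat.card_eq_fintype_card, Fintype.card_fin] at h1
    norm_num [Nat.factorial] at h1
  · exact absurd (hG.symm.trans h.2) (by norm_num)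
  · exact absurd (hG.symm.trans h.2) (by norm_num)

theorem noOrd_quot {n : ℕ} (h : ∀ g : G, orderOf g ≠ n) (N : Subgroup G) [N.Normal] (g : G ⧸ N) :
    orderOf g ≠ n := by
  obtain ⟨g, rfl⟩ := QuotientGroup.mk'_surjective N g
  intro hg
  obtain ⟨k, hk⟩ := exists_pow_orderOf_eq (hg ▸ orderOf_map_dvd (QuotientGroup.mk' N) g)
  exact h _ hk

theorem iso_aut_U33 (hG : Nat.card G = 12096) (h2 : ∀ g : G, orderOf g ≠ 7 * 2)
    (h3 : ∀ g : G, orderOf g ≠ 7 * 3) {F : Type*} [Field F] [Fintype F]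
    (hF : Fintype.card F = 9) : Nonempty (G ≃* MulAut (PSU 3 F 3)) := by
  have : Fact (Nat.Prime 7) := ⟨by norm_num⟩
  have : Fact (Nat.Prime 3) := ⟨by norm_num⟩
  have key : ∀ (X : Type _) [Group X] [Finite X] {m : ℕ}, Nat.card X = 7 * m → m ∣ 1728 →
      (∀ g : X, orderOf g ≠ 7 * 2) → (∀ g : X, orderOf g ≠ 7 * 3) →
        ∃ e, e ∣ 6 ∧ m = Nat.card (Sylow 7 X) * e := fun X _ _ m h1 hm h2 h3 => by
    obtain ⟨P⟩ : Nonempty (Sylow 7 X) := inferInstance
    have hP : Nat.card P = 7 := card_sylow_eq_of_factor P (a := 1) h1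
      fun h => absurd (h.trans hm) (by norm_num)
    obtain ⟨n, c, e, -, h4, h5, h6, h7⟩ := prime_data P hP
    have h8 : c ∣ 2 ^ 6 * 3 ^ 3 := Dvd.dvd.trans ⟨n * e, Nat.eq_of_mul_eq_mul_left (show 0 < 7 by
      norm_num) (by rw [← h1, h7]; ring)⟩ hm
    have h10 : ∀ (q : ℕ) [Fact q.Prime], 7 ≠ q → (∀ g : X, orderOf g ≠ 7 * q) → ∀ k,
        c.Coprime (q ^ k) := fun q hq h h' k => (Nat.coprime_comm.1 ((Nat.Prime.coprime_iff_not_dvd
          hq.out).2 fun h'' => (exists_order_mul P hP h h5 h'').elim h')).pow_right k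
    obtain rfl := ((h10 2 (by norm_num) h2 6).mul_right (h10 3 (by norm_num) h3 3)).eq_one_of_dvd h8
    have h9 := card_sylow_mul_card_normalizer P
    exact ⟨e, h4, by rw [h6, h1] at h9; linarith⟩
  set K := pPrimeCore 7 G
  have hK : ¬ 7 ∣ Nat.card K := CL.not_dvd_card_pPrimeCore 7 G
  have h4 := card_eq_card_quotient_mul_card_subgroup K
  have hcen : ∀ (N : Subgroup G) [N.Normal], ¬ 7 ∣ Nat.card (centralizer (N : Set G)) →
      centralizer (N : Set G) ≤ K := fun N _ h =>
    CL.le_pPrimeCore ((Nat.Prime.coprime_iff_not_dvd (by norm_num)).2 h).symm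
  have h5 : Nat.card K = 1 := by
    have a1 := gcd_modEq K 7 2 6 (by norm_num) (by rw [hG]; norm_num) hK h2 (by rw [hG]; norm_num)
    have a2 := gcd_modEq K 7 3 3 (by norm_num) (by rw [hG]; norm_num) hK h3 (by rw [hG]; norm_num)
    have a3 := ((Nat.Prime.coprime_iff_not_dvd (by norm_num)).2 hK).symm.dvd_of_dvd_mul_left
      (n := 1728) ((card_subgroup_dvd_card K).trans hG.dvd)
    obtain a4 | a4 | a4 := (by decide +kernel : ∀ d ∈ Nat.divisors 1728, d.gcd (2 ^ 6) % 7 = 1 →
      d.gcd (3 ^ 3) % 7 = 1 → d = 1 ∨ d = 8 ∨ d = 64) _ (Nat.mem_divisors.2 ⟨a3, by norm_num⟩) a1 a2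
    · exact a4
    · have a5 := (index_dvd_of_le (hcen K fun h => ?_)).trans
        (CL.Four.index_centralizer_dvd_factorial K)
      · rw [index_eq_card, a4, show Nat.card (G ⧸ K) = 1512 by rw [a4] at h4; omega] at a5
        norm_num [Nat.factorial] at a5
      obtain ⟨x, hx, a6⟩ := exists_mem_orderOf_eq_prime _ 7 h
      obtain ⟨y, hy, a7⟩ := exists_mem_orderOf_eq_prime K 2 (by rw [a4]; norm_num)
      exact h2 _ (orderOf_mul_two (by norm_num) (by norm_num) a6 a7 (hx y hy).symm)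
    · obtain ⟨e, a5, a6⟩ := key (G ⧸ K) (m := 27) (by rw [a4] at h4; omega) (by norm_num)
        (noOrd_quot h2 K) (noOrd_quot h3 K)
      have a7 := card_sylow_mod (G := G ⧸ K) (p := 7)
      have := Nat.le_of_dvd (by norm_num) a5
      interval_cases e <;> omega
  replace h5 : K = ⊥ := card_eq_one.1 h5
  obtain ⟨M, _, _, h6⟩ := CL.DR.exists_simple_normal (p := 7) (by rw [hG]; norm_num)
    (by rw [hG]; norm_num) h5
  obtain ⟨e, h7, h8⟩ := key G (m := 1728) hG dvd_rfl h2 h3
  have h9 : Nat.card (Sylow 7 G) = 288 := by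
    have a7 := card_sylow_mod (G := G) (p := 7)
    have := Nat.le_of_dvd (by norm_num) h7
    interval_cases e <;> omega
  have h10 := (card_subgroup_dvd_card M).trans hG.dvd
  have h11 : Nat.card (Sylow 7 M) = 288 := by
    obtain ⟨P⟩ : Nonempty (Sylow 7 G) := inferInstance
    have hPM : (P : Subgroup G) ≤ M := le_of_normal_of_not_dvd_index P.isPGroup' fun h =>
      absurd ((mul_dvd_mul h6 h).trans (M.card_mul_index.trans hG).dvd) (by norm_num)
    have a1 : normalizer ((P : Subgroup G) : Set G) ⊔ M = ⊤ := Sylow.normalizer_sup_eq_top' P hPM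
    rw [← h9, card_sylow_eq_index P, CL.SN.index_eq_index_sup_mul _ M, a1, index_top, one_mul,
      card_sylow_eq_index (P.subtype hPM), Sylow.coe_subtype, ← subgroupOf_normalizer_eq hPM]
    rfl
  obtain ⟨m, hm⟩ := h6
  obtain ⟨e, h12, h13⟩ := key M hm (Nat.dvd_of_mul_dvd_mul_left (by norm_num) (hm ▸ h10))
    (noOrd_sub h2 M) (noOrd_sub h3 M)
  have hc : ¬ IsMulCommutative M := not_comm_of_not_prime (by
    rw [hm, h13, h11]; exact Nat.not_prime_mul (by norm_num) (by omega))
  have h14 : Nat.card M = 6048 := by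
    have a1 := CL.D1.not_killed hc (CL.D1.hasData_of_simple hc)
    have := Nat.le_of_dvd (by norm_num) h12
    rw [h13, h11] at hm
    interval_cases e <;> rw [hm] at a1 ⊢ <;> first | omega | exact absurd a1 (by decide +kernel)
  obtain ⟨f⟩ := iso_U33 h14 hF
  have hz : center M = ⊥ := (inferInstance : (center M).Normal).eq_bot_or_eq_top.resolve_right
    fun h => hc (center_eq_top_iff.1 h)
  have h15 : centralizer (M : Set G) = ⊥ := le_bot_iff.1 (h5 ▸ hcen M fun h => by
    obtain ⟨x, hx, a1⟩ := exists_mem_orderOf_eq_prime _ 7 h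
    obtain ⟨y, hy, a2⟩ := exists_mem_orderOf_eq_prime M 2 (by rw [h14]; norm_num)
    exact h2 _ (orderOf_mul_two (by norm_num) (by norm_num) a1 a2 (hx y hy).symm))
  have h16 : Nat.card (MulAut M) = 12096 := by
    obtain ⟨φ, a1, -, a2⟩ := Cfsg.Agent.S2603.result (K := F) (p := 3) (f := 1) (q := 3) (n := 3)
      le_rfl rfl hF le_rfl (by norm_num)
    have a3 := φ.ker.card_mul_index
    rw [index_ker, MonoidHom.range_eq_top.2 a1, card_top, a2, Nat.card_congr Multiplicative.toAdd,
      Nat.card_zmod, ← CL.AutT.card_out_congr f] at a3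
    rw [← (Inn M).card_mul_index, index_eq_card, ← a3, ← Nat.card_congr (MonoidHom.ofInjective
      ((injective_iff_map_eq_one _).2 fun g hg => mem_bot.1 (hz ▸ mem_center_iff.2 fun x =>
        (mul_inv_eq_iff_eq_mul.1 (DFunLike.congr_fun hg x)).symm))).toEquiv, h14]
    rfl
  exact ⟨(MulEquiv.ofBijective (MulAut.conjNormal (H := M)) (((injective_iff_map_eq_one _).2
    fun g hg => mem_bot.1 (h15 ▸ fun x hx => (mul_inv_eq_iff_eq_mul.1 (show g * x * g⁻¹ = x from
      congrArg (fun a : MulAut M => (a ⟨x, hx⟩ : G)) hg)).symm)).bijective_of_nat_card_le (by rw [h16, hG]))).trans (MulAut.congr f)⟩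

end CL.Ord
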