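import Cfsg.Agent.SPOR.Ord11c

/-! Simplicity from the number of elements of a prime order. -/

set_option autoImplicit false
open Cfsg Subgroup

namespace CL.Ord

variable {G : Type*} [Group G] [Finite G] {p : ℕ} [hp : Fact p.Prime]

theorem not_dvd_of_fpf (N : Subgroup G) [N.Normal] {q : ℕ} (hq : q.Prime) (hpG : p ∣ Nat.card G)
    (hN : ¬ p ∣ Nat.card N) (h : ∀ g : G, orderOf g ≠ p * q)
    (hj : ∀ j, q ^ (j + 1) ∣ Nat.card G → q ^ (j + 1) % p ≠ 1) : ¬ q ∣ Nat.card N := by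
  intro h1
  have := Fact.mk hq
  have h2 := gcd_modEq N p q (Nat.card G) (by rintro rfl; exact hN h1) hpG hN h fun h =>
    (Nat.le_of_dvd Nat.card_pos h).not_gt
      ((Nat.lt_succ_self _).trans (Nat.lt_pow_self hq.one_lt))
  obtain ⟨j, -, h3⟩ := (Nat.dvd_prime_pow hq).1 (Nat.gcd_dvd_right (Nat.card N) (q ^ Nat.card G))
  obtain _ | j := j
  · exact hq.one_lt.ne' (Nat.dvd_one.1 ((pow_zero q ▸ h3) ▸
      Nat.dvd_gcd h1 (dvd_pow_self q Nat.card_pos.ne')))
  · exact hj j (h3 ▸ (Nat.gcd_dvd_left _ _).trans (card_subgroup_dvd_card N)) (h3 ▸ h2)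

/-- A group with a Sylow subgroup of prime order `p` and normaliser of order `p * e`. -/
theorem simple_of_normalizer (P : Sylow p G) (hP : Nat.card P = p) {e r : ℕ} (he : e.Prime)
    (hN : Nat.card (normalizer ((P : Subgroup G) : Set G)) = p * e) (hr : r.Prime)
    (h1 : r ≠ p) (h2 : r ≠ e) (h3 : r ∣ Nat.card G)
    (hj : ∀ q j, q.Prime → q ^ (j + 1) ∣ Nat.card G → q ^ (j + 1) % p ≠ 1) : IsSimpleGroup G := by
  have := Fact.mk hr
  have hpG : p ∣ Nat.card G := hP ▸ card_subgroup_dvd_card (P : Subgroup G)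
  have : Nontrivial G := Finite.one_lt_card_iff_nontrivial.1
    (hp.out.one_lt.trans_le (Nat.le_of_dvd Nat.card_pos hpG))
  obtain ⟨n, c, f, -, -, h4, h5, -⟩ := prime_data P hP
  have h6 : c * f = e := Nat.eq_of_mul_eq_mul_left hp.out.pos (by rw [← mul_assoc, ← h5, hN])
  have h7 : ∀ g : G, orderOf g ≠ p * r := fun g hg => CL.D1.no_order_pq P hP hr h1 h4 (fun h =>
    h2 ((Nat.prime_dvd_prime_iff_eq hr he).1 (h6 ▸ h.mul_right f))) g (by simp [hg]) (by simp [hg])
  have key : ∀ (H : Subgroup G) (hH : (P : Subgroup G) ≤ H), r ∣ Nat.card H →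
      ¬ normalizer ((P : Subgroup G) : Set G) ⊓ H ≤ centralizer (P : Subgroup G) := by
    intro H hH h8 h9
    obtain ⟨K, _, hK⟩ := exists_compl (P.subtype hH) (by
      rw [Sylow.coe_subtype, ← subgroupOf_normalizer_eq hH]
      exact fun g hg y hy => Subtype.ext (h9 ⟨hg, g.2⟩ y hy))
    rw [Sylow.coe_subtype, Nat.card_congr (subgroupOfEquivOfLe hH).toEquiv, hP] at hK
    refine not_dvd_of_fpf K hr (hK ▸ dvd_mul_left _ _) (fun h => CL.D1.not_sq_dvd P hP ?_)
      (noOrd_sub h7 H) (fun j h => hj r j hr (h.trans (card_subgroup_dvd_card H)))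
      ((hr.dvd_mul.1 (hK ▸ h8)).resolve_right fun h =>
        h1 ((Nat.prime_dvd_prime_iff_eq hr hp.out).1 h))
    exact ((sq p ▸ Nat.mul_dvd_mul_right h p).trans hK.dvd).trans (card_subgroup_dvd_card H)
  obtain rfl : c = 1 := ((Nat.dvd_prime he).1 (Dvd.intro _ h6)).resolve_right fun h =>
    key ⊤ le_top (by rwa [card_top]) (inf_le_left.trans (eq_of_le_of_card_ge
      (CL.Small.centralizer_le_normalizer' _) (by rw [hN, h4, h])).ge)
  refine simple_of_forall fun N _ => ?_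
  have h8 := card_mul_index N
  by_cases h9 : p ∣ Nat.card N
  · have h10 : ¬ p ∣ N.index := fun h => CL.D1.not_sq_dvd P hP (sq p ▸ h8 ▸ Nat.mul_dvd_mul h9 h)
    have h11 : (P : Subgroup G) ≤ N := CL.Small.le_of_normal_of_not_dvd_index P.2 h10
    have h12 : normalizer ((P : Subgroup G) : Set G) ⊔ N = ⊤ := P.normalizer_sup_eq_top' h11
    refine .inr (((Nat.dvd_prime he).1 (((hp.out.coprime_iff_not_dvd.2 h10).symm).dvd_of_dvd_mul_left
      (hN ▸ index_dvd_of_sup h12))).resolve_right fun h => key N h11 ?_ ?_)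
    · exact (hr.dvd_mul.1 (h8 ▸ h3)).resolve_right fun h' =>
        h2 ((Nat.prime_dvd_prime_iff_eq hr he).1 (h ▸ h'))
    · have h13 := card_mul_index (N.subgroupOf (normalizer ((P : Subgroup G) : Set G)))
      rw [← relIndex, ← relIndex_sup_right, h12, relIndex_top_right, h, hN, ← inf_subgroupOf_right,
        Nat.card_congr (subgroupOfEquivOfLe inf_le_right).toEquiv, inf_comm] at h13
      have := isCyclic_of_prime_card hP
      exact (eq_of_le_of_card_ge (le_inf le_normalizer h11) (by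
        rw [hP, Nat.eq_of_mul_eq_mul_right he.pos h13])).ge.trans (le_centralizer _)
  · refine .inl (by_contra fun h => ?_)
    obtain ⟨q, hq, h10⟩ := Nat.exists_prime_and_dvd h
    refine not_dvd_of_fpf N hq hpG h9 (fun g hg => hq.one_lt.ne' ?_) (fun j => hj q j hq) h10
    have := orderOf_eq_of_cent (fun x hx => (CL.D1.card_centralizer_eq P hP hx).trans
      (h4.trans (mul_one p))) (g := g) (by simp [hg])
    exact Nat.eq_of_mul_eq_mul_left hp.out.pos (by rw [← hg, this, mul_one])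

theorem card_normalizer_of_nse {M : Type*} [Group M] [Finite M] (hc : Nat.card G = Nat.card M)
    (h2 : p ≠ 2) (P : Sylow p G) (hP : Nat.card P = p)
    (hC : ∀ x : M, orderOf x = p → Nat.card (centralizer ({x} : Set M)) = p) {k : ℕ}
    (hN : ∀ x : M, orderOf x = p → Nat.card (normalizer (zpowers x : Set M)) = k)
    (h : {c : ℕ | 0 < c ∧ ∃ n : ℕ, c = Nat.card {g : G // orderOf g = n}} ⊆
      {c : ℕ | 0 < c ∧ ∃ n : ℕ, c = Nat.card {g : M // orderOf g = n}}) :
    Nat.card (normalizer ((P : Subgroup G) : Set G)) = k := by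
  have h0 := hp.out.two_le
  have h1 := CL.Small.card_orderOf_eq_prime P hP
  have h3 : 0 < Nat.card {g : G // orderOf g = p} := h1 ▸ Nat.mul_pos Nat.card_pos (by omega)
  obtain ⟨-, n, hn⟩ := h (show Nat.card {g : G // orderOf g = p} ∈ _ from ⟨h3, p, rfl⟩)
  obtain ⟨⟨g, hg⟩⟩ := (Nat.card_ne_zero.1 (hn ▸ h3).ne').1
  obtain ⟨m, hm⟩ : p ∣ Nat.card M := hc ▸ hP ▸ card_subgroup_dvd_card (P : Subgroup G)
  by_cases h4 : p ∣ n
  · obtain ⟨Q⟩ : Nonempty (Sylow p M) := inferInstance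
    have hQ : Nat.card Q = p := by rw [Q.card_eq_multiplicity, ← hc, ← P.card_eq_multiplicity, hP]
    have h5 := orderOf_eq_of_cent hC (hg ▸ h4)
    rw [h1, ← hg, h5, CL.Small.card_orderOf_eq_prime Q hQ] at hn
    refine Nat.eq_of_mul_eq_mul_left (Nat.card_pos (α := Sylow p G)) ?_
    rw [CL.Small.card_sylow_mul_card_normalizer, hc, Nat.eq_of_mul_eq_mul_right (by omega) hn,
      ← hN g h5, card_normalizer_zpowers Q hQ h5]
  by_cases h5 : n = 1
  · simp only [h5, orderOf_eq_one_iff, Nat.card_unique, h1] at hn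
    have := Nat.eq_one_of_mul_eq_one_left hn
    omega
  have h6 := dvd_card_orderOf (n := n) hm fun x hx => (hp.out.coprime_iff_not_dvd.2
    (not_dvd_card_centralizer hC (by rintro rfl; simp [← hx] at h5) (hx ▸ h4))).symm.dvd_of_dvd_mul_left
      (hm ▸ card_subgroup_dvd_card _)
  rw [← hn, h1] at h6
  rcases hp.out.dvd_mul.1 h6 with h7 | h7
  · have := CL.Small.card_sylow_mod (G := G) (p := p)
    rw [Nat.mod_eq_zero_of_dvd h7] at this
    omega
  · exact absurd (Nat.le_of_dvd (by omega) h7) (by omega)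

omit hp in
theorem pow_mod_ne_one {n K : ℕ} (L : List ℕ) (hL : ∀ q ∈ L, q.Prime) (h0 : n ≠ 0)
    (h1 : n ∣ L.prod ^ K) (h2 : n < 2 ^ K)
    (h : ∀ q ∈ L, ∀ j < K, q ^ (j + 1) ∣ n → q ^ (j + 1) % p ≠ 1) (q j : ℕ) (hq : q.Prime)
    (hd : q ^ (j + 1) ∣ n) : q ^ (j + 1) % p ≠ 1 := by
  refine h q (mem_list_primes_of_dvd_prod hq.prime (fun r hr => (hL r hr).prime)
    (hq.dvd_of_dvd_pow (((dvd_pow_self q j.succ_ne_zero).trans hd).trans h1))) j ?_ hd
  have := ((Nat.pow_le_pow_left hq.two_le _).trans (Nat.le_of_dvd (Nat.pos_of_ne_zero h0) hd)).trans_lt h2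
  have := (Nat.pow_lt_pow_iff_right one_lt_two).1 this
  omega

end CL.Ord
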