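import Cfsg.Agent.SPOR.FiRec9

/-! The normal `2^11` of a Sylow `2`-subgroup of a group of type `M(23)`. -/

set_option autoImplicit false

namespace CL.FiP

open Cfsg CL.TT CL.TTU CL.FiA CL.FiC CL.FiRec

variable {G : Type*} [Group G]

theorem sylow_jp [Finite G] {A : Subgroup G} (hJ : JP ⊤ A) (hA : EA A) {n : ℕ}
    (hc : Nat.card A = n) (T : Sylow 2 G) :
    (∀ B : Subgroup G, B ≤ T → (B.subgroupOf T).Normal → IsElementaryAbelian 2 B →
        Nat.card B ≤ n) ∧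
    ∃! B : Subgroup G, B ≤ T ∧ (B.subgroupOf T).Normal ∧ IsElementaryAbelian 2 B ∧
        Nat.card B = n := by
  obtain ⟨P, hP⟩ := hA.isPGroup.exists_le_sylow
  obtain ⟨g, hg⟩ := MulAction.exists_smul_eq G P T
  have hAT : A.map (MulAut.conj g).toMonoidHom ≤ T := by
    rintro _ ⟨a, ha, rfl⟩
    rw [← hg]
    exact ⟨a, hP ha, rfl⟩
  have hJ' : JP ⊤ (A.map (MulAut.conj g).toMonoidHom) := (hJ.conj g).mono fun x _ =>
    ⟨g⁻¹ * x * g, trivial, by simp [mul_assoc]⟩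
  have hA' := hA.conj g
  have hc' : Nat.card (A.map (MulAut.conj g).toMonoidHom) = n := (CL.Misc.card_map_conj A g).trans hc
  refine ⟨fun B hB _ hE => ?_, _, ⟨hAT, ?_, ea_iff.1 hA', hc'⟩, fun B ⟨hB, _, hE, hcB⟩ => ?_⟩
  · by_contra hlt
    have := hJ'.eq_of_le hA' T.isPGroup' le_top hAT hB (ea_iff.2 hE)
      (by rw [hc']; exact le_of_not_ge hlt)
    exact hlt (by rw [this, hc'])
  · exact (Subgroup.normal_subgroupOf_iff_le_normalizer hAT).2
      (hJ'.le_normalizer hA' T.isPGroup' le_top hAT)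
  · exact hJ'.eq_of_le hA' T.isPGroup' le_top hAT hB (ea_iff.2 hE) (by rw [hc', hcB])

theorem sylow23 [Finite G] {D : Set G} (h : Is23 D) (g : Gp D) {d : G} (hd : d ∈ D)
    (T : Sylow 2 G) :
    (∀ B : Subgroup G, B ≤ T → (B.subgroupOf T).Normal → IsElementaryAbelian 2 B →
        Nat.card B ≤ 2 ^ 11) ∧
    ∃! B : Subgroup G, B ≤ T ∧ (B.subgroupOf T).Normal ∧ IsElementaryAbelian 2 B ∧
        Nat.card B = 2 ^ 11 := by
  obtain ⟨a, F, β, M⟩ := exists_M2_of h g hd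
  exact sylow_jp M.loc.jp_top M.co.ea M.co.card T

end CL.FiP
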