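import Cfsg.Agent.SPOR.Ord12d

/-! No simple groups of order `15840` or `47520`. -/

set_option autoImplicit false
open Cfsg Subgroup CL.Char
open scoped ComplexConjugate

namespace CL.Ord

variable {G : Type*} [Group G] [Finite G]

/-- Test of a signed linear relation between irreducible characters at an involution. -/
theorem list_test [IsSimpleGroup G] (hG : ¬ IsMulCommutative G) {t : G} (ht : orderOf t = 2)
    {L : List (IrrCharacter G)} (hL : (irrOne G :: L).Nodup) {s : IrrCharacter G → ℤ}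
    (hs : ∀ χ ∈ L, s χ = 1 ∨ s χ = -1) (hr : 1 + (L.map fun χ => s χ * χ.1 t).sum = 0)
    {ex : ℕ → ℤ → Bool} (hex : ∀ χ ∈ L, ∀ a : ℤ, χ.1 t = a → ex (charDegree χ.1) a = true)
    {l : List ℤ} (hl : L.map (fun χ => s χ * charDegree χ.1) = l) :
    ¬ iall (fun v => 1 + (List.zipWith (fun d a => d.sign * a) l v).sum != 0)
      (l.map fun d => (ivals (Nat.card G) (Nat.card (centralizer ({t} : Set G))) d.natAbs).filter
        (ex d.natAbs)) (Nat.card (centralizer ({t} : Set G)) - 1) = true := by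
  intro h
  subst hl
  choose! f hf using fun (χ : IrrCharacter G) (h : χ ≠ irrOne G) => inv_val hG ht h rfl
  have hX : ∀ χ ∈ L, χ ≠ irrOne G := fun χ h e => (List.nodup_cons.1 hL).1 (e ▸ h)
  have h1 := sum_le_cent hL t
  rw [List.map_cons, List.sum_cons, List.map_congr_left (g := fun χ => (((f χ).natAbs ^ 2 : ℕ) : ℝ))
    fun χ h => by rw [(hf χ (hX χ h)).1]; simp] at h1
  have h3 := iall_spec h (v := L.map f) (by
    rw [List.map_map, List.forall₂_map_left_iff, List.forall₂_map_right_iff, List.forall₂_same]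
    intro χ hχ
    simp only [Function.comp, (div_sdeg (hs χ hχ)).2.1]
    exact List.mem_filter.2 ⟨(hf χ (hX χ hχ)).2.2.2.2, hex χ hχ _ (hf χ (hX χ hχ)).1⟩) (by
      have h2 : ((1 + ((L.map f).map fun a => a.natAbs ^ 2).sum : ℕ) : ℝ) ≤
          Nat.card (centralizer ({t} : Set G)) := by
        simpa [List.map_map, Function.comp_def, irrOne_apply] using h1
      have := Nat.cast_le.1 h2
      omega)
  simp only [List.zipWith_map, List.zipWith_self, bne_iff_ne] at h3
  rw [List.map_congr_left fun χ h => by rw [(div_sdeg (hs χ h)).1]] at h3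
  rw [List.map_congr_left (g := fun χ => ((s χ * f χ : ℤ) : ℂ)) fun χ h => by
    rw [(hf χ (hX χ h)).1, Int.cast_mul]] at hr
  refine h3 (Int.cast_injective (α := ℂ) ?_)
  simpa [List.map_map, Function.comp_def] using hr

/-- The possible principal `11`-blocks for order `15840`. -/
def cfg15840 : List (List ℤ) :=
  [[-10, -10, -10, -10, -10, -10, -10, 12, 12, 45], [-10, -10, -10, -10, -10, 12, 12, 12, -32, 45],
    [-10, -10, -10, -10, -32, -32, -32, 45, 45, 45], [-10, -10, -10, 12, 12, 12, 12, -32, -32, 45],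
    [-10, -10, 12, -32, -32, -32, -32, 45, 45, 45], [-10, 12, 12, 12, 12, 12, -32, -32, -32, 45],
    [12, 12, -32, -32, -32, -32, -32, 45, 45, 45]]

theorem not_simple_15840 (hG : Nat.card G = 15840) : ¬ IsSimpleGroup G := by
  intro _
  have hc : ¬ IsMulCommutative G := CL.Small.not_comm_of_not_prime (by rw [hG]; norm_num)
  have : Fact (Nat.Prime 11) := ⟨by norm_num⟩
  have : Fact (Nat.Prime 5) := ⟨by norm_num⟩
  obtain ⟨P, e, c, D, hP, hC, -, θ, hθ, h⟩ := exists_of_surv hc (CL.D1.hasData_of_simple hc)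
    (p := 11) (by rw [hG]; norm_num) (fun _ e c s t => decide (e = 10 ∧ c = 1 ∧ ∃ l ∈ cfg15840,
      (-t) ::ₘ s = l)) (by rw [hG]; decide +kernel)
  obtain ⟨rfl, rfl, l, hl, h⟩ := of_decide_eq_true h
  obtain ⟨L, s, h1, -, h2, h3, h4⟩ := full_list D rfl hθ h
  obtain ⟨Q, e, c, -, hQ, h5, -, -, -, h6⟩ := exists_of_surv hc (CL.D1.hasData_of_simple hc)
    (p := 5) (by rw [hG]; norm_num) (fun _ _ c _ _ => decide (2 ∣ c)) (by rw [hG]; decide +kernel)
  obtain ⟨g, hg⟩ := exists_order_mul (q := 2) Q hQ (by norm_num) h5 (of_decide_eq_true h6)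
  have ht : orderOf (g ^ 5) = 2 := by rw [orderOf_pow_of_dvd (by norm_num), hg]; simp [hg]
  refine list_test hc ht h1 (fun χ h => (h3 χ h).1) (h4 _ (by rw [ht]; norm_num))
    (ex := fun d a => decide ((5 ∣ 15840 / d ∨ a % 5 = 0) ∧ (2 ∣ 15840 / d ∨ a = 0)))
    (fun χ _ a ha => decide_eq_true ⟨or_iff_not_imp_left.2 fun h => ?_,
      or_iff_not_imp_left.2 fun h => ?_⟩) h2 ?_
  · exact (χ.2.isGen.int_modEq_pow (p := 5) (by norm_num) 1 (g := g) (m := 0)
      (by simpa using vanish (q := 5) (by norm_num) rfl (hG ▸ h) (by rw [hg]; norm_num))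
      (by simpa using ha)).symm
  · exact_mod_cast ha.symm.trans (vanish Nat.prime_two rfl (hG ▸ h) ht.symm.dvd)
  have h7 : Nat.card (centralizer ({g ^ 5} : Set G)) ∈ Nat.divisors 1440 :=
    Nat.mem_divisors.2 ⟨Nat.Coprime.dvd_of_dvd_mul_left (m := 11)
      (Nat.coprime_comm.1 ((Nat.Prime.coprime_iff_not_dvd (by norm_num)).2
        (not_dvd_card_centralizer (fun x hx => (CL.D1.card_centralizer_eq P hP hx).trans hC)
          (by rintro h; simp [h] at ht) (by rw [ht]; norm_num))))
      ((card_subgroup_dvd_card _).trans hG.dvd), by norm_num⟩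
  have h8 := (hg ▸ orderOf_dvd_card_centralizer g).trans (card_centralizer_dvd_of_commute_pow g 5)
  rw [hG]
  generalize Nat.card (centralizer ({g ^ 5} : Set G)) = C at h7 h8
  clear h h2
  revert C l
  decide +kernel

theorem not_simple_47520 (hG : Nat.card G = 47520) : ¬ IsSimpleGroup G := by
  intro _
  have hc : ¬ IsMulCommutative G := CL.Small.not_comm_of_not_prime (by rw [hG]; norm_num)
  have : Fact (Nat.Prime 11) := ⟨by norm_num⟩
  have : Fact (Nat.Prime 5) := ⟨by norm_num⟩
  have : Fact (Nat.Prime 3) := ⟨by norm_num⟩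
  obtain ⟨P, e, c, D, hP, hC, hN, θ, hθ, h⟩ := exists_of_surv hc (CL.D1.hasData_of_simple hc)
    (p := 11) (by rw [hG]; norm_num) (fun _ e c s t => decide (e = 10 ∧ c = 3 ∧ 45 ∈ s))
    (by rw [hG]; decide +kernel)
  obtain ⟨rfl, rfl, h'⟩ := of_decide_eq_true h
  obtain ⟨χ, hχ, h1⟩ := Multiset.mem_map.1 h'
  obtain ⟨hd, -⟩ := deg_of_sdeg (D.δ_sign χ hχ) h1
  obtain ⟨S, s, -, -, h6, h7, -⟩ := full_data D rfl
  obtain ⟨h8, h9⟩ := h7 χ ((h6 χ).2 (.inl hχ))
  obtain ⟨x, hxP, hx⟩ := CL.Small.exists_mem_orderOf_eq_prime (P : Subgroup G) 11 (by rw [hP])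
  have a3 := int_mod_of_val hx (h9 x (by rw [hx])) hd
  set N := (centralizer ((P : Subgroup G) : Set G)).subgroupOf
    (normalizer ((P : Subgroup G) : Set G))
  have h0 := card_mul_index N
  have h2 : Nat.card N = 3 ^ 1 * 11 := (Nat.card_congr (subgroupOfEquivOfLe
    (centralizer_le_normalizer (s := ((P : Subgroup G) : Set G)))).toEquiv).trans hC
  obtain ⟨T⟩ : Nonempty (Sylow 3 N) := inferInstance
  have h3 : Nat.card ((T : Subgroup N).map N.subtype) = 3 := by
    rw [card_map_of_injective N.subtype_injective,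
      CL.Small.card_sylow_eq_of_factor T h2 (by norm_num), pow_one]
  obtain ⟨y, hy, h4⟩ := CL.Small.exists_mem_orderOf_eq_prime _ 3 h3.symm.dvd
  have h5 := index_dvd_of_sup T.normalizer_sup_eq_top
  have h10 := CL.Small.relIndex_centralizer_dvd_of_card_prime _ h3
  obtain ⟨w, hw, h11⟩ := CL.Small.exists_mem_orderOf_eq_prime
    (centralizer (SetLike.coe ((T : Subgroup N).map N.subtype))) 5 (by
      rw [h2, hN] at h0
      rw [← CL.Small.card_centralizer_mul_relIndex, show N.index = 10 by omega] at h5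
      exact Nat.Coprime.dvd_of_dvd_mul_right (Nat.Coprime.coprime_dvd_right h10 (by norm_num))
        (Dvd.dvd.trans (by norm_num) h5))
  rw [← Subgroup.orderOf_coe] at h4 h11
  have y3 : (y : G) ^ 3 = 1 := h4 ▸ pow_orderOf_eq_one _
  obtain ⟨f, hf, -⟩ := CL.Small.exists_fixDim χ.2.isCharacter
  have := Fintype.ofFinite (zpowers (y : G))
  have e1 : χ.1 y + χ.1 (y * y) = (3 * f (zpowers (y : G)) - 45 : ℤ) := by
    have := hf (zpowers (y : G))
    rw [← (finEquivZPowers (isOfFinOrder_of_finite (y : G))).sum_comp, Nat.card_zpowers] at this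
    simp only [finEquivZPowers_apply] at this
    rw [Fin.sum_univ_eq_sum_range (fun i => χ.1 ((y : G) ^ i)), h4] at this
    simp only [Finset.sum_range_succ, Finset.range_zero, Finset.sum_empty, pow_zero, pow_one,
      χ.2.apply_one_eq_charDegree, hd, sq] at this
    push_cast at this ⊢
    linear_combination this
  have key : ∀ {p : ℕ} {u : G} {m : ℤ}, p.Prime → p ≠ 2 → p % 3 = 2 → orderOf u = p → Commute u y →
      (∀ g, p ∣ orderOf g → χ.1 g = m) → 2 * m ≡ 3 * f (zpowers (y : G)) - 45 [ZMOD p] := by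
    intro p u m hp h2 h3 hu hc hm
    have h1 : orderOf (u * y ^ 2) = p * 3 := by
      rw [(hc.pow_right 2).orderOf_mul_eq_mul_orderOf_of_coprime, hu, (Nat.Coprime.orderOf_pow
        (by rw [h4]; norm_num)), h4]
      rw [hu, Nat.Coprime.orderOf_pow (by rw [h4]; norm_num), h4]
      exact (Nat.coprime_primes hp (by norm_num)).2 (by omega)
    refine (χ.2.isGen.add χ.2.isGen.comp_sq).int_modEq_pow hp 1 (g := u * y ^ 2) ?_ ?_
    · rw [Pi.add_apply, hm _ (by simp [h1]), hm _ (by
        rw [← sq, Nat.Coprime.orderOf_pow (by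
          rw [h1]; exact Nat.Coprime.mul_left ((Nat.coprime_primes hp Nat.prime_two).2 h2)
            (by norm_num)), h1]; simp)]
      push_cast; ring
    · rw [pow_one, (hc.pow_right 2).mul_pow, ← hu, pow_orderOf_eq_one, hu, one_mul, ← pow_mul,
        show 2 * p = 3 * (2 * (p / 3) + 1) + 1 by omega, pow_succ, pow_mul, y3, one_pow, one_mul]
      exact e1
  have k1 := key (by norm_num) (by norm_num) rfl hx (map_subtype_le _ hy x hxP) h9
  have k2 := key (m := 0) (by norm_num) (by norm_num) rfl h11 (congrArg Subtype.val (hw y hy)).symm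
    fun g hg => by simpa using vanish (q := 5) (by norm_num) hd (by rw [hG]; norm_num) hg
  have n1 := norm_lt_deg hc (D.ne_one (.inl hχ)) (g := y) (by rintro h; simp [h] at h4)
  have n2 := χ.2.isCharacter.norm_le ((y : G) * y)
  have n3 := (norm_add_le _ _).trans_lt (add_lt_add_of_lt_of_le n1 n2)
  rw [e1, hd, Complex.norm_intCast, ← Int.cast_abs] at n3
  replace n3 := abs_lt.1 (show |(3 * f (zpowers (y : G)) - 45 : ℤ)| < 90 by
    rw [← Int.cast_lt (R := ℝ)]; exact n3.trans_eq (by norm_num))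
  unfold Int.ModEq at k1 k2
  omega

end CL.Ord
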