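import Cfsg.Agent.SPOR.OrdU3b
import Cfsg.Agent.SOLV.CoprimeGen
import Cfsg.Agent.SOLV.PGroupCyclicSCN
import Cfsg.Agent.INV.FixDim
import Cfsg.Agent.INV.SylowAux
import Cfsg.Agent.INV.U3Ch.Rank

/-! A simple group with the order and the degrees of `U₃(7)` has `2`-rank at most two. -/

set_option autoImplicit false
open Cfsg Subgroup CL.Ord CL.Small
open scoped commutatorElement

namespace CL.OU

variable {G : Type*} [Group G] [Fintype G] {f : G → ℤ}

/-- The local structure at the prime `7`. -/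
structure L7 (G : Type*) [Group G] [Fact (Nat.Prime 7)] (P : Sylow 7 G) (w : G) : Prop where
  card : Nat.card P = 343
  mem : w ∈ (P : Subgroup G)
  ord : orderOf w = 7
  cen : (P : Subgroup G) ≤ centralizer {w}
  cw : Nat.card (centralizer ({w} : Set G)) = 2744
  nc : ¬ IsMulCommutative (P : Subgroup G)
  cc : ∀ x ∈ (P : Subgroup G), ∀ s : G, 2 ∣ orderOf s → Commute s x → x ∈ zpowers w
  sr : ∀ A Y : Subgroup G, zpowers w ≤ A → A ≤ P → Y ≤ normalizer (A : Set G) →
    4 ∣ Nat.card Y → Nat.card A ≠ 49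

theorem local7 [Fact (Nat.Prime 7)] (h : Hy 7 343 384 43 42 f) :
    Nat.card (Sylow 7 G) = 344 ∧ (∀ P R : Sylow 7 G, P ≠ R → (P : Subgroup G) ⊓ R = ⊥) ∧
      ∀ P : Sylow 7 G, ∃ w, L7 G P w := by
  have hQ : 343 = 7 ^ 3 := rfl
  have hm : ¬ 7 ∣ 384 * 43 := by norm_num
  obtain ⟨v, hv, ⟨j, h1, h2⟩, hz⟩ := h.single hQ hm (W := 7) (by norm_num) (by norm_num)
    fun u hu j _ => (Int.natCast_dvd.1 (h.modp u hu)).mul_left j
  have hz' := h.val_or hz
  have hn : ∀ P : Sylow 7 G, f v = -7 ∧ (tr f (f v) P).ncard = 6 ∧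
      ¬ IsMulCommutative (P : Subgroup G) := fun P => by
    obtain ⟨a, b, ha, hb, hc⟩ := h.sums hz' P.2
    rw [h.card_sylow hQ hm] at ha hb
    have h3 := h.modp v hv
    have h4 := Nat.le_of_dvd (by norm_num) (Dvd.intro_left _ h1)
    have h5 : f v ≠ 0 := fun e => by simp [e] at h1
    have : f v = 7 ∨ f v = -7 := by omega
    rcases this with e | e <;> rw [e] at ha hb ⊢
    · omega
    · exact ⟨rfl, by omega, fun e => by have := hc e; omega⟩
  obtain ⟨P⟩ : Nonempty (Sylow 7 G) := inferInstance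
  have hv7 := (hn P).1
  have hC : ∀ (P : Sylow 7 G), ∀ u ∈ tr f (f v) P,
      Nat.card (centralizer ({u} : Set G)) = 2744 := fun P u hu => by
    rw [card_centralizer_eq_of_isConj ((hz u (mem_pel_of P.2 hu.1 hu.2.1)).resolve_left
      (by rw [hu.2.2]; omega))]
    rw [hv7] at h1 h2
    obtain rfl : j = 1 := by simpa using h1
    simpa using h2
  have cen : ∀ (P : Sylow 7 G), ∀ w ∈ tr f (f v) P, (P : Subgroup G) ≤ centralizer {w} := by
    intro P w hw
    by_contra e
    have b1 := CL.Cnt.dvd_ncard_of_conj_elem (q := 7) (P : Subgroup G)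
      (S := {x ∈ tr f (f v) P | ¬ (P : Subgroup G) ≤ centralizer {x}})
      (fun g hg x hx => ⟨h.conj_tr (le_normalizer hg) hx.1,
        fun e => hx.2 fun y hy => mem_centralizer_singleton_iff.2 (by
          have := mem_centralizer_singleton_iff.1 (e (mul_mem (mul_mem hg hy) (inv_mem hg)))
          calc y * x = g⁻¹ * (g * y * g⁻¹ * (g * x * g⁻¹)) * g := by group
            _ = _ := by rw [this]; group)⟩) fun x hx => by
        obtain ⟨i, -, hi⟩ := (Nat.dvd_prime_pow (by norm_num)).1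
          (hQ ▸ h.card_sylow hQ hm P ▸ relIndex_dvd_card (centralizer {x}) (P : Subgroup G))
        exact hi ▸ dvd_pow_self 7 (by rintro rfl; exact hx.2 (relIndex_eq_one.1 hi))
    have b2 := Set.ncard_le_ncard (Set.sep_subset (tr f (f v) P)
      fun x => ¬ (P : Subgroup G) ≤ centralizer {x})
    have := Nat.le_of_dvd ((Set.ncard_pos).2 ⟨w, by exact ⟨hw, e⟩⟩) b1
    have := (hn P).2.1
    omega
  have zp : ∀ (P : Sylow 7 G), ∀ w ∈ tr f (f v) P,
      orderOf w = 7 ∧ tr f (f v) P = (zpowers w : Set G) \ {1} := fun P w hw => by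
    obtain ⟨-, i, hi⟩ := mem_pel.1 (mem_pel_of P.2 hw.1 hw.2.1)
    have hi0 : i ≠ 0 := by rintro rfl; exact hw.2.1 (orderOf_eq_one_iff.1 hi)
    have b1 : ∀ k, ¬ 7 ∣ k → w ^ k ∈ tr f (f v) P := fun k hk => ⟨pow_mem hw.1 k,
      fun e => hk ((hi ▸ dvd_pow_self 7 hi0).trans (orderOf_dvd_of_pow_eq_one e)),
      (h.pow w k (hi ▸ Nat.Coprime.pow_right i
        ((Nat.Prime.coprime_iff_not_dvd (by norm_num)).2 hk).symm)).trans hw.2.2⟩
    have b2 : orderOf w = 7 := by
      by_contra e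
      have c1 : 7 ^ 2 ≤ orderOf w := hi ▸ Nat.pow_le_pow_right (by norm_num) (by
        by_contra c; exact e (by rw [hi, show i = 1 by omega, pow_one]))
      have := Set.ncard_le_ncard_of_injOn (s := (({1, 2, 3, 4, 5, 6, 8} : Finset ℕ) : Set ℕ))
        (w ^ ·) (fun k hk => b1 k (by simp at hk; omega))
        (pow_injOn_Iio_orderOf.mono fun k hk => by simp at hk ⊢; omega)
      rw [(hn P).2.1, Set.ncard_coe_finset] at this
      exact absurd this (by decide)
    refine ⟨b2, (Set.eq_of_subset_of_ncard_le ?_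
      (by rw [ncard_sdiff_one, Nat.card_zpowers, b2, (hn P).2.1])).symm⟩
    rintro x ⟨hx, hx1⟩
    obtain ⟨k, rfl⟩ := mem_powers_iff_mem_zpowers.2 hx
    exact b1 k fun e => hx1 (orderOf_dvd_iff_pow_eq_one.1 (b2 ▸ e))
  have sr : ∀ (P : Sylow 7 G), ∀ w ∈ tr f (f v) P, ∀ A Y : Subgroup G, zpowers w ≤ A → A ≤ P →
      Y ≤ normalizer (A : Set G) → 4 ∣ Nat.card Y → Nat.card A ≠ 49 := by
    intro P w hw A Y b1 b2 b3 b4 b5
    have := h.dvd_sub hQ hm hz' (P.2.to_le b2) b3 b4 (by norm_num)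
    rw [show tr f (f v) A = tr f (f v) P from Set.ext fun x => ⟨fun e => ⟨b2 e.1, e.2⟩,
      fun e => ⟨b1 ((zp P w hw).2 ▸ e).1, e.2⟩⟩, (hn P).2.1, b5] at this
    omega
  have uq : ∀ P R : Sylow 7 G, ∀ u ∈ tr f (f v) P, u ∈ (R : Subgroup G) → P = R := by
    intro P R u hu huR
    by_contra e
    have hR := cen R u ⟨huR, hu.2⟩
    have b1 := (((R : Subgroup G).subgroupOf (centralizer {u}))).card_mul_index
    rw [Nat.card_congr (subgroupOfEquivOfLe hR).toEquiv, h.card_sylow hQ hm, hC P u hu] at b1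
    have b2 := relIndex_le_of_le_right (H := (R : Subgroup G)) (cen P u hu)
      (fun e => by rw [relIndex] at e; omega)
    obtain ⟨i, -, hi⟩ := (Nat.dvd_prime_pow (by norm_num)).1
      (hQ ▸ h.card_sylow hQ hm P ▸ relIndex_dvd_card (R : Subgroup G) (P : Subgroup G))
    have b3 : (R : Subgroup G).relIndex P = 7 := by
      have c1 : i ≠ 0 := by rintro rfl; exact e (sylow_eq_of_le (relIndex_eq_one.1 hi))
      have c2 : i < 2 := (Nat.pow_lt_pow_iff_right (a := 7) (by norm_num)).1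
        (by rw [← hi]; rw [relIndex.eq_def _ (centralizer {u})] at b2; omega)
      rw [hi, show i = 1 by omega, pow_one]
    have b4 := CL.Small.card_inf_mul_relIndex (R : Subgroup G) (P : Subgroup G)
    rw [b3, h.card_sylow hQ hm] at b4
    obtain ⟨s, t, c1, c2, c3, c4, -⟩ := card_of_two_sylow_le e
      (H := centralizer {u} ⊓ normalizer (((P : Subgroup G) ⊓ R : Subgroup G) : Set G))
      (le_inf (cen P u hu) (le_normalizer_of_relIndex_prime P.2 inf_le_left
        ((inf_relIndex_left _ _).trans b3)))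
      (le_inf hR (le_normalizer_of_relIndex_prime R.2 inf_le_right
        ((inf_relIndex_right _ _).trans ((relIndex_inf_comm P R).symm.trans b3))))
    have c5 := card_dvd_of_le (inf_le_left : centralizer {u} ⊓
      normalizer (((P : Subgroup G) ⊓ R : Subgroup G) : Set G) ≤ _)
    rw [c1, h.card_sylow hQ hm, hC P u hu] at c5
    have c6 : s ∣ 8 := Nat.dvd_of_mul_dvd_mul_left (by norm_num : 0 < 343) c5
    have c7 := Nat.le_of_dvd (by norm_num) (c2.trans c6)
    obtain rfl : t = 8 := by omega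
    exact sr P u hu ((P : Subgroup G) ⊓ R) _ (zpowers_le.2 ⟨hu.1, huR⟩) inf_le_left inf_le_right
      (c1 ▸ (Dvd.dvd.trans (by norm_num) c2).mul_left _) (by omega)
  have hs := h.card_syl hv (by omega) hz (fun P => (hn P).2.1) uq
  have h3 := (centralizer ({v} : Set G)).card_mul_index
  obtain ⟨R, hR⟩ := exists_sylow_mem (mem_pel.1 hv).2.choose_spec
  rw [hC R v ⟨hR, (mem_pel.1 hv).1, rfl⟩, h.card] at h3
  have ex : ∀ P : Sylow 7 G, (tr f (f v) P).Nonempty := fun P =>
    Set.nonempty_of_ncard_ne_zero (by rw [(hn P).2.1]; norm_num)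
  refine ⟨by omega, fun P R e => eq_bot_iff.2 fun u hu => by_contra fun h1 => ?_, fun P => ?_⟩
  · have b := mem_pel_of P.2 hu.1 h1
    rcases hz' u b with b1 | b1
    · obtain ⟨i, -, hi⟩ := (Nat.dvd_prime_pow (by norm_num)).1 (hQ ▸ h.cent_zero hQ hm b b1)
      obtain ⟨S, hS⟩ := (IsPGroup.of_card hi).exists_le_sylow
      have : ∀ P : Sylow 7 G, u ∈ (P : Subgroup G) → P = S := fun P hP =>
        uq P S _ (ex P).some_mem (hS (mem_centralizer_singleton_iff.2
          (mem_centralizer_singleton_iff.1 (cen P _ (ex P).some_mem hP)).symm))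
      exact e ((this P hu.1).trans (this R hu.2).symm)
    · exact e (uq P R u ⟨hu.1, h1, b1⟩ hu.2)
  · obtain ⟨w, hw⟩ := ex P
    refine ⟨w, h.card_sylow hQ hm P, hw.1, (zp P w hw).1, cen P w hw, hC P w hw, (hn P).2.2,
      fun x hx s hs hc => ?_, sr P w hw⟩
    by_cases e : x = 1
    · exact e ▸ one_mem _
    have b := mem_pel_of P.2 hx e
    exact ((zp P w hw).2 ▸ ⟨hx, e, (hz' x b).resolve_left (h.ne_zero hQ hm b Nat.prime_two
      (by norm_num) hs hc)⟩ : x ∈ (zpowers w : Set G) \ {1}).1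

namespace L7

variable [Fact (Nat.Prime 7)] {P : Sylow 7 G} {w : G} (s : L7 G P w)
include s

theorem comm {x z : G} (hx : x ∈ (P : Subgroup G)) (hz : z ∈ zpowers w) : Commute x z := by
  obtain ⟨i, rfl⟩ := hz
  exact Commute.zpow_right (mem_centralizer_singleton_iff.1 (s.cen hx)) i

theorem card_zp : Nat.card (zpowers w) = 7 := (Nat.card_zpowers w).trans s.ord

theorem commutator_mem {a b : G} (ha : a ∈ (P : Subgroup G)) (hb : b ∈ (P : Subgroup G)) :
    ⁅a, b⁆ ∈ zpowers w := by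
  have : ((zpowers w).subgroupOf P).Normal := ⟨fun n hn g => by
    rw [mem_subgroupOf] at hn ⊢
    simpa [(s.comm g.2 hn).eq] using hn⟩
  have h1 := ((zpowers w).subgroupOf P).card_mul_index
  rw [Nat.card_congr (subgroupOfEquivOfLe (zpowers_le.2 s.mem)).toEquiv, s.card_zp, s.card] at h1
  have h2 := IsPGroup.isMulCommutative_of_card_eq_prime_sq (p := 7)
    (G := (P : Subgroup G) ⧸ (zpowers w).subgroupOf P) (by rw [← index]; omega)
  have h3 : ⁅(⟨a, ha⟩ : (P : Subgroup G)), ⟨b, hb⟩⁆ ∈ (zpowers w).subgroupOf P := by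
    rw [← QuotientGroup.eq_one_iff, ← QuotientGroup.mk'_apply, map_commutatorElement,
      commutatorElement_eq_one_iff_mul_comm]
    exact h2.is_comm.comm _ _
  exact h3

theorem of_comm {g c : G} (hc : c ∈ zpowers w) (h1 : c ≠ 1) (h : g * c * g⁻¹ = c) :
    Commute g w := by
  obtain ⟨i, hi⟩ := eq_zpowers_of_card_prime s.card_zp hc h1 ▸ mem_zpowers w
  exact hi ▸ Commute.zpow_right (mul_inv_eq_iff_eq_mul.1 h) i

theorem conj_mem {g : G} (hg : g ∈ normalizer ((P : Subgroup G) : Set G)) :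
    g * w * g⁻¹ ∈ zpowers w := by
  have := Fact.mk Nat.prime_two
  obtain ⟨t, h1, h2⟩ := exists_mem_orderOf_eq_prime (centralizer {g * w * g⁻¹}) 2 (by
    rw [card_centralizer_eq_of_isConj (isConj_iff.2 ⟨g, rfl⟩), s.cw]; norm_num)
  exact s.cc _ ((mem_normalizer_iff.1 hg w).1 s.mem) t h2.symm.dvd
    (mem_centralizer_singleton_iff.1 h1)

theorem comm_comm {a b : G} (ha : a ∈ normalizer ((P : Subgroup G) : Set G))
    (hb : b ∈ normalizer ((P : Subgroup G) : Set G)) : ⁅a, b⁆ ∈ centralizer ({w} : Set G) := by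
  obtain ⟨i, hi⟩ := s.conj_mem ha
  obtain ⟨j, hj⟩ := s.conj_mem hb
  obtain ⟨k, hk⟩ := s.conj_mem (inv_mem (mul_mem hb ha))
  have : a * b * w * (a * b)⁻¹ = b * a * w * (b * a)⁻¹ := by
    calc _ = a * (b * w * b⁻¹) * a⁻¹ := by group
      _ = b * (a * w * a⁻¹) * b⁻¹ := by
        simp only [← hi, ← hj, ← conj_zpow, ← zpow_mul, mul_comm]
      _ = _ := by group
  refine mem_centralizer_singleton_iff.2 (mul_inv_eq_iff_eq_mul.1 ?_)
  calc _ = a * b * ((b * a)⁻¹ * w * (b * a)⁻¹⁻¹) * (a * b)⁻¹ := by group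
    _ = b * a * ((b * a)⁻¹ * w * (b * a)⁻¹⁻¹) * (b * a)⁻¹ := by rw [← hk, ← conj_zpow, this, conj_zpow]
    _ = _ := by group

/-- an involution normalizing `P` inverts `P / Z` -/
theorem inv {t x : G} (ht : orderOf t = 2) (hg : t ∈ normalizer ((P : Subgroup G) : Set G))
    (hx : x ∈ (P : Subgroup G)) : ∃ z ∈ zpowers w, t * x * t⁻¹ = x⁻¹ * z := by
  have h1 := (mem_normalizer_iff.1 hg x).1 hx
  have h2 : t * t = 1 := by rw [← sq, ← ht, pow_orderOf_eq_one]
  have h3 : t⁻¹ = t := inv_eq_of_mul_eq_one_left h2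
  set y := t * x * t⁻¹ with hy
  have h4 : t * y * t⁻¹ = x := by
    rw [hy, h3, ← mul_assoc, ← mul_assoc, h2, mul_assoc, h2, one_mul, mul_one]
  have h5 := s.commutator_mem (inv_mem h1) (inv_mem hx)
  set z := ⁅y⁻¹, x⁻¹⁆ with hz
  have h6 : t * z * t⁻¹ = z⁻¹ := by
    rw [hz, conjugate_commutatorElement, commutatorElement_inv, ← conj_inv, ← conj_inv, h4]
  have h7 : z ^ 7 = 1 := by
    rw [← s.card_zp]; exact congrArg Subtype.val (pow_card_eq_one' (x := (⟨z, h5⟩ : zpowers w)))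
  have h8 := s.cc (x * y * z ^ 4) (mul_mem (mul_mem hx h1) (pow_mem (zpowers_le.2 s.mem h5) 4))
    t ht.symm.dvd (mul_inv_eq_iff_eq_mul.1 (by
      calc t * (x * y * z ^ 4) * t⁻¹ = y * (t * y * t⁻¹) * (t * z * t⁻¹) ^ 4 := by
            rw [conj_pow, hy]; group
        _ = x * y * z * (z ^ 7 * z⁻¹ ^ 4) := by rw [h4, h6, h7, hz]; group
        _ = _ := by group))
  exact ⟨x * y, (mul_mem_cancel_right (pow_mem h5 4)).1 h8, by group⟩

theorem four {r : G} (hr : r ^ 4 = 1) (hg : r ∈ normalizer ((P : Subgroup G) : Set G)) :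
    Commute r w := by
  have key : ∀ a ∈ (P : Subgroup G), ∀ b ∈ (P : Subgroup G), ∀ z ∈ zpowers w,
      ⁅b, a⁻¹ * z⁆ = ⁅a, b⁆ := fun a ha b hb z hz => by
    calc _ = b * (a⁻¹ * (z * b⁻¹ * z⁻¹) * a) := by group
      _ = a⁻¹ * ⁅a, b⁆ * a := by rw [← (s.comm (inv_mem hb) hz).eq]; group
      _ = _ := by rw [(s.comm (inv_mem ha) (s.commutator_mem ha hb)).eq]; group
  obtain ⟨a, ha, b, hb, hab⟩ : ∃ a ∈ (P : Subgroup G), ∃ b ∈ (P : Subgroup G), ⁅a, b⁆ ≠ 1 := by
    by_contra! e
    exact s.nc ⟨⟨fun a b => Subtype.ext (commutatorElement_eq_one_iff_mul_comm.1 (e a a.2 b b.2))⟩⟩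
  rcases (Nat.dvd_prime_pow Nat.prime_two (m := 2)).1 (orderOf_dvd_of_pow_eq_one hr) with
    ⟨i, hi, e⟩
  interval_cases i
  · simp [orderOf_eq_one_iff.1 e]
  · obtain ⟨z, hz, h1⟩ := s.inv e hg ha
    obtain ⟨z', hz', h2⟩ := s.inv e hg hb
    refine s.of_comm (s.commutator_mem ha hb) hab ?_
    have := zpowers_le.2 s.mem hz
    rw [conjugate_commutatorElement, h1, h2, key b hb _ (mul_mem (inv_mem ha) this) _ hz',
      key a ha b hb z hz]
  by_contra h
  have h1 := (mem_normalizer_iff.1 hg a).1 ha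
  obtain ⟨z, hz, h2⟩ := s.inv (orderOf_sq_of_four e) (pow_mem hg 2) ha
  have h3 : ⁅a, r * a * r⁻¹⁆ = 1 := by_contra fun h3 =>
    h (s.of_comm (s.commutator_mem ha h1) h3 (by
      rw [conjugate_commutatorElement, ← key a ha _ h1 z hz, ← h2, sq]; congr 1; group))
  have h4 : ∀ x ∈ (P : Subgroup G), x ∉ zpowers w → ¬ (P : Subgroup G) ≤ centralizer {x} →
      Nat.card ((P : Subgroup G) ⊓ centralizer {x} : Subgroup G) = 49 := fun x hx h1 h2 => by
    obtain ⟨i, hi, e⟩ := (Nat.dvd_prime_pow (by norm_num : Nat.Prime 7) (m := 3)).1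
      (s.card ▸ card_dvd_of_le (inf_le_left : (P : Subgroup G) ⊓ centralizer {x} ≤ P))
    have b1 : zpowers w < (P : Subgroup G) ⊓ centralizer {x} := lt_of_le_of_ne
      (zpowers_le.2 ⟨s.mem, mem_centralizer_singleton_iff.2 (s.comm hx (mem_zpowers w)).symm⟩)
      fun e => h1 (e ▸ ⟨hx, mem_centralizer_singleton_iff.2 rfl⟩)
    have b2 := card_lt_of_lt b1
    have b3 := card_lt_of_lt (lt_of_le_of_ne inf_le_left fun e => h2 (inf_eq_left.1 e))
    rw [s.card_zp] at b2
    rw [s.card] at b3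
    interval_cases i <;> omega
  have h5 : ¬ (P : Subgroup G) ≤ centralizer {a} := fun e => hab
    (commutatorElement_eq_one_iff_mul_comm.2 (mem_centralizer_singleton_iff.1 (e hb)).symm)
  have h6 : a ∉ zpowers w := fun e => h5 fun x hx => mem_centralizer_singleton_iff.2 (s.comm hx e)
  have h7 := h4 a ha h6 h5
  have h8 := IsPGroup.isMulCommutative_of_card_eq_prime_sq (p := 7) h7
  set A := (P : Subgroup G) ⊓ centralizer {a}
  have h9 : r * a * r⁻¹ ∈ A := ⟨h1, mem_centralizer_singleton_iff.2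
    (commutatorElement_eq_one_iff_mul_comm.1 h3).symm⟩
  refine s.sr A (zpowers r) (zpowers_le.2 ⟨s.mem, mem_centralizer_singleton_iff.2
    (s.comm ha (mem_zpowers w)).symm⟩) inf_le_left (zpowers_le.2 (inv_mem_iff.1
      (mem_normalizer_fintype fun x hx => ⟨(mem_normalizer_iff.1 (inv_mem hg) x).1 hx.1,
        mem_centralizer_singleton_iff.2 ?_⟩))) (by rw [Nat.card_zpowers, e]; norm_num) h7
  have : x * (r * a * r⁻¹) = r * a * r⁻¹ * x :=
    congrArg Subtype.val (h8.is_comm.comm ⟨x, hx⟩ ⟨_, h9⟩)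
  calc _ = r⁻¹ * (x * (r * a * r⁻¹)) * r := by group
    _ = _ := by rw [this]; group

theorem isCyclic {D : Subgroup G} (hD : D ≤ normalizer ((P : Subgroup G) : Set G))
    (hc : Nat.card D = 48) : IsCyclic D := by
  have := Fact.mk Nat.prime_two
  have := Fact.mk Nat.prime_three
  have h1 : Nat.card (D ⊓ centralizer {w} : Subgroup G) ∣ 8 := by
    have b1 := CL.Small.card_sup_of_disjoint (P := (P : Subgroup G)) (K := D ⊓ centralizer {w})
      (inf_le_left.trans hD) fun x hx h => orderOf_eq_one_iff.1 (Nat.eq_one_of_dvd_coprimes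
        (show Nat.Coprime 343 48 by norm_num) (s.card ▸ orderOf_dvd_card_of_mem hx)
        (hc ▸ orderOf_dvd_card_of_mem h.1))
    have b2 := card_dvd_of_le (sup_le s.cen inf_le_right :
      (P : Subgroup G) ⊔ D ⊓ centralizer {w} ≤ _)
    rw [b1, s.card, s.cw] at b2
    exact Nat.dvd_of_mul_dvd_mul_left (by norm_num : 0 < 343) b2
  obtain ⟨T⟩ : Nonempty (Sylow 2 D) := inferInstance
  have hT : Nat.card T = 16 := card_sylow_eq_of_factor T (a := 4) (m := 3) hc (by norm_num)
  have h2 : IsCyclic (T : Subgroup D) := by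
    rcases CL.PCyc.isCyclic_or_elemAb_or_quaternion T.2 with e | ⟨E, hE, e⟩ | ⟨-, n, ⟨e⟩⟩
    · exact e
    · have := hE.1
      let φ := D.subtype.comp (T : Subgroup D).subtype
      have hφ : Function.Injective φ := D.subtype_injective.comp (subtype_injective _)
      have := card_le_of_le (CL.coprime_le_of_forall_centralizer_le (E.map φ) (P : Subgroup G)
        (zpowers w) (fun b => CL.PCyc.not_isCyclic_of_elemAb Nat.prime_two hE (by omega)
          ((E.equivMapOfInjective φ hφ).isCyclic.2 b))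
        (by rintro _ ⟨g, -, rfl⟩; exact hD g.1.2)
        (by rw [card_map_of_injective hφ, e, s.card]; norm_num) (by
          rintro _ ⟨g, hg, rfl⟩ h1 x hx
          refine s.cc x hx.1 _ ?_ (mem_centralizer_singleton_iff.1 hx.2).symm
          rw [orderOf_injective φ hφ, orderOf_eq_prime (hE.2 g hg) fun e => h1 (by simp [e])]))
      rw [s.card, s.card_zp] at this
      omega
    · have b1 := Nat.card_congr e.toEquiv
      rw [hT, Nat.card_eq_fintype_card, QuaternionGroup.card] at b1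
      obtain rfl : n = 1 := Nat.succ_injective (Nat.pow_right_injective le_rfl
        (show 2 ^ (n + 1) = 2 ^ 2 by omega))
      have b2 := Nat.card_le_card_of_injective
        (fun x : {x : QuaternionGroup (2 ^ (1 + 1)) // x ^ 4 = 1} =>
          (⟨(e.symm x).1.1, (e.symm x).1.2, mem_centralizer_singleton_iff.2 (s.four (by
            rw [← coe_pow, ← coe_pow, ← map_pow, x.2, map_one]; rfl) (hD (e.symm x).1.2))⟩ :
            (D ⊓ centralizer {w} : Subgroup G)))
        fun x y h => Subtype.ext (e.symm.injective (Subtype.ext (Subtype.ext (congrArg (·.1) h))))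
      rw [Nat.card_eq_fintype_card, show Fintype.card _ = 12 by decide] at b2
      have := Nat.le_of_dvd (by norm_num) h1
      omega
  obtain ⟨N, hN, h3⟩ := CL.SylowAux.exists_normal_complement_of_isCyclic T h2
  have h4 := h3.card_mul_card
  rw [hT, hc] at h4
  obtain ⟨a, ha⟩ := h2.exists_ofOrder_eq_natCard
  obtain ⟨b, hb, hb3⟩ := exists_mem_orderOf_eq_prime N 3 (by omega)
  have h5 : Commute (a : D) b := by
    rw [← commutatorElement_eq_one_iff_commute, ← orderOf_eq_one_iff]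
    refine Nat.eq_one_of_dvd_coprimes (show Nat.Coprime 3 8 by norm_num) ?_ ?_
    · rw [← show Nat.card N = 3 by omega]
      exact orderOf_dvd_card_of_mem (mul_mem (hN.conj_mem b hb a) (inv_mem hb))
    · rw [← orderOf_coe]
      exact (orderOf_dvd_card_of_mem (H := D ⊓ centralizer {w})
        ⟨⁅(a : D), b⁆.2, s.comm_comm (hD a.1.2) (hD b.2)⟩).trans h1
  rw [hT, ← orderOf_coe] at ha
  exact isCyclic_of_orderOf_eq_card ((a : D) * b) (by
    rw [h5.orderOf_mul_eq_mul_orderOf_of_coprime (by rw [ha, hb3]; norm_num), ha, hb3, hc])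

end L7

theorem rank7 [IsSimpleGroup G] (h : Hy 7 343 384 43 42 f) : PRankLE 2 2 G := by
  have := Fact.mk (show Nat.Prime 7 by norm_num)
  obtain ⟨h1, h2, h3⟩ := local7 h
  have fr : ∀ P R : Sylow 7 G, P ≠ R → ∀ u ∈ (P : Subgroup G),
      u ∈ normalizer ((R : Subgroup G) : Set G) → u = 1 := fun P R e u hu hR =>
    mem_bot.1 (h2 P R e ▸ ⟨hu, mem_sylow_of_mem_normalizer R (orderOf_mem_sylow P hu).choose_spec hR⟩)
  have tr : ∀ P R X : Sylow 7 G, R ≠ P → X ≠ P → ∃ u ∈ (P : Subgroup G), u • R = X := by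
    intro P R X hR hX
    have b1 := card_orbit_sylow P.2 R
    rw [← inf_relIndex_right, h2 R P hR, relIndex_bot_left, (h3 P).choose_spec.card] at b1
    have b2 := Set.eq_of_subset_of_ncard_le (s := MulAction.orbit (P : Subgroup G) R)
      (t := Set.univ \ {P}) (by
        rintro _ ⟨u, rfl⟩
        refine ⟨trivial, fun e => hR ?_⟩
        rw [← inv_smul_smul (u : G) R, show (u : G) • R = P from e]
        exact smul_sylow_eq_iff.2 (le_normalizer (inv_mem u.2)))
      (by rw [Set.ncard_sdiff_singleton_of_mem (Set.mem_univ P), Set.ncard_univ, h1]; exact b1.ge)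
    obtain ⟨u, hu⟩ := (b2 ▸ ⟨trivial, hX⟩ : X ∈ MulAction.orbit (P : Subgroup G) R)
    exact ⟨u, u.2, hu⟩
  obtain ⟨P, R, e⟩ := (Finite.one_lt_card_iff_nontrivial.1 (by omega) :
    Nontrivial (Sylow 7 G)).exists_pair_ne
  obtain ⟨w, s⟩ := h3 P
  obtain ⟨g, hg⟩ := MulAction.exists_smul_eq G P R
  set D := normalizer ((P : Subgroup G) : Set G) ⊓ normalizer ((R : Subgroup G) : Set G)
  have hD : Nat.card D = 48 := by
    have b1 := CL.Small.card_sup_of_disjoint (P := (P : Subgroup G)) (K := D) inf_le_left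
      fun x hx h => fr P R e x hx h.2
    have b2 := card_sylow_mul_card_normalizer P
    rw [show (P : Subgroup G) ⊔ D = normalizer ((P : Subgroup G) : Set G) from
      le_antisymm (sup_le le_normalizer inf_le_left) fun x hx => by
        obtain ⟨u, hu, b⟩ := tr P R (x • R) e.symm fun b =>
          e ((smul_left_cancel_iff x).1 ((smul_sylow_eq_iff.2 hx).trans b.symm))
        rw [← mul_inv_cancel_left u x]
        exact mul_mem_sup hu ⟨mul_mem (le_normalizer (inv_mem hu)) hx,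
          smul_sylow_eq_iff.1 (by rw [mul_smul, ← b, inv_smul_smul])⟩, s.card] at b1
    rw [h1, h.card] at b2
    omega
  have S : CL.U3Ch.Sp P R (P : Subgroup G) D :=
    ⟨e, fun x hx => toPermHom_injective (Sylow 7 G) ⟨g, P, hg ▸ e.symm⟩
        (by ext1 X; simpa using hx X),
      fun x => by simp [D, smul_sylow_eq_iff], fun u hu => smul_sylow_eq_iff.2 (le_normalizer hu),
      fun x hx u hu => (mem_normalizer_iff.1 (smul_sylow_eq_iff.1 hx) u).1 hu,
      fun X hX => tr P R X e.symm hX, fun u hu b => fr P R e u hu (smul_sylow_eq_iff.1 b), by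
        obtain ⟨u, hu, b⟩ := tr R (g • R) P
          (fun b => e ((smul_left_cancel_iff g).1 (hg.trans b.symm))) e
        exact ⟨u * g, by rw [mul_smul, hg, smul_sylow_eq_iff.2 (le_normalizer hu)],
          by rw [mul_smul, b]⟩, s.isCyclic inf_le_left hD⟩
  exact S.rank_three (p := 7) (n := 1) (v := 3) (by norm_num) s.card rfl (by decide)
    (by rw [hD]; norm_num) (by norm_num) (m := 3) (o := 3) (o' := 44247) (by norm_num)
    (by decide) (by decide) hD h.card

end CL.OU
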