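/-
Corestriction of a central extension from a point stabiliser, evaluated on a commuting pair of
elements of prime order.
-/
import Mathlib
import Cfsg.Agent.KSG.SchurCov
import Cfsg.Agent.CHEV.CocExt

set_option autoImplicit false

namespace CL.SchurC

open CL.Schur MulAction Subgroup
open scoped commutatorElement

universe u v w

section
variable {Z B : Type*} [Group Z] [Group B] {ξ : Z →* B} {A : Type*} [CommGroup A]

theorem prod_eq_one_of_cyclic (hξ : IsCentralExt ξ) (j : ξ.ker →* A) {Y : Type*} [Fintype Y] (b : B)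
    (S T : Y → Z) (hS : ∀ y, ξ (S y) ∈ zpowers b) (hT : ∀ y, ξ (T y) ∈ zpowers b)
    (σ τ : Equiv.Perm Y) (D : Y → ξ.ker)
    (hD : ∀ y, (D y : Z) = S (τ y) * T y * (T (σ y) * S y)⁻¹) : ∏ y, j (D y) = 1 := by
  obtain ⟨c, rfl⟩ := hξ.surj b
  let C := (zpowers (ξ c)).comap ξ
  let _ : CommGroup C := { (inferInstance : Group C) with
    mul_comm := by
      rintro ⟨x, m, hm⟩ ⟨y, n, hn⟩
      refine Subtype.ext (commutatorElement_eq_one_iff_mul_comm.1 ?_)
      rw [commutatorElement_eq_of_map_eq hξ.central (hm.symm.trans (map_zpow ξ c m).symm)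
        (hn.symm.trans (map_zpow ξ c n).symm)]
      exact (Commute.zpow_zpow_self c m n).commutator_eq }
  let _ : CommGroup ξ.ker := { (inferInstance : Group ξ.ker) with
    mul_comm := fun x y => Subtype.ext (hξ.comm y.2 x) }
  have hle : ξ.ker ≤ C := fun x hx => by
    rw [mem_comap, MonoidHom.mem_ker.1 hx]; exact one_mem _
  suffices ∏ y, D y = 1 by rw [← map_prod, this, map_one]
  refine (map_eq_one_iff _ (inclusion_injective hle)).1 ?_
  let S' : Y → C := fun y => ⟨S y, hS y⟩
  let T' : Y → C := fun y => ⟨T y, hT y⟩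
  rw [map_prod, Finset.prod_congr rfl fun y _ => show inclusion hle (D y) =
    S' (τ y) * T' y * (T' (σ y) * S' y)⁻¹ from Subtype.ext (hD y), Finset.prod_mul_distrib,
    Finset.prod_mul_distrib, Finset.prod_inv_distrib, Finset.prod_mul_distrib, Equiv.prod_comp τ S',
    Equiv.prod_comp σ T', mul_comm (∏ y, T' y), mul_inv_cancel]

end

theorem Cov.cores {G : Type u} [Group G] [Finite G] {B : Type*} [Group B] {X : Type*} [MulAction G X]
    (x₀ : X) (ι : B →* G) (hι : Function.Injective ι) (hst : ∀ g : G, g • x₀ = x₀ → g ∈ ι.range)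
    {A : Type w} [CommGroup A] {W : B → B → A → Prop} (h : Cov B A W) {s t : G} (hc : Commute s t)
    {p : ℕ} (hp : p.Prime) (hs : s ^ p = 1) (ht : t ^ p = 1) {a : A} (ha : a ^ p = 1)
    (hW : ∀ y ∈ orbit G x₀, s • y = y → t • y = y →
      ∃ g u v, g • x₀ = y ∧ s * g = g * ι u ∧ t * g = g * ι v ∧ W u v a) :
    Cov.{u, max u w} G A fun s' t' a' => s' = s ∧ t' = t ∧ a' = a ^ (orbit G x₀).ncard := by
  classical
  have := Fact.mk hp
  obtain ⟨Z, _, ξ, j, hξ, hZ⟩ := h
  let σ : B → Z := fun b => if b = 1 then 1 else Function.surjInv hξ.surj b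
  have hσ : ∀ b, ξ (σ b) = b := fun b => by
    by_cases e : b = 1
    · simp only [σ, if_pos e, map_one]
      exact e.symm
    · simp only [σ, if_neg e, Function.surjInv_eq]
  have hσ1 : σ 1 = 1 := if_pos rfl
  let κ : B → B → ξ.ker := fun b b' => ⟨σ b * σ b' * (σ (b * b'))⁻¹, by
    rw [MonoidHom.mem_ker, map_mul, map_mul, map_inv, hσ, hσ, hσ, mul_inv_cancel]⟩
  have hκ : ∀ b b' b'', j (κ b b') * j (κ (b * b') b'') = j (κ b' b'') * j (κ b (b' * b'')) := by
    intro b b' b''
    rw [← map_mul, ← map_mul]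
    refine congrArg j (Subtype.ext ?_)
    show σ b * σ b' * _ * (σ (b * b') * σ b'' * _) = (κ b' b'' : Z) * (σ b * σ (b' * b'') * _)
    rw [← mul_assoc, ← mul_assoc (κ b' b'' : Z), ← mul_assoc (κ b' b'' : Z), ← hξ.comm (κ b' b'').2,
      mul_assoc b]
    show _ = σ b * (σ b' * σ b'' * (σ (b' * b''))⁻¹) * _ * _
    group
  let φ := (zpowers s).subtype.noncommCoprod (zpowers t).subtype fun x y => by
    obtain ⟨_, m, rfl⟩ := x
    obtain ⟨_, n, rfl⟩ := y
    exact hc.zpow_zpow m n
  let S := φ.range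
  let s' : S := ⟨s, (⟨s, mem_zpowers s⟩, 1), mul_one s⟩
  let t' : S := ⟨t, (1, ⟨t, mem_zpowers t⟩), one_mul t⟩
  have hS : Nat.card S ∣ p ^ 2 := by
    refine (card_range_dvd φ).trans ?_
    rw [Nat.card_prod, Nat.card_zpowers, Nat.card_zpowers, sq]
    exact mul_dvd_mul (orderOf_dvd_of_pow_eq_one hs) (orderOf_dvd_of_pow_eq_one ht)
  let Y := orbit G x₀
  have : Fintype Y := (Set.finite_range _).fintype
  let q : Y → orbitRel.Quotient S Y := Quotient.mk _
  have hq : ∀ (g : S) y, q (g • y) = q y := fun g y => Quotient.sound ⟨g, rfl⟩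
  choose r₀ hr₀ using fun y : Y => y.2
  choose u hu using fun y : Y => (Quotient.exact (q y).out_eq.symm : y ∈ orbit S (q y).out)
  let r : Y → G := fun y => u y * r₀ (q y).out
  have hr : ∀ y, r y • x₀ = y := fun y => by
    have e1 : r₀ (q y).out • x₀ = (q y).out := hr₀ _
    have e2 : u y • (q y).out = y := hu y
    rw [mul_smul, e1]
    exact congrArg Subtype.val e2
  choose β hβ using fun (g : G) (y : Y) => hst ((r (g • y))⁻¹ * g * r y) (by
    rw [mul_smul, mul_smul, hr, inv_smul_eq_iff, hr]; rfl)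
  have β1 : ∀ y, β 1 y = 1 := fun y => hι (by rw [hβ, one_smul, mul_one, inv_mul_cancel, map_one])
  have βm : ∀ g g' y, β (g * g') y = β g (g' • y) * β g' y := fun g g' y =>
    hι (by rw [map_mul, hβ, hβ, hβ, mul_smul]; group)
  let c : Coc.Cocycle G (Additive A) :=
    { f := fun g g' => Additive.ofMul (∏ y : Y, j (κ (β g (g' • y)) (β g' y)))
      one_left := fun g => congrArg Additive.ofMul (Finset.prod_eq_one fun y _ => by
        rw [β1, ← map_one j]
        exact congrArg j (Subtype.ext (by simp [κ, hσ1])))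
      one_right := fun g => congrArg Additive.ofMul (Finset.prod_eq_one fun y _ => by
        rw [β1, ← map_one j]
        exact congrArg j (Subtype.ext (by simp [κ, hσ1])))
      assoc := fun a b d => by
        rw [← ofMul_mul, ← ofMul_mul, ← Equiv.prod_comp (toPerm d), ← Finset.prod_mul_distrib,
          ← Finset.prod_mul_distrib]
        refine congrArg _ (Finset.prod_congr rfl fun y _ => ?_)
        simp only [toPerm_apply, βm, mul_smul]
        exact hκ _ _ _ }
  let D : Y → ξ.ker := fun y => κ (β s (t • y)) (β t y) * (κ (β t (s • y)) (β s y))⁻¹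
  have hD : ∀ y, (D y : Z) = σ (β s (t • y)) * σ (β t y) * (σ (β t (s • y)) * σ (β s y))⁻¹ := fun y => by
    show σ _ * σ _ * _ * (σ _ * σ _ * _)⁻¹ = _
    rw [← βm, ← βm, hc.eq]
    group
  have key : ∏ y, j (D y) = ∏ y : Y, if y ∈ fixedPoints S Y then a else 1 := by
    rw [← Fintype.prod_fiberwise q, ← Fintype.prod_fiberwise q]
    refine Finset.prod_congr rfl fun o _ => ?_
    have ho : ∀ y : {y // q y = o}, u y • o.out = y := fun y => (congrArg (u y • ·.out) y.2).symm.trans (hu y)
    by_cases hf : o.out ∈ fixedPoints S Y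
    · refine Finset.prod_congr rfl fun y _ => ?_
      have hy : (y : Y) ∈ fixedPoints S Y := by rwa [← ho y, hf]
      have e1 : s • (y : Y) = y := hy s'
      have e2 : t • (y : Y) = y := hy t'
      obtain ⟨g, v, v', e3, e4, e5, e6⟩ := hW _ y.1.2 (congrArg Subtype.val e1)
        (congrArg Subtype.val e2)
      obtain ⟨x, x', e7, e8, e9, e10⟩ := hZ _ _ _ e6
      obtain ⟨b, hb⟩ := hst (g⁻¹ * r y) (by rw [mul_smul, hr, inv_smul_eq_iff, e3])
      obtain ⟨b, rfl⟩ := hξ.surj b
      have hb' : r y = g * ι (ξ b) := by rw [hb, mul_inv_cancel_left]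
      have k : ∀ {s : G} {x : Z}, s • (y : Y) = y → s * g = g * ι (ξ x) →
          ξ (σ (β s y)) = ξ (b⁻¹ * x * b⁻¹⁻¹) := fun {s x} e e' => hι (by
        rw [hσ, hβ, e, hb', inv_inv, map_mul, map_mul, map_mul, map_mul, map_inv, map_inv,
          mul_assoc, ← mul_assoc s, e']
        group)
      rw [if_pos hy, ← e10]
      refine congrArg j (Subtype.ext ?_)
      rw [hD, e1, e2, mul_inv_rev, ← mul_assoc, ← commutatorElement_def,
        commutatorElement_eq_of_map_eq hξ.central (k e1 (e7 ▸ e4)) (k e2 (e8 ▸ e5)), ← conjugate_commutatorElement,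
        hξ.comm e9, inv_inv, inv_mul_cancel_right]
    · rw [Finset.prod_eq_one (f := fun y : {y // q y = o} => if (y : Y) ∈ fixedPoints S Y then a else 1)
        fun y _ => if_neg fun hy => hf (by rwa [← inv_smul_eq_iff.2 (ho y).symm, hy])]
      have hcy : IsCyclic (stabilizer S o.out) := by
        refine isCyclic_of_card_dvd_prime (p := p) ?_
        have e1 := (stabilizer S o.out).card_mul_index
        have e2 : p ∣ (stabilizer S o.out).index := by
          obtain ⟨k, -, hk⟩ := (Nat.dvd_prime_pow hp).1 ((Dvd.intro_left _ e1).trans hS)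
          rw [hk]
          refine dvd_pow_self p fun e => hf fun g => ?_
          rw [e, pow_zero, index_eq_one] at hk
          exact (hk ▸ mem_top g : g ∈ stabilizer S o.out)
        rw [← e1, sq] at hS
        exact Nat.dvd_of_mul_dvd_mul_right hp.pos ((mul_dvd_mul_left _ e2).trans hS)
      obtain ⟨z, hz⟩ := hcy.exists_generator
      have e0 : r₀ o.out • x₀ = o.out := hr₀ _
      obtain ⟨b, hb⟩ := hst ((r₀ o.out)⁻¹ * z.1 * (r₀ o.out)⁻¹⁻¹) (by
        rw [inv_inv, mul_smul, mul_smul, inv_smul_eq_iff, e0]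
        exact congrArg Subtype.val z.2)
      have k : ∀ (g : S) (y : {y // q y = o}), ξ (σ (β g y)) ∈ zpowers b := fun g y => by
        have e1 : q ((g : G) • y.1) = o := (hq g y).trans y.2
        obtain ⟨n, hn⟩ := hz ⟨(u ((g : G) • y.1))⁻¹ * g * u y, by
          rw [mem_stabilizer_iff, mul_smul, mul_smul, ho, inv_smul_eq_iff]
          exact (ho ⟨_, e1⟩).symm⟩
        have hn' : (z.1 : G) ^ n = (u ((g : G) • y.1) : G)⁻¹ * g * u y :=
          congrArg (fun x : stabilizer S o.out => (x.1 : G)) hn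
        refine ⟨n, hι ?_⟩
        rw [hσ, hβ, map_zpow, hb, conj_zpow, hn']
        simp only [r, e1, y.2]
        group
      exact prod_eq_one_of_cyclic hξ j b (fun y : {y // q y = o} => σ (β s y)) (fun y => σ (β t y))
        (k s') (k t') ((toPerm s').subtypePerm fun y => by rw [toPerm_apply, hq])
        ((toPerm t').subtypePerm fun y => by rw [toPerm_apply, hq]) _ fun y => hD y
  refine ⟨Coc.Ext c, inferInstance, Coc.proj c, MonoidHom.mk' (fun x => x.1.a.toMul) fun x y => ?_,
    ⟨Coc.proj_surjective, Coc.ker_le_center⟩, ?_⟩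
  · show (x.1.a + y.1.a + c.f x.1.g y.1.g).toMul = _
    rw [show x.1.g = 1 from x.2, c.one_left, add_zero, toMul_add]
  rintro _ _ _ ⟨e1, e2, e3⟩
  have e := Coc.commutator_of_commute (c := c) ⟨_, 0⟩ ⟨_, 0⟩ hc
  refine ⟨⟨_, 0⟩, ⟨_, 0⟩, e1.symm, e2.symm, by rw [e]; rfl, (congrArg (·.a.toMul) e).trans (.trans ?_ e3.symm)⟩
  show (∏ y : Y, j (κ (β s (t • y)) (β t y))) / (∏ y : Y, j (κ (β t (s • y)) (β s y))) = _
  rw [← Finset.prod_div_distrib, Finset.prod_congr rfl fun y _ => show _ = j (D y) by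
    rw [map_mul, map_inv, div_eq_mul_inv], key, Finset.prod_ite, Finset.prod_const_one, mul_one,
    Finset.prod_const, pow_eq_pow_iff_modEq]
  refine Nat.ModEq.of_dvd (orderOf_dvd_of_pow_eq_one ha) ?_
  have := ((IsPGroup.of_card_dvd_pow hS).card_modEq_card_fixedPoints Y).symm
  rwa [Nat.card_eq_fintype_card, Fintype.card_subtype] at this

end CL.SchurC
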