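import Cfsg.Agent.SPOR.FT1
import Cfsg.Agent.SPOR.Kei

/-!
Affine planes of order three in a Fischer space and the action of the centre of the group they
generate on a further point.
-/

set_option linter.unusedSectionVars false

namespace CL.FT

open Cfsg CL.TT CL.TTU CL.K

variable {G : Type*} [Group G]

/-- third point in the affine plane -/
def T9 (u v : ℕ) : ℕ := (2 * (u + v)) % 3 + 3 * ((2 * (u / 3 + v / 3)) % 3)

/-- An affine plane. -/
structure Pl (F : Set G) (P : ℕ → G) : Prop where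
  mem : ∀ i, P i ∈ F
  op : ∀ u < 9, ∀ v < 9, P u * P v * P u = P (T9 u v)
  nc : ∀ u < 9, ∀ v < 9, u ≠ v → ¬ Commute (P u) (P v)

theorem setup {F : Set G} (hF : FS F) {n : ℕ} {T : ℕ → ℕ → ℕ} (h0 : 0 < n)
    (h : ∀ u < n, T u u = u ∧ ∀ v < n, T u v < n) : Kei.Setup F n T 0 :=
  ⟨fun _ => hF.sq, hF.conj, fun e => absurd e (by norm_num), h0, fun u hu => (h u hu).2,
    fun u hu => (h u hu).1⟩

/-- initial facts -/
def l9 : List (ℕ × ℕ) := [(0, 0), (1, 1), (3, 3), (2, 2), (6, 6), (8, 8), (7, 7), (0, 1), (1, 0),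
  (0, 3), (3, 0), (1, 3), (3, 1), (2, 3), (3, 2)]

theorem run9 : Kei.run 9 T9 0 [(64, 0x8002000000000a0000018002000000001a000001800a000000801a0000018012000001001a0000008005001000800500000180050030018005000801800d004001800d00100180150038018015000800001d001000001d000000801d001000801d000001001d000801001d00000380000000038002001801000500380100050010018005003801800500100380050018038005001800000d000001800d00380000160008018015004001003e003000804600000380050028038005000003000d001803000d00000400000000040002001800800500400080050028010005004001000500080180050040018005001002800500400280050038030005004003000500300380050040038005000804000500100400050018040005002804000500300400050038040005001001800d003800804600000400050020040005)] (Kei.maskOf 9 l9) = 2 ^ (9 * 9) - 1 := by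
  decide +kernel

theorem exists_pl {F : Set G} (hF : FS F) {o x y : G} (ho : o ∈ F) (hx : x ∈ F) (hy : y ∈ F)
    (n1 : ¬ Commute o x) (n2 : ¬ Commute o y) (n3 : ¬ Commute x y) (n4 : ¬ Commute (o * x * o) y) :
    ∃ P, Pl F P ∧ P 0 = o ∧ P 1 = x ∧ P 3 = y := by
  let p0 : ℕ → G := fun i => if i = 1 then x else if i = 3 then y else if i = 2 then o * x * o
    else if i = 6 then o * y * o else if i = 8 then x * y * x else if i = 7 then
      (o * x * o) * y * (o * x * o) else o
  have h2 := hF.conj o ho x hx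
  have hp : ∀ i, p0 i ∈ F := fun i => by
    simp only [p0]; split_ifs
    exacts [hx, hy, h2, hF.conj o ho y hy, hF.conj x hx y hy, hF.conj _ h2 y hy, ho]
  have s : ∀ i, p0 i * p0 i * p0 i = p0 i := fun i => by rw [hF.sq (hp i), one_mul]
  obtain ⟨P, h1, h0, h3⟩ := Kei.sound_full (setup hF (n := 9) (T := T9) (by norm_num) (by decide))
    hp l9 (by decide) (by
      simp only [l9, List.forall_mem_cons]
      exact ⟨s 0, s 1, s 3, s 2, s 6, s 8, s 7, rfl, (hF.braid ho hx n1).symm, rfl,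
        (hF.braid ho hy n2).symm, rfl, (hF.braid hx hy n3).symm, rfl, (hF.braid h2 hy n4).symm,
        by simp⟩) _ run9
  have e0 : P 0 = o := h0 0 (by decide)
  have e1 : P 1 = x := h0 1 (by decide)
  have e3 : P 3 = y := h0 3 (by decide)
  have e2 : P 2 = o * x * o := h0 2 (by decide)
  refine ⟨P, ⟨h1, h3, fun u hu v hv n c => ?_⟩, e0, e1, e3⟩
  have k : ∀ u < 9, ∀ v < 9, u = v ∨ ∃ a ∈ List.range 9, ∃ b ∈ List.range 9, T9 b u < 9 ∧
      T9 b v < 9 ∧ (T9 a (T9 b u), T9 a (T9 b v)) ∈ [(0, 1), (0, 3), (1, 3), (2, 3), (1, 0), (3, 0),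
        (3, 1), (3, 2)] := by decide +kernel
  obtain ⟨a, ha, b, hb, k1, k2, k3⟩ := (k u hu v hv).resolve_left n
  rw [List.mem_range] at ha hb
  rw [← hF.commute_op_iff (h1 b), h3 b hb u hu, h3 b hb v hv, ← hF.commute_op_iff (h1 a),
    h3 a ha _ k1, h3 a ha _ k2] at c
  simp only [List.mem_cons, Prod.mk.injEq, List.not_mem_nil, or_false] at k3
  rcases k3 with k | k | k | k | k | k | k | k <;> rw [k.1, k.2] at c <;>
    simp only [e0, e1, e2, e3] at c
  exacts [n1 c, n2 c, n3 c, n4 c, n1 c.symm, n2 c.symm, n3 c.symm, n4 c.symm]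

/-- A generator of the centre of the group generated by the plane. -/
def zeta (P : ℕ → G) : G := P 0 * P 1 * P 3 * (P 0 * P 1 * P 3)

/-- table of the 36 points -/
def T36 (u v : ℕ) : ℕ := fld 6 63 0x8e204a2c23d14061c814310d30e71b7525137e025865a5d559e8408e22c204a0c414c38d40f44818755759961a85e2544936dc7607c004b8497c01050d755669864c38d1881d349488a8103d171d6c28de28226001e49350d30e1050db71d1c62186992e384f45059756205f2c18407c95124c72063d141d6dc5955c31448ca79969834c3828a008a02025e40f4555976196872066dd7040c52e27d351230e3630613c311251075b70904a3561df02009e8c85cc15868e5462e189165344415348f6dc74128918e54081f8c27963470d96083178622d06944050d44d171d6ca2415c83207c07a308e19511a6561cd88b84f61218c5cd1d524129a6198407904c41543c282221b74b7e34520ce7161ce54c21604a25865a01e8434524d01220a019c6df8cb14f50d75720d58e1972890596987a101414f4434a08821dd7232df4c440c6d51506843d83466e101e5d558b0890627ce74850348c1dc8e02934590cf60545974e2007a15565c224b7c189c1cc4844db34680a8d441a11164341a1dc31e84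05975492c289f04635b4c550874e2a38123d834831b7477c08100d82c225449345a1418e15c656278a3c465639c30639c6c80207da4450892d24d46443e106354759e2a26100d735d38735d70681f00464f24b0935120d06238415885ca89e15a45531b71518759b0a37854d805f89464344f40b00a38c20982168449d5cd6d720655d7828d46438817da1123d044028b30d1e126015361c58e7561c85dc8de09a1127e20454d84113ca2c034e1a08495190db54c4994d80c42166c28a05dc1818632c028e30d44f15d1d525e7da51051849a1435dc1a00a274756306100a2cc34e3d010859b7c97994d14da5191057475628022166e18c128b00d38c4110d770679f25848f7e18a08de1431081875124d755638c3513d02c009a61975b70904a81e8637e261969b71d0c41461c830d38f41100a0524d45565c224b8e282179f69865d6dc49351559720718510308125140f38d30b28061440f65339c58b7e331b56278a26181d3576924481870800450c46523d169454c6df8cb5cd75e2a280984e59c6134061c80010831056934506127573632df71638a89e8602556cc6543c72060420041435db71634c2e18916538e028f6126905097de75538200114310818755c75730e8622d23d880a8d441a45365e25f6d63400420c41461c859d6d538d88b85a5102a38194d14983df7897173010801050c72067a08627e34503ce34c4d44965d575c6da65824a2c50c42061c200185f8e089e65a61c75b4503ce34c5d65544d22c92831051872000428e279f8214d44965d565a61c75b34e31044f28b2441431c8181080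 (Nat.add (Nat.mul 36 u) v)

/-- table of the 18 points -/
def T18 (u v : ℕ) : ℕ := fld 5 31 0x89123418e57b56c541c2080901a8020b8a8399317b16d48de531d048ad8d72a020806a2b82014088399e98adac400c16ad823c52f2906a740c23816c685097c4a41c14e385026356033e292906e828ae240410286839a2f4b58b796243a0c34b1ab83942081b05ba297a98831c40094645c18e4be2a698e800443215906b9f14a96741822010a3525cf6b1718080128c8831e11525ac5bdc008864298e873e116b169504402146741a2c7ad507352519106388018aded72a0c48c8531d0008a2d7b20e52d2428ce830440 (Nat.add (Nat.mul 18 u) v)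

/-- the pairs of points of the plane -/
def l81 : List (ℕ × ℕ) := (List.range 9).flatMap fun u => (List.range 9).map fun v => (u, v)

/-- initial facts -/
def l36 : List (ℕ × ℕ) := l81 ++ ((List.range 9).flatMap fun i => [(9 + i, 9 + i), (9, i), (i, 9)])

/-- initial facts -/
def l18 : List (ℕ × ℕ) := l81 ++ [(9, 9), (10, 10), (9, 0), (9, 1), (9, 3), (3, 9)]

theorem run36 : ∀ a ∈ [(0, 18, 27), (0, 35, 35), (1, 9, 10), (1, 12, 18), (1, 33, 35), (1, 35, 33), (3, 9, 12), (3, 27, 33), (5, 7, 0), (5, 14, 9), (9, 35, 35), (15, 10, 14), (15, 33, 7)], a.1 < 36 ∧ a.2.1 < 36 ∧ T36 a.1 a.2.1 = a.2.2 ∧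
    (Kei.run 36 T36 0 [(35, 0x2004a000004800a000004802a0048008006004801000600480180060048040006004800001d0048000025001800804d000803004d0000060008004804001e00000900000000070008007002800d002804800d006003005500000a000000a003000500880a00050000068018008800001d006804001d006804801d00680e001d00000f000000f0008005009003000500f005800500f00600050000108008000010800a010801000d010805000d)] (Kei.maskOf 36 l36)).testBit (36 * a.1 + a.2.1) = true := by
  decide +kernel

theorem run18 : ∀ a ∈ [(0, 12, 14), (0, 17, 17), (1, 10, 12), (1, 17, 17), (3, 9, 10), (3, 14, 17), (9, 17, 15), (10, 9, 3), (10, 17, 5), (17, 9, 15)], a.1 < 18 ∧ a.2.1 < 18 ∧ T18 a.1 a.2.1 = a.2.2 ∧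
    (Kei.run 18 T18 0 [(31, 0x4b000000804b000001804a000004801a0048008005004800801d004801001d005004801d000005000000180480050000050008005003800d005004000d001804800d005004800d000006000000600180050060020005004004800500600480050000058008003004800d002001804d001802004d0000070018007003001d007004001d007004801d0000080018007005001d005007001d)] (Kei.maskOf 18 l18)).testBit (18 * a.1 + a.2.1) = true := by
  decide +kernel

namespace Pl

variable {F : Set G} {P : ℕ → G} (h : Pl F P)
include h

theorem mono {E : Set G} (hE : F ⊆ E) : Pl E P := ⟨fun i => hE (h.mem i), h.op, h.nc⟩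

theorem ne {u v : ℕ} (hu : u < 9) (hv : v < 9) (n : u ≠ v) : P u ≠ P v :=
  fun e => h.nc u hu v hv n (e ▸ Commute.refl _)

theorem zeta_mem : zeta P ∈ Subgroup.closure F :=
  have k : ∀ i, P i ∈ Subgroup.closure F := fun i => Subgroup.subset_closure (h.mem i)
  mul_mem (mul_mem (mul_mem (k 0) (k 1)) (k 3)) (mul_mem (mul_mem (k 0) (k 1)) (k 3))

theorem zeta_cj (hF : FS F) (x : G) : zeta P * x * (zeta P)⁻¹ =
    P 0 * (P 1 * (P 3 * (P 0 * (P 1 * (P 3 * x * P 3) * P 1) * P 0) * P 3) * P 1) * P 0 := by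
  simp only [zeta, mul_inv_rev, hF.inv (h.mem _), mul_assoc]

theorem zeta_fix (hF : FS F) {i : ℕ} (hi : i < 9) : zeta P * P i * (zeta P)⁻¹ = P i := by
  have k : ∀ u < 9, ∀ v < 9, T9 u v < 9 := by decide
  have k2 : ∀ i < 9, T9 0 (T9 1 (T9 3 (T9 0 (T9 1 (T9 3 i))))) = i := by decide
  have a0 : (0 : ℕ) < 9 := by norm_num
  have a1 : (1 : ℕ) < 9 := by norm_num
  have a3 : (3 : ℕ) < 9 := by norm_num
  have i1 := k 3 a3 i hi
  have i2 := k 1 a1 _ i1
  have i3 := k 0 a0 _ i2
  have i4 := k 3 a3 _ i3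
  rw [h.zeta_cj hF, h.op 3 a3 i hi, h.op 1 a1 _ i1, h.op 0 a0 _ i2, h.op 3 a3 _ i3,
    h.op 1 a1 _ i4, h.op 0 a0 _ (k 1 a1 _ i4), k2 i hi]

theorem commute_zeta {x : G} (h0 : Commute x (P 0)) (h1 : Commute x (P 1)) (h3 : Commute x (P 3)) :
    zeta P * x * (zeta P)⁻¹ = x :=
  cj_eq_of_commute (((h0.mul_right h1).mul_right h3).mul_right ((h0.mul_right h1).mul_right h3)).symm

/-- A point commuting with exactly one point of the plane. -/
theorem u1 (hF : FS F) {t : G} (ht : t ∈ F) (hne : t ≠ P 0) (c : Commute t (P 0))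
    (n : ∀ i < 9, i ≠ 0 → ¬ Commute t (P i)) :
    Commute t (zeta P * t * (zeta P)⁻¹) ∧ zeta P * t * (zeta P)⁻¹ ≠ t := by
  let p0 : ℕ → G := fun i => if i < 9 then P i else if i = 9 then t else t * P (i - 9) * t
  have hp : ∀ i, p0 i ∈ F := fun i => by
    simp only [p0]; split_ifs
    exacts [h.mem i, ht, hF.conj t ht _ (h.mem _)]
  have e : ∀ i < 9, p0 i = P i := fun i hi => if_pos hi
  have e' : ∀ i, i ≠ 0 → p0 (9 + i) = t * P i * t := fun i hi => by
    simp only [p0]; rw [if_neg (by omega), if_neg (by omega), Nat.add_sub_cancel_left]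
  obtain ⟨p, hm, h0, h1⟩ := Kei.sound (setup hF (n := 36) (T := T36) (by norm_num)
    (by decide +kernel)) (Kei.inv_maskOf hp l36 (by decide +kernel) fun a ha => by
      have k : ∀ a ∈ l36, (a.1 < 9 ∧ a.2 < 9 ∧ T36 a.1 a.2 = T9 a.1 a.2 ∧ T9 a.1 a.2 < 9) ∨
        (a.2 = a.1 ∧ T36 a.1 a.2 = a.1) ∨ (a = (9, 0) ∧ T36 9 0 = 0) ∨ (a = (0, 9) ∧ T36 0 9 = 9) ∨
        (a.1 = 9 ∧ a.2 < 9 ∧ a.2 ≠ 0 ∧ T36 9 a.2 = 9 + a.2) ∨
        (a.2 = 9 ∧ a.1 < 9 ∧ a.1 ≠ 0 ∧ T36 a.1 9 = 9 + a.1) := by decide +kernel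
      rcases k a ha with k | k | ⟨rfl, k⟩ | ⟨rfl, k⟩ | k | k
      · rw [k.2.2.1, e _ k.1, e _ k.2.1, e _ k.2.2.2, h.op _ k.1 _ k.2.1]
      · rw [k.2, k.1, hF.sq (hp _), one_mul]
      · rw [k]; exact hF.op_eq_of_commute ht c
      · rw [k]; exact hF.op_eq_of_commute (h.mem 0) c.symm
      · rw [k.1, k.2.2.2, e _ k.2.1, e' _ k.2.2.1]; rfl
      · rw [k.1, k.2.2.2, e _ k.2.1, e' _ k.2.2.1]
        exact (hF.braid ht (h.mem _) (n _ k.2.1 k.2.2.1)).symm) _ rfl
  have f := fun a ha => h1 _ (run36 a ha).1 _ (run36 a ha).2.1 (run36 a ha).2.2.2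
  have f' := fun a ha => (run36 a ha).2.2.1 ▸ f a ha
  simp only [List.forall_mem_cons] at f'
  obtain ⟨f1, f2, f3, f4, f5, f6, f7, f8, f9, f10, f11, f12, f13, -⟩ := f'
  have e0 : p 0 = P 0 := h0 0 (by norm_num) (by decide +kernel)
  have e1 : p 1 = P 1 := h0 1 (by norm_num) (by decide +kernel)
  have e3 : p 3 = P 3 := h0 3 (by norm_num) (by decide +kernel)
  have e9 : p 9 = t := h0 9 (by norm_num) (by decide +kernel)
  have z : zeta P * t * (zeta P)⁻¹ = p 35 := by
    rw [h.zeta_cj hF, ← e0, ← e1, ← e3, ← e9]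
    simp only [f1, f2, f4, f5, f7, f8]
  rw [z, ← e9]
  refine ⟨(hF.op_eq_iff (hm 9) _).1 f11, fun k => hne ?_⟩
  rw [← e9, ← e0, ← f9, ← f10, ← f12, ← f13, ← f3, ← f6, k]

/-- A point commuting with exactly one line of the plane. -/
theorem u2 (hF : FS F) {t : G} (ht : t ∈ F) (c0 : Commute t (P 0)) (c1 : Commute t (P 1))
    (n : ¬ Commute t (P 3)) : ¬ Commute t (zeta P * t * (zeta P)⁻¹) := by
  let p0 : ℕ → G := fun i => if i < 9 then P i else if i = 9 then t else t * P 3 * t
  have hp : ∀ i, p0 i ∈ F := fun i => by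
    simp only [p0]; split_ifs
    exacts [h.mem i, ht, hF.conj t ht _ (h.mem _)]
  have e : ∀ i < 9, p0 i = P i := fun i hi => if_pos hi
  obtain ⟨p, hm, h0, h1⟩ := Kei.sound (setup hF (n := 18) (T := T18) (by norm_num)
    (by decide +kernel)) (Kei.inv_maskOf hp l18 (by decide +kernel) fun a ha => by
      have k : ∀ a ∈ l18, (a.1 < 9 ∧ a.2 < 9 ∧ T18 a.1 a.2 = T9 a.1 a.2 ∧ T9 a.1 a.2 < 9) ∨
        (a.2 = a.1 ∧ T18 a.1 a.2 = a.1) ∨ (a = (9, 0) ∧ T18 9 0 = 0) ∨ (a = (9, 1) ∧ T18 9 1 = 1) ∨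
        (a = (9, 3) ∧ T18 9 3 = 10) ∨ (a = (3, 9) ∧ T18 3 9 = 10) := by decide +kernel
      rcases k a ha with k | k | ⟨rfl, k⟩ | ⟨rfl, k⟩ | ⟨rfl, k⟩ | ⟨rfl, k⟩
      · rw [k.2.2.1, e _ k.1, e _ k.2.1, e _ k.2.2.2, h.op _ k.1 _ k.2.1]
      · rw [k.2, k.1, hF.sq (hp _), one_mul]
      · rw [k]; exact hF.op_eq_of_commute ht c0
      · rw [k]; exact hF.op_eq_of_commute ht c1
      · rw [k]; rfl
      · rw [k]; exact (hF.braid ht (h.mem _) n).symm) _ rfl
  have f := fun a ha => h1 _ (run18 a ha).1 _ (run18 a ha).2.1 (run18 a ha).2.2.2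
  have f' := fun a ha => (run18 a ha).2.2.1 ▸ f a ha
  simp only [List.forall_mem_cons] at f'
  obtain ⟨f1, f2, f3, f4, f5, f6, f7, f8, f9, f10, -⟩ := f'
  have e0 : p 0 = P 0 := h0 0 (by norm_num) (by decide +kernel)
  have e1 : p 1 = P 1 := h0 1 (by norm_num) (by decide +kernel)
  have e3 : p 3 = P 3 := h0 3 (by norm_num) (by decide +kernel)
  have e5 : p 5 = P 5 := h0 5 (by norm_num) (by decide +kernel)
  have e9 : p 9 = t := h0 9 (by norm_num) (by decide +kernel)
  have z : zeta P * t * (zeta P)⁻¹ = p 17 := by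
    rw [h.zeta_cj hF, ← e0, ← e1, ← e3, ← e9]
    simp only [f1, f2, f3, f4, f5, f6]
  rw [z, ← e9]
  intro c
  have k : p 17 = p 9 := by
    rw [← hF.op_eq_of_commute (hm 9) c, f7, ← f10, hF.op_eq_of_commute (hm 17) c.symm]
  refine h.ne (u := 5) (v := 3) (by norm_num) (by norm_num) (by norm_num) ?_
  rw [← e5, ← e3, ← f8, ← f9, k]

end Pl

end CL.FT
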