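import Cfsg.Agent.SPOR.CE
import Cfsg.Agent.SPOR.FiE24D0
import Cfsg.Agent.SPOR.FiE24D1
import Cfsg.Agent.SPOR.FiE24D2
import Cfsg.Agent.SPOR.FiE24D3
import Cfsg.Agent.SPOR.FiE24D4
import Cfsg.Agent.SPOR.FiE24D5
import Cfsg.Agent.SPOR.FiE24D6
set_option autoImplicit false
set_option Elab.async false
set_option maxRecDepth 100000

namespace CL.Fi.E24
open CL.CE CL.K

noncomputable def tT : Tr := (.node (.node (.node (.node (.node (.node (.node (.node (.node (.node (.node (.node (.node (.leaf tT0) (.leaf tT4096)) (.leaf tT2048)) (.node (.leaf tT1024) (.leaf tT3072))) (.node (.node (.node (.leaf tT512) (.leaf tT4608)) (.leaf tT2560)) (.node (.leaf tT1536) (.leaf tT3584)))) (.node (.node (.node (.node (.leaf tT256) (.leaf tT4352)) (.leaf tT2304)) (.node (.leaf tT1280) (.leaf tT3328))) (.node (.node (.leaf tT768) (.leaf tT2816)) (.node (.leaf tT1792) (.leaf tT3840))))) (.node (.node (.node (.node (.node (.leaf tT128) (.leaf tT4224)) (.leaf tT2176)) (.node (.leaf tT1152) (.leaf tT3200))) (.node (.node (.node (.leaf tT640) (.leaf tT4736)) (.leaf tT2688)) (.node (.leaf tT1664) (.leaf tT3712)))) (.node (.node (.node (.node (.leaf tT384) (.leaf tT4480)) (.leaf tT2432)) (.node (.leaf tT1408) (.leaf tT3456))) (.node (.node (.leaf tT896) (.leaf tT2944)) (.node (.leaf tT1920) (.leaf tT3968)))))) (.node (.node (.node (.node (.node (.node (.leaf tT64) (.leaf tT4160)) (.leaf tT2112)) (.node (.leaf tT1088) (.leaf tT3136))) (.node (.node (.node (.leaf tT576) (.leaf tT4672)) (.leaf tT2624)) (.node (.leaf tT1600) (.leaf tT3648)))) (.node (.node (.node (.node (.leaf tT320) (.leaf tT4416)) (.leaf tT2368)) (.node (.leaf tT1344) (.leaf tT3392))) (.node (.node (.leaf tT832) (.leaf tT2880)) (.node (.leaf tT1856) (.leaf tT3904))))) (.node (.node (.node (.node (.node (.leaf tT192) (.leaf tT4288)) (.leaf tT2240)) (.node (.leaf tT1216) (.leaf tT3264))) (.node (.node (.leaf tT704) (.leaf tT2752)) (.node (.leaf tT1728) (.leaf tT3776)))) (.node (.node (.node (.node (.leaf tT448) (.leaf tT4544)) (.leaf tT2496)) (.node (.leaf tT1472) (.leaf tT3520))) (.node (.node (.leaf tT960) (.leaf tT3008)) (.node (.leaf tT1984) (.leaf tT4032))))))) (.node (.node (.node (.node (.node (.node (.node (.leaf tT32) (.leaf tT4128)) (.leaf tT2080)) (.node (.leaf tT1056) (.leaf tT3104))) (.node (.node (.node (.leaf tT544) (.leaf tT4640)) (.leaf tT2592)) (.node (.leaf tT1568) (.leaf tT3616)))) (.node (.node (.node (.node (.leaf tT288) (.leaf tT4384)) (.leaf tT2336)) (.node (.leaf tT1312) (.leaf tT3360))) (.node (.node (.leaf tT800) (.leaf tT2848)) (.node (.leaf tT1824) (.leaf tT3872))))) (.node (.node (.node (.node (.node (.leaf tT160) (.leaf tT4256)) (.leaf tT2208)) (.node (.leaf tT1184) (.leaf tT3232))) (.node (.node (.node (.leaf tT672) (.leaf tT4768)) (.leaf tT2720)) (.node (.leaf tT1696) (.leaf tT3744)))) (.node (.node (.node (.node (.leaf tT416) (.leaf tT4512)) (.leaf tT2464)) (.node (.leaf tT1440) (.leaf tT3488))) (.node (.node (.leaf tT928) (.leaf tT2976)) (.node (.leaf tT1952) (.leaf tT4000)))))) (.node (.node (.node (.node (.node (.node (.leaf tT96) (.leaf tT4192)) (.leaf tT2144)) (.node (.leaf tT1120) (.leaf tT3168))) (.node (.node (.node (.leaf tT608) (.leaf tT4704)) (.leaf tT2656)) (.node (.leaf tT1632) (.leaf tT3680)))) (.node (.node (.node (.node (.leaf tT352) (.leaf tT4448)) (.leaf tT2400)) (.node (.leaf tT1376) (.leaf tT3424))) (.node (.node (.leaf tT864) (.leaf tT2912)) (.node (.leaf tT1888) (.leaf tT3936))))) (.node (.node (.node (.node (.node (.leaf tT224) (.leaf tT4320)) (.leaf tT2272)) (.node (.leaf tT1248) (.leaf tT3296))) (.node (.node (.leaf tT736) (.leaf tT2784)) (.node (.leaf tT1760) (.leaf tT3808)))) (.node (.node (.node (.node (.leaf tT480) (.leaf tT4576)) (.leaf tT2528)) (.node (.leaf tT1504) (.leaf tT3552))) (.node (.node (.leaf tT992) (.leaf tT3040)) (.node (.leaf tT2016) (.leaf tT4064)))))))) (.node (.node (.node (.node (.node (.node (.node (.node (.leaf tT16) (.leaf tT4112)) (.leaf tT2064)) (.node (.leaf tT1040) (.leaf tT3088))) (.node (.node (.node (.leaf tT528) (.leaf tT4624)) (.leaf tT2576)) (.node (.leaf tT1552) (.leaf tT3600)))) (.node (.node (.node (.node (.leaf tT272) (.leaf tT4368)) (.leaf tT2320)) (.node (.leaf tT1296) (.leaf tT3344))) (.node (.node (.leaf tT784) (.leaf tT2832)) (.node (.leaf tT1808) (.leaf tT3856))))) (.node (.node (.node (.node (.node (.leaf tT144) (.leaf tT4240)) (.leaf tT2192)) (.node (.leaf tT1168) (.leaf tT3216))) (.node (.node (.node (.leaf tT656) (.leaf tT4752)) (.leaf tT2704)) (.node (.leaf tT1680) (.leaf tT3728)))) (.node (.node (.node (.node (.leaf tT400) (.leaf tT4496)) (.leaf tT2448)) (.node (.leaf tT1424) (.leaf tT3472))) (.node (.node (.leaf tT912) (.leaf tT2960)) (.node (.leaf tT1936) (.leaf tT3984)))))) (.node (.node (.node (.node (.node (.node (.leaf tT80) (.leaf tT4176)) (.leaf tT2128)) (.node (.leaf tT1104) (.leaf tT3152))) (.node (.node (.node (.leaf tT592) (.leaf tT4688)) (.leaf tT2640)) (.node (.leaf tT1616) (.leaf tT3664)))) (.node (.node (.node (.node (.leaf tT336) (.leaf tT4432)) (.leaf tT2384)) (.node (.leaf tT1360) (.leaf tT3408))) (.node (.node (.leaf tT848) (.leaf tT2896)) (.node (.leaf tT1872) (.leaf tT3920))))) (.node (.node (.node (.node (.node (.leaf tT208) (.leaf tT4304)) (.leaf tT2256)) (.node (.leaf tT1232) (.leaf tT3280))) (.node (.node (.leaf tT720) (.leaf tT2768)) (.node (.leaf tT1744) (.leaf tT3792)))) (.node (.node (.node (.node (.leaf tT464) (.leaf tT4560)) (.leaf tT2512)) (.node (.leaf tT1488) (.leaf tT3536))) (.node (.node (.leaf tT976) (.leaf tT3024)) (.node (.leaf tT2000) (.leaf tT4048))))))) (.node (.node (.node (.node (.node (.node (.node (.leaf tT48) (.leaf tT4144)) (.leaf tT2096)) (.node (.leaf tT1072) (.leaf tT3120))) (.node (.node (.node (.leaf tT560) (.leaf tT4656)) (.leaf tT2608)) (.node (.leaf tT1584) (.leaf tT3632)))) (.node (.node (.node (.node (.leaf tT304) (.leaf tT4400)) (.leaf tT2352)) (.node (.leaf tT1328) (.leaf tT3376))) (.node (.node (.leaf tT816) (.leaf tT2864)) (.node (.leaf tT1840) (.leaf tT3888))))) (.node (.node (.node (.node (.node (.leaf tT176) (.leaf tT4272)) (.leaf tT2224)) (.node (.leaf tT1200) (.leaf tT3248))) (.node (.node (.node (.leaf tT688) (.leaf tT4784)) (.leaf tT2736)) (.node (.leaf tT1712) (.leaf tT3760)))) (.node (.node (.node (.node (.leaf tT432) (.leaf tT4528)) (.leaf tT2480)) (.node (.leaf tT1456) (.leaf tT3504))) (.node (.node (.leaf tT944) (.leaf tT2992)) (.node (.leaf tT1968) (.leaf tT4016)))))) (.node (.node (.node (.node (.node (.node (.leaf tT112) (.leaf tT4208)) (.leaf tT2160)) (.node (.leaf tT1136) (.leaf tT3184))) (.node (.node (.node (.leaf tT624) (.leaf tT4720)) (.leaf tT2672)) (.node (.leaf tT1648) (.leaf tT3696)))) (.node (.node (.node (.node (.leaf tT368) (.leaf tT4464)) (.leaf tT2416)) (.node (.leaf tT1392) (.leaf tT3440))) (.node (.node (.leaf tT880) (.leaf tT2928)) (.node (.leaf tT1904) (.leaf tT3952))))) (.node (.node (.node (.node (.node (.leaf tT240) (.leaf tT4336)) (.leaf tT2288)) (.node (.leaf tT1264) (.leaf tT3312))) (.node (.node (.leaf tT752) (.leaf tT2800)) (.node (.leaf tT1776) (.leaf tT3824)))) (.node (.node (.node (.node (.leaf tT496) (.leaf tT4592)) (.leaf tT2544)) (.node (.leaf tT1520) (.leaf tT3568))) (.node (.node (.leaf tT1008) (.leaf tT3056)) (.node (.leaf tT2032) (.leaf tT4080))))))))) (.node (.node (.node (.node (.node (.node (.node (.node (.node (.leaf tT8) (.leaf tT4104)) (.leaf tT2056)) (.node (.leaf tT1032) (.leaf tT3080))) (.node (.node (.node (.leaf tT520) (.leaf tT4616)) (.leaf tT2568)) (.node (.leaf tT1544) (.leaf tT3592)))) (.node (.node (.node (.node (.leaf tT264) (.leaf tT4360)) (.leaf tT2312)) (.node (.leaf tT1288) (.leaf tT3336))) (.node (.node (.leaf tT776) (.leaf tT2824)) (.node (.leaf tT1800) (.leaf tT3848))))) (.node (.node (.node (.node (.node (.leaf tT136) (.leaf tT4232)) (.leaf tT2184)) (.node (.leaf tT1160) (.leaf tT3208))) (.node (.node (.node (.leaf tT648) (.leaf tT4744)) (.leaf tT2696)) (.node (.leaf tT1672) (.leaf tT3720)))) (.node (.node (.node (.node (.leaf tT392) (.leaf tT4488)) (.leaf tT2440)) (.node (.leaf tT1416) (.leaf tT3464))) (.node (.node (.leaf tT904) (.leaf tT2952)) (.node (.leaf tT1928) (.leaf tT3976)))))) (.node (.node (.node (.node (.node (.node (.leaf tT72) (.leaf tT4168)) (.leaf tT2120)) (.node (.leaf tT1096) (.leaf tT3144))) (.node (.node (.node (.leaf tT584) (.leaf tT4680)) (.leaf tT2632)) (.node (.leaf tT1608) (.leaf tT3656)))) (.node (.node (.node (.node (.leaf tT328) (.leaf tT4424)) (.leaf tT2376)) (.node (.leaf tT1352) (.leaf tT3400))) (.node (.node (.leaf tT840) (.leaf tT2888)) (.node (.leaf tT1864) (.leaf tT3912))))) (.node (.node (.node (.node (.node (.leaf tT200) (.leaf tT4296)) (.leaf tT2248)) (.node (.leaf tT1224) (.leaf tT3272))) (.node (.node (.leaf tT712) (.leaf tT2760)) (.node (.leaf tT1736) (.leaf tT3784)))) (.node (.node (.node (.node (.leaf tT456) (.leaf tT4552)) (.leaf tT2504)) (.node (.leaf tT1480) (.leaf tT3528))) (.node (.node (.leaf tT968) (.leaf tT3016)) (.node (.leaf tT1992) (.leaf tT4040))))))) (.node (.node (.node (.node (.node (.node (.node (.leaf tT40) (.leaf tT4136)) (.leaf tT2088)) (.node (.leaf tT1064) (.leaf tT3112))) (.node (.node (.node (.leaf tT552) (.leaf tT4648)) (.leaf tT2600)) (.node (.leaf tT1576) (.leaf tT3624)))) (.node (.node (.node (.node (.leaf tT296) (.leaf tT4392)) (.leaf tT2344)) (.node (.leaf tT1320) (.leaf tT3368))) (.node (.node (.leaf tT808) (.leaf tT2856)) (.node (.leaf tT1832) (.leaf tT3880))))) (.node (.node (.node (.node (.node (.leaf tT168) (.leaf tT4264)) (.leaf tT2216)) (.node (.leaf tT1192) (.leaf tT3240))) (.node (.node (.node (.leaf tT680) (.leaf tT4776)) (.leaf tT2728)) (.node (.leaf tT1704) (.leaf tT3752)))) (.node (.node (.node (.node (.leaf tT424) (.leaf tT4520)) (.leaf tT2472)) (.node (.leaf tT1448) (.leaf tT3496))) (.node (.node (.leaf tT936) (.leaf tT2984)) (.node (.leaf tT1960) (.leaf tT4008)))))) (.node (.node (.node (.node (.node (.node (.leaf tT104) (.leaf tT4200)) (.leaf tT2152)) (.node (.leaf tT1128) (.leaf tT3176))) (.node (.node (.node (.leaf tT616) (.leaf tT4712)) (.leaf tT2664)) (.node (.leaf tT1640) (.leaf tT3688)))) (.node (.node (.node (.node (.leaf tT360) (.leaf tT4456)) (.leaf tT2408)) (.node (.leaf tT1384) (.leaf tT3432))) (.node (.node (.leaf tT872) (.leaf tT2920)) (.node (.leaf tT1896) (.leaf tT3944))))) (.node (.node (.node (.node (.node (.leaf tT232) (.leaf tT4328)) (.leaf tT2280)) (.node (.leaf tT1256) (.leaf tT3304))) (.node (.node (.leaf tT744) (.leaf tT2792)) (.node (.leaf tT1768) (.leaf tT3816)))) (.node (.node (.node (.node (.leaf tT488) (.leaf tT4584)) (.leaf tT2536)) (.node (.leaf tT1512) (.leaf tT3560))) (.node (.node (.leaf tT1000) (.leaf tT3048)) (.node (.leaf tT2024) (.leaf tT4072)))))))) (.node (.node (.node (.node (.node (.node (.node (.node (.leaf tT24) (.leaf tT4120)) (.leaf tT2072)) (.node (.leaf tT1048) (.leaf tT3096))) (.node (.node (.node (.leaf tT536) (.leaf tT4632)) (.leaf tT2584)) (.node (.leaf tT1560) (.leaf tT3608)))) (.node (.node (.node (.node (.leaf tT280) (.leaf tT4376)) (.leaf tT2328)) (.node (.leaf tT1304) (.leaf tT3352))) (.node (.node (.leaf tT792) (.leaf tT2840)) (.node (.leaf tT1816) (.leaf tT3864))))) (.node (.node (.node (.node (.node (.leaf tT152) (.leaf tT4248)) (.leaf tT2200)) (.node (.leaf tT1176) (.leaf tT3224))) (.node (.node (.node (.leaf tT664) (.leaf tT4760)) (.leaf tT2712)) (.node (.leaf tT1688) (.leaf tT3736)))) (.node (.node (.node (.node (.leaf tT408) (.leaf tT4504)) (.leaf tT2456)) (.node (.leaf tT1432) (.leaf tT3480))) (.node (.node (.leaf tT920) (.leaf tT2968)) (.node (.leaf tT1944) (.leaf tT3992)))))) (.node (.node (.node (.node (.node (.node (.leaf tT88) (.leaf tT4184)) (.leaf tT2136)) (.node (.leaf tT1112) (.leaf tT3160))) (.node (.node (.node (.leaf tT600) (.leaf tT4696)) (.leaf tT2648)) (.node (.leaf tT1624) (.leaf tT3672)))) (.node (.node (.node (.node (.leaf tT344) (.leaf tT4440)) (.leaf tT2392)) (.node (.leaf tT1368) (.leaf tT3416))) (.node (.node (.leaf tT856) (.leaf tT2904)) (.node (.leaf tT1880) (.leaf tT3928))))) (.node (.node (.node (.node (.node (.leaf tT216) (.leaf tT4312)) (.leaf tT2264)) (.node (.leaf tT1240) (.leaf tT3288))) (.node (.node (.leaf tT728) (.leaf tT2776)) (.node (.leaf tT1752) (.leaf tT3800)))) (.node (.node (.node (.node (.leaf tT472) (.leaf tT4568)) (.leaf tT2520)) (.node (.leaf tT1496) (.leaf tT3544))) (.node (.node (.leaf tT984) (.leaf tT3032)) (.node (.leaf tT2008) (.leaf tT4056))))))) (.node (.node (.node (.node (.node (.node (.node (.leaf tT56) (.leaf tT4152)) (.leaf tT2104)) (.node (.leaf tT1080) (.leaf tT3128))) (.node (.node (.node (.leaf tT568) (.leaf tT4664)) (.leaf tT2616)) (.node (.leaf tT1592) (.leaf tT3640)))) (.node (.node (.node (.node (.leaf tT312) (.leaf tT4408)) (.leaf tT2360)) (.node (.leaf tT1336) (.leaf tT3384))) (.node (.node (.leaf tT824) (.leaf tT2872)) (.node (.leaf tT1848) (.leaf tT3896))))) (.node (.node (.node (.node (.node (.leaf tT184) (.leaf tT4280)) (.leaf tT2232)) (.node (.leaf tT1208) (.leaf tT3256))) (.node (.node (.node (.leaf tT696) (.leaf tT4792)) (.leaf tT2744)) (.node (.leaf tT1720) (.leaf tT3768)))) (.node (.node (.node (.node (.leaf tT440) (.leaf tT4536)) (.leaf tT2488)) (.node (.leaf tT1464) (.leaf tT3512))) (.node (.node (.leaf tT952) (.leaf tT3000)) (.node (.leaf tT1976) (.leaf tT4024)))))) (.node (.node (.node (.node (.node (.node (.leaf tT120) (.leaf tT4216)) (.leaf tT2168)) (.node (.leaf tT1144) (.leaf tT3192))) (.node (.node (.node (.leaf tT632) (.leaf tT4728)) (.leaf tT2680)) (.node (.leaf tT1656) (.leaf tT3704)))) (.node (.node (.node (.node (.leaf tT376) (.leaf tT4472)) (.leaf tT2424)) (.node (.leaf tT1400) (.leaf tT3448))) (.node (.node (.leaf tT888) (.leaf tT2936)) (.node (.leaf tT1912) (.leaf tT3960))))) (.node (.node (.node (.node (.node (.leaf tT248) (.leaf tT4344)) (.leaf tT2296)) (.node (.leaf tT1272) (.leaf tT3320))) (.node (.node (.leaf tT760) (.leaf tT2808)) (.node (.leaf tT1784) (.leaf tT3832)))) (.node (.node (.node (.node (.leaf tT504) (.leaf tT4600)) (.leaf tT2552)) (.node (.leaf tT1528) (.leaf tT3576))) (.node (.node (.leaf tT1016) (.leaf tT3064)) (.node (.leaf tT2040) (.leaf tT4088)))))))))) (.node (.node (.node (.node (.node (.node (.node (.node (.node (.node (.leaf tT4) (.leaf tT4100)) (.leaf tT2052)) (.node (.leaf tT1028) (.leaf tT3076))) (.node (.node (.node (.leaf tT516) (.leaf tT4612)) (.leaf tT2564)) (.node (.leaf tT1540) (.leaf tT3588)))) (.node (.node (.node (.node (.leaf tT260) (.leaf tT4356)) (.leaf tT2308)) (.node (.leaf tT1284) (.leaf tT3332))) (.node (.node (.leaf tT772) (.leaf tT2820)) (.node (.leaf tT1796) (.leaf tT3844))))) (.node (.node (.node (.node (.node (.leaf tT132) (.leaf tT4228)) (.leaf tT2180)) (.node (.leaf tT1156) (.leaf tT3204))) (.node (.node (.node (.leaf tT644) (.leaf tT4740)) (.leaf tT2692)) (.node (.leaf tT1668) (.leaf tT3716)))) (.node (.node (.node (.node (.leaf tT388) (.leaf tT4484)) (.leaf tT2436)) (.node (.leaf tT1412) (.leaf tT3460))) (.node (.node (.leaf tT900) (.leaf tT2948)) (.node (.leaf tT1924) (.leaf tT3972)))))) (.node (.node (.node (.node (.node (.node (.leaf tT68) (.leaf tT4164)) (.leaf tT2116)) (.node (.leaf tT1092) (.leaf tT3140))) (.node (.node (.node (.leaf tT580) (.leaf tT4676)) (.leaf tT2628)) (.node (.leaf tT1604) (.leaf tT3652)))) (.node (.node (.node (.node (.leaf tT324) (.leaf tT4420)) (.leaf tT2372)) (.node (.leaf tT1348) (.leaf tT3396))) (.node (.node (.leaf tT836) (.leaf tT2884)) (.node (.leaf tT1860) (.leaf tT3908))))) (.node (.node (.node (.node (.node (.leaf tT196) (.leaf tT4292)) (.leaf tT2244)) (.node (.leaf tT1220) (.leaf tT3268))) (.node (.node (.leaf tT708) (.leaf tT2756)) (.node (.leaf tT1732) (.leaf tT3780)))) (.node (.node (.node (.node (.leaf tT452) (.leaf tT4548)) (.leaf tT2500)) (.node (.leaf tT1476) (.leaf tT3524))) (.node (.node (.leaf tT964) (.leaf tT3012)) (.node (.leaf tT1988) (.leaf tT4036))))))) (.node (.node (.node (.node (.node (.node (.node (.leaf tT36) (.leaf tT4132)) (.leaf tT2084)) (.node (.leaf tT1060) (.leaf tT3108))) (.node (.node (.node (.leaf tT548) (.leaf tT4644)) (.leaf tT2596)) (.node (.leaf tT1572) (.leaf tT3620)))) (.node (.node (.node (.node (.leaf tT292) (.leaf tT4388)) (.leaf tT2340)) (.node (.leaf tT1316) (.leaf tT3364))) (.node (.node (.leaf tT804) (.leaf tT2852)) (.node (.leaf tT1828) (.leaf tT3876))))) (.node (.node (.node (.node (.node (.leaf tT164) (.leaf tT4260)) (.leaf tT2212)) (.node (.leaf tT1188) (.leaf tT3236))) (.node (.node (.node (.leaf tT676) (.leaf tT4772)) (.leaf tT2724)) (.node (.leaf tT1700) (.leaf tT3748)))) (.node (.node (.node (.node (.leaf tT420) (.leaf tT4516)) (.leaf tT2468)) (.node (.leaf tT1444) (.leaf tT3492))) (.node (.node (.leaf tT932) (.leaf tT2980)) (.node (.leaf tT1956) (.leaf tT4004)))))) (.node (.node (.node (.node (.node (.node (.leaf tT100) (.leaf tT4196)) (.leaf tT2148)) (.node (.leaf tT1124) (.leaf tT3172))) (.node (.node (.node (.leaf tT612) (.leaf tT4708)) (.leaf tT2660)) (.node (.leaf tT1636) (.leaf tT3684)))) (.node (.node (.node (.node (.leaf tT356) (.leaf tT4452)) (.leaf tT2404)) (.node (.leaf tT1380) (.leaf tT3428))) (.node (.node (.leaf tT868) (.leaf tT2916)) (.node (.leaf tT1892) (.leaf tT3940))))) (.node (.node (.node (.node (.node (.leaf tT228) (.leaf tT4324)) (.leaf tT2276)) (.node (.leaf tT1252) (.leaf tT3300))) (.node (.node (.leaf tT740) (.leaf tT2788)) (.node (.leaf tT1764) (.leaf tT3812)))) (.node (.node (.node (.node (.leaf tT484) (.leaf tT4580)) (.leaf tT2532)) (.node (.leaf tT1508) (.leaf tT3556))) (.node (.node (.leaf tT996) (.leaf tT3044)) (.node (.leaf tT2020) (.leaf tT4068)))))))) (.node (.node (.node (.node (.node (.node (.node (.node (.leaf tT20) (.leaf tT4116)) (.leaf tT2068)) (.node (.leaf tT1044) (.leaf tT3092))) (.node (.node (.node (.leaf tT532) (.leaf tT4628)) (.leaf tT2580)) (.node (.leaf tT1556) (.leaf tT3604)))) (.node (.node (.node (.node (.leaf tT276) (.leaf tT4372)) (.leaf tT2324)) (.node (.leaf tT1300) (.leaf tT3348))) (.node (.node (.leaf tT788) (.leaf tT2836)) (.node (.leaf tT1812) (.leaf tT3860))))) (.node (.node (.node (.node (.node (.leaf tT148) (.leaf tT4244)) (.leaf tT2196)) (.node (.leaf tT1172) (.leaf tT3220))) (.node (.node (.node (.leaf tT660) (.leaf tT4756)) (.leaf tT2708)) (.node (.leaf tT1684) (.leaf tT3732)))) (.node (.node (.node (.node (.leaf tT404) (.leaf tT4500)) (.leaf tT2452)) (.node (.leaf tT1428) (.leaf tT3476))) (.node (.node (.leaf tT916) (.leaf tT2964)) (.node (.leaf tT1940) (.leaf tT3988)))))) (.node (.node (.node (.node (.node (.node (.leaf tT84) (.leaf tT4180)) (.leaf tT2132)) (.node (.leaf tT1108) (.leaf tT3156))) (.node (.node (.node (.leaf tT596) (.leaf tT4692)) (.leaf tT2644)) (.node (.leaf tT1620) (.leaf tT3668)))) (.node (.node (.node (.node (.leaf tT340) (.leaf tT4436)) (.leaf tT2388)) (.node (.leaf tT1364) (.leaf tT3412))) (.node (.node (.leaf tT852) (.leaf tT2900)) (.node (.leaf tT1876) (.leaf tT3924))))) (.node (.node (.node (.node (.node (.leaf tT212) (.leaf tT4308)) (.leaf tT2260)) (.node (.leaf tT1236) (.leaf tT3284))) (.node (.node (.leaf tT724) (.leaf tT2772)) (.node (.leaf tT1748) (.leaf tT3796)))) (.node (.node (.node (.node (.leaf tT468) (.leaf tT4564)) (.leaf tT2516)) (.node (.leaf tT1492) (.leaf tT3540))) (.node (.node (.leaf tT980) (.leaf tT3028)) (.node (.leaf tT2004) (.leaf tT4052))))))) (.node (.node (.node (.node (.node (.node (.node (.leaf tT52) (.leaf tT4148)) (.leaf tT2100)) (.node (.leaf tT1076) (.leaf tT3124))) (.node (.node (.node (.leaf tT564) (.leaf tT4660)) (.leaf tT2612)) (.node (.leaf tT1588) (.leaf tT3636)))) (.node (.node (.node (.node (.leaf tT308) (.leaf tT4404)) (.leaf tT2356)) (.node (.leaf tT1332) (.leaf tT3380))) (.node (.node (.leaf tT820) (.leaf tT2868)) (.node (.leaf tT1844) (.leaf tT3892))))) (.node (.node (.node (.node (.node (.leaf tT180) (.leaf tT4276)) (.leaf tT2228)) (.node (.leaf tT1204) (.leaf tT3252))) (.node (.node (.node (.leaf tT692) (.leaf tT4788)) (.leaf tT2740)) (.node (.leaf tT1716) (.leaf tT3764)))) (.node (.node (.node (.node (.leaf tT436) (.leaf tT4532)) (.leaf tT2484)) (.node (.leaf tT1460) (.leaf tT3508))) (.node (.node (.leaf tT948) (.leaf tT2996)) (.node (.leaf tT1972) (.leaf tT4020)))))) (.node (.node (.node (.node (.node (.node (.leaf tT116) (.leaf tT4212)) (.leaf tT2164)) (.node (.leaf tT1140) (.leaf tT3188))) (.node (.node (.node (.leaf tT628) (.leaf tT4724)) (.leaf tT2676)) (.node (.leaf tT1652) (.leaf tT3700)))) (.node (.node (.node (.node (.leaf tT372) (.leaf tT4468)) (.leaf tT2420)) (.node (.leaf tT1396) (.leaf tT3444))) (.node (.node (.leaf tT884) (.leaf tT2932)) (.node (.leaf tT1908) (.leaf tT3956))))) (.node (.node (.node (.node (.node (.leaf tT244) (.leaf tT4340)) (.leaf tT2292)) (.node (.leaf tT1268) (.leaf tT3316))) (.node (.node (.leaf tT756) (.leaf tT2804)) (.node (.leaf tT1780) (.leaf tT3828)))) (.node (.node (.node (.node (.leaf tT500) (.leaf tT4596)) (.leaf tT2548)) (.node (.leaf tT1524) (.leaf tT3572))) (.node (.node (.leaf tT1012) (.leaf tT3060)) (.node (.leaf tT2036) (.leaf tT4084))))))))) (.node (.node (.node (.node (.node (.node (.node (.node (.node (.leaf tT12) (.leaf tT4108)) (.leaf tT2060)) (.node (.leaf tT1036) (.leaf tT3084))) (.node (.node (.node (.leaf tT524) (.leaf tT4620)) (.leaf tT2572)) (.node (.leaf tT1548) (.leaf tT3596)))) (.node (.node (.node (.node (.leaf tT268) (.leaf tT4364)) (.leaf tT2316)) (.node (.leaf tT1292) (.leaf tT3340))) (.node (.node (.leaf tT780) (.leaf tT2828)) (.node (.leaf tT1804) (.leaf tT3852))))) (.node (.node (.node (.node (.node (.leaf tT140) (.leaf tT4236)) (.leaf tT2188)) (.node (.leaf tT1164) (.leaf tT3212))) (.node (.node (.node (.leaf tT652) (.leaf tT4748)) (.leaf tT2700)) (.node (.leaf tT1676) (.leaf tT3724)))) (.node (.node (.node (.node (.leaf tT396) (.leaf tT4492)) (.leaf tT2444)) (.node (.leaf tT1420) (.leaf tT3468))) (.node (.node (.leaf tT908) (.leaf tT2956)) (.node (.leaf tT1932) (.leaf tT3980)))))) (.node (.node (.node (.node (.node (.node (.leaf tT76) (.leaf tT4172)) (.leaf tT2124)) (.node (.leaf tT1100) (.leaf tT3148))) (.node (.node (.node (.leaf tT588) (.leaf tT4684)) (.leaf tT2636)) (.node (.leaf tT1612) (.leaf tT3660)))) (.node (.node (.node (.node (.leaf tT332) (.leaf tT4428)) (.leaf tT2380)) (.node (.leaf tT1356) (.leaf tT3404))) (.node (.node (.leaf tT844) (.leaf tT2892)) (.node (.leaf tT1868) (.leaf tT3916))))) (.node (.node (.node (.node (.node (.leaf tT204) (.leaf tT4300)) (.leaf tT2252)) (.node (.leaf tT1228) (.leaf tT3276))) (.node (.node (.leaf tT716) (.leaf tT2764)) (.node (.leaf tT1740) (.leaf tT3788)))) (.node (.node (.node (.node (.leaf tT460) (.leaf tT4556)) (.leaf tT2508)) (.node (.leaf tT1484) (.leaf tT3532))) (.node (.node (.leaf tT972) (.leaf tT3020)) (.node (.leaf tT1996) (.leaf tT4044))))))) (.node (.node (.node (.node (.node (.node (.node (.leaf tT44) (.leaf tT4140)) (.leaf tT2092)) (.node (.leaf tT1068) (.leaf tT3116))) (.node (.node (.node (.leaf tT556) (.leaf tT4652)) (.leaf tT2604)) (.node (.leaf tT1580) (.leaf tT3628)))) (.node (.node (.node (.node (.leaf tT300) (.leaf tT4396)) (.leaf tT2348)) (.node (.leaf tT1324) (.leaf tT3372))) (.node (.node (.leaf tT812) (.leaf tT2860)) (.node (.leaf tT1836) (.leaf tT3884))))) (.node (.node (.node (.node (.node (.leaf tT172) (.leaf tT4268)) (.leaf tT2220)) (.node (.leaf tT1196) (.leaf tT3244))) (.node (.node (.node (.leaf tT684) (.leaf tT4780)) (.leaf tT2732)) (.node (.leaf tT1708) (.leaf tT3756)))) (.node (.node (.node (.node (.leaf tT428) (.leaf tT4524)) (.leaf tT2476)) (.node (.leaf tT1452) (.leaf tT3500))) (.node (.node (.leaf tT940) (.leaf tT2988)) (.node (.leaf tT1964) (.leaf tT4012)))))) (.node (.node (.node (.node (.node (.node (.leaf tT108) (.leaf tT4204)) (.leaf tT2156)) (.node (.leaf tT1132) (.leaf tT3180))) (.node (.node (.node (.leaf tT620) (.leaf tT4716)) (.leaf tT2668)) (.node (.leaf tT1644) (.leaf tT3692)))) (.node (.node (.node (.node (.leaf tT364) (.leaf tT4460)) (.leaf tT2412)) (.node (.leaf tT1388) (.leaf tT3436))) (.node (.node (.leaf tT876) (.leaf tT2924)) (.node (.leaf tT1900) (.leaf tT3948))))) (.node (.node (.node (.node (.node (.leaf tT236) (.leaf tT4332)) (.leaf tT2284)) (.node (.leaf tT1260) (.leaf tT3308))) (.node (.node (.leaf tT748) (.leaf tT2796)) (.node (.leaf tT1772) (.leaf tT3820)))) (.node (.node (.node (.node (.leaf tT492) (.leaf tT4588)) (.leaf tT2540)) (.node (.leaf tT1516) (.leaf tT3564))) (.node (.node (.leaf tT1004) (.leaf tT3052)) (.node (.leaf tT2028) (.leaf tT4076)))))))) (.node (.node (.node (.node (.node (.node (.node (.node (.leaf tT28) (.leaf tT4124)) (.leaf tT2076)) (.node (.leaf tT1052) (.leaf tT3100))) (.node (.node (.node (.leaf tT540) (.leaf tT4636)) (.leaf tT2588)) (.node (.leaf tT1564) (.leaf tT3612)))) (.node (.node (.node (.node (.leaf tT284) (.leaf tT4380)) (.leaf tT2332)) (.node (.leaf tT1308) (.leaf tT3356))) (.node (.node (.leaf tT796) (.leaf tT2844)) (.node (.leaf tT1820) (.leaf tT3868))))) (.node (.node (.node (.node (.node (.leaf tT156) (.leaf tT4252)) (.leaf tT2204)) (.node (.leaf tT1180) (.leaf tT3228))) (.node (.node (.node (.leaf tT668) (.leaf tT4764)) (.leaf tT2716)) (.node (.leaf tT1692) (.leaf tT3740)))) (.node (.node (.node (.node (.leaf tT412) (.leaf tT4508)) (.leaf tT2460)) (.node (.leaf tT1436) (.leaf tT3484))) (.node (.node (.leaf tT924) (.leaf tT2972)) (.node (.leaf tT1948) (.leaf tT3996)))))) (.node (.node (.node (.node (.node (.node (.leaf tT92) (.leaf tT4188)) (.leaf tT2140)) (.node (.leaf tT1116) (.leaf tT3164))) (.node (.node (.node (.leaf tT604) (.leaf tT4700)) (.leaf tT2652)) (.node (.leaf tT1628) (.leaf tT3676)))) (.node (.node (.node (.node (.leaf tT348) (.leaf tT4444)) (.leaf tT2396)) (.node (.leaf tT1372) (.leaf tT3420))) (.node (.node (.leaf tT860) (.leaf tT2908)) (.node (.leaf tT1884) (.leaf tT3932))))) (.node (.node (.node (.node (.node (.leaf tT220) (.leaf tT4316)) (.leaf tT2268)) (.node (.leaf tT1244) (.leaf tT3292))) (.node (.node (.leaf tT732) (.leaf tT2780)) (.node (.leaf tT1756) (.leaf tT3804)))) (.node (.node (.node (.node (.leaf tT476) (.leaf tT4572)) (.leaf tT2524)) (.node (.leaf tT1500) (.leaf tT3548))) (.node (.node (.leaf tT988) (.leaf tT3036)) (.node (.leaf tT2012) (.leaf tT4060))))))) (.node (.node (.node (.node (.node (.node (.node (.leaf tT60) (.leaf tT4156)) (.leaf tT2108)) (.node (.leaf tT1084) (.leaf tT3132))) (.node (.node (.node (.leaf tT572) (.leaf tT4668)) (.leaf tT2620)) (.node (.leaf tT1596) (.leaf tT3644)))) (.node (.node (.node (.node (.leaf tT316) (.leaf tT4412)) (.leaf tT2364)) (.node (.leaf tT1340) (.leaf tT3388))) (.node (.node (.leaf tT828) (.leaf tT2876)) (.node (.leaf tT1852) (.leaf tT3900))))) (.node (.node (.node (.node (.node (.leaf tT188) (.leaf tT4284)) (.leaf tT2236)) (.node (.leaf tT1212) (.leaf tT3260))) (.node (.node (.leaf tT700) (.leaf tT2748)) (.node (.leaf tT1724) (.leaf tT3772)))) (.node (.node (.node (.node (.leaf tT444) (.leaf tT4540)) (.leaf tT2492)) (.node (.leaf tT1468) (.leaf tT3516))) (.node (.node (.leaf tT956) (.leaf tT3004)) (.node (.leaf tT1980) (.leaf tT4028)))))) (.node (.node (.node (.node (.node (.node (.leaf tT124) (.leaf tT4220)) (.leaf tT2172)) (.node (.leaf tT1148) (.leaf tT3196))) (.node (.node (.node (.leaf tT636) (.leaf tT4732)) (.leaf tT2684)) (.node (.leaf tT1660) (.leaf tT3708)))) (.node (.node (.node (.node (.leaf tT380) (.leaf tT4476)) (.leaf tT2428)) (.node (.leaf tT1404) (.leaf tT3452))) (.node (.node (.leaf tT892) (.leaf tT2940)) (.node (.leaf tT1916) (.leaf tT3964))))) (.node (.node (.node (.node (.node (.leaf tT252) (.leaf tT4348)) (.leaf tT2300)) (.node (.leaf tT1276) (.leaf tT3324))) (.node (.node (.leaf tT764) (.leaf tT2812)) (.node (.leaf tT1788) (.leaf tT3836)))) (.node (.node (.node (.node (.leaf tT508) (.leaf tT4604)) (.leaf tT2556)) (.node (.leaf tT1532) (.leaf tT3580))) (.node (.node (.leaf tT1020) (.leaf tT3068)) (.node (.leaf tT2044) (.leaf tT4092))))))))))) (.node (.node (.node (.node (.node (.node (.node (.node (.node (.node (.node (.leaf tT2) (.leaf tT4098)) (.leaf tT2050)) (.node (.leaf tT1026) (.leaf tT3074))) (.node (.node (.node (.leaf tT514) (.leaf tT4610)) (.leaf tT2562)) (.node (.leaf tT1538) (.leaf tT3586)))) (.node (.node (.node (.node (.leaf tT258) (.leaf tT4354)) (.leaf tT2306)) (.node (.leaf tT1282) (.leaf tT3330))) (.node (.node (.leaf tT770) (.leaf tT2818)) (.node (.leaf tT1794) (.leaf tT3842))))) (.node (.node (.node (.node (.node (.leaf tT130) (.leaf tT4226)) (.leaf tT2178)) (.node (.leaf tT1154) (.leaf tT3202))) (.node (.node (.node (.leaf tT642) (.leaf tT4738)) (.leaf tT2690)) (.node (.leaf tT1666) (.leaf tT3714)))) (.node (.node (.node (.node (.leaf tT386) (.leaf tT4482)) (.leaf tT2434)) (.node (.leaf tT1410) (.leaf tT3458))) (.node (.node (.leaf tT898) (.leaf tT2946)) (.node (.leaf tT1922) (.leaf tT3970)))))) (.node (.node (.node (.node (.node (.node (.leaf tT66) (.leaf tT4162)) (.leaf tT2114)) (.node (.leaf tT1090) (.leaf tT3138))) (.node (.node (.node (.leaf tT578) (.leaf tT4674)) (.leaf tT2626)) (.node (.leaf tT1602) (.leaf tT3650)))) (.node (.node (.node (.node (.leaf tT322) (.leaf tT4418)) (.leaf tT2370)) (.node (.leaf tT1346) (.leaf tT3394))) (.node (.node (.leaf tT834) (.leaf tT2882)) (.node (.leaf tT1858) (.leaf tT3906))))) (.node (.node (.node (.node (.node (.leaf tT194) (.leaf tT4290)) (.leaf tT2242)) (.node (.leaf tT1218) (.leaf tT3266))) (.node (.node (.leaf tT706) (.leaf tT2754)) (.node (.leaf tT1730) (.leaf tT3778)))) (.node (.node (.node (.node (.leaf tT450) (.leaf tT4546)) (.leaf tT2498)) (.node (.leaf tT1474) (.leaf tT3522))) (.node (.node (.leaf tT962) (.leaf tT3010)) (.node (.leaf tT1986) (.leaf tT4034))))))) (.node (.node (.node (.node (.node (.node (.node (.leaf tT34) (.leaf tT4130)) (.leaf tT2082)) (.node (.leaf tT1058) (.leaf tT3106))) (.node (.node (.node (.leaf tT546) (.leaf tT4642)) (.leaf tT2594)) (.node (.leaf tT1570) (.leaf tT3618)))) (.node (.node (.node (.node (.leaf tT290) (.leaf tT4386)) (.leaf tT2338)) (.node (.leaf tT1314) (.leaf tT3362))) (.node (.node (.leaf tT802) (.leaf tT2850)) (.node (.leaf tT1826) (.leaf tT3874))))) (.node (.node (.node (.node (.node (.leaf tT162) (.leaf tT4258)) (.leaf tT2210)) (.node (.leaf tT1186) (.leaf tT3234))) (.node (.node (.node (.leaf tT674) (.leaf tT4770)) (.leaf tT2722)) (.node (.leaf tT1698) (.leaf tT3746)))) (.node (.node (.node (.node (.leaf tT418) (.leaf tT4514)) (.leaf tT2466)) (.node (.leaf tT1442) (.leaf tT3490))) (.node (.node (.leaf tT930) (.leaf tT2978)) (.node (.leaf tT1954) (.leaf tT4002)))))) (.node (.node (.node (.node (.node (.node (.leaf tT98) (.leaf tT4194)) (.leaf tT2146)) (.node (.leaf tT1122) (.leaf tT3170))) (.node (.node (.node (.leaf tT610) (.leaf tT4706)) (.leaf tT2658)) (.node (.leaf tT1634) (.leaf tT3682)))) (.node (.node (.node (.node (.leaf tT354) (.leaf tT4450)) (.leaf tT2402)) (.node (.leaf tT1378) (.leaf tT3426))) (.node (.node (.leaf tT866) (.leaf tT2914)) (.node (.leaf tT1890) (.leaf tT3938))))) (.node (.node (.node (.node (.node (.leaf tT226) (.leaf tT4322)) (.leaf tT2274)) (.node (.leaf tT1250) (.leaf tT3298))) (.node (.node (.leaf tT738) (.leaf tT2786)) (.node (.leaf tT1762) (.leaf tT3810)))) (.node (.node (.node (.node (.leaf tT482) (.leaf tT4578)) (.leaf tT2530)) (.node (.leaf tT1506) (.leaf tT3554))) (.node (.node (.leaf tT994) (.leaf tT3042)) (.node (.leaf tT2018) (.leaf tT4066)))))))) (.node (.node (.node (.node (.node (.node (.node (.node (.leaf tT18) (.leaf tT4114)) (.leaf tT2066)) (.node (.leaf tT1042) (.leaf tT3090))) (.node (.node (.node (.leaf tT530) (.leaf tT4626)) (.leaf tT2578)) (.node (.leaf tT1554) (.leaf tT3602)))) (.node (.node (.node (.node (.leaf tT274) (.leaf tT4370)) (.leaf tT2322)) (.node (.leaf tT1298) (.leaf tT3346))) (.node (.node (.leaf tT786) (.leaf tT2834)) (.node (.leaf tT1810) (.leaf tT3858))))) (.node (.node (.node (.node (.node (.leaf tT146) (.leaf tT4242)) (.leaf tT2194)) (.node (.leaf tT1170) (.leaf tT3218))) (.node (.node (.node (.leaf tT658) (.leaf tT4754)) (.leaf tT2706)) (.node (.leaf tT1682) (.leaf tT3730)))) (.node (.node (.node (.node (.leaf tT402) (.leaf tT4498)) (.leaf tT2450)) (.node (.leaf tT1426) (.leaf tT3474))) (.node (.node (.leaf tT914) (.leaf tT2962)) (.node (.leaf tT1938) (.leaf tT3986)))))) (.node (.node (.node (.node (.node (.node (.leaf tT82) (.leaf tT4178)) (.leaf tT2130)) (.node (.leaf tT1106) (.leaf tT3154))) (.node (.node (.node (.leaf tT594) (.leaf tT4690)) (.leaf tT2642)) (.node (.leaf tT1618) (.leaf tT3666)))) (.node (.node (.node (.node (.leaf tT338) (.leaf tT4434)) (.leaf tT2386)) (.node (.leaf tT1362) (.leaf tT3410))) (.node (.node (.leaf tT850) (.leaf tT2898)) (.node (.leaf tT1874) (.leaf tT3922))))) (.node (.node (.node (.node (.node (.leaf tT210) (.leaf tT4306)) (.leaf tT2258)) (.node (.leaf tT1234) (.leaf tT3282))) (.node (.node (.leaf tT722) (.leaf tT2770)) (.node (.leaf tT1746) (.leaf tT3794)))) (.node (.node (.node (.node (.leaf tT466) (.leaf tT4562)) (.leaf tT2514)) (.node (.leaf tT1490) (.leaf tT3538))) (.node (.node (.leaf tT978) (.leaf tT3026)) (.node (.leaf tT2002) (.leaf tT4050))))))) (.node (.node (.node (.node (.node (.node (.node (.leaf tT50) (.leaf tT4146)) (.leaf tT2098)) (.node (.leaf tT1074) (.leaf tT3122))) (.node (.node (.node (.leaf tT562) (.leaf tT4658)) (.leaf tT2610)) (.node (.leaf tT1586) (.leaf tT3634)))) (.node (.node (.node (.node (.leaf tT306) (.leaf tT4402)) (.leaf tT2354)) (.node (.leaf tT1330) (.leaf tT3378))) (.node (.node (.leaf tT818) (.leaf tT2866)) (.node (.leaf tT1842) (.leaf tT3890))))) (.node (.node (.node (.node (.node (.leaf tT178) (.leaf tT4274)) (.leaf tT2226)) (.node (.leaf tT1202) (.leaf tT3250))) (.node (.node (.node (.leaf tT690) (.leaf tT4786)) (.leaf tT2738)) (.node (.leaf tT1714) (.leaf tT3762)))) (.node (.node (.node (.node (.leaf tT434) (.leaf tT4530)) (.leaf tT2482)) (.node (.leaf tT1458) (.leaf tT3506))) (.node (.node (.leaf tT946) (.leaf tT2994)) (.node (.leaf tT1970) (.leaf tT4018)))))) (.node (.node (.node (.node (.node (.node (.leaf tT114) (.leaf tT4210)) (.leaf tT2162)) (.node (.leaf tT1138) (.leaf tT3186))) (.node (.node (.node (.leaf tT626) (.leaf tT4722)) (.leaf tT2674)) (.node (.leaf tT1650) (.leaf tT3698)))) (.node (.node (.node (.node (.leaf tT370) (.leaf tT4466)) (.leaf tT2418)) (.node (.leaf tT1394) (.leaf tT3442))) (.node (.node (.leaf tT882) (.leaf tT2930)) (.node (.leaf tT1906) (.leaf tT3954))))) (.node (.node (.node (.node (.node (.leaf tT242) (.leaf tT4338)) (.leaf tT2290)) (.node (.leaf tT1266) (.leaf tT3314))) (.node (.node (.leaf tT754) (.leaf tT2802)) (.node (.leaf tT1778) (.leaf tT3826)))) (.node (.node (.node (.node (.leaf tT498) (.leaf tT4594)) (.leaf tT2546)) (.node (.leaf tT1522) (.leaf tT3570))) (.node (.node (.leaf tT1010) (.leaf tT3058)) (.node (.leaf tT2034) (.leaf tT4082))))))))) (.node (.node (.node (.node (.node (.node (.node (.node (.node (.leaf tT10) (.leaf tT4106)) (.leaf tT2058)) (.node (.leaf tT1034) (.leaf tT3082))) (.node (.node (.node (.leaf tT522) (.leaf tT4618)) (.leaf tT2570)) (.node (.leaf tT1546) (.leaf tT3594)))) (.node (.node (.node (.node (.leaf tT266) (.leaf tT4362)) (.leaf tT2314)) (.node (.leaf tT1290) (.leaf tT3338))) (.node (.node (.leaf tT778) (.leaf tT2826)) (.node (.leaf tT1802) (.leaf tT3850))))) (.node (.node (.node (.node (.node (.leaf tT138) (.leaf tT4234)) (.leaf tT2186)) (.node (.leaf tT1162) (.leaf tT3210))) (.node (.node (.node (.leaf tT650) (.leaf tT4746)) (.leaf tT2698)) (.node (.leaf tT1674) (.leaf tT3722)))) (.node (.node (.node (.node (.leaf tT394) (.leaf tT4490)) (.leaf tT2442)) (.node (.leaf tT1418) (.leaf tT3466))) (.node (.node (.leaf tT906) (.leaf tT2954)) (.node (.leaf tT1930) (.leaf tT3978)))))) (.node (.node (.node (.node (.node (.node (.leaf tT74) (.leaf tT4170)) (.leaf tT2122)) (.node (.leaf tT1098) (.leaf tT3146))) (.node (.node (.node (.leaf tT586) (.leaf tT4682)) (.leaf tT2634)) (.node (.leaf tT1610) (.leaf tT3658)))) (.node (.node (.node (.node (.leaf tT330) (.leaf tT4426)) (.leaf tT2378)) (.node (.leaf tT1354) (.leaf tT3402))) (.node (.node (.leaf tT842) (.leaf tT2890)) (.node (.leaf tT1866) (.leaf tT3914))))) (.node (.node (.node (.node (.node (.leaf tT202) (.leaf tT4298)) (.leaf tT2250)) (.node (.leaf tT1226) (.leaf tT3274))) (.node (.node (.leaf tT714) (.leaf tT2762)) (.node (.leaf tT1738) (.leaf tT3786)))) (.node (.node (.node (.node (.leaf tT458) (.leaf tT4554)) (.leaf tT2506)) (.node (.leaf tT1482) (.leaf tT3530))) (.node (.node (.leaf tT970) (.leaf tT3018)) (.node (.leaf tT1994) (.leaf tT4042))))))) (.node (.node (.node (.node (.node (.node (.node (.leaf tT42) (.leaf tT4138)) (.leaf tT2090)) (.node (.leaf tT1066) (.leaf tT3114))) (.node (.node (.node (.leaf tT554) (.leaf tT4650)) (.leaf tT2602)) (.node (.leaf tT1578) (.leaf tT3626)))) (.node (.node (.node (.node (.leaf tT298) (.leaf tT4394)) (.leaf tT2346)) (.node (.leaf tT1322) (.leaf tT3370))) (.node (.node (.leaf tT810) (.leaf tT2858)) (.node (.leaf tT1834) (.leaf tT3882))))) (.node (.node (.node (.node (.node (.leaf tT170) (.leaf tT4266)) (.leaf tT2218)) (.node (.leaf tT1194) (.leaf tT3242))) (.node (.node (.node (.leaf tT682) (.leaf tT4778)) (.leaf tT2730)) (.node (.leaf tT1706) (.leaf tT3754)))) (.node (.node (.node (.node (.leaf tT426) (.leaf tT4522)) (.leaf tT2474)) (.node (.leaf tT1450) (.leaf tT3498))) (.node (.node (.leaf tT938) (.leaf tT2986)) (.node (.leaf tT1962) (.leaf tT4010)))))) (.node (.node (.node (.node (.node (.node (.leaf tT106) (.leaf tT4202)) (.leaf tT2154)) (.node (.leaf tT1130) (.leaf tT3178))) (.node (.node (.node (.leaf tT618) (.leaf tT4714)) (.leaf tT2666)) (.node (.leaf tT1642) (.leaf tT3690)))) (.node (.node (.node (.node (.leaf tT362) (.leaf tT4458)) (.leaf tT2410)) (.node (.leaf tT1386) (.leaf tT3434))) (.node (.node (.leaf tT874) (.leaf tT2922)) (.node (.leaf tT1898) (.leaf tT3946))))) (.node (.node (.node (.node (.node (.leaf tT234) (.leaf tT4330)) (.leaf tT2282)) (.node (.leaf tT1258) (.leaf tT3306))) (.node (.node (.leaf tT746) (.leaf tT2794)) (.node (.leaf tT1770) (.leaf tT3818)))) (.node (.node (.node (.node (.leaf tT490) (.leaf tT4586)) (.leaf tT2538)) (.node (.leaf tT1514) (.leaf tT3562))) (.node (.node (.leaf tT1002) (.leaf tT3050)) (.node (.leaf tT2026) (.leaf tT4074)))))))) (.node (.node (.node (.node (.node (.node (.node (.node (.leaf tT26) (.leaf tT4122)) (.leaf tT2074)) (.node (.leaf tT1050) (.leaf tT3098))) (.node (.node (.node (.leaf tT538) (.leaf tT4634)) (.leaf tT2586)) (.node (.leaf tT1562) (.leaf tT3610)))) (.node (.node (.node (.node (.leaf tT282) (.leaf tT4378)) (.leaf tT2330)) (.node (.leaf tT1306) (.leaf tT3354))) (.node (.node (.leaf tT794) (.leaf tT2842)) (.node (.leaf tT1818) (.leaf tT3866))))) (.node (.node (.node (.node (.node (.leaf tT154) (.leaf tT4250)) (.leaf tT2202)) (.node (.leaf tT1178) (.leaf tT3226))) (.node (.node (.node (.leaf tT666) (.leaf tT4762)) (.leaf tT2714)) (.node (.leaf tT1690) (.leaf tT3738)))) (.node (.node (.node (.node (.leaf tT410) (.leaf tT4506)) (.leaf tT2458)) (.node (.leaf tT1434) (.leaf tT3482))) (.node (.node (.leaf tT922) (.leaf tT2970)) (.node (.leaf tT1946) (.leaf tT3994)))))) (.node (.node (.node (.node (.node (.node (.leaf tT90) (.leaf tT4186)) (.leaf tT2138)) (.node (.leaf tT1114) (.leaf tT3162))) (.node (.node (.node (.leaf tT602) (.leaf tT4698)) (.leaf tT2650)) (.node (.leaf tT1626) (.leaf tT3674)))) (.node (.node (.node (.node (.leaf tT346) (.leaf tT4442)) (.leaf tT2394)) (.node (.leaf tT1370) (.leaf tT3418))) (.node (.node (.leaf tT858) (.leaf tT2906)) (.node (.leaf tT1882) (.leaf tT3930))))) (.node (.node (.node (.node (.node (.leaf tT218) (.leaf tT4314)) (.leaf tT2266)) (.node (.leaf tT1242) (.leaf tT3290))) (.node (.node (.leaf tT730) (.leaf tT2778)) (.node (.leaf tT1754) (.leaf tT3802)))) (.node (.node (.node (.node (.leaf tT474) (.leaf tT4570)) (.leaf tT2522)) (.node (.leaf tT1498) (.leaf tT3546))) (.node (.node (.leaf tT986) (.leaf tT3034)) (.node (.leaf tT2010) (.leaf tT4058))))))) (.node (.node (.node (.node (.node (.node (.node (.leaf tT58) (.leaf tT4154)) (.leaf tT2106)) (.node (.leaf tT1082) (.leaf tT3130))) (.node (.node (.node (.leaf tT570) (.leaf tT4666)) (.leaf tT2618)) (.node (.leaf tT1594) (.leaf tT3642)))) (.node (.node (.node (.node (.leaf tT314) (.leaf tT4410)) (.leaf tT2362)) (.node (.leaf tT1338) (.leaf tT3386))) (.node (.node (.leaf tT826) (.leaf tT2874)) (.node (.leaf tT1850) (.leaf tT3898))))) (.node (.node (.node (.node (.node (.leaf tT186) (.leaf tT4282)) (.leaf tT2234)) (.node (.leaf tT1210) (.leaf tT3258))) (.node (.node (.node (.leaf tT698) (.leaf tT4794)) (.leaf tT2746)) (.node (.leaf tT1722) (.leaf tT3770)))) (.node (.node (.node (.node (.leaf tT442) (.leaf tT4538)) (.leaf tT2490)) (.node (.leaf tT1466) (.leaf tT3514))) (.node (.node (.leaf tT954) (.leaf tT3002)) (.node (.leaf tT1978) (.leaf tT4026)))))) (.node (.node (.node (.node (.node (.node (.leaf tT122) (.leaf tT4218)) (.leaf tT2170)) (.node (.leaf tT1146) (.leaf tT3194))) (.node (.node (.node (.leaf tT634) (.leaf tT4730)) (.leaf tT2682)) (.node (.leaf tT1658) (.leaf tT3706)))) (.node (.node (.node (.node (.leaf tT378) (.leaf tT4474)) (.leaf tT2426)) (.node (.leaf tT1402) (.leaf tT3450))) (.node (.node (.leaf tT890) (.leaf tT2938)) (.node (.leaf tT1914) (.leaf tT3962))))) (.node (.node (.node (.node (.node (.leaf tT250) (.leaf tT4346)) (.leaf tT2298)) (.node (.leaf tT1274) (.leaf tT3322))) (.node (.node (.leaf tT762) (.leaf tT2810)) (.node (.leaf tT1786) (.leaf tT3834)))) (.node (.node (.node (.node (.leaf tT506) (.leaf tT4602)) (.leaf tT2554)) (.node (.leaf tT1530) (.leaf tT3578))) (.node (.node (.leaf tT1018) (.leaf tT3066)) (.node (.leaf tT2042) (.leaf tT4090)))))))))) (.node (.node (.node (.node (.node (.node (.node (.node (.node (.node (.leaf tT6) (.leaf tT4102)) (.leaf tT2054)) (.node (.leaf tT1030) (.leaf tT3078))) (.node (.node (.node (.leaf tT518) (.leaf tT4614)) (.leaf tT2566)) (.node (.leaf tT1542) (.leaf tT3590)))) (.node (.node (.node (.node (.leaf tT262) (.leaf tT4358)) (.leaf tT2310)) (.node (.leaf tT1286) (.leaf tT3334))) (.node (.node (.leaf tT774) (.leaf tT2822)) (.node (.leaf tT1798) (.leaf tT3846))))) (.node (.node (.node (.node (.node (.leaf tT134) (.leaf tT4230)) (.leaf tT2182)) (.node (.leaf tT1158) (.leaf tT3206))) (.node (.node (.node (.leaf tT646) (.leaf tT4742)) (.leaf tT2694)) (.node (.leaf tT1670) (.leaf tT3718)))) (.node (.node (.node (.node (.leaf tT390) (.leaf tT4486)) (.leaf tT2438)) (.node (.leaf tT1414) (.leaf tT3462))) (.node (.node (.leaf tT902) (.leaf tT2950)) (.node (.leaf tT1926) (.leaf tT3974)))))) (.node (.node (.node (.node (.node (.node (.leaf tT70) (.leaf tT4166)) (.leaf tT2118)) (.node (.leaf tT1094) (.leaf tT3142))) (.node (.node (.node (.leaf tT582) (.leaf tT4678)) (.leaf tT2630)) (.node (.leaf tT1606) (.leaf tT3654)))) (.node (.node (.node (.node (.leaf tT326) (.leaf tT4422)) (.leaf tT2374)) (.node (.leaf tT1350) (.leaf tT3398))) (.node (.node (.leaf tT838) (.leaf tT2886)) (.node (.leaf tT1862) (.leaf tT3910))))) (.node (.node (.node (.node (.node (.leaf tT198) (.leaf tT4294)) (.leaf tT2246)) (.node (.leaf tT1222) (.leaf tT3270))) (.node (.node (.leaf tT710) (.leaf tT2758)) (.node (.leaf tT1734) (.leaf tT3782)))) (.node (.node (.node (.node (.leaf tT454) (.leaf tT4550)) (.leaf tT2502)) (.node (.leaf tT1478) (.leaf tT3526))) (.node (.node (.leaf tT966) (.leaf tT3014)) (.node (.leaf tT1990) (.leaf tT4038))))))) (.node (.node (.node (.node (.node (.node (.node (.leaf tT38) (.leaf tT4134)) (.leaf tT2086)) (.node (.leaf tT1062) (.leaf tT3110))) (.node (.node (.node (.leaf tT550) (.leaf tT4646)) (.leaf tT2598)) (.node (.leaf tT1574) (.leaf tT3622)))) (.node (.node (.node (.node (.leaf tT294) (.leaf tT4390)) (.leaf tT2342)) (.node (.leaf tT1318) (.leaf tT3366))) (.node (.node (.leaf tT806) (.leaf tT2854)) (.node (.leaf tT1830) (.leaf tT3878))))) (.node (.node (.node (.node (.node (.leaf tT166) (.leaf tT4262)) (.leaf tT2214)) (.node (.leaf tT1190) (.leaf tT3238))) (.node (.node (.node (.leaf tT678) (.leaf tT4774)) (.leaf tT2726)) (.node (.leaf tT1702) (.leaf tT3750)))) (.node (.node (.node (.node (.leaf tT422) (.leaf tT4518)) (.leaf tT2470)) (.node (.leaf tT1446) (.leaf tT3494))) (.node (.node (.leaf tT934) (.leaf tT2982)) (.node (.leaf tT1958) (.leaf tT4006)))))) (.node (.node (.node (.node (.node (.node (.leaf tT102) (.leaf tT4198)) (.leaf tT2150)) (.node (.leaf tT1126) (.leaf tT3174))) (.node (.node (.node (.leaf tT614) (.leaf tT4710)) (.leaf tT2662)) (.node (.leaf tT1638) (.leaf tT3686)))) (.node (.node (.node (.node (.leaf tT358) (.leaf tT4454)) (.leaf tT2406)) (.node (.leaf tT1382) (.leaf tT3430))) (.node (.node (.leaf tT870) (.leaf tT2918)) (.node (.leaf tT1894) (.leaf tT3942))))) (.node (.node (.node (.node (.node (.leaf tT230) (.leaf tT4326)) (.leaf tT2278)) (.node (.leaf tT1254) (.leaf tT3302))) (.node (.node (.leaf tT742) (.leaf tT2790)) (.node (.leaf tT1766) (.leaf tT3814)))) (.node (.node (.node (.node (.leaf tT486) (.leaf tT4582)) (.leaf tT2534)) (.node (.leaf tT1510) (.leaf tT3558))) (.node (.node (.leaf tT998) (.leaf tT3046)) (.node (.leaf tT2022) (.leaf tT4070)))))))) (.node (.node (.node (.node (.node (.node (.node (.node (.leaf tT22) (.leaf tT4118)) (.leaf tT2070)) (.node (.leaf tT1046) (.leaf tT3094))) (.node (.node (.node (.leaf tT534) (.leaf tT4630)) (.leaf tT2582)) (.node (.leaf tT1558) (.leaf tT3606)))) (.node (.node (.node (.node (.leaf tT278) (.leaf tT4374)) (.leaf tT2326)) (.node (.leaf tT1302) (.leaf tT3350))) (.node (.node (.leaf tT790) (.leaf tT2838)) (.node (.leaf tT1814) (.leaf tT3862))))) (.node (.node (.node (.node (.node (.leaf tT150) (.leaf tT4246)) (.leaf tT2198)) (.node (.leaf tT1174) (.leaf tT3222))) (.node (.node (.node (.leaf tT662) (.leaf tT4758)) (.leaf tT2710)) (.node (.leaf tT1686) (.leaf tT3734)))) (.node (.node (.node (.node (.leaf tT406) (.leaf tT4502)) (.leaf tT2454)) (.node (.leaf tT1430) (.leaf tT3478))) (.node (.node (.leaf tT918) (.leaf tT2966)) (.node (.leaf tT1942) (.leaf tT3990)))))) (.node (.node (.node (.node (.node (.node (.leaf tT86) (.leaf tT4182)) (.leaf tT2134)) (.node (.leaf tT1110) (.leaf tT3158))) (.node (.node (.node (.leaf tT598) (.leaf tT4694)) (.leaf tT2646)) (.node (.leaf tT1622) (.leaf tT3670)))) (.node (.node (.node (.node (.leaf tT342) (.leaf tT4438)) (.leaf tT2390)) (.node (.leaf tT1366) (.leaf tT3414))) (.node (.node (.leaf tT854) (.leaf tT2902)) (.node (.leaf tT1878) (.leaf tT3926))))) (.node (.node (.node (.node (.node (.leaf tT214) (.leaf tT4310)) (.leaf tT2262)) (.node (.leaf tT1238) (.leaf tT3286))) (.node (.node (.leaf tT726) (.leaf tT2774)) (.node (.leaf tT1750) (.leaf tT3798)))) (.node (.node (.node (.node (.leaf tT470) (.leaf tT4566)) (.leaf tT2518)) (.node (.leaf tT1494) (.leaf tT3542))) (.node (.node (.leaf tT982) (.leaf tT3030)) (.node (.leaf tT2006) (.leaf tT4054))))))) (.node (.node (.node (.node (.node (.node (.node (.leaf tT54) (.leaf tT4150)) (.leaf tT2102)) (.node (.leaf tT1078) (.leaf tT3126))) (.node (.node (.node (.leaf tT566) (.leaf tT4662)) (.leaf tT2614)) (.node (.leaf tT1590) (.leaf tT3638)))) (.node (.node (.node (.node (.leaf tT310) (.leaf tT4406)) (.leaf tT2358)) (.node (.leaf tT1334) (.leaf tT3382))) (.node (.node (.leaf tT822) (.leaf tT2870)) (.node (.leaf tT1846) (.leaf tT3894))))) (.node (.node (.node (.node (.node (.leaf tT182) (.leaf tT4278)) (.leaf tT2230)) (.node (.leaf tT1206) (.leaf tT3254))) (.node (.node (.node (.leaf tT694) (.leaf tT4790)) (.leaf tT2742)) (.node (.leaf tT1718) (.leaf tT3766)))) (.node (.node (.node (.node (.leaf tT438) (.leaf tT4534)) (.leaf tT2486)) (.node (.leaf tT1462) (.leaf tT3510))) (.node (.node (.leaf tT950) (.leaf tT2998)) (.node (.leaf tT1974) (.leaf tT4022)))))) (.node (.node (.node (.node (.node (.node (.leaf tT118) (.leaf tT4214)) (.leaf tT2166)) (.node (.leaf tT1142) (.leaf tT3190))) (.node (.node (.node (.leaf tT630) (.leaf tT4726)) (.leaf tT2678)) (.node (.leaf tT1654) (.leaf tT3702)))) (.node (.node (.node (.node (.leaf tT374) (.leaf tT4470)) (.leaf tT2422)) (.node (.leaf tT1398) (.leaf tT3446))) (.node (.node (.leaf tT886) (.leaf tT2934)) (.node (.leaf tT1910) (.leaf tT3958))))) (.node (.node (.node (.node (.node (.leaf tT246) (.leaf tT4342)) (.leaf tT2294)) (.node (.leaf tT1270) (.leaf tT3318))) (.node (.node (.leaf tT758) (.leaf tT2806)) (.node (.leaf tT1782) (.leaf tT3830)))) (.node (.node (.node (.node (.leaf tT502) (.leaf tT4598)) (.leaf tT2550)) (.node (.leaf tT1526) (.leaf tT3574))) (.node (.node (.leaf tT1014) (.leaf tT3062)) (.node (.leaf tT2038) (.leaf tT4086))))))))) (.node (.node (.node (.node (.node (.node (.node (.node (.node (.leaf tT14) (.leaf tT4110)) (.leaf tT2062)) (.node (.leaf tT1038) (.leaf tT3086))) (.node (.node (.node (.leaf tT526) (.leaf tT4622)) (.leaf tT2574)) (.node (.leaf tT1550) (.leaf tT3598)))) (.node (.node (.node (.node (.leaf tT270) (.leaf tT4366)) (.leaf tT2318)) (.node (.leaf tT1294) (.leaf tT3342))) (.node (.node (.leaf tT782) (.leaf tT2830)) (.node (.leaf tT1806) (.leaf tT3854))))) (.node (.node (.node (.node (.node (.leaf tT142) (.leaf tT4238)) (.leaf tT2190)) (.node (.leaf tT1166) (.leaf tT3214))) (.node (.node (.node (.leaf tT654) (.leaf tT4750)) (.leaf tT2702)) (.node (.leaf tT1678) (.leaf tT3726)))) (.node (.node (.node (.node (.leaf tT398) (.leaf tT4494)) (.leaf tT2446)) (.node (.leaf tT1422) (.leaf tT3470))) (.node (.node (.leaf tT910) (.leaf tT2958)) (.node (.leaf tT1934) (.leaf tT3982)))))) (.node (.node (.node (.node (.node (.node (.leaf tT78) (.leaf tT4174)) (.leaf tT2126)) (.node (.leaf tT1102) (.leaf tT3150))) (.node (.node (.node (.leaf tT590) (.leaf tT4686)) (.leaf tT2638)) (.node (.leaf tT1614) (.leaf tT3662)))) (.node (.node (.node (.node (.leaf tT334) (.leaf tT4430)) (.leaf tT2382)) (.node (.leaf tT1358) (.leaf tT3406))) (.node (.node (.leaf tT846) (.leaf tT2894)) (.node (.leaf tT1870) (.leaf tT3918))))) (.node (.node (.node (.node (.node (.leaf tT206) (.leaf tT4302)) (.leaf tT2254)) (.node (.leaf tT1230) (.leaf tT3278))) (.node (.node (.leaf tT718) (.leaf tT2766)) (.node (.leaf tT1742) (.leaf tT3790)))) (.node (.node (.node (.node (.leaf tT462) (.leaf tT4558)) (.leaf tT2510)) (.node (.leaf tT1486) (.leaf tT3534))) (.node (.node (.leaf tT974) (.leaf tT3022)) (.node (.leaf tT1998) (.leaf tT4046))))))) (.node (.node (.node (.node (.node (.node (.node (.leaf tT46) (.leaf tT4142)) (.leaf tT2094)) (.node (.leaf tT1070) (.leaf tT3118))) (.node (.node (.node (.leaf tT558) (.leaf tT4654)) (.leaf tT2606)) (.node (.leaf tT1582) (.leaf tT3630)))) (.node (.node (.node (.node (.leaf tT302) (.leaf tT4398)) (.leaf tT2350)) (.node (.leaf tT1326) (.leaf tT3374))) (.node (.node (.leaf tT814) (.leaf tT2862)) (.node (.leaf tT1838) (.leaf tT3886))))) (.node (.node (.node (.node (.node (.leaf tT174) (.leaf tT4270)) (.leaf tT2222)) (.node (.leaf tT1198) (.leaf tT3246))) (.node (.node (.node (.leaf tT686) (.leaf tT4782)) (.leaf tT2734)) (.node (.leaf tT1710) (.leaf tT3758)))) (.node (.node (.node (.node (.leaf tT430) (.leaf tT4526)) (.leaf tT2478)) (.node (.leaf tT1454) (.leaf tT3502))) (.node (.node (.leaf tT942) (.leaf tT2990)) (.node (.leaf tT1966) (.leaf tT4014)))))) (.node (.node (.node (.node (.node (.node (.leaf tT110) (.leaf tT4206)) (.leaf tT2158)) (.node (.leaf tT1134) (.leaf tT3182))) (.node (.node (.node (.leaf tT622) (.leaf tT4718)) (.leaf tT2670)) (.node (.leaf tT1646) (.leaf tT3694)))) (.node (.node (.node (.node (.leaf tT366) (.leaf tT4462)) (.leaf tT2414)) (.node (.leaf tT1390) (.leaf tT3438))) (.node (.node (.leaf tT878) (.leaf tT2926)) (.node (.leaf tT1902) (.leaf tT3950))))) (.node (.node (.node (.node (.node (.leaf tT238) (.leaf tT4334)) (.leaf tT2286)) (.node (.leaf tT1262) (.leaf tT3310))) (.node (.node (.leaf tT750) (.leaf tT2798)) (.node (.leaf tT1774) (.leaf tT3822)))) (.node (.node (.node (.node (.leaf tT494) (.leaf tT4590)) (.leaf tT2542)) (.node (.leaf tT1518) (.leaf tT3566))) (.node (.node (.leaf tT1006) (.leaf tT3054)) (.node (.leaf tT2030) (.leaf tT4078)))))))) (.node (.node (.node (.node (.node (.node (.node (.node (.leaf tT30) (.leaf tT4126)) (.leaf tT2078)) (.node (.leaf tT1054) (.leaf tT3102))) (.node (.node (.node (.leaf tT542) (.leaf tT4638)) (.leaf tT2590)) (.node (.leaf tT1566) (.leaf tT3614)))) (.node (.node (.node (.node (.leaf tT286) (.leaf tT4382)) (.leaf tT2334)) (.node (.leaf tT1310) (.leaf tT3358))) (.node (.node (.leaf tT798) (.leaf tT2846)) (.node (.leaf tT1822) (.leaf tT3870))))) (.node (.node (.node (.node (.node (.leaf tT158) (.leaf tT4254)) (.leaf tT2206)) (.node (.leaf tT1182) (.leaf tT3230))) (.node (.node (.node (.leaf tT670) (.leaf tT4766)) (.leaf tT2718)) (.node (.leaf tT1694) (.leaf tT3742)))) (.node (.node (.node (.node (.leaf tT414) (.leaf tT4510)) (.leaf tT2462)) (.node (.leaf tT1438) (.leaf tT3486))) (.node (.node (.leaf tT926) (.leaf tT2974)) (.node (.leaf tT1950) (.leaf tT3998)))))) (.node (.node (.node (.node (.node (.node (.leaf tT94) (.leaf tT4190)) (.leaf tT2142)) (.node (.leaf tT1118) (.leaf tT3166))) (.node (.node (.node (.leaf tT606) (.leaf tT4702)) (.leaf tT2654)) (.node (.leaf tT1630) (.leaf tT3678)))) (.node (.node (.node (.node (.leaf tT350) (.leaf tT4446)) (.leaf tT2398)) (.node (.leaf tT1374) (.leaf tT3422))) (.node (.node (.leaf tT862) (.leaf tT2910)) (.node (.leaf tT1886) (.leaf tT3934))))) (.node (.node (.node (.node (.node (.leaf tT222) (.leaf tT4318)) (.leaf tT2270)) (.node (.leaf tT1246) (.leaf tT3294))) (.node (.node (.leaf tT734) (.leaf tT2782)) (.node (.leaf tT1758) (.leaf tT3806)))) (.node (.node (.node (.node (.leaf tT478) (.leaf tT4574)) (.leaf tT2526)) (.node (.leaf tT1502) (.leaf tT3550))) (.node (.node (.leaf tT990) (.leaf tT3038)) (.node (.leaf tT2014) (.leaf tT4062))))))) (.node (.node (.node (.node (.node (.node (.node (.leaf tT62) (.leaf tT4158)) (.leaf tT2110)) (.node (.leaf tT1086) (.leaf tT3134))) (.node (.node (.node (.leaf tT574) (.leaf tT4670)) (.leaf tT2622)) (.node (.leaf tT1598) (.leaf tT3646)))) (.node (.node (.node (.node (.leaf tT318) (.leaf tT4414)) (.leaf tT2366)) (.node (.leaf tT1342) (.leaf tT3390))) (.node (.node (.leaf tT830) (.leaf tT2878)) (.node (.leaf tT1854) (.leaf tT3902))))) (.node (.node (.node (.node (.node (.leaf tT190) (.leaf tT4286)) (.leaf tT2238)) (.node (.leaf tT1214) (.leaf tT3262))) (.node (.node (.leaf tT702) (.leaf tT2750)) (.node (.leaf tT1726) (.leaf tT3774)))) (.node (.node (.node (.node (.leaf tT446) (.leaf tT4542)) (.leaf tT2494)) (.node (.leaf tT1470) (.leaf tT3518))) (.node (.node (.leaf tT958) (.leaf tT3006)) (.node (.leaf tT1982) (.leaf tT4030)))))) (.node (.node (.node (.node (.node (.node (.leaf tT126) (.leaf tT4222)) (.leaf tT2174)) (.node (.leaf tT1150) (.leaf tT3198))) (.node (.node (.node (.leaf tT638) (.leaf tT4734)) (.leaf tT2686)) (.node (.leaf tT1662) (.leaf tT3710)))) (.node (.node (.node (.node (.leaf tT382) (.leaf tT4478)) (.leaf tT2430)) (.node (.leaf tT1406) (.leaf tT3454))) (.node (.node (.leaf tT894) (.leaf tT2942)) (.node (.leaf tT1918) (.leaf tT3966))))) (.node (.node (.node (.node (.node (.leaf tT254) (.leaf tT4350)) (.leaf tT2302)) (.node (.leaf tT1278) (.leaf tT3326))) (.node (.node (.leaf tT766) (.leaf tT2814)) (.node (.leaf tT1790) (.leaf tT3838)))) (.node (.node (.node (.node (.leaf tT510) (.leaf tT4606)) (.leaf tT2558)) (.node (.leaf tT1534) (.leaf tT3582))) (.node (.node (.leaf tT1022) (.leaf tT3070)) (.node (.leaf tT2046) (.leaf tT4094)))))))))))) (.node (.node (.node (.node (.node (.node (.node (.node (.node (.node (.node (.node (.leaf tT1) (.leaf tT4097)) (.leaf tT2049)) (.node (.leaf tT1025) (.leaf tT3073))) (.node (.node (.node (.leaf tT513) (.leaf tT4609)) (.leaf tT2561)) (.node (.leaf tT1537) (.leaf tT3585)))) (.node (.node (.node (.node (.leaf tT257) (.leaf tT4353)) (.leaf tT2305)) (.node (.leaf tT1281) (.leaf tT3329))) (.node (.node (.leaf tT769) (.leaf tT2817)) (.node (.leaf tT1793) (.leaf tT3841))))) (.node (.node (.node (.node (.node (.leaf tT129) (.leaf tT4225)) (.leaf tT2177)) (.node (.leaf tT1153) (.leaf tT3201))) (.node (.node (.node (.leaf tT641) (.leaf tT4737)) (.leaf tT2689)) (.node (.leaf tT1665) (.leaf tT3713)))) (.node (.node (.node (.node (.leaf tT385) (.leaf tT4481)) (.leaf tT2433)) (.node (.leaf tT1409) (.leaf tT3457))) (.node (.node (.leaf tT897) (.leaf tT2945)) (.node (.leaf tT1921) (.leaf tT3969)))))) (.node (.node (.node (.node (.node (.node (.leaf tT65) (.leaf tT4161)) (.leaf tT2113)) (.node (.leaf tT1089) (.leaf tT3137))) (.node (.node (.node (.leaf tT577) (.leaf tT4673)) (.leaf tT2625)) (.node (.leaf tT1601) (.leaf tT3649)))) (.node (.node (.node (.node (.leaf tT321) (.leaf tT4417)) (.leaf tT2369)) (.node (.leaf tT1345) (.leaf tT3393))) (.node (.node (.leaf tT833) (.leaf tT2881)) (.node (.leaf tT1857) (.leaf tT3905))))) (.node (.node (.node (.node (.node (.leaf tT193) (.leaf tT4289)) (.leaf tT2241)) (.node (.leaf tT1217) (.leaf tT3265))) (.node (.node (.leaf tT705) (.leaf tT2753)) (.node (.leaf tT1729) (.leaf tT3777)))) (.node (.node (.node (.node (.leaf tT449) (.leaf tT4545)) (.leaf tT2497)) (.node (.leaf tT1473) (.leaf tT3521))) (.node (.node (.leaf tT961) (.leaf tT3009)) (.node (.leaf tT1985) (.leaf tT4033))))))) (.node (.node (.node (.node (.node (.node (.node (.leaf tT33) (.leaf tT4129)) (.leaf tT2081)) (.node (.leaf tT1057) (.leaf tT3105))) (.node (.node (.node (.leaf tT545) (.leaf tT4641)) (.leaf tT2593)) (.node (.leaf tT1569) (.leaf tT3617)))) (.node (.node (.node (.node (.leaf tT289) (.leaf tT4385)) (.leaf tT2337)) (.node (.leaf tT1313) (.leaf tT3361))) (.node (.node (.leaf tT801) (.leaf tT2849)) (.node (.leaf tT1825) (.leaf tT3873))))) (.node (.node (.node (.node (.node (.leaf tT161) (.leaf tT4257)) (.leaf tT2209)) (.node (.leaf tT1185) (.leaf tT3233))) (.node (.node (.node (.leaf tT673) (.leaf tT4769)) (.leaf tT2721)) (.node (.leaf tT1697) (.leaf tT3745)))) (.node (.node (.node (.node (.leaf tT417) (.leaf tT4513)) (.leaf tT2465)) (.node (.leaf tT1441) (.leaf tT3489))) (.node (.node (.leaf tT929) (.leaf tT2977)) (.node (.leaf tT1953) (.leaf tT4001)))))) (.node (.node (.node (.node (.node (.node (.leaf tT97) (.leaf tT4193)) (.leaf tT2145)) (.node (.leaf tT1121) (.leaf tT3169))) (.node (.node (.node (.leaf tT609) (.leaf tT4705)) (.leaf tT2657)) (.node (.leaf tT1633) (.leaf tT3681)))) (.node (.node (.node (.node (.leaf tT353) (.leaf tT4449)) (.leaf tT2401)) (.node (.leaf tT1377) (.leaf tT3425))) (.node (.node (.leaf tT865) (.leaf tT2913)) (.node (.leaf tT1889) (.leaf tT3937))))) (.node (.node (.node (.node (.node (.leaf tT225) (.leaf tT4321)) (.leaf tT2273)) (.node (.leaf tT1249) (.leaf tT3297))) (.node (.node (.leaf tT737) (.leaf tT2785)) (.node (.leaf tT1761) (.leaf tT3809)))) (.node (.node (.node (.node (.leaf tT481) (.leaf tT4577)) (.leaf tT2529)) (.node (.leaf tT1505) (.leaf tT3553))) (.node (.node (.leaf tT993) (.leaf tT3041)) (.node (.leaf tT2017) (.leaf tT4065)))))))) (.node (.node (.node (.node (.node (.node (.node (.node (.leaf tT17) (.leaf tT4113)) (.leaf tT2065)) (.node (.leaf tT1041) (.leaf tT3089))) (.node (.node (.node (.leaf tT529) (.leaf tT4625)) (.leaf tT2577)) (.node (.leaf tT1553) (.leaf tT3601)))) (.node (.node (.node (.node (.leaf tT273) (.leaf tT4369)) (.leaf tT2321)) (.node (.leaf tT1297) (.leaf tT3345))) (.node (.node (.leaf tT785) (.leaf tT2833)) (.node (.leaf tT1809) (.leaf tT3857))))) (.node (.node (.node (.node (.node (.leaf tT145) (.leaf tT4241)) (.leaf tT2193)) (.node (.leaf tT1169) (.leaf tT3217))) (.node (.node (.node (.leaf tT657) (.leaf tT4753)) (.leaf tT2705)) (.node (.leaf tT1681) (.leaf tT3729)))) (.node (.node (.node (.node (.leaf tT401) (.leaf tT4497)) (.leaf tT2449)) (.node (.leaf tT1425) (.leaf tT3473))) (.node (.node (.leaf tT913) (.leaf tT2961)) (.node (.leaf tT1937) (.leaf tT3985)))))) (.node (.node (.node (.node (.node (.node (.leaf tT81) (.leaf tT4177)) (.leaf tT2129)) (.node (.leaf tT1105) (.leaf tT3153))) (.node (.node (.node (.leaf tT593) (.leaf tT4689)) (.leaf tT2641)) (.node (.leaf tT1617) (.leaf tT3665)))) (.node (.node (.node (.node (.leaf tT337) (.leaf tT4433)) (.leaf tT2385)) (.node (.leaf tT1361) (.leaf tT3409))) (.node (.node (.leaf tT849) (.leaf tT2897)) (.node (.leaf tT1873) (.leaf tT3921))))) (.node (.node (.node (.node (.node (.leaf tT209) (.leaf tT4305)) (.leaf tT2257)) (.node (.leaf tT1233) (.leaf tT3281))) (.node (.node (.leaf tT721) (.leaf tT2769)) (.node (.leaf tT1745) (.leaf tT3793)))) (.node (.node (.node (.node (.leaf tT465) (.leaf tT4561)) (.leaf tT2513)) (.node (.leaf tT1489) (.leaf tT3537))) (.node (.node (.leaf tT977) (.leaf tT3025)) (.node (.leaf tT2001) (.leaf tT4049))))))) (.node (.node (.node (.node (.node (.node (.node (.leaf tT49) (.leaf tT4145)) (.leaf tT2097)) (.node (.leaf tT1073) (.leaf tT3121))) (.node (.node (.node (.leaf tT561) (.leaf tT4657)) (.leaf tT2609)) (.node (.leaf tT1585) (.leaf tT3633)))) (.node (.node (.node (.node (.leaf tT305) (.leaf tT4401)) (.leaf tT2353)) (.node (.leaf tT1329) (.leaf tT3377))) (.node (.node (.leaf tT817) (.leaf tT2865)) (.node (.leaf tT1841) (.leaf tT3889))))) (.node (.node (.node (.node (.node (.leaf tT177) (.leaf tT4273)) (.leaf tT2225)) (.node (.leaf tT1201) (.leaf tT3249))) (.node (.node (.node (.leaf tT689) (.leaf tT4785)) (.leaf tT2737)) (.node (.leaf tT1713) (.leaf tT3761)))) (.node (.node (.node (.node (.leaf tT433) (.leaf tT4529)) (.leaf tT2481)) (.node (.leaf tT1457) (.leaf tT3505))) (.node (.node (.leaf tT945) (.leaf tT2993)) (.node (.leaf tT1969) (.leaf tT4017)))))) (.node (.node (.node (.node (.node (.node (.leaf tT113) (.leaf tT4209)) (.leaf tT2161)) (.node (.leaf tT1137) (.leaf tT3185))) (.node (.node (.node (.leaf tT625) (.leaf tT4721)) (.leaf tT2673)) (.node (.leaf tT1649) (.leaf tT3697)))) (.node (.node (.node (.node (.leaf tT369) (.leaf tT4465)) (.leaf tT2417)) (.node (.leaf tT1393) (.leaf tT3441))) (.node (.node (.leaf tT881) (.leaf tT2929)) (.node (.leaf tT1905) (.leaf tT3953))))) (.node (.node (.node (.node (.node (.leaf tT241) (.leaf tT4337)) (.leaf tT2289)) (.node (.leaf tT1265) (.leaf tT3313))) (.node (.node (.leaf tT753) (.leaf tT2801)) (.node (.leaf tT1777) (.leaf tT3825)))) (.node (.node (.node (.node (.leaf tT497) (.leaf tT4593)) (.leaf tT2545)) (.node (.leaf tT1521) (.leaf tT3569))) (.node (.node (.leaf tT1009) (.leaf tT3057)) (.node (.leaf tT2033) (.leaf tT4081))))))))) (.node (.node (.node (.node (.node (.node (.node (.node (.node (.leaf tT9) (.leaf tT4105)) (.leaf tT2057)) (.node (.leaf tT1033) (.leaf tT3081))) (.node (.node (.node (.leaf tT521) (.leaf tT4617)) (.leaf tT2569)) (.node (.leaf tT1545) (.leaf tT3593)))) (.node (.node (.node (.node (.leaf tT265) (.leaf tT4361)) (.leaf tT2313)) (.node (.leaf tT1289) (.leaf tT3337))) (.node (.node (.leaf tT777) (.leaf tT2825)) (.node (.leaf tT1801) (.leaf tT3849))))) (.node (.node (.node (.node (.node (.leaf tT137) (.leaf tT4233)) (.leaf tT2185)) (.node (.leaf tT1161) (.leaf tT3209))) (.node (.node (.node (.leaf tT649) (.leaf tT4745)) (.leaf tT2697)) (.node (.leaf tT1673) (.leaf tT3721)))) (.node (.node (.node (.node (.leaf tT393) (.leaf tT4489)) (.leaf tT2441)) (.node (.leaf tT1417) (.leaf tT3465))) (.node (.node (.leaf tT905) (.leaf tT2953)) (.node (.leaf tT1929) (.leaf tT3977)))))) (.node (.node (.node (.node (.node (.node (.leaf tT73) (.leaf tT4169)) (.leaf tT2121)) (.node (.leaf tT1097) (.leaf tT3145))) (.node (.node (.node (.leaf tT585) (.leaf tT4681)) (.leaf tT2633)) (.node (.leaf tT1609) (.leaf tT3657)))) (.node (.node (.node (.node (.leaf tT329) (.leaf tT4425)) (.leaf tT2377)) (.node (.leaf tT1353) (.leaf tT3401))) (.node (.node (.leaf tT841) (.leaf tT2889)) (.node (.leaf tT1865) (.leaf tT3913))))) (.node (.node (.node (.node (.node (.leaf tT201) (.leaf tT4297)) (.leaf tT2249)) (.node (.leaf tT1225) (.leaf tT3273))) (.node (.node (.leaf tT713) (.leaf tT2761)) (.node (.leaf tT1737) (.leaf tT3785)))) (.node (.node (.node (.node (.leaf tT457) (.leaf tT4553)) (.leaf tT2505)) (.node (.leaf tT1481) (.leaf tT3529))) (.node (.node (.leaf tT969) (.leaf tT3017)) (.node (.leaf tT1993) (.leaf tT4041))))))) (.node (.node (.node (.node (.node (.node (.node (.leaf tT41) (.leaf tT4137)) (.leaf tT2089)) (.node (.leaf tT1065) (.leaf tT3113))) (.node (.node (.node (.leaf tT553) (.leaf tT4649)) (.leaf tT2601)) (.node (.leaf tT1577) (.leaf tT3625)))) (.node (.node (.node (.node (.leaf tT297) (.leaf tT4393)) (.leaf tT2345)) (.node (.leaf tT1321) (.leaf tT3369))) (.node (.node (.leaf tT809) (.leaf tT2857)) (.node (.leaf tT1833) (.leaf tT3881))))) (.node (.node (.node (.node (.node (.leaf tT169) (.leaf tT4265)) (.leaf tT2217)) (.node (.leaf tT1193) (.leaf tT3241))) (.node (.node (.node (.leaf tT681) (.leaf tT4777)) (.leaf tT2729)) (.node (.leaf tT1705) (.leaf tT3753)))) (.node (.node (.node (.node (.leaf tT425) (.leaf tT4521)) (.leaf tT2473)) (.node (.leaf tT1449) (.leaf tT3497))) (.node (.node (.leaf tT937) (.leaf tT2985)) (.node (.leaf tT1961) (.leaf tT4009)))))) (.node (.node (.node (.node (.node (.node (.leaf tT105) (.leaf tT4201)) (.leaf tT2153)) (.node (.leaf tT1129) (.leaf tT3177))) (.node (.node (.node (.leaf tT617) (.leaf tT4713)) (.leaf tT2665)) (.node (.leaf tT1641) (.leaf tT3689)))) (.node (.node (.node (.node (.leaf tT361) (.leaf tT4457)) (.leaf tT2409)) (.node (.leaf tT1385) (.leaf tT3433))) (.node (.node (.leaf tT873) (.leaf tT2921)) (.node (.leaf tT1897) (.leaf tT3945))))) (.node (.node (.node (.node (.node (.leaf tT233) (.leaf tT4329)) (.leaf tT2281)) (.node (.leaf tT1257) (.leaf tT3305))) (.node (.node (.leaf tT745) (.leaf tT2793)) (.node (.leaf tT1769) (.leaf tT3817)))) (.node (.node (.node (.node (.leaf tT489) (.leaf tT4585)) (.leaf tT2537)) (.node (.leaf tT1513) (.leaf tT3561))) (.node (.node (.leaf tT1001) (.leaf tT3049)) (.node (.leaf tT2025) (.leaf tT4073)))))))) (.node (.node (.node (.node (.node (.node (.node (.node (.leaf tT25) (.leaf tT4121)) (.leaf tT2073)) (.node (.leaf tT1049) (.leaf tT3097))) (.node (.node (.node (.leaf tT537) (.leaf tT4633)) (.leaf tT2585)) (.node (.leaf tT1561) (.leaf tT3609)))) (.node (.node (.node (.node (.leaf tT281) (.leaf tT4377)) (.leaf tT2329)) (.node (.leaf tT1305) (.leaf tT3353))) (.node (.node (.leaf tT793) (.leaf tT2841)) (.node (.leaf tT1817) (.leaf tT3865))))) (.node (.node (.node (.node (.node (.leaf tT153) (.leaf tT4249)) (.leaf tT2201)) (.node (.leaf tT1177) (.leaf tT3225))) (.node (.node (.node (.leaf tT665) (.leaf tT4761)) (.leaf tT2713)) (.node (.leaf tT1689) (.leaf tT3737)))) (.node (.node (.node (.node (.leaf tT409) (.leaf tT4505)) (.leaf tT2457)) (.node (.leaf tT1433) (.leaf tT3481))) (.node (.node (.leaf tT921) (.leaf tT2969)) (.node (.leaf tT1945) (.leaf tT3993)))))) (.node (.node (.node (.node (.node (.node (.leaf tT89) (.leaf tT4185)) (.leaf tT2137)) (.node (.leaf tT1113) (.leaf tT3161))) (.node (.node (.node (.leaf tT601) (.leaf tT4697)) (.leaf tT2649)) (.node (.leaf tT1625) (.leaf tT3673)))) (.node (.node (.node (.node (.leaf tT345) (.leaf tT4441)) (.leaf tT2393)) (.node (.leaf tT1369) (.leaf tT3417))) (.node (.node (.leaf tT857) (.leaf tT2905)) (.node (.leaf tT1881) (.leaf tT3929))))) (.node (.node (.node (.node (.node (.leaf tT217) (.leaf tT4313)) (.leaf tT2265)) (.node (.leaf tT1241) (.leaf tT3289))) (.node (.node (.leaf tT729) (.leaf tT2777)) (.node (.leaf tT1753) (.leaf tT3801)))) (.node (.node (.node (.node (.leaf tT473) (.leaf tT4569)) (.leaf tT2521)) (.node (.leaf tT1497) (.leaf tT3545))) (.node (.node (.leaf tT985) (.leaf tT3033)) (.node (.leaf tT2009) (.leaf tT4057))))))) (.node (.node (.node (.node (.node (.node (.node (.leaf tT57) (.leaf tT4153)) (.leaf tT2105)) (.node (.leaf tT1081) (.leaf tT3129))) (.node (.node (.node (.leaf tT569) (.leaf tT4665)) (.leaf tT2617)) (.node (.leaf tT1593) (.leaf tT3641)))) (.node (.node (.node (.node (.leaf tT313) (.leaf tT4409)) (.leaf tT2361)) (.node (.leaf tT1337) (.leaf tT3385))) (.node (.node (.leaf tT825) (.leaf tT2873)) (.node (.leaf tT1849) (.leaf tT3897))))) (.node (.node (.node (.node (.node (.leaf tT185) (.leaf tT4281)) (.leaf tT2233)) (.node (.leaf tT1209) (.leaf tT3257))) (.node (.node (.node (.leaf tT697) (.leaf tT4793)) (.leaf tT2745)) (.node (.leaf tT1721) (.leaf tT3769)))) (.node (.node (.node (.node (.leaf tT441) (.leaf tT4537)) (.leaf tT2489)) (.node (.leaf tT1465) (.leaf tT3513))) (.node (.node (.leaf tT953) (.leaf tT3001)) (.node (.leaf tT1977) (.leaf tT4025)))))) (.node (.node (.node (.node (.node (.node (.leaf tT121) (.leaf tT4217)) (.leaf tT2169)) (.node (.leaf tT1145) (.leaf tT3193))) (.node (.node (.node (.leaf tT633) (.leaf tT4729)) (.leaf tT2681)) (.node (.leaf tT1657) (.leaf tT3705)))) (.node (.node (.node (.node (.leaf tT377) (.leaf tT4473)) (.leaf tT2425)) (.node (.leaf tT1401) (.leaf tT3449))) (.node (.node (.leaf tT889) (.leaf tT2937)) (.node (.leaf tT1913) (.leaf tT3961))))) (.node (.node (.node (.node (.node (.leaf tT249) (.leaf tT4345)) (.leaf tT2297)) (.node (.leaf tT1273) (.leaf tT3321))) (.node (.node (.leaf tT761) (.leaf tT2809)) (.node (.leaf tT1785) (.leaf tT3833)))) (.node (.node (.node (.node (.leaf tT505) (.leaf tT4601)) (.leaf tT2553)) (.node (.leaf tT1529) (.leaf tT3577))) (.node (.node (.leaf tT1017) (.leaf tT3065)) (.node (.leaf tT2041) (.leaf tT4089)))))))))) (.node (.node (.node (.node (.node (.node (.node (.node (.node (.node (.leaf tT5) (.leaf tT4101)) (.leaf tT2053)) (.node (.leaf tT1029) (.leaf tT3077))) (.node (.node (.node (.leaf tT517) (.leaf tT4613)) (.leaf tT2565)) (.node (.leaf tT1541) (.leaf tT3589)))) (.node (.node (.node (.node (.leaf tT261) (.leaf tT4357)) (.leaf tT2309)) (.node (.leaf tT1285) (.leaf tT3333))) (.node (.node (.leaf tT773) (.leaf tT2821)) (.node (.leaf tT1797) (.leaf tT3845))))) (.node (.node (.node (.node (.node (.leaf tT133) (.leaf tT4229)) (.leaf tT2181)) (.node (.leaf tT1157) (.leaf tT3205))) (.node (.node (.node (.leaf tT645) (.leaf tT4741)) (.leaf tT2693)) (.node (.leaf tT1669) (.leaf tT3717)))) (.node (.node (.node (.node (.leaf tT389) (.leaf tT4485)) (.leaf tT2437)) (.node (.leaf tT1413) (.leaf tT3461))) (.node (.node (.leaf tT901) (.leaf tT2949)) (.node (.leaf tT1925) (.leaf tT3973)))))) (.node (.node (.node (.node (.node (.node (.leaf tT69) (.leaf tT4165)) (.leaf tT2117)) (.node (.leaf tT1093) (.leaf tT3141))) (.node (.node (.node (.leaf tT581) (.leaf tT4677)) (.leaf tT2629)) (.node (.leaf tT1605) (.leaf tT3653)))) (.node (.node (.node (.node (.leaf tT325) (.leaf tT4421)) (.leaf tT2373)) (.node (.leaf tT1349) (.leaf tT3397))) (.node (.node (.leaf tT837) (.leaf tT2885)) (.node (.leaf tT1861) (.leaf tT3909))))) (.node (.node (.node (.node (.node (.leaf tT197) (.leaf tT4293)) (.leaf tT2245)) (.node (.leaf tT1221) (.leaf tT3269))) (.node (.node (.leaf tT709) (.leaf tT2757)) (.node (.leaf tT1733) (.leaf tT3781)))) (.node (.node (.node (.node (.leaf tT453) (.leaf tT4549)) (.leaf tT2501)) (.node (.leaf tT1477) (.leaf tT3525))) (.node (.node (.leaf tT965) (.leaf tT3013)) (.node (.leaf tT1989) (.leaf tT4037))))))) (.node (.node (.node (.node (.node (.node (.node (.leaf tT37) (.leaf tT4133)) (.leaf tT2085)) (.node (.leaf tT1061) (.leaf tT3109))) (.node (.node (.node (.leaf tT549) (.leaf tT4645)) (.leaf tT2597)) (.node (.leaf tT1573) (.leaf tT3621)))) (.node (.node (.node (.node (.leaf tT293) (.leaf tT4389)) (.leaf tT2341)) (.node (.leaf tT1317) (.leaf tT3365))) (.node (.node (.leaf tT805) (.leaf tT2853)) (.node (.leaf tT1829) (.leaf tT3877))))) (.node (.node (.node (.node (.node (.leaf tT165) (.leaf tT4261)) (.leaf tT2213)) (.node (.leaf tT1189) (.leaf tT3237))) (.node (.node (.node (.leaf tT677) (.leaf tT4773)) (.leaf tT2725)) (.node (.leaf tT1701) (.leaf tT3749)))) (.node (.node (.node (.node (.leaf tT421) (.leaf tT4517)) (.leaf tT2469)) (.node (.leaf tT1445) (.leaf tT3493))) (.node (.node (.leaf tT933) (.leaf tT2981)) (.node (.leaf tT1957) (.leaf tT4005)))))) (.node (.node (.node (.node (.node (.node (.leaf tT101) (.leaf tT4197)) (.leaf tT2149)) (.node (.leaf tT1125) (.leaf tT3173))) (.node (.node (.node (.leaf tT613) (.leaf tT4709)) (.leaf tT2661)) (.node (.leaf tT1637) (.leaf tT3685)))) (.node (.node (.node (.node (.leaf tT357) (.leaf tT4453)) (.leaf tT2405)) (.node (.leaf tT1381) (.leaf tT3429))) (.node (.node (.leaf tT869) (.leaf tT2917)) (.node (.leaf tT1893) (.leaf tT3941))))) (.node (.node (.node (.node (.node (.leaf tT229) (.leaf tT4325)) (.leaf tT2277)) (.node (.leaf tT1253) (.leaf tT3301))) (.node (.node (.leaf tT741) (.leaf tT2789)) (.node (.leaf tT1765) (.leaf tT3813)))) (.node (.node (.node (.node (.leaf tT485) (.leaf tT4581)) (.leaf tT2533)) (.node (.leaf tT1509) (.leaf tT3557))) (.node (.node (.leaf tT997) (.leaf tT3045)) (.node (.leaf tT2021) (.leaf tT4069)))))))) (.node (.node (.node (.node (.node (.node (.node (.node (.leaf tT21) (.leaf tT4117)) (.leaf tT2069)) (.node (.leaf tT1045) (.leaf tT3093))) (.node (.node (.node (.leaf tT533) (.leaf tT4629)) (.leaf tT2581)) (.node (.leaf tT1557) (.leaf tT3605)))) (.node (.node (.node (.node (.leaf tT277) (.leaf tT4373)) (.leaf tT2325)) (.node (.leaf tT1301) (.leaf tT3349))) (.node (.node (.leaf tT789) (.leaf tT2837)) (.node (.leaf tT1813) (.leaf tT3861))))) (.node (.node (.node (.node (.node (.leaf tT149) (.leaf tT4245)) (.leaf tT2197)) (.node (.leaf tT1173) (.leaf tT3221))) (.node (.node (.node (.leaf tT661) (.leaf tT4757)) (.leaf tT2709)) (.node (.leaf tT1685) (.leaf tT3733)))) (.node (.node (.node (.node (.leaf tT405) (.leaf tT4501)) (.leaf tT2453)) (.node (.leaf tT1429) (.leaf tT3477))) (.node (.node (.leaf tT917) (.leaf tT2965)) (.node (.leaf tT1941) (.leaf tT3989)))))) (.node (.node (.node (.node (.node (.node (.leaf tT85) (.leaf tT4181)) (.leaf tT2133)) (.node (.leaf tT1109) (.leaf tT3157))) (.node (.node (.node (.leaf tT597) (.leaf tT4693)) (.leaf tT2645)) (.node (.leaf tT1621) (.leaf tT3669)))) (.node (.node (.node (.node (.leaf tT341) (.leaf tT4437)) (.leaf tT2389)) (.node (.leaf tT1365) (.leaf tT3413))) (.node (.node (.leaf tT853) (.leaf tT2901)) (.node (.leaf tT1877) (.leaf tT3925))))) (.node (.node (.node (.node (.node (.leaf tT213) (.leaf tT4309)) (.leaf tT2261)) (.node (.leaf tT1237) (.leaf tT3285))) (.node (.node (.leaf tT725) (.leaf tT2773)) (.node (.leaf tT1749) (.leaf tT3797)))) (.node (.node (.node (.node (.leaf tT469) (.leaf tT4565)) (.leaf tT2517)) (.node (.leaf tT1493) (.leaf tT3541))) (.node (.node (.leaf tT981) (.leaf tT3029)) (.node (.leaf tT2005) (.leaf tT4053))))))) (.node (.node (.node (.node (.node (.node (.node (.leaf tT53) (.leaf tT4149)) (.leaf tT2101)) (.node (.leaf tT1077) (.leaf tT3125))) (.node (.node (.node (.leaf tT565) (.leaf tT4661)) (.leaf tT2613)) (.node (.leaf tT1589) (.leaf tT3637)))) (.node (.node (.node (.node (.leaf tT309) (.leaf tT4405)) (.leaf tT2357)) (.node (.leaf tT1333) (.leaf tT3381))) (.node (.node (.leaf tT821) (.leaf tT2869)) (.node (.leaf tT1845) (.leaf tT3893))))) (.node (.node (.node (.node (.node (.leaf tT181) (.leaf tT4277)) (.leaf tT2229)) (.node (.leaf tT1205) (.leaf tT3253))) (.node (.node (.node (.leaf tT693) (.leaf tT4789)) (.leaf tT2741)) (.node (.leaf tT1717) (.leaf tT3765)))) (.node (.node (.node (.node (.leaf tT437) (.leaf tT4533)) (.leaf tT2485)) (.node (.leaf tT1461) (.leaf tT3509))) (.node (.node (.leaf tT949) (.leaf tT2997)) (.node (.leaf tT1973) (.leaf tT4021)))))) (.node (.node (.node (.node (.node (.node (.leaf tT117) (.leaf tT4213)) (.leaf tT2165)) (.node (.leaf tT1141) (.leaf tT3189))) (.node (.node (.node (.leaf tT629) (.leaf tT4725)) (.leaf tT2677)) (.node (.leaf tT1653) (.leaf tT3701)))) (.node (.node (.node (.node (.leaf tT373) (.leaf tT4469)) (.leaf tT2421)) (.node (.leaf tT1397) (.leaf tT3445))) (.node (.node (.leaf tT885) (.leaf tT2933)) (.node (.leaf tT1909) (.leaf tT3957))))) (.node (.node (.node (.node (.node (.leaf tT245) (.leaf tT4341)) (.leaf tT2293)) (.node (.leaf tT1269) (.leaf tT3317))) (.node (.node (.leaf tT757) (.leaf tT2805)) (.node (.leaf tT1781) (.leaf tT3829)))) (.node (.node (.node (.node (.leaf tT501) (.leaf tT4597)) (.leaf tT2549)) (.node (.leaf tT1525) (.leaf tT3573))) (.node (.node (.leaf tT1013) (.leaf tT3061)) (.node (.leaf tT2037) (.leaf tT4085))))))))) (.node (.node (.node (.node (.node (.node (.node (.node (.node (.leaf tT13) (.leaf tT4109)) (.leaf tT2061)) (.node (.leaf tT1037) (.leaf tT3085))) (.node (.node (.node (.leaf tT525) (.leaf tT4621)) (.leaf tT2573)) (.node (.leaf tT1549) (.leaf tT3597)))) (.node (.node (.node (.node (.leaf tT269) (.leaf tT4365)) (.leaf tT2317)) (.node (.leaf tT1293) (.leaf tT3341))) (.node (.node (.leaf tT781) (.leaf tT2829)) (.node (.leaf tT1805) (.leaf tT3853))))) (.node (.node (.node (.node (.node (.leaf tT141) (.leaf tT4237)) (.leaf tT2189)) (.node (.leaf tT1165) (.leaf tT3213))) (.node (.node (.node (.leaf tT653) (.leaf tT4749)) (.leaf tT2701)) (.node (.leaf tT1677) (.leaf tT3725)))) (.node (.node (.node (.node (.leaf tT397) (.leaf tT4493)) (.leaf tT2445)) (.node (.leaf tT1421) (.leaf tT3469))) (.node (.node (.leaf tT909) (.leaf tT2957)) (.node (.leaf tT1933) (.leaf tT3981)))))) (.node (.node (.node (.node (.node (.node (.leaf tT77) (.leaf tT4173)) (.leaf tT2125)) (.node (.leaf tT1101) (.leaf tT3149))) (.node (.node (.node (.leaf tT589) (.leaf tT4685)) (.leaf tT2637)) (.node (.leaf tT1613) (.leaf tT3661)))) (.node (.node (.node (.node (.leaf tT333) (.leaf tT4429)) (.leaf tT2381)) (.node (.leaf tT1357) (.leaf tT3405))) (.node (.node (.leaf tT845) (.leaf tT2893)) (.node (.leaf tT1869) (.leaf tT3917))))) (.node (.node (.node (.node (.node (.leaf tT205) (.leaf tT4301)) (.leaf tT2253)) (.node (.leaf tT1229) (.leaf tT3277))) (.node (.node (.leaf tT717) (.leaf tT2765)) (.node (.leaf tT1741) (.leaf tT3789)))) (.node (.node (.node (.node (.leaf tT461) (.leaf tT4557)) (.leaf tT2509)) (.node (.leaf tT1485) (.leaf tT3533))) (.node (.node (.leaf tT973) (.leaf tT3021)) (.node (.leaf tT1997) (.leaf tT4045))))))) (.node (.node (.node (.node (.node (.node (.node (.leaf tT45) (.leaf tT4141)) (.leaf tT2093)) (.node (.leaf tT1069) (.leaf tT3117))) (.node (.node (.node (.leaf tT557) (.leaf tT4653)) (.leaf tT2605)) (.node (.leaf tT1581) (.leaf tT3629)))) (.node (.node (.node (.node (.leaf tT301) (.leaf tT4397)) (.leaf tT2349)) (.node (.leaf tT1325) (.leaf tT3373))) (.node (.node (.leaf tT813) (.leaf tT2861)) (.node (.leaf tT1837) (.leaf tT3885))))) (.node (.node (.node (.node (.node (.leaf tT173) (.leaf tT4269)) (.leaf tT2221)) (.node (.leaf tT1197) (.leaf tT3245))) (.node (.node (.node (.leaf tT685) (.leaf tT4781)) (.leaf tT2733)) (.node (.leaf tT1709) (.leaf tT3757)))) (.node (.node (.node (.node (.leaf tT429) (.leaf tT4525)) (.leaf tT2477)) (.node (.leaf tT1453) (.leaf tT3501))) (.node (.node (.leaf tT941) (.leaf tT2989)) (.node (.leaf tT1965) (.leaf tT4013)))))) (.node (.node (.node (.node (.node (.node (.leaf tT109) (.leaf tT4205)) (.leaf tT2157)) (.node (.leaf tT1133) (.leaf tT3181))) (.node (.node (.node (.leaf tT621) (.leaf tT4717)) (.leaf tT2669)) (.node (.leaf tT1645) (.leaf tT3693)))) (.node (.node (.node (.node (.leaf tT365) (.leaf tT4461)) (.leaf tT2413)) (.node (.leaf tT1389) (.leaf tT3437))) (.node (.node (.leaf tT877) (.leaf tT2925)) (.node (.leaf tT1901) (.leaf tT3949))))) (.node (.node (.node (.node (.node (.leaf tT237) (.leaf tT4333)) (.leaf tT2285)) (.node (.leaf tT1261) (.leaf tT3309))) (.node (.node (.leaf tT749) (.leaf tT2797)) (.node (.leaf tT1773) (.leaf tT3821)))) (.node (.node (.node (.node (.leaf tT493) (.leaf tT4589)) (.leaf tT2541)) (.node (.leaf tT1517) (.leaf tT3565))) (.node (.node (.leaf tT1005) (.leaf tT3053)) (.node (.leaf tT2029) (.leaf tT4077)))))))) (.node (.node (.node (.node (.node (.node (.node (.node (.leaf tT29) (.leaf tT4125)) (.leaf tT2077)) (.node (.leaf tT1053) (.leaf tT3101))) (.node (.node (.node (.leaf tT541) (.leaf tT4637)) (.leaf tT2589)) (.node (.leaf tT1565) (.leaf tT3613)))) (.node (.node (.node (.node (.leaf tT285) (.leaf tT4381)) (.leaf tT2333)) (.node (.leaf tT1309) (.leaf tT3357))) (.node (.node (.leaf tT797) (.leaf tT2845)) (.node (.leaf tT1821) (.leaf tT3869))))) (.node (.node (.node (.node (.node (.leaf tT157) (.leaf tT4253)) (.leaf tT2205)) (.node (.leaf tT1181) (.leaf tT3229))) (.node (.node (.node (.leaf tT669) (.leaf tT4765)) (.leaf tT2717)) (.node (.leaf tT1693) (.leaf tT3741)))) (.node (.node (.node (.node (.leaf tT413) (.leaf tT4509)) (.leaf tT2461)) (.node (.leaf tT1437) (.leaf tT3485))) (.node (.node (.leaf tT925) (.leaf tT2973)) (.node (.leaf tT1949) (.leaf tT3997)))))) (.node (.node (.node (.node (.node (.node (.leaf tT93) (.leaf tT4189)) (.leaf tT2141)) (.node (.leaf tT1117) (.leaf tT3165))) (.node (.node (.node (.leaf tT605) (.leaf tT4701)) (.leaf tT2653)) (.node (.leaf tT1629) (.leaf tT3677)))) (.node (.node (.node (.node (.leaf tT349) (.leaf tT4445)) (.leaf tT2397)) (.node (.leaf tT1373) (.leaf tT3421))) (.node (.node (.leaf tT861) (.leaf tT2909)) (.node (.leaf tT1885) (.leaf tT3933))))) (.node (.node (.node (.node (.node (.leaf tT221) (.leaf tT4317)) (.leaf tT2269)) (.node (.leaf tT1245) (.leaf tT3293))) (.node (.node (.leaf tT733) (.leaf tT2781)) (.node (.leaf tT1757) (.leaf tT3805)))) (.node (.node (.node (.node (.leaf tT477) (.leaf tT4573)) (.leaf tT2525)) (.node (.leaf tT1501) (.leaf tT3549))) (.node (.node (.leaf tT989) (.leaf tT3037)) (.node (.leaf tT2013) (.leaf tT4061))))))) (.node (.node (.node (.node (.node (.node (.node (.leaf tT61) (.leaf tT4157)) (.leaf tT2109)) (.node (.leaf tT1085) (.leaf tT3133))) (.node (.node (.node (.leaf tT573) (.leaf tT4669)) (.leaf tT2621)) (.node (.leaf tT1597) (.leaf tT3645)))) (.node (.node (.node (.node (.leaf tT317) (.leaf tT4413)) (.leaf tT2365)) (.node (.leaf tT1341) (.leaf tT3389))) (.node (.node (.leaf tT829) (.leaf tT2877)) (.node (.leaf tT1853) (.leaf tT3901))))) (.node (.node (.node (.node (.node (.leaf tT189) (.leaf tT4285)) (.leaf tT2237)) (.node (.leaf tT1213) (.leaf tT3261))) (.node (.node (.leaf tT701) (.leaf tT2749)) (.node (.leaf tT1725) (.leaf tT3773)))) (.node (.node (.node (.node (.leaf tT445) (.leaf tT4541)) (.leaf tT2493)) (.node (.leaf tT1469) (.leaf tT3517))) (.node (.node (.leaf tT957) (.leaf tT3005)) (.node (.leaf tT1981) (.leaf tT4029)))))) (.node (.node (.node (.node (.node (.node (.leaf tT125) (.leaf tT4221)) (.leaf tT2173)) (.node (.leaf tT1149) (.leaf tT3197))) (.node (.node (.node (.leaf tT637) (.leaf tT4733)) (.leaf tT2685)) (.node (.leaf tT1661) (.leaf tT3709)))) (.node (.node (.node (.node (.leaf tT381) (.leaf tT4477)) (.leaf tT2429)) (.node (.leaf tT1405) (.leaf tT3453))) (.node (.node (.leaf tT893) (.leaf tT2941)) (.node (.leaf tT1917) (.leaf tT3965))))) (.node (.node (.node (.node (.node (.leaf tT253) (.leaf tT4349)) (.leaf tT2301)) (.node (.leaf tT1277) (.leaf tT3325))) (.node (.node (.leaf tT765) (.leaf tT2813)) (.node (.leaf tT1789) (.leaf tT3837)))) (.node (.node (.node (.node (.leaf tT509) (.leaf tT4605)) (.leaf tT2557)) (.node (.leaf tT1533) (.leaf tT3581))) (.node (.node (.leaf tT1021) (.leaf tT3069)) (.node (.leaf tT2045) (.leaf tT4093))))))))))) (.node (.node (.node (.node (.node (.node (.node (.node (.node (.node (.node (.leaf tT3) (.leaf tT4099)) (.leaf tT2051)) (.node (.leaf tT1027) (.leaf tT3075))) (.node (.node (.node (.leaf tT515) (.leaf tT4611)) (.leaf tT2563)) (.node (.leaf tT1539) (.leaf tT3587)))) (.node (.node (.node (.node (.leaf tT259) (.leaf tT4355)) (.leaf tT2307)) (.node (.leaf tT1283) (.leaf tT3331))) (.node (.node (.leaf tT771) (.leaf tT2819)) (.node (.leaf tT1795) (.leaf tT3843))))) (.node (.node (.node (.node (.node (.leaf tT131) (.leaf tT4227)) (.leaf tT2179)) (.node (.leaf tT1155) (.leaf tT3203))) (.node (.node (.node (.leaf tT643) (.leaf tT4739)) (.leaf tT2691)) (.node (.leaf tT1667) (.leaf tT3715)))) (.node (.node (.node (.node (.leaf tT387) (.leaf tT4483)) (.leaf tT2435)) (.node (.leaf tT1411) (.leaf tT3459))) (.node (.node (.leaf tT899) (.leaf tT2947)) (.node (.leaf tT1923) (.leaf tT3971)))))) (.node (.node (.node (.node (.node (.node (.leaf tT67) (.leaf tT4163)) (.leaf tT2115)) (.node (.leaf tT1091) (.leaf tT3139))) (.node (.node (.node (.leaf tT579) (.leaf tT4675)) (.leaf tT2627)) (.node (.leaf tT1603) (.leaf tT3651)))) (.node (.node (.node (.node (.leaf tT323) (.leaf tT4419)) (.leaf tT2371)) (.node (.leaf tT1347) (.leaf tT3395))) (.node (.node (.leaf tT835) (.leaf tT2883)) (.node (.leaf tT1859) (.leaf tT3907))))) (.node (.node (.node (.node (.node (.leaf tT195) (.leaf tT4291)) (.leaf tT2243)) (.node (.leaf tT1219) (.leaf tT3267))) (.node (.node (.leaf tT707) (.leaf tT2755)) (.node (.leaf tT1731) (.leaf tT3779)))) (.node (.node (.node (.node (.leaf tT451) (.leaf tT4547)) (.leaf tT2499)) (.node (.leaf tT1475) (.leaf tT3523))) (.node (.node (.leaf tT963) (.leaf tT3011)) (.node (.leaf tT1987) (.leaf tT4035))))))) (.node (.node (.node (.node (.node (.node (.node (.leaf tT35) (.leaf tT4131)) (.leaf tT2083)) (.node (.leaf tT1059) (.leaf tT3107))) (.node (.node (.node (.leaf tT547) (.leaf tT4643)) (.leaf tT2595)) (.node (.leaf tT1571) (.leaf tT3619)))) (.node (.node (.node (.node (.leaf tT291) (.leaf tT4387)) (.leaf tT2339)) (.node (.leaf tT1315) (.leaf tT3363))) (.node (.node (.leaf tT803) (.leaf tT2851)) (.node (.leaf tT1827) (.leaf tT3875))))) (.node (.node (.node (.node (.node (.leaf tT163) (.leaf tT4259)) (.leaf tT2211)) (.node (.leaf tT1187) (.leaf tT3235))) (.node (.node (.node (.leaf tT675) (.leaf tT4771)) (.leaf tT2723)) (.node (.leaf tT1699) (.leaf tT3747)))) (.node (.node (.node (.node (.leaf tT419) (.leaf tT4515)) (.leaf tT2467)) (.node (.leaf tT1443) (.leaf tT3491))) (.node (.node (.leaf tT931) (.leaf tT2979)) (.node (.leaf tT1955) (.leaf tT4003)))))) (.node (.node (.node (.node (.node (.node (.leaf tT99) (.leaf tT4195)) (.leaf tT2147)) (.node (.leaf tT1123) (.leaf tT3171))) (.node (.node (.node (.leaf tT611) (.leaf tT4707)) (.leaf tT2659)) (.node (.leaf tT1635) (.leaf tT3683)))) (.node (.node (.node (.node (.leaf tT355) (.leaf tT4451)) (.leaf tT2403)) (.node (.leaf tT1379) (.leaf tT3427))) (.node (.node (.leaf tT867) (.leaf tT2915)) (.node (.leaf tT1891) (.leaf tT3939))))) (.node (.node (.node (.node (.node (.leaf tT227) (.leaf tT4323)) (.leaf tT2275)) (.node (.leaf tT1251) (.leaf tT3299))) (.node (.node (.leaf tT739) (.leaf tT2787)) (.node (.leaf tT1763) (.leaf tT3811)))) (.node (.node (.node (.node (.leaf tT483) (.leaf tT4579)) (.leaf tT2531)) (.node (.leaf tT1507) (.leaf tT3555))) (.node (.node (.leaf tT995) (.leaf tT3043)) (.node (.leaf tT2019) (.leaf tT4067)))))))) (.node (.node (.node (.node (.node (.node (.node (.node (.leaf tT19) (.leaf tT4115)) (.leaf tT2067)) (.node (.leaf tT1043) (.leaf tT3091))) (.node (.node (.node (.leaf tT531) (.leaf tT4627)) (.leaf tT2579)) (.node (.leaf tT1555) (.leaf tT3603)))) (.node (.node (.node (.node (.leaf tT275) (.leaf tT4371)) (.leaf tT2323)) (.node (.leaf tT1299) (.leaf tT3347))) (.node (.node (.leaf tT787) (.leaf tT2835)) (.node (.leaf tT1811) (.leaf tT3859))))) (.node (.node (.node (.node (.node (.leaf tT147) (.leaf tT4243)) (.leaf tT2195)) (.node (.leaf tT1171) (.leaf tT3219))) (.node (.node (.node (.leaf tT659) (.leaf tT4755)) (.leaf tT2707)) (.node (.leaf tT1683) (.leaf tT3731)))) (.node (.node (.node (.node (.leaf tT403) (.leaf tT4499)) (.leaf tT2451)) (.node (.leaf tT1427) (.leaf tT3475))) (.node (.node (.leaf tT915) (.leaf tT2963)) (.node (.leaf tT1939) (.leaf tT3987)))))) (.node (.node (.node (.node (.node (.node (.leaf tT83) (.leaf tT4179)) (.leaf tT2131)) (.node (.leaf tT1107) (.leaf tT3155))) (.node (.node (.node (.leaf tT595) (.leaf tT4691)) (.leaf tT2643)) (.node (.leaf tT1619) (.leaf tT3667)))) (.node (.node (.node (.node (.leaf tT339) (.leaf tT4435)) (.leaf tT2387)) (.node (.leaf tT1363) (.leaf tT3411))) (.node (.node (.leaf tT851) (.leaf tT2899)) (.node (.leaf tT1875) (.leaf tT3923))))) (.node (.node (.node (.node (.node (.leaf tT211) (.leaf tT4307)) (.leaf tT2259)) (.node (.leaf tT1235) (.leaf tT3283))) (.node (.node (.leaf tT723) (.leaf tT2771)) (.node (.leaf tT1747) (.leaf tT3795)))) (.node (.node (.node (.node (.leaf tT467) (.leaf tT4563)) (.leaf tT2515)) (.node (.leaf tT1491) (.leaf tT3539))) (.node (.node (.leaf tT979) (.leaf tT3027)) (.node (.leaf tT2003) (.leaf tT4051))))))) (.node (.node (.node (.node (.node (.node (.node (.leaf tT51) (.leaf tT4147)) (.leaf tT2099)) (.node (.leaf tT1075) (.leaf tT3123))) (.node (.node (.node (.leaf tT563) (.leaf tT4659)) (.leaf tT2611)) (.node (.leaf tT1587) (.leaf tT3635)))) (.node (.node (.node (.node (.leaf tT307) (.leaf tT4403)) (.leaf tT2355)) (.node (.leaf tT1331) (.leaf tT3379))) (.node (.node (.leaf tT819) (.leaf tT2867)) (.node (.leaf tT1843) (.leaf tT3891))))) (.node (.node (.node (.node (.node (.leaf tT179) (.leaf tT4275)) (.leaf tT2227)) (.node (.leaf tT1203) (.leaf tT3251))) (.node (.node (.node (.leaf tT691) (.leaf tT4787)) (.leaf tT2739)) (.node (.leaf tT1715) (.leaf tT3763)))) (.node (.node (.node (.node (.leaf tT435) (.leaf tT4531)) (.leaf tT2483)) (.node (.leaf tT1459) (.leaf tT3507))) (.node (.node (.leaf tT947) (.leaf tT2995)) (.node (.leaf tT1971) (.leaf tT4019)))))) (.node (.node (.node (.node (.node (.node (.leaf tT115) (.leaf tT4211)) (.leaf tT2163)) (.node (.leaf tT1139) (.leaf tT3187))) (.node (.node (.node (.leaf tT627) (.leaf tT4723)) (.leaf tT2675)) (.node (.leaf tT1651) (.leaf tT3699)))) (.node (.node (.node (.node (.leaf tT371) (.leaf tT4467)) (.leaf tT2419)) (.node (.leaf tT1395) (.leaf tT3443))) (.node (.node (.leaf tT883) (.leaf tT2931)) (.node (.leaf tT1907) (.leaf tT3955))))) (.node (.node (.node (.node (.node (.leaf tT243) (.leaf tT4339)) (.leaf tT2291)) (.node (.leaf tT1267) (.leaf tT3315))) (.node (.node (.leaf tT755) (.leaf tT2803)) (.node (.leaf tT1779) (.leaf tT3827)))) (.node (.node (.node (.node (.leaf tT499) (.leaf tT4595)) (.leaf tT2547)) (.node (.leaf tT1523) (.leaf tT3571))) (.node (.node (.leaf tT1011) (.leaf tT3059)) (.node (.leaf tT2035) (.leaf tT4083))))))))) (.node (.node (.node (.node (.node (.node (.node (.node (.node (.leaf tT11) (.leaf tT4107)) (.leaf tT2059)) (.node (.leaf tT1035) (.leaf tT3083))) (.node (.node (.node (.leaf tT523) (.leaf tT4619)) (.leaf tT2571)) (.node (.leaf tT1547) (.leaf tT3595)))) (.node (.node (.node (.node (.leaf tT267) (.leaf tT4363)) (.leaf tT2315)) (.node (.leaf tT1291) (.leaf tT3339))) (.node (.node (.leaf tT779) (.leaf tT2827)) (.node (.leaf tT1803) (.leaf tT3851))))) (.node (.node (.node (.node (.node (.leaf tT139) (.leaf tT4235)) (.leaf tT2187)) (.node (.leaf tT1163) (.leaf tT3211))) (.node (.node (.node (.leaf tT651) (.leaf tT4747)) (.leaf tT2699)) (.node (.leaf tT1675) (.leaf tT3723)))) (.node (.node (.node (.node (.leaf tT395) (.leaf tT4491)) (.leaf tT2443)) (.node (.leaf tT1419) (.leaf tT3467))) (.node (.node (.leaf tT907) (.leaf tT2955)) (.node (.leaf tT1931) (.leaf tT3979)))))) (.node (.node (.node (.node (.node (.node (.leaf tT75) (.leaf tT4171)) (.leaf tT2123)) (.node (.leaf tT1099) (.leaf tT3147))) (.node (.node (.node (.leaf tT587) (.leaf tT4683)) (.leaf tT2635)) (.node (.leaf tT1611) (.leaf tT3659)))) (.node (.node (.node (.node (.leaf tT331) (.leaf tT4427)) (.leaf tT2379)) (.node (.leaf tT1355) (.leaf tT3403))) (.node (.node (.leaf tT843) (.leaf tT2891)) (.node (.leaf tT1867) (.leaf tT3915))))) (.node (.node (.node (.node (.node (.leaf tT203) (.leaf tT4299)) (.leaf tT2251)) (.node (.leaf tT1227) (.leaf tT3275))) (.node (.node (.leaf tT715) (.leaf tT2763)) (.node (.leaf tT1739) (.leaf tT3787)))) (.node (.node (.node (.node (.leaf tT459) (.leaf tT4555)) (.leaf tT2507)) (.node (.leaf tT1483) (.leaf tT3531))) (.node (.node (.leaf tT971) (.leaf tT3019)) (.node (.leaf tT1995) (.leaf tT4043))))))) (.node (.node (.node (.node (.node (.node (.node (.leaf tT43) (.leaf tT4139)) (.leaf tT2091)) (.node (.leaf tT1067) (.leaf tT3115))) (.node (.node (.node (.leaf tT555) (.leaf tT4651)) (.leaf tT2603)) (.node (.leaf tT1579) (.leaf tT3627)))) (.node (.node (.node (.node (.leaf tT299) (.leaf tT4395)) (.leaf tT2347)) (.node (.leaf tT1323) (.leaf tT3371))) (.node (.node (.leaf tT811) (.leaf tT2859)) (.node (.leaf tT1835) (.leaf tT3883))))) (.node (.node (.node (.node (.node (.leaf tT171) (.leaf tT4267)) (.leaf tT2219)) (.node (.leaf tT1195) (.leaf tT3243))) (.node (.node (.node (.leaf tT683) (.leaf tT4779)) (.leaf tT2731)) (.node (.leaf tT1707) (.leaf tT3755)))) (.node (.node (.node (.node (.leaf tT427) (.leaf tT4523)) (.leaf tT2475)) (.node (.leaf tT1451) (.leaf tT3499))) (.node (.node (.leaf tT939) (.leaf tT2987)) (.node (.leaf tT1963) (.leaf tT4011)))))) (.node (.node (.node (.node (.node (.node (.leaf tT107) (.leaf tT4203)) (.leaf tT2155)) (.node (.leaf tT1131) (.leaf tT3179))) (.node (.node (.node (.leaf tT619) (.leaf tT4715)) (.leaf tT2667)) (.node (.leaf tT1643) (.leaf tT3691)))) (.node (.node (.node (.node (.leaf tT363) (.leaf tT4459)) (.leaf tT2411)) (.node (.leaf tT1387) (.leaf tT3435))) (.node (.node (.leaf tT875) (.leaf tT2923)) (.node (.leaf tT1899) (.leaf tT3947))))) (.node (.node (.node (.node (.node (.leaf tT235) (.leaf tT4331)) (.leaf tT2283)) (.node (.leaf tT1259) (.leaf tT3307))) (.node (.node (.leaf tT747) (.leaf tT2795)) (.node (.leaf tT1771) (.leaf tT3819)))) (.node (.node (.node (.node (.leaf tT491) (.leaf tT4587)) (.leaf tT2539)) (.node (.leaf tT1515) (.leaf tT3563))) (.node (.node (.leaf tT1003) (.leaf tT3051)) (.node (.leaf tT2027) (.leaf tT4075)))))))) (.node (.node (.node (.node (.node (.node (.node (.node (.leaf tT27) (.leaf tT4123)) (.leaf tT2075)) (.node (.leaf tT1051) (.leaf tT3099))) (.node (.node (.node (.leaf tT539) (.leaf tT4635)) (.leaf tT2587)) (.node (.leaf tT1563) (.leaf tT3611)))) (.node (.node (.node (.node (.leaf tT283) (.leaf tT4379)) (.leaf tT2331)) (.node (.leaf tT1307) (.leaf tT3355))) (.node (.node (.leaf tT795) (.leaf tT2843)) (.node (.leaf tT1819) (.leaf tT3867))))) (.node (.node (.node (.node (.node (.leaf tT155) (.leaf tT4251)) (.leaf tT2203)) (.node (.leaf tT1179) (.leaf tT3227))) (.node (.node (.node (.leaf tT667) (.leaf tT4763)) (.leaf tT2715)) (.node (.leaf tT1691) (.leaf tT3739)))) (.node (.node (.node (.node (.leaf tT411) (.leaf tT4507)) (.leaf tT2459)) (.node (.leaf tT1435) (.leaf tT3483))) (.node (.node (.leaf tT923) (.leaf tT2971)) (.node (.leaf tT1947) (.leaf tT3995)))))) (.node (.node (.node (.node (.node (.node (.leaf tT91) (.leaf tT4187)) (.leaf tT2139)) (.node (.leaf tT1115) (.leaf tT3163))) (.node (.node (.node (.leaf tT603) (.leaf tT4699)) (.leaf tT2651)) (.node (.leaf tT1627) (.leaf tT3675)))) (.node (.node (.node (.node (.leaf tT347) (.leaf tT4443)) (.leaf tT2395)) (.node (.leaf tT1371) (.leaf tT3419))) (.node (.node (.leaf tT859) (.leaf tT2907)) (.node (.leaf tT1883) (.leaf tT3931))))) (.node (.node (.node (.node (.node (.leaf tT219) (.leaf tT4315)) (.leaf tT2267)) (.node (.leaf tT1243) (.leaf tT3291))) (.node (.node (.leaf tT731) (.leaf tT2779)) (.node (.leaf tT1755) (.leaf tT3803)))) (.node (.node (.node (.node (.leaf tT475) (.leaf tT4571)) (.leaf tT2523)) (.node (.leaf tT1499) (.leaf tT3547))) (.node (.node (.leaf tT987) (.leaf tT3035)) (.node (.leaf tT2011) (.leaf tT4059))))))) (.node (.node (.node (.node (.node (.node (.node (.leaf tT59) (.leaf tT4155)) (.leaf tT2107)) (.node (.leaf tT1083) (.leaf tT3131))) (.node (.node (.node (.leaf tT571) (.leaf tT4667)) (.leaf tT2619)) (.node (.leaf tT1595) (.leaf tT3643)))) (.node (.node (.node (.node (.leaf tT315) (.leaf tT4411)) (.leaf tT2363)) (.node (.leaf tT1339) (.leaf tT3387))) (.node (.node (.leaf tT827) (.leaf tT2875)) (.node (.leaf tT1851) (.leaf tT3899))))) (.node (.node (.node (.node (.node (.leaf tT187) (.leaf tT4283)) (.leaf tT2235)) (.node (.leaf tT1211) (.leaf tT3259))) (.node (.node (.node (.leaf tT699) (.leaf tT4795)) (.leaf tT2747)) (.node (.leaf tT1723) (.leaf tT3771)))) (.node (.node (.node (.node (.leaf tT443) (.leaf tT4539)) (.leaf tT2491)) (.node (.leaf tT1467) (.leaf tT3515))) (.node (.node (.leaf tT955) (.leaf tT3003)) (.node (.leaf tT1979) (.leaf tT4027)))))) (.node (.node (.node (.node (.node (.node (.leaf tT123) (.leaf tT4219)) (.leaf tT2171)) (.node (.leaf tT1147) (.leaf tT3195))) (.node (.node (.node (.leaf tT635) (.leaf tT4731)) (.leaf tT2683)) (.node (.leaf tT1659) (.leaf tT3707)))) (.node (.node (.node (.node (.leaf tT379) (.leaf tT4475)) (.leaf tT2427)) (.node (.leaf tT1403) (.leaf tT3451))) (.node (.node (.leaf tT891) (.leaf tT2939)) (.node (.leaf tT1915) (.leaf tT3963))))) (.node (.node (.node (.node (.node (.leaf tT251) (.leaf tT4347)) (.leaf tT2299)) (.node (.leaf tT1275) (.leaf tT3323))) (.node (.node (.leaf tT763) (.leaf tT2811)) (.node (.leaf tT1787) (.leaf tT3835)))) (.node (.node (.node (.node (.leaf tT507) (.leaf tT4603)) (.leaf tT2555)) (.node (.leaf tT1531) (.leaf tT3579))) (.node (.node (.leaf tT1019) (.leaf tT3067)) (.node (.leaf tT2043) (.leaf tT4091)))))))))) (.node (.node (.node (.node (.node (.node (.node (.node (.node (.node (.leaf tT7) (.leaf tT4103)) (.leaf tT2055)) (.node (.leaf tT1031) (.leaf tT3079))) (.node (.node (.node (.leaf tT519) (.leaf tT4615)) (.leaf tT2567)) (.node (.leaf tT1543) (.leaf tT3591)))) (.node (.node (.node (.node (.leaf tT263) (.leaf tT4359)) (.leaf tT2311)) (.node (.leaf tT1287) (.leaf tT3335))) (.node (.node (.leaf tT775) (.leaf tT2823)) (.node (.leaf tT1799) (.leaf tT3847))))) (.node (.node (.node (.node (.node (.leaf tT135) (.leaf tT4231)) (.leaf tT2183)) (.node (.leaf tT1159) (.leaf tT3207))) (.node (.node (.node (.leaf tT647) (.leaf tT4743)) (.leaf tT2695)) (.node (.leaf tT1671) (.leaf tT3719)))) (.node (.node (.node (.node (.leaf tT391) (.leaf tT4487)) (.leaf tT2439)) (.node (.leaf tT1415) (.leaf tT3463))) (.node (.node (.leaf tT903) (.leaf tT2951)) (.node (.leaf tT1927) (.leaf tT3975)))))) (.node (.node (.node (.node (.node (.node (.leaf tT71) (.leaf tT4167)) (.leaf tT2119)) (.node (.leaf tT1095) (.leaf tT3143))) (.node (.node (.node (.leaf tT583) (.leaf tT4679)) (.leaf tT2631)) (.node (.leaf tT1607) (.leaf tT3655)))) (.node (.node (.node (.node (.leaf tT327) (.leaf tT4423)) (.leaf tT2375)) (.node (.leaf tT1351) (.leaf tT3399))) (.node (.node (.leaf tT839) (.leaf tT2887)) (.node (.leaf tT1863) (.leaf tT3911))))) (.node (.node (.node (.node (.node (.leaf tT199) (.leaf tT4295)) (.leaf tT2247)) (.node (.leaf tT1223) (.leaf tT3271))) (.node (.node (.leaf tT711) (.leaf tT2759)) (.node (.leaf tT1735) (.leaf tT3783)))) (.node (.node (.node (.node (.leaf tT455) (.leaf tT4551)) (.leaf tT2503)) (.node (.leaf tT1479) (.leaf tT3527))) (.node (.node (.leaf tT967) (.leaf tT3015)) (.node (.leaf tT1991) (.leaf tT4039))))))) (.node (.node (.node (.node (.node (.node (.node (.leaf tT39) (.leaf tT4135)) (.leaf tT2087)) (.node (.leaf tT1063) (.leaf tT3111))) (.node (.node (.node (.leaf tT551) (.leaf tT4647)) (.leaf tT2599)) (.node (.leaf tT1575) (.leaf tT3623)))) (.node (.node (.node (.node (.leaf tT295) (.leaf tT4391)) (.leaf tT2343)) (.node (.leaf tT1319) (.leaf tT3367))) (.node (.node (.leaf tT807) (.leaf tT2855)) (.node (.leaf tT1831) (.leaf tT3879))))) (.node (.node (.node (.node (.node (.leaf tT167) (.leaf tT4263)) (.leaf tT2215)) (.node (.leaf tT1191) (.leaf tT3239))) (.node (.node (.node (.leaf tT679) (.leaf tT4775)) (.leaf tT2727)) (.node (.leaf tT1703) (.leaf tT3751)))) (.node (.node (.node (.node (.leaf tT423) (.leaf tT4519)) (.leaf tT2471)) (.node (.leaf tT1447) (.leaf tT3495))) (.node (.node (.leaf tT935) (.leaf tT2983)) (.node (.leaf tT1959) (.leaf tT4007)))))) (.node (.node (.node (.node (.node (.node (.leaf tT103) (.leaf tT4199)) (.leaf tT2151)) (.node (.leaf tT1127) (.leaf tT3175))) (.node (.node (.node (.leaf tT615) (.leaf tT4711)) (.leaf tT2663)) (.node (.leaf tT1639) (.leaf tT3687)))) (.node (.node (.node (.node (.leaf tT359) (.leaf tT4455)) (.leaf tT2407)) (.node (.leaf tT1383) (.leaf tT3431))) (.node (.node (.leaf tT871) (.leaf tT2919)) (.node (.leaf tT1895) (.leaf tT3943))))) (.node (.node (.node (.node (.node (.leaf tT231) (.leaf tT4327)) (.leaf tT2279)) (.node (.leaf tT1255) (.leaf tT3303))) (.node (.node (.leaf tT743) (.leaf tT2791)) (.node (.leaf tT1767) (.leaf tT3815)))) (.node (.node (.node (.node (.leaf tT487) (.leaf tT4583)) (.leaf tT2535)) (.node (.leaf tT1511) (.leaf tT3559))) (.node (.node (.leaf tT999) (.leaf tT3047)) (.node (.leaf tT2023) (.leaf tT4071)))))))) (.node (.node (.node (.node (.node (.node (.node (.node (.leaf tT23) (.leaf tT4119)) (.leaf tT2071)) (.node (.leaf tT1047) (.leaf tT3095))) (.node (.node (.node (.leaf tT535) (.leaf tT4631)) (.leaf tT2583)) (.node (.leaf tT1559) (.leaf tT3607)))) (.node (.node (.node (.node (.leaf tT279) (.leaf tT4375)) (.leaf tT2327)) (.node (.leaf tT1303) (.leaf tT3351))) (.node (.node (.leaf tT791) (.leaf tT2839)) (.node (.leaf tT1815) (.leaf tT3863))))) (.node (.node (.node (.node (.node (.leaf tT151) (.leaf tT4247)) (.leaf tT2199)) (.node (.leaf tT1175) (.leaf tT3223))) (.node (.node (.node (.leaf tT663) (.leaf tT4759)) (.leaf tT2711)) (.node (.leaf tT1687) (.leaf tT3735)))) (.node (.node (.node (.node (.leaf tT407) (.leaf tT4503)) (.leaf tT2455)) (.node (.leaf tT1431) (.leaf tT3479))) (.node (.node (.leaf tT919) (.leaf tT2967)) (.node (.leaf tT1943) (.leaf tT3991)))))) (.node (.node (.node (.node (.node (.node (.leaf tT87) (.leaf tT4183)) (.leaf tT2135)) (.node (.leaf tT1111) (.leaf tT3159))) (.node (.node (.node (.leaf tT599) (.leaf tT4695)) (.leaf tT2647)) (.node (.leaf tT1623) (.leaf tT3671)))) (.node (.node (.node (.node (.leaf tT343) (.leaf tT4439)) (.leaf tT2391)) (.node (.leaf tT1367) (.leaf tT3415))) (.node (.node (.leaf tT855) (.leaf tT2903)) (.node (.leaf tT1879) (.leaf tT3927))))) (.node (.node (.node (.node (.node (.leaf tT215) (.leaf tT4311)) (.leaf tT2263)) (.node (.leaf tT1239) (.leaf tT3287))) (.node (.node (.leaf tT727) (.leaf tT2775)) (.node (.leaf tT1751) (.leaf tT3799)))) (.node (.node (.node (.node (.leaf tT471) (.leaf tT4567)) (.leaf tT2519)) (.node (.leaf tT1495) (.leaf tT3543))) (.node (.node (.leaf tT983) (.leaf tT3031)) (.node (.leaf tT2007) (.leaf tT4055))))))) (.node (.node (.node (.node (.node (.node (.node (.leaf tT55) (.leaf tT4151)) (.leaf tT2103)) (.node (.leaf tT1079) (.leaf tT3127))) (.node (.node (.node (.leaf tT567) (.leaf tT4663)) (.leaf tT2615)) (.node (.leaf tT1591) (.leaf tT3639)))) (.node (.node (.node (.node (.leaf tT311) (.leaf tT4407)) (.leaf tT2359)) (.node (.leaf tT1335) (.leaf tT3383))) (.node (.node (.leaf tT823) (.leaf tT2871)) (.node (.leaf tT1847) (.leaf tT3895))))) (.node (.node (.node (.node (.node (.leaf tT183) (.leaf tT4279)) (.leaf tT2231)) (.node (.leaf tT1207) (.leaf tT3255))) (.node (.node (.node (.leaf tT695) (.leaf tT4791)) (.leaf tT2743)) (.node (.leaf tT1719) (.leaf tT3767)))) (.node (.node (.node (.node (.leaf tT439) (.leaf tT4535)) (.leaf tT2487)) (.node (.leaf tT1463) (.leaf tT3511))) (.node (.node (.leaf tT951) (.leaf tT2999)) (.node (.leaf tT1975) (.leaf tT4023)))))) (.node (.node (.node (.node (.node (.node (.leaf tT119) (.leaf tT4215)) (.leaf tT2167)) (.node (.leaf tT1143) (.leaf tT3191))) (.node (.node (.node (.leaf tT631) (.leaf tT4727)) (.leaf tT2679)) (.node (.leaf tT1655) (.leaf tT3703)))) (.node (.node (.node (.node (.leaf tT375) (.leaf tT4471)) (.leaf tT2423)) (.node (.leaf tT1399) (.leaf tT3447))) (.node (.node (.leaf tT887) (.leaf tT2935)) (.node (.leaf tT1911) (.leaf tT3959))))) (.node (.node (.node (.node (.node (.leaf tT247) (.leaf tT4343)) (.leaf tT2295)) (.node (.leaf tT1271) (.leaf tT3319))) (.node (.node (.leaf tT759) (.leaf tT2807)) (.node (.leaf tT1783) (.leaf tT3831)))) (.node (.node (.node (.node (.leaf tT503) (.leaf tT4599)) (.leaf tT2551)) (.node (.leaf tT1527) (.leaf tT3575))) (.node (.node (.leaf tT1015) (.leaf tT3063)) (.node (.leaf tT2039) (.leaf tT4087))))))))) (.node (.node (.node (.node (.node (.node (.node (.node (.node (.leaf tT15) (.leaf tT4111)) (.leaf tT2063)) (.node (.leaf tT1039) (.leaf tT3087))) (.node (.node (.node (.leaf tT527) (.leaf tT4623)) (.leaf tT2575)) (.node (.leaf tT1551) (.leaf tT3599)))) (.node (.node (.node (.node (.leaf tT271) (.leaf tT4367)) (.leaf tT2319)) (.node (.leaf tT1295) (.leaf tT3343))) (.node (.node (.leaf tT783) (.leaf tT2831)) (.node (.leaf tT1807) (.leaf tT3855))))) (.node (.node (.node (.node (.node (.leaf tT143) (.leaf tT4239)) (.leaf tT2191)) (.node (.leaf tT1167) (.leaf tT3215))) (.node (.node (.node (.leaf tT655) (.leaf tT4751)) (.leaf tT2703)) (.node (.leaf tT1679) (.leaf tT3727)))) (.node (.node (.node (.node (.leaf tT399) (.leaf tT4495)) (.leaf tT2447)) (.node (.leaf tT1423) (.leaf tT3471))) (.node (.node (.leaf tT911) (.leaf tT2959)) (.node (.leaf tT1935) (.leaf tT3983)))))) (.node (.node (.node (.node (.node (.node (.leaf tT79) (.leaf tT4175)) (.leaf tT2127)) (.node (.leaf tT1103) (.leaf tT3151))) (.node (.node (.node (.leaf tT591) (.leaf tT4687)) (.leaf tT2639)) (.node (.leaf tT1615) (.leaf tT3663)))) (.node (.node (.node (.node (.leaf tT335) (.leaf tT4431)) (.leaf tT2383)) (.node (.leaf tT1359) (.leaf tT3407))) (.node (.node (.leaf tT847) (.leaf tT2895)) (.node (.leaf tT1871) (.leaf tT3919))))) (.node (.node (.node (.node (.node (.leaf tT207) (.leaf tT4303)) (.leaf tT2255)) (.node (.leaf tT1231) (.leaf tT3279))) (.node (.node (.leaf tT719) (.leaf tT2767)) (.node (.leaf tT1743) (.leaf tT3791)))) (.node (.node (.node (.node (.leaf tT463) (.leaf tT4559)) (.leaf tT2511)) (.node (.leaf tT1487) (.leaf tT3535))) (.node (.node (.leaf tT975) (.leaf tT3023)) (.node (.leaf tT1999) (.leaf tT4047))))))) (.node (.node (.node (.node (.node (.node (.node (.leaf tT47) (.leaf tT4143)) (.leaf tT2095)) (.node (.leaf tT1071) (.leaf tT3119))) (.node (.node (.node (.leaf tT559) (.leaf tT4655)) (.leaf tT2607)) (.node (.leaf tT1583) (.leaf tT3631)))) (.node (.node (.node (.node (.leaf tT303) (.leaf tT4399)) (.leaf tT2351)) (.node (.leaf tT1327) (.leaf tT3375))) (.node (.node (.leaf tT815) (.leaf tT2863)) (.node (.leaf tT1839) (.leaf tT3887))))) (.node (.node (.node (.node (.node (.leaf tT175) (.leaf tT4271)) (.leaf tT2223)) (.node (.leaf tT1199) (.leaf tT3247))) (.node (.node (.node (.leaf tT687) (.leaf tT4783)) (.leaf tT2735)) (.node (.leaf tT1711) (.leaf tT3759)))) (.node (.node (.node (.node (.leaf tT431) (.leaf tT4527)) (.leaf tT2479)) (.node (.leaf tT1455) (.leaf tT3503))) (.node (.node (.leaf tT943) (.leaf tT2991)) (.node (.leaf tT1967) (.leaf tT4015)))))) (.node (.node (.node (.node (.node (.node (.leaf tT111) (.leaf tT4207)) (.leaf tT2159)) (.node (.leaf tT1135) (.leaf tT3183))) (.node (.node (.node (.leaf tT623) (.leaf tT4719)) (.leaf tT2671)) (.node (.leaf tT1647) (.leaf tT3695)))) (.node (.node (.node (.node (.leaf tT367) (.leaf tT4463)) (.leaf tT2415)) (.node (.leaf tT1391) (.leaf tT3439))) (.node (.node (.leaf tT879) (.leaf tT2927)) (.node (.leaf tT1903) (.leaf tT3951))))) (.node (.node (.node (.node (.node (.leaf tT239) (.leaf tT4335)) (.leaf tT2287)) (.node (.leaf tT1263) (.leaf tT3311))) (.node (.node (.leaf tT751) (.leaf tT2799)) (.node (.leaf tT1775) (.leaf tT3823)))) (.node (.node (.node (.node (.leaf tT495) (.leaf tT4591)) (.leaf tT2543)) (.node (.leaf tT1519) (.leaf tT3567))) (.node (.node (.leaf tT1007) (.leaf tT3055)) (.node (.leaf tT2031) (.leaf tT4079)))))))) (.node (.node (.node (.node (.node (.node (.node (.node (.leaf tT31) (.leaf tT4127)) (.leaf tT2079)) (.node (.leaf tT1055) (.leaf tT3103))) (.node (.node (.node (.leaf tT543) (.leaf tT4639)) (.leaf tT2591)) (.node (.leaf tT1567) (.leaf tT3615)))) (.node (.node (.node (.node (.leaf tT287) (.leaf tT4383)) (.leaf tT2335)) (.node (.leaf tT1311) (.leaf tT3359))) (.node (.node (.leaf tT799) (.leaf tT2847)) (.node (.leaf tT1823) (.leaf tT3871))))) (.node (.node (.node (.node (.node (.leaf tT159) (.leaf tT4255)) (.leaf tT2207)) (.node (.leaf tT1183) (.leaf tT3231))) (.node (.node (.node (.leaf tT671) (.leaf tT4767)) (.leaf tT2719)) (.node (.leaf tT1695) (.leaf tT3743)))) (.node (.node (.node (.node (.leaf tT415) (.leaf tT4511)) (.leaf tT2463)) (.node (.leaf tT1439) (.leaf tT3487))) (.node (.node (.leaf tT927) (.leaf tT2975)) (.node (.leaf tT1951) (.leaf tT3999)))))) (.node (.node (.node (.node (.node (.node (.leaf tT95) (.leaf tT4191)) (.leaf tT2143)) (.node (.leaf tT1119) (.leaf tT3167))) (.node (.node (.node (.leaf tT607) (.leaf tT4703)) (.leaf tT2655)) (.node (.leaf tT1631) (.leaf tT3679)))) (.node (.node (.node (.node (.leaf tT351) (.leaf tT4447)) (.leaf tT2399)) (.node (.leaf tT1375) (.leaf tT3423))) (.node (.node (.leaf tT863) (.leaf tT2911)) (.node (.leaf tT1887) (.leaf tT3935))))) (.node (.node (.node (.node (.node (.leaf tT223) (.leaf tT4319)) (.leaf tT2271)) (.node (.leaf tT1247) (.leaf tT3295))) (.node (.node (.leaf tT735) (.leaf tT2783)) (.node (.leaf tT1759) (.leaf tT3807)))) (.node (.node (.node (.node (.leaf tT479) (.leaf tT4575)) (.leaf tT2527)) (.node (.leaf tT1503) (.leaf tT3551))) (.node (.node (.leaf tT991) (.leaf tT3039)) (.node (.leaf tT2015) (.leaf tT4063))))))) (.node (.node (.node (.node (.node (.node (.node (.leaf tT63) (.leaf tT4159)) (.leaf tT2111)) (.node (.leaf tT1087) (.leaf tT3135))) (.node (.node (.node (.leaf tT575) (.leaf tT4671)) (.leaf tT2623)) (.node (.leaf tT1599) (.leaf tT3647)))) (.node (.node (.node (.node (.leaf tT319) (.leaf tT4415)) (.leaf tT2367)) (.node (.leaf tT1343) (.leaf tT3391))) (.node (.node (.leaf tT831) (.leaf tT2879)) (.node (.leaf tT1855) (.leaf tT3903))))) (.node (.node (.node (.node (.node (.leaf tT191) (.leaf tT4287)) (.leaf tT2239)) (.node (.leaf tT1215) (.leaf tT3263))) (.node (.node (.leaf tT703) (.leaf tT2751)) (.node (.leaf tT1727) (.leaf tT3775)))) (.node (.node (.node (.node (.leaf tT447) (.leaf tT4543)) (.leaf tT2495)) (.node (.leaf tT1471) (.leaf tT3519))) (.node (.node (.leaf tT959) (.leaf tT3007)) (.node (.leaf tT1983) (.leaf tT4031)))))) (.node (.node (.node (.node (.node (.node (.leaf tT127) (.leaf tT4223)) (.leaf tT2175)) (.node (.leaf tT1151) (.leaf tT3199))) (.node (.node (.node (.leaf tT639) (.leaf tT4735)) (.leaf tT2687)) (.node (.leaf tT1663) (.leaf tT3711)))) (.node (.node (.node (.node (.leaf tT383) (.leaf tT4479)) (.leaf tT2431)) (.node (.leaf tT1407) (.leaf tT3455))) (.node (.node (.leaf tT895) (.leaf tT2943)) (.node (.leaf tT1919) (.leaf tT3967))))) (.node (.node (.node (.node (.node (.leaf tT255) (.leaf tT4351)) (.leaf tT2303)) (.node (.leaf tT1279) (.leaf tT3327))) (.node (.node (.leaf tT767) (.leaf tT2815)) (.node (.leaf tT1791) (.leaf tT3839)))) (.node (.node (.node (.node (.leaf tT511) (.leaf tT4607)) (.leaf tT2559)) (.node (.leaf tT1535) (.leaf tT3583))) (.node (.node (.leaf tT1023) (.leaf tT3071)) (.node (.leaf tT2047) (.leaf tT4095)))))))))))))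
noncomputable def tJ : Tr := (.node (.node (.node (.node (.node (.node (.node (.node (.node (.node (.node (.leaf tJ0) (.leaf tJ1024)) (.leaf tJ512)) (.node (.leaf tJ256) (.leaf tJ768))) (.node (.node (.node (.leaf tJ128) (.leaf tJ1152)) (.leaf tJ640)) (.node (.leaf tJ384) (.leaf tJ896)))) (.node (.node (.node (.node (.leaf tJ64) (.leaf tJ1088)) (.leaf tJ576)) (.node (.leaf tJ320) (.leaf tJ832))) (.node (.node (.leaf tJ192) (.leaf tJ704)) (.node (.leaf tJ448) (.leaf tJ960))))) (.node (.node (.node (.node (.node (.leaf tJ32) (.leaf tJ1056)) (.leaf tJ544)) (.node (.leaf tJ288) (.leaf tJ800))) (.node (.node (.node (.leaf tJ160) (.leaf tJ1184)) (.leaf tJ672)) (.node (.leaf tJ416) (.leaf tJ928)))) (.node (.node (.node (.node (.leaf tJ96) (.leaf tJ1120)) (.leaf tJ608)) (.node (.leaf tJ352) (.leaf tJ864))) (.node (.node (.leaf tJ224) (.leaf tJ736)) (.node (.leaf tJ480) (.leaf tJ992)))))) (.node (.node (.node (.node (.node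 (.node (.leaf tJ16) (.leaf tJ1040)) (.leaf tJ528)) (.node (.leaf tJ272) (.leaf tJ784))) (.node (.node (.node (.leaf tJ144) (.leaf tJ1168)) (.leaf tJ656)) (.node (.leaf tJ400) (.leaf tJ912)))) (.node (.node (.node (.node (.leaf tJ80) (.leaf tJ1104)) (.leaf tJ592)) (.node (.leaf tJ336) (.leaf tJ848))) (.node (.node (.leaf tJ208) (.leaf tJ720)) (.node (.leaf tJ464) (.leaf tJ976))))) (.node (.node (.node (.node (.node (.leaf tJ48) (.leaf tJ1072)) (.leaf tJ560)) (.node (.leaf tJ304) (.leaf tJ816))) (.node (.node (.leaf tJ176) (.leaf tJ688)) (.node (.leaf tJ432) (.leaf tJ944)))) (.node (.node (.node (.node (.leaf tJ112) (.leaf tJ1136)) (.leaf tJ624)) (.node (.leaf tJ368) (.leaf tJ880))) (.node (.node (.leaf tJ240) (.leaf tJ752)) (.node (.leaf tJ496) (.leaf tJ1008))))))) (.node (.node (.node (.node (.node (.node (.node (.leaf tJ8) (.leaf tJ1032)) (.leaf tJ520)) (.node (.leaf tJ264) (.leaf tJ776))) (.node (.node (.node (.leaf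 tJ136) (.leaf tJ1160)) (.leaf tJ648)) (.node (.leaf tJ392) (.leaf tJ904)))) (.node (.node (.node (.node (.leaf tJ72) (.leaf tJ1096)) (.leaf tJ584)) (.node (.leaf tJ328) (.leaf tJ840))) (.node (.node (.leaf tJ200) (.leaf tJ712)) (.node (.leaf tJ456) (.leaf tJ968))))) (.node (.node (.node (.node (.node (.leaf tJ40) (.leaf tJ1064)) (.leaf tJ552)) (.node (.leaf tJ296) (.leaf tJ808))) (.node (.node (.node (.leaf tJ168) (.leaf tJ1192)) (.leaf tJ680)) (.node (.leaf tJ424) (.leaf tJ936)))) (.node (.node (.node (.node (.leaf tJ104) (.leaf tJ1128)) (.leaf tJ616)) (.node (.leaf tJ360) (.leaf tJ872))) (.node (.node (.leaf tJ232) (.leaf tJ744)) (.node (.leaf tJ488) (.leaf tJ1000)))))) (.node (.node (.node (.node (.node (.node (.leaf tJ24) (.leaf tJ1048)) (.leaf tJ536)) (.node (.leaf tJ280) (.leaf tJ792))) (.node (.node (.node (.leaf tJ152) (.leaf tJ1176)) (.leaf tJ664)) (.node (.leaf tJ408) (.leaf tJ920)))) (.node (.node (.node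 (.node (.leaf tJ88) (.leaf tJ1112)) (.leaf tJ600)) (.node (.leaf tJ344) (.leaf tJ856))) (.node (.node (.leaf tJ216) (.leaf tJ728)) (.node (.leaf tJ472) (.leaf tJ984))))) (.node (.node (.node (.node (.node (.leaf tJ56) (.leaf tJ1080)) (.leaf tJ568)) (.node (.leaf tJ312) (.leaf tJ824))) (.node (.node (.leaf tJ184) (.leaf tJ696)) (.node (.leaf tJ440) (.leaf tJ952)))) (.node (.node (.node (.node (.leaf tJ120) (.leaf tJ1144)) (.leaf tJ632)) (.node (.leaf tJ376) (.leaf tJ888))) (.node (.node (.leaf tJ248) (.leaf tJ760)) (.node (.leaf tJ504) (.leaf tJ1016)))))))) (.node (.node (.node (.node (.node (.node (.node (.node (.leaf tJ4) (.leaf tJ1028)) (.leaf tJ516)) (.node (.leaf tJ260) (.leaf tJ772))) (.node (.node (.node (.leaf tJ132) (.leaf tJ1156)) (.leaf tJ644)) (.node (.leaf tJ388) (.leaf tJ900)))) (.node (.node (.node (.node (.leaf tJ68) (.leaf tJ1092)) (.leaf tJ580)) (.node (.leaf tJ324) (.leaf tJ836))) (.node (.node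 (.leaf tJ196) (.leaf tJ708)) (.node (.leaf tJ452) (.leaf tJ964))))) (.node (.node (.node (.node (.node (.leaf tJ36) (.leaf tJ1060)) (.leaf tJ548)) (.node (.leaf tJ292) (.leaf tJ804))) (.node (.node (.node (.leaf tJ164) (.leaf tJ1188)) (.leaf tJ676)) (.node (.leaf tJ420) (.leaf tJ932)))) (.node (.node (.node (.node (.leaf tJ100) (.leaf tJ1124)) (.leaf tJ612)) (.node (.leaf tJ356) (.leaf tJ868))) (.node (.node (.leaf tJ228) (.leaf tJ740)) (.node (.leaf tJ484) (.leaf tJ996)))))) (.node (.node (.node (.node (.node (.node (.leaf tJ20) (.leaf tJ1044)) (.leaf tJ532)) (.node (.leaf tJ276) (.leaf tJ788))) (.node (.node (.node (.leaf tJ148) (.leaf tJ1172)) (.leaf tJ660)) (.node (.leaf tJ404) (.leaf tJ916)))) (.node (.node (.node (.node (.leaf tJ84) (.leaf tJ1108)) (.leaf tJ596)) (.node (.leaf tJ340) (.leaf tJ852))) (.node (.node (.leaf tJ212) (.leaf tJ724)) (.node (.leaf tJ468) (.leaf tJ980))))) (.node (.node (.node (.node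 (.node (.leaf tJ52) (.leaf tJ1076)) (.leaf tJ564)) (.node (.leaf tJ308) (.leaf tJ820))) (.node (.node (.leaf tJ180) (.leaf tJ692)) (.node (.leaf tJ436) (.leaf tJ948)))) (.node (.node (.node (.node (.leaf tJ116) (.leaf tJ1140)) (.leaf tJ628)) (.node (.leaf tJ372) (.leaf tJ884))) (.node (.node (.leaf tJ244) (.leaf tJ756)) (.node (.leaf tJ500) (.leaf tJ1012))))))) (.node (.node (.node (.node (.node (.node (.node (.leaf tJ12) (.leaf tJ1036)) (.leaf tJ524)) (.node (.leaf tJ268) (.leaf tJ780))) (.node (.node (.node (.leaf tJ140) (.leaf tJ1164)) (.leaf tJ652)) (.node (.leaf tJ396) (.leaf tJ908)))) (.node (.node (.node (.node (.leaf tJ76) (.leaf tJ1100)) (.leaf tJ588)) (.node (.leaf tJ332) (.leaf tJ844))) (.node (.node (.leaf tJ204) (.leaf tJ716)) (.node (.leaf tJ460) (.leaf tJ972))))) (.node (.node (.node (.node (.node (.leaf tJ44) (.leaf tJ1068)) (.leaf tJ556)) (.node (.leaf tJ300) (.leaf tJ812))) (.node (.node (.node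 (.leaf tJ172) (.leaf tJ1196)) (.leaf tJ684)) (.node (.leaf tJ428) (.leaf tJ940)))) (.node (.node (.node (.node (.leaf tJ108) (.leaf tJ1132)) (.leaf tJ620)) (.node (.leaf tJ364) (.leaf tJ876))) (.node (.node (.leaf tJ236) (.leaf tJ748)) (.node (.leaf tJ492) (.leaf tJ1004)))))) (.node (.node (.node (.node (.node (.node (.leaf tJ28) (.leaf tJ1052)) (.leaf tJ540)) (.node (.leaf tJ284) (.leaf tJ796))) (.node (.node (.node (.leaf tJ156) (.leaf tJ1180)) (.leaf tJ668)) (.node (.leaf tJ412) (.leaf tJ924)))) (.node (.node (.node (.node (.leaf tJ92) (.leaf tJ1116)) (.leaf tJ604)) (.node (.leaf tJ348) (.leaf tJ860))) (.node (.node (.leaf tJ220) (.leaf tJ732)) (.node (.leaf tJ476) (.leaf tJ988))))) (.node (.node (.node (.node (.node (.leaf tJ60) (.leaf tJ1084)) (.leaf tJ572)) (.node (.leaf tJ316) (.leaf tJ828))) (.node (.node (.leaf tJ188) (.leaf tJ700)) (.node (.leaf tJ444) (.leaf tJ956)))) (.node (.node (.node (.node (.leaf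 tJ124) (.leaf tJ1148)) (.leaf tJ636)) (.node (.leaf tJ380) (.leaf tJ892))) (.node (.node (.leaf tJ252) (.leaf tJ764)) (.node (.leaf tJ508) (.leaf tJ1020))))))))) (.node (.node (.node (.node (.node (.node (.node (.node (.node (.leaf tJ2) (.leaf tJ1026)) (.leaf tJ514)) (.node (.leaf tJ258) (.leaf tJ770))) (.node (.node (.node (.leaf tJ130) (.leaf tJ1154)) (.leaf tJ642)) (.node (.leaf tJ386) (.leaf tJ898)))) (.node (.node (.node (.node (.leaf tJ66) (.leaf tJ1090)) (.leaf tJ578)) (.node (.leaf tJ322) (.leaf tJ834))) (.node (.node (.leaf tJ194) (.leaf tJ706)) (.node (.leaf tJ450) (.leaf tJ962))))) (.node (.node (.node (.node (.node (.leaf tJ34) (.leaf tJ1058)) (.leaf tJ546)) (.node (.leaf tJ290) (.leaf tJ802))) (.node (.node (.node (.leaf tJ162) (.leaf tJ1186)) (.leaf tJ674)) (.node (.leaf tJ418) (.leaf tJ930)))) (.node (.node (.node (.node (.leaf tJ98) (.leaf tJ1122)) (.leaf tJ610)) (.node (.leaf tJ354) (.leaf tJ866)))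 (.node (.node (.leaf tJ226) (.leaf tJ738)) (.node (.leaf tJ482) (.leaf tJ994)))))) (.node (.node (.node (.node (.node (.node (.leaf tJ18) (.leaf tJ1042)) (.leaf tJ530)) (.node (.leaf tJ274) (.leaf tJ786))) (.node (.node (.node (.leaf tJ146) (.leaf tJ1170)) (.leaf tJ658)) (.node (.leaf tJ402) (.leaf tJ914)))) (.node (.node (.node (.node (.leaf tJ82) (.leaf tJ1106)) (.leaf tJ594)) (.node (.leaf tJ338) (.leaf tJ850))) (.node (.node (.leaf tJ210) (.leaf tJ722)) (.node (.leaf tJ466) (.leaf tJ978))))) (.node (.node (.node (.node (.node (.leaf tJ50) (.leaf tJ1074)) (.leaf tJ562)) (.node (.leaf tJ306) (.leaf tJ818))) (.node (.node (.leaf tJ178) (.leaf tJ690)) (.node (.leaf tJ434) (.leaf tJ946)))) (.node (.node (.node (.node (.leaf tJ114) (.leaf tJ1138)) (.leaf tJ626)) (.node (.leaf tJ370) (.leaf tJ882))) (.node (.node (.leaf tJ242) (.leaf tJ754)) (.node (.leaf tJ498) (.leaf tJ1010))))))) (.node (.node (.node (.node (.node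 (.node (.node (.leaf tJ10) (.leaf tJ1034)) (.leaf tJ522)) (.node (.leaf tJ266) (.leaf tJ778))) (.node (.node (.node (.leaf tJ138) (.leaf tJ1162)) (.leaf tJ650)) (.node (.leaf tJ394) (.leaf tJ906)))) (.node (.node (.node (.node (.leaf tJ74) (.leaf tJ1098)) (.leaf tJ586)) (.node (.leaf tJ330) (.leaf tJ842))) (.node (.node (.leaf tJ202) (.leaf tJ714)) (.node (.leaf tJ458) (.leaf tJ970))))) (.node (.node (.node (.node (.node (.leaf tJ42) (.leaf tJ1066)) (.leaf tJ554)) (.node (.leaf tJ298) (.leaf tJ810))) (.node (.node (.node (.leaf tJ170) (.leaf tJ1194)) (.leaf tJ682)) (.node (.leaf tJ426) (.leaf tJ938)))) (.node (.node (.node (.node (.leaf tJ106) (.leaf tJ1130)) (.leaf tJ618)) (.node (.leaf tJ362) (.leaf tJ874))) (.node (.node (.leaf tJ234) (.leaf tJ746)) (.node (.leaf tJ490) (.leaf tJ1002)))))) (.node (.node (.node (.node (.node (.node (.leaf tJ26) (.leaf tJ1050)) (.leaf tJ538)) (.node (.leaf tJ282) (.leaf tJ794)))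 (.node (.node (.node (.leaf tJ154) (.leaf tJ1178)) (.leaf tJ666)) (.node (.leaf tJ410) (.leaf tJ922)))) (.node (.node (.node (.node (.leaf tJ90) (.leaf tJ1114)) (.leaf tJ602)) (.node (.leaf tJ346) (.leaf tJ858))) (.node (.node (.leaf tJ218) (.leaf tJ730)) (.node (.leaf tJ474) (.leaf tJ986))))) (.node (.node (.node (.node (.node (.leaf tJ58) (.leaf tJ1082)) (.leaf tJ570)) (.node (.leaf tJ314) (.leaf tJ826))) (.node (.node (.leaf tJ186) (.leaf tJ698)) (.node (.leaf tJ442) (.leaf tJ954)))) (.node (.node (.node (.node (.leaf tJ122) (.leaf tJ1146)) (.leaf tJ634)) (.node (.leaf tJ378) (.leaf tJ890))) (.node (.node (.leaf tJ250) (.leaf tJ762)) (.node (.leaf tJ506) (.leaf tJ1018)))))))) (.node (.node (.node (.node (.node (.node (.node (.node (.leaf tJ6) (.leaf tJ1030)) (.leaf tJ518)) (.node (.leaf tJ262) (.leaf tJ774))) (.node (.node (.node (.leaf tJ134) (.leaf tJ1158)) (.leaf tJ646)) (.node (.leaf tJ390) (.leaf tJ902))))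 (.node (.node (.node (.node (.leaf tJ70) (.leaf tJ1094)) (.leaf tJ582)) (.node (.leaf tJ326) (.leaf tJ838))) (.node (.node (.leaf tJ198) (.leaf tJ710)) (.node (.leaf tJ454) (.leaf tJ966))))) (.node (.node (.node (.node (.node (.leaf tJ38) (.leaf tJ1062)) (.leaf tJ550)) (.node (.leaf tJ294) (.leaf tJ806))) (.node (.node (.node (.leaf tJ166) (.leaf tJ1190)) (.leaf tJ678)) (.node (.leaf tJ422) (.leaf tJ934)))) (.node (.node (.node (.node (.leaf tJ102) (.leaf tJ1126)) (.leaf tJ614)) (.node (.leaf tJ358) (.leaf tJ870))) (.node (.node (.leaf tJ230) (.leaf tJ742)) (.node (.leaf tJ486) (.leaf tJ998)))))) (.node (.node (.node (.node (.node (.node (.leaf tJ22) (.leaf tJ1046)) (.leaf tJ534)) (.node (.leaf tJ278) (.leaf tJ790))) (.node (.node (.node (.leaf tJ150) (.leaf tJ1174)) (.leaf tJ662)) (.node (.leaf tJ406) (.leaf tJ918)))) (.node (.node (.node (.node (.leaf tJ86) (.leaf tJ1110)) (.leaf tJ598)) (.node (.leaf tJ342) (.leaf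 tJ854))) (.node (.node (.leaf tJ214) (.leaf tJ726)) (.node (.leaf tJ470) (.leaf tJ982))))) (.node (.node (.node (.node (.node (.leaf tJ54) (.leaf tJ1078)) (.leaf tJ566)) (.node (.leaf tJ310) (.leaf tJ822))) (.node (.node (.leaf tJ182) (.leaf tJ694)) (.node (.leaf tJ438) (.leaf tJ950)))) (.node (.node (.node (.node (.leaf tJ118) (.leaf tJ1142)) (.leaf tJ630)) (.node (.leaf tJ374) (.leaf tJ886))) (.node (.node (.leaf tJ246) (.leaf tJ758)) (.node (.leaf tJ502) (.leaf tJ1014))))))) (.node (.node (.node (.node (.node (.node (.node (.leaf tJ14) (.leaf tJ1038)) (.leaf tJ526)) (.node (.leaf tJ270) (.leaf tJ782))) (.node (.node (.node (.leaf tJ142) (.leaf tJ1166)) (.leaf tJ654)) (.node (.leaf tJ398) (.leaf tJ910)))) (.node (.node (.node (.node (.leaf tJ78) (.leaf tJ1102)) (.leaf tJ590)) (.node (.leaf tJ334) (.leaf tJ846))) (.node (.node (.leaf tJ206) (.leaf tJ718)) (.node (.leaf tJ462) (.leaf tJ974))))) (.node (.node (.node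 (.node (.node (.leaf tJ46) (.leaf tJ1070)) (.leaf tJ558)) (.node (.leaf tJ302) (.leaf tJ814))) (.node (.node (.node (.leaf tJ174) (.leaf tJ1198)) (.leaf tJ686)) (.node (.leaf tJ430) (.leaf tJ942)))) (.node (.node (.node (.node (.leaf tJ110) (.leaf tJ1134)) (.leaf tJ622)) (.node (.leaf tJ366) (.leaf tJ878))) (.node (.node (.leaf tJ238) (.leaf tJ750)) (.node (.leaf tJ494) (.leaf tJ1006)))))) (.node (.node (.node (.node (.node (.node (.leaf tJ30) (.leaf tJ1054)) (.leaf tJ542)) (.node (.leaf tJ286) (.leaf tJ798))) (.node (.node (.node (.leaf tJ158) (.leaf tJ1182)) (.leaf tJ670)) (.node (.leaf tJ414) (.leaf tJ926)))) (.node (.node (.node (.node (.leaf tJ94) (.leaf tJ1118)) (.leaf tJ606)) (.node (.leaf tJ350) (.leaf tJ862))) (.node (.node (.leaf tJ222) (.leaf tJ734)) (.node (.leaf tJ478) (.leaf tJ990))))) (.node (.node (.node (.node (.node (.leaf tJ62) (.leaf tJ1086)) (.leaf tJ574)) (.node (.leaf tJ318) (.leaf tJ830)))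 (.node (.node (.leaf tJ190) (.leaf tJ702)) (.node (.leaf tJ446) (.leaf tJ958)))) (.node (.node (.node (.node (.leaf tJ126) (.leaf tJ1150)) (.leaf tJ638)) (.node (.leaf tJ382) (.leaf tJ894))) (.node (.node (.leaf tJ254) (.leaf tJ766)) (.node (.leaf tJ510) (.leaf tJ1022)))))))))) (.node (.node (.node (.node (.node (.node (.node (.node (.node (.node (.leaf tJ1) (.leaf tJ1025)) (.leaf tJ513)) (.node (.leaf tJ257) (.leaf tJ769))) (.node (.node (.node (.leaf tJ129) (.leaf tJ1153)) (.leaf tJ641)) (.node (.leaf tJ385) (.leaf tJ897)))) (.node (.node (.node (.node (.leaf tJ65) (.leaf tJ1089)) (.leaf tJ577)) (.node (.leaf tJ321) (.leaf tJ833))) (.node (.node (.leaf tJ193) (.leaf tJ705)) (.node (.leaf tJ449) (.leaf tJ961))))) (.node (.node (.node (.node (.node (.leaf tJ33) (.leaf tJ1057)) (.leaf tJ545)) (.node (.leaf tJ289) (.leaf tJ801))) (.node (.node (.node (.leaf tJ161) (.leaf tJ1185)) (.leaf tJ673)) (.node (.leaf tJ417)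 (.leaf tJ929)))) (.node (.node (.node (.node (.leaf tJ97) (.leaf tJ1121)) (.leaf tJ609)) (.node (.leaf tJ353) (.leaf tJ865))) (.node (.node (.leaf tJ225) (.leaf tJ737)) (.node (.leaf tJ481) (.leaf tJ993)))))) (.node (.node (.node (.node (.node (.node (.leaf tJ17) (.leaf tJ1041)) (.leaf tJ529)) (.node (.leaf tJ273) (.leaf tJ785))) (.node (.node (.node (.leaf tJ145) (.leaf tJ1169)) (.leaf tJ657)) (.node (.leaf tJ401) (.leaf tJ913)))) (.node (.node (.node (.node (.leaf tJ81) (.leaf tJ1105)) (.leaf tJ593)) (.node (.leaf tJ337) (.leaf tJ849))) (.node (.node (.leaf tJ209) (.leaf tJ721)) (.node (.leaf tJ465) (.leaf tJ977))))) (.node (.node (.node (.node (.node (.leaf tJ49) (.leaf tJ1073)) (.leaf tJ561)) (.node (.leaf tJ305) (.leaf tJ817))) (.node (.node (.leaf tJ177) (.leaf tJ689)) (.node (.leaf tJ433) (.leaf tJ945)))) (.node (.node (.node (.node (.leaf tJ113) (.leaf tJ1137)) (.leaf tJ625)) (.node (.leaf tJ369) (.leaf tJ881)))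 (.node (.node (.leaf tJ241) (.leaf tJ753)) (.node (.leaf tJ497) (.leaf tJ1009))))))) (.node (.node (.node (.node (.node (.node (.node (.leaf tJ9) (.leaf tJ1033)) (.leaf tJ521)) (.node (.leaf tJ265) (.leaf tJ777))) (.node (.node (.node (.leaf tJ137) (.leaf tJ1161)) (.leaf tJ649)) (.node (.leaf tJ393) (.leaf tJ905)))) (.node (.node (.node (.node (.leaf tJ73) (.leaf tJ1097)) (.leaf tJ585)) (.node (.leaf tJ329) (.leaf tJ841))) (.node (.node (.leaf tJ201) (.leaf tJ713)) (.node (.leaf tJ457) (.leaf tJ969))))) (.node (.node (.node (.node (.node (.leaf tJ41) (.leaf tJ1065)) (.leaf tJ553)) (.node (.leaf tJ297) (.leaf tJ809))) (.node (.node (.node (.leaf tJ169) (.leaf tJ1193)) (.leaf tJ681)) (.node (.leaf tJ425) (.leaf tJ937)))) (.node (.node (.node (.node (.leaf tJ105) (.leaf tJ1129)) (.leaf tJ617)) (.node (.leaf tJ361) (.leaf tJ873))) (.node (.node (.leaf tJ233) (.leaf tJ745)) (.node (.leaf tJ489) (.leaf tJ1001)))))) (.node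 (.node (.node (.node (.node (.node (.leaf tJ25) (.leaf tJ1049)) (.leaf tJ537)) (.node (.leaf tJ281) (.leaf tJ793))) (.node (.node (.node (.leaf tJ153) (.leaf tJ1177)) (.leaf tJ665)) (.node (.leaf tJ409) (.leaf tJ921)))) (.node (.node (.node (.node (.leaf tJ89) (.leaf tJ1113)) (.leaf tJ601)) (.node (.leaf tJ345) (.leaf tJ857))) (.node (.node (.leaf tJ217) (.leaf tJ729)) (.node (.leaf tJ473) (.leaf tJ985))))) (.node (.node (.node (.node (.node (.leaf tJ57) (.leaf tJ1081)) (.leaf tJ569)) (.node (.leaf tJ313) (.leaf tJ825))) (.node (.node (.leaf tJ185) (.leaf tJ697)) (.node (.leaf tJ441) (.leaf tJ953)))) (.node (.node (.node (.node (.leaf tJ121) (.leaf tJ1145)) (.leaf tJ633)) (.node (.leaf tJ377) (.leaf tJ889))) (.node (.node (.leaf tJ249) (.leaf tJ761)) (.node (.leaf tJ505) (.leaf tJ1017)))))))) (.node (.node (.node (.node (.node (.node (.node (.node (.leaf tJ5) (.leaf tJ1029)) (.leaf tJ517)) (.node (.leaf tJ261) (.leaf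 tJ773))) (.node (.node (.node (.leaf tJ133) (.leaf tJ1157)) (.leaf tJ645)) (.node (.leaf tJ389) (.leaf tJ901)))) (.node (.node (.node (.node (.leaf tJ69) (.leaf tJ1093)) (.leaf tJ581)) (.node (.leaf tJ325) (.leaf tJ837))) (.node (.node (.leaf tJ197) (.leaf tJ709)) (.node (.leaf tJ453) (.leaf tJ965))))) (.node (.node (.node (.node (.node (.leaf tJ37) (.leaf tJ1061)) (.leaf tJ549)) (.node (.leaf tJ293) (.leaf tJ805))) (.node (.node (.node (.leaf tJ165) (.leaf tJ1189)) (.leaf tJ677)) (.node (.leaf tJ421) (.leaf tJ933)))) (.node (.node (.node (.node (.leaf tJ101) (.leaf tJ1125)) (.leaf tJ613)) (.node (.leaf tJ357) (.leaf tJ869))) (.node (.node (.leaf tJ229) (.leaf tJ741)) (.node (.leaf tJ485) (.leaf tJ997)))))) (.node (.node (.node (.node (.node (.node (.leaf tJ21) (.leaf tJ1045)) (.leaf tJ533)) (.node (.leaf tJ277) (.leaf tJ789))) (.node (.node (.node (.leaf tJ149) (.leaf tJ1173)) (.leaf tJ661)) (.node (.leaf tJ405)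 (.leaf tJ917)))) (.node (.node (.node (.node (.leaf tJ85) (.leaf tJ1109)) (.leaf tJ597)) (.node (.leaf tJ341) (.leaf tJ853))) (.node (.node (.leaf tJ213) (.leaf tJ725)) (.node (.leaf tJ469) (.leaf tJ981))))) (.node (.node (.node (.node (.node (.leaf tJ53) (.leaf tJ1077)) (.leaf tJ565)) (.node (.leaf tJ309) (.leaf tJ821))) (.node (.node (.leaf tJ181) (.leaf tJ693)) (.node (.leaf tJ437) (.leaf tJ949)))) (.node (.node (.node (.node (.leaf tJ117) (.leaf tJ1141)) (.leaf tJ629)) (.node (.leaf tJ373) (.leaf tJ885))) (.node (.node (.leaf tJ245) (.leaf tJ757)) (.node (.leaf tJ501) (.leaf tJ1013))))))) (.node (.node (.node (.node (.node (.node (.node (.leaf tJ13) (.leaf tJ1037)) (.leaf tJ525)) (.node (.leaf tJ269) (.leaf tJ781))) (.node (.node (.node (.leaf tJ141) (.leaf tJ1165)) (.leaf tJ653)) (.node (.leaf tJ397) (.leaf tJ909)))) (.node (.node (.node (.node (.leaf tJ77) (.leaf tJ1101)) (.leaf tJ589)) (.node (.leaf tJ333)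 (.leaf tJ845))) (.node (.node (.leaf tJ205) (.leaf tJ717)) (.node (.leaf tJ461) (.leaf tJ973))))) (.node (.node (.node (.node (.node (.leaf tJ45) (.leaf tJ1069)) (.leaf tJ557)) (.node (.leaf tJ301) (.leaf tJ813))) (.node (.node (.node (.leaf tJ173) (.leaf tJ1197)) (.leaf tJ685)) (.node (.leaf tJ429) (.leaf tJ941)))) (.node (.node (.node (.node (.leaf tJ109) (.leaf tJ1133)) (.leaf tJ621)) (.node (.leaf tJ365) (.leaf tJ877))) (.node (.node (.leaf tJ237) (.leaf tJ749)) (.node (.leaf tJ493) (.leaf tJ1005)))))) (.node (.node (.node (.node (.node (.node (.leaf tJ29) (.leaf tJ1053)) (.leaf tJ541)) (.node (.leaf tJ285) (.leaf tJ797))) (.node (.node (.node (.leaf tJ157) (.leaf tJ1181)) (.leaf tJ669)) (.node (.leaf tJ413) (.leaf tJ925)))) (.node (.node (.node (.node (.leaf tJ93) (.leaf tJ1117)) (.leaf tJ605)) (.node (.leaf tJ349) (.leaf tJ861))) (.node (.node (.leaf tJ221) (.leaf tJ733)) (.node (.leaf tJ477) (.leaf tJ989)))))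 (.node (.node (.node (.node (.node (.leaf tJ61) (.leaf tJ1085)) (.leaf tJ573)) (.node (.leaf tJ317) (.leaf tJ829))) (.node (.node (.leaf tJ189) (.leaf tJ701)) (.node (.leaf tJ445) (.leaf tJ957)))) (.node (.node (.node (.node (.leaf tJ125) (.leaf tJ1149)) (.leaf tJ637)) (.node (.leaf tJ381) (.leaf tJ893))) (.node (.node (.leaf tJ253) (.leaf tJ765)) (.node (.leaf tJ509) (.leaf tJ1021))))))))) (.node (.node (.node (.node (.node (.node (.node (.node (.node (.leaf tJ3) (.leaf tJ1027)) (.leaf tJ515)) (.node (.leaf tJ259) (.leaf tJ771))) (.node (.node (.node (.leaf tJ131) (.leaf tJ1155)) (.leaf tJ643)) (.node (.leaf tJ387) (.leaf tJ899)))) (.node (.node (.node (.node (.leaf tJ67) (.leaf tJ1091)) (.leaf tJ579)) (.node (.leaf tJ323) (.leaf tJ835))) (.node (.node (.leaf tJ195) (.leaf tJ707)) (.node (.leaf tJ451) (.leaf tJ963))))) (.node (.node (.node (.node (.node (.leaf tJ35) (.leaf tJ1059)) (.leaf tJ547)) (.node (.leaf tJ291)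 (.leaf tJ803))) (.node (.node (.node (.leaf tJ163) (.leaf tJ1187)) (.leaf tJ675)) (.node (.leaf tJ419) (.leaf tJ931)))) (.node (.node (.node (.node (.leaf tJ99) (.leaf tJ1123)) (.leaf tJ611)) (.node (.leaf tJ355) (.leaf tJ867))) (.node (.node (.leaf tJ227) (.leaf tJ739)) (.node (.leaf tJ483) (.leaf tJ995)))))) (.node (.node (.node (.node (.node (.node (.leaf tJ19) (.leaf tJ1043)) (.leaf tJ531)) (.node (.leaf tJ275) (.leaf tJ787))) (.node (.node (.node (.leaf tJ147) (.leaf tJ1171)) (.leaf tJ659)) (.node (.leaf tJ403) (.leaf tJ915)))) (.node (.node (.node (.node (.leaf tJ83) (.leaf tJ1107)) (.leaf tJ595)) (.node (.leaf tJ339) (.leaf tJ851))) (.node (.node (.leaf tJ211) (.leaf tJ723)) (.node (.leaf tJ467) (.leaf tJ979))))) (.node (.node (.node (.node (.node (.leaf tJ51) (.leaf tJ1075)) (.leaf tJ563)) (.node (.leaf tJ307) (.leaf tJ819))) (.node (.node (.leaf tJ179) (.leaf tJ691)) (.node (.leaf tJ435) (.leaf tJ947))))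 (.node (.node (.node (.node (.leaf tJ115) (.leaf tJ1139)) (.leaf tJ627)) (.node (.leaf tJ371) (.leaf tJ883))) (.node (.node (.leaf tJ243) (.leaf tJ755)) (.node (.leaf tJ499) (.leaf tJ1011))))))) (.node (.node (.node (.node (.node (.node (.node (.leaf tJ11) (.leaf tJ1035)) (.leaf tJ523)) (.node (.leaf tJ267) (.leaf tJ779))) (.node (.node (.node (.leaf tJ139) (.leaf tJ1163)) (.leaf tJ651)) (.node (.leaf tJ395) (.leaf tJ907)))) (.node (.node (.node (.node (.leaf tJ75) (.leaf tJ1099)) (.leaf tJ587)) (.node (.leaf tJ331) (.leaf tJ843))) (.node (.node (.leaf tJ203) (.leaf tJ715)) (.node (.leaf tJ459) (.leaf tJ971))))) (.node (.node (.node (.node (.node (.leaf tJ43) (.leaf tJ1067)) (.leaf tJ555)) (.node (.leaf tJ299) (.leaf tJ811))) (.node (.node (.node (.leaf tJ171) (.leaf tJ1195)) (.leaf tJ683)) (.node (.leaf tJ427) (.leaf tJ939)))) (.node (.node (.node (.node (.leaf tJ107) (.leaf tJ1131)) (.leaf tJ619)) (.node (.leaf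 tJ363) (.leaf tJ875))) (.node (.node (.leaf tJ235) (.leaf tJ747)) (.node (.leaf tJ491) (.leaf tJ1003)))))) (.node (.node (.node (.node (.node (.node (.leaf tJ27) (.leaf tJ1051)) (.leaf tJ539)) (.node (.leaf tJ283) (.leaf tJ795))) (.node (.node (.node (.leaf tJ155) (.leaf tJ1179)) (.leaf tJ667)) (.node (.leaf tJ411) (.leaf tJ923)))) (.node (.node (.node (.node (.leaf tJ91) (.leaf tJ1115)) (.leaf tJ603)) (.node (.leaf tJ347) (.leaf tJ859))) (.node (.node (.leaf tJ219) (.leaf tJ731)) (.node (.leaf tJ475) (.leaf tJ987))))) (.node (.node (.node (.node (.node (.leaf tJ59) (.leaf tJ1083)) (.leaf tJ571)) (.node (.leaf tJ315) (.leaf tJ827))) (.node (.node (.leaf tJ187) (.leaf tJ699)) (.node (.leaf tJ443) (.leaf tJ955)))) (.node (.node (.node (.node (.leaf tJ123) (.leaf tJ1147)) (.leaf tJ635)) (.node (.leaf tJ379) (.leaf tJ891))) (.node (.node (.leaf tJ251) (.leaf tJ763)) (.node (.leaf tJ507) (.leaf tJ1019)))))))) (.node (.node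 (.node (.node (.node (.node (.node (.node (.leaf tJ7) (.leaf tJ1031)) (.leaf tJ519)) (.node (.leaf tJ263) (.leaf tJ775))) (.node (.node (.node (.leaf tJ135) (.leaf tJ1159)) (.leaf tJ647)) (.node (.leaf tJ391) (.leaf tJ903)))) (.node (.node (.node (.node (.leaf tJ71) (.leaf tJ1095)) (.leaf tJ583)) (.node (.leaf tJ327) (.leaf tJ839))) (.node (.node (.leaf tJ199) (.leaf tJ711)) (.node (.leaf tJ455) (.leaf tJ967))))) (.node (.node (.node (.node (.node (.leaf tJ39) (.leaf tJ1063)) (.leaf tJ551)) (.node (.leaf tJ295) (.leaf tJ807))) (.node (.node (.node (.leaf tJ167) (.leaf tJ1191)) (.leaf tJ679)) (.node (.leaf tJ423) (.leaf tJ935)))) (.node (.node (.node (.node (.leaf tJ103) (.leaf tJ1127)) (.leaf tJ615)) (.node (.leaf tJ359) (.leaf tJ871))) (.node (.node (.leaf tJ231) (.leaf tJ743)) (.node (.leaf tJ487) (.leaf tJ999)))))) (.node (.node (.node (.node (.node (.node (.leaf tJ23) (.leaf tJ1047)) (.leaf tJ535)) (.node (.leaf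 tJ279) (.leaf tJ791))) (.node (.node (.node (.leaf tJ151) (.leaf tJ1175)) (.leaf tJ663)) (.node (.leaf tJ407) (.leaf tJ919)))) (.node (.node (.node (.node (.leaf tJ87) (.leaf tJ1111)) (.leaf tJ599)) (.node (.leaf tJ343) (.leaf tJ855))) (.node (.node (.leaf tJ215) (.leaf tJ727)) (.node (.leaf tJ471) (.leaf tJ983))))) (.node (.node (.node (.node (.node (.leaf tJ55) (.leaf tJ1079)) (.leaf tJ567)) (.node (.leaf tJ311) (.leaf tJ823))) (.node (.node (.leaf tJ183) (.leaf tJ695)) (.node (.leaf tJ439) (.leaf tJ951)))) (.node (.node (.node (.node (.leaf tJ119) (.leaf tJ1143)) (.leaf tJ631)) (.node (.leaf tJ375) (.leaf tJ887))) (.node (.node (.leaf tJ247) (.leaf tJ759)) (.node (.leaf tJ503) (.leaf tJ1015))))))) (.node (.node (.node (.node (.node (.node (.node (.leaf tJ15) (.leaf tJ1039)) (.leaf tJ527)) (.node (.leaf tJ271) (.leaf tJ783))) (.node (.node (.node (.leaf tJ143) (.leaf tJ1167)) (.leaf tJ655)) (.node (.leaf tJ399)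 (.leaf tJ911)))) (.node (.node (.node (.node (.leaf tJ79) (.leaf tJ1103)) (.leaf tJ591)) (.node (.leaf tJ335) (.leaf tJ847))) (.node (.node (.leaf tJ207) (.leaf tJ719)) (.node (.leaf tJ463) (.leaf tJ975))))) (.node (.node (.node (.node (.node (.leaf tJ47) (.leaf tJ1071)) (.leaf tJ559)) (.node (.leaf tJ303) (.leaf tJ815))) (.node (.node (.leaf tJ175) (.leaf tJ687)) (.node (.leaf tJ431) (.leaf tJ943)))) (.node (.node (.node (.node (.leaf tJ111) (.leaf tJ1135)) (.leaf tJ623)) (.node (.leaf tJ367) (.leaf tJ879))) (.node (.node (.leaf tJ239) (.leaf tJ751)) (.node (.leaf tJ495) (.leaf tJ1007)))))) (.node (.node (.node (.node (.node (.node (.leaf tJ31) (.leaf tJ1055)) (.leaf tJ543)) (.node (.leaf tJ287) (.leaf tJ799))) (.node (.node (.node (.leaf tJ159) (.leaf tJ1183)) (.leaf tJ671)) (.node (.leaf tJ415) (.leaf tJ927)))) (.node (.node (.node (.node (.leaf tJ95) (.leaf tJ1119)) (.leaf tJ607)) (.node (.leaf tJ351) (.leaf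 tJ863))) (.node (.node (.leaf tJ223) (.leaf tJ735)) (.node (.leaf tJ479) (.leaf tJ991))))) (.node (.node (.node (.node (.node (.leaf tJ63) (.leaf tJ1087)) (.leaf tJ575)) (.node (.leaf tJ319) (.leaf tJ831))) (.node (.node (.leaf tJ191) (.leaf tJ703)) (.node (.leaf tJ447) (.leaf tJ959)))) (.node (.node (.node (.node (.leaf tJ127) (.leaf tJ1151)) (.leaf tJ639)) (.node (.leaf tJ383) (.leaf tJ895))) (.node (.node (.leaf tJ255) (.leaf tJ767)) (.node (.leaf tJ511) (.leaf tJ1023)))))))))))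
noncomputable def tD : Tr := (.node (.node (.node (.node (.node (.node (.node (.node (.node (.node (.leaf tD0) (.leaf tD512)) (.leaf tD256)) (.node (.leaf tD128) (.leaf tD384))) (.node (.node (.node (.leaf tD64) (.leaf tD576)) (.leaf tD320)) (.node (.leaf tD192) (.leaf tD448)))) (.node (.node (.node (.node (.leaf tD32) (.leaf tD544)) (.leaf tD288)) (.node (.leaf tD160) (.leaf tD416))) (.node (.node (.leaf tD96) (.leaf tD352)) (.node (.leaf tD224) (.leaf tD480))))) (.node (.node (.node (.node (.node (.leaf tD16) (.leaf tD528)) (.leaf tD272)) (.node (.leaf tD144) (.leaf tD400))) (.node (.node (.node (.leaf tD80) (.leaf tD592)) (.leaf tD336)) (.node (.leaf tD208) (.leaf tD464)))) (.node (.node (.node (.node (.leaf tD48) (.leaf tD560)) (.leaf tD304)) (.node (.leaf tD176) (.leaf tD432))) (.node (.node (.leaf tD112) (.leaf tD368)) (.node (.leaf tD240) (.leaf tD496)))))) (.node (.node (.node (.node (.node (.node (.leaf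 tD8) (.leaf tD520)) (.leaf tD264)) (.node (.leaf tD136) (.leaf tD392))) (.node (.node (.node (.leaf tD72) (.leaf tD584)) (.leaf tD328)) (.node (.leaf tD200) (.leaf tD456)))) (.node (.node (.node (.node (.leaf tD40) (.leaf tD552)) (.leaf tD296)) (.node (.leaf tD168) (.leaf tD424))) (.node (.node (.leaf tD104) (.leaf tD360)) (.node (.leaf tD232) (.leaf tD488))))) (.node (.node (.node (.node (.node (.leaf tD24) (.leaf tD536)) (.leaf tD280)) (.node (.leaf tD152) (.leaf tD408))) (.node (.node (.leaf tD88) (.leaf tD344)) (.node (.leaf tD216) (.leaf tD472)))) (.node (.node (.node (.node (.leaf tD56) (.leaf tD568)) (.leaf tD312)) (.node (.leaf tD184) (.leaf tD440))) (.node (.node (.leaf tD120) (.leaf tD376)) (.node (.leaf tD248) (.leaf tD504))))))) (.node (.node (.node (.node (.node (.node (.node (.leaf tD4) (.leaf tD516)) (.leaf tD260)) (.node (.leaf tD132) (.leaf tD388))) (.node (.node (.node (.leaf tD68) (.leaf tD580))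 (.leaf tD324)) (.node (.leaf tD196) (.leaf tD452)))) (.node (.node (.node (.node (.leaf tD36) (.leaf tD548)) (.leaf tD292)) (.node (.leaf tD164) (.leaf tD420))) (.node (.node (.leaf tD100) (.leaf tD356)) (.node (.leaf tD228) (.leaf tD484))))) (.node (.node (.node (.node (.node (.leaf tD20) (.leaf tD532)) (.leaf tD276)) (.node (.leaf tD148) (.leaf tD404))) (.node (.node (.node (.leaf tD84) (.leaf tD596)) (.leaf tD340)) (.node (.leaf tD212) (.leaf tD468)))) (.node (.node (.node (.node (.leaf tD52) (.leaf tD564)) (.leaf tD308)) (.node (.leaf tD180) (.leaf tD436))) (.node (.node (.leaf tD116) (.leaf tD372)) (.node (.leaf tD244) (.leaf tD500)))))) (.node (.node (.node (.node (.node (.node (.leaf tD12) (.leaf tD524)) (.leaf tD268)) (.node (.leaf tD140) (.leaf tD396))) (.node (.node (.node (.leaf tD76) (.leaf tD588)) (.leaf tD332)) (.node (.leaf tD204) (.leaf tD460)))) (.node (.node (.node (.node (.leaf tD44) (.leaf tD556))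 (.leaf tD300)) (.node (.leaf tD172) (.leaf tD428))) (.node (.node (.leaf tD108) (.leaf tD364)) (.node (.leaf tD236) (.leaf tD492))))) (.node (.node (.node (.node (.node (.leaf tD28) (.leaf tD540)) (.leaf tD284)) (.node (.leaf tD156) (.leaf tD412))) (.node (.node (.leaf tD92) (.leaf tD348)) (.node (.leaf tD220) (.leaf tD476)))) (.node (.node (.node (.node (.leaf tD60) (.leaf tD572)) (.leaf tD316)) (.node (.leaf tD188) (.leaf tD444))) (.node (.node (.leaf tD124) (.leaf tD380)) (.node (.leaf tD252) (.leaf tD508)))))))) (.node (.node (.node (.node (.node (.node (.node (.node (.leaf tD2) (.leaf tD514)) (.leaf tD258)) (.node (.leaf tD130) (.leaf tD386))) (.node (.node (.node (.leaf tD66) (.leaf tD578)) (.leaf tD322)) (.node (.leaf tD194) (.leaf tD450)))) (.node (.node (.node (.node (.leaf tD34) (.leaf tD546)) (.leaf tD290)) (.node (.leaf tD162) (.leaf tD418))) (.node (.node (.leaf tD98) (.leaf tD354)) (.node (.leaf tD226)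 (.leaf tD482))))) (.node (.node (.node (.node (.node (.leaf tD18) (.leaf tD530)) (.leaf tD274)) (.node (.leaf tD146) (.leaf tD402))) (.node (.node (.node (.leaf tD82) (.leaf tD594)) (.leaf tD338)) (.node (.leaf tD210) (.leaf tD466)))) (.node (.node (.node (.node (.leaf tD50) (.leaf tD562)) (.leaf tD306)) (.node (.leaf tD178) (.leaf tD434))) (.node (.node (.leaf tD114) (.leaf tD370)) (.node (.leaf tD242) (.leaf tD498)))))) (.node (.node (.node (.node (.node (.node (.leaf tD10) (.leaf tD522)) (.leaf tD266)) (.node (.leaf tD138) (.leaf tD394))) (.node (.node (.node (.leaf tD74) (.leaf tD586)) (.leaf tD330)) (.node (.leaf tD202) (.leaf tD458)))) (.node (.node (.node (.node (.leaf tD42) (.leaf tD554)) (.leaf tD298)) (.node (.leaf tD170) (.leaf tD426))) (.node (.node (.leaf tD106) (.leaf tD362)) (.node (.leaf tD234) (.leaf tD490))))) (.node (.node (.node (.node (.node (.leaf tD26) (.leaf tD538)) (.leaf tD282)) (.node (.leaf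 tD154) (.leaf tD410))) (.node (.node (.leaf tD90) (.leaf tD346)) (.node (.leaf tD218) (.leaf tD474)))) (.node (.node (.node (.node (.leaf tD58) (.leaf tD570)) (.leaf tD314)) (.node (.leaf tD186) (.leaf tD442))) (.node (.node (.leaf tD122) (.leaf tD378)) (.node (.leaf tD250) (.leaf tD506))))))) (.node (.node (.node (.node (.node (.node (.node (.leaf tD6) (.leaf tD518)) (.leaf tD262)) (.node (.leaf tD134) (.leaf tD390))) (.node (.node (.node (.leaf tD70) (.leaf tD582)) (.leaf tD326)) (.node (.leaf tD198) (.leaf tD454)))) (.node (.node (.node (.node (.leaf tD38) (.leaf tD550)) (.leaf tD294)) (.node (.leaf tD166) (.leaf tD422))) (.node (.node (.leaf tD102) (.leaf tD358)) (.node (.leaf tD230) (.leaf tD486))))) (.node (.node (.node (.node (.node (.leaf tD22) (.leaf tD534)) (.leaf tD278)) (.node (.leaf tD150) (.leaf tD406))) (.node (.node (.node (.leaf tD86) (.leaf tD598)) (.leaf tD342)) (.node (.leaf tD214) (.leaf tD470))))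 (.node (.node (.node (.node (.leaf tD54) (.leaf tD566)) (.leaf tD310)) (.node (.leaf tD182) (.leaf tD438))) (.node (.node (.leaf tD118) (.leaf tD374)) (.node (.leaf tD246) (.leaf tD502)))))) (.node (.node (.node (.node (.node (.node (.leaf tD14) (.leaf tD526)) (.leaf tD270)) (.node (.leaf tD142) (.leaf tD398))) (.node (.node (.node (.leaf tD78) (.leaf tD590)) (.leaf tD334)) (.node (.leaf tD206) (.leaf tD462)))) (.node (.node (.node (.node (.leaf tD46) (.leaf tD558)) (.leaf tD302)) (.node (.leaf tD174) (.leaf tD430))) (.node (.node (.leaf tD110) (.leaf tD366)) (.node (.leaf tD238) (.leaf tD494))))) (.node (.node (.node (.node (.node (.leaf tD30) (.leaf tD542)) (.leaf tD286)) (.node (.leaf tD158) (.leaf tD414))) (.node (.node (.leaf tD94) (.leaf tD350)) (.node (.leaf tD222) (.leaf tD478)))) (.node (.node (.node (.node (.leaf tD62) (.leaf tD574)) (.leaf tD318)) (.node (.leaf tD190) (.leaf tD446))) (.node (.node (.leaf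 tD126) (.leaf tD382)) (.node (.leaf tD254) (.leaf tD510))))))))) (.node (.node (.node (.node (.node (.node (.node (.node (.node (.leaf tD1) (.leaf tD513)) (.leaf tD257)) (.node (.leaf tD129) (.leaf tD385))) (.node (.node (.node (.leaf tD65) (.leaf tD577)) (.leaf tD321)) (.node (.leaf tD193) (.leaf tD449)))) (.node (.node (.node (.node (.leaf tD33) (.leaf tD545)) (.leaf tD289)) (.node (.leaf tD161) (.leaf tD417))) (.node (.node (.leaf tD97) (.leaf tD353)) (.node (.leaf tD225) (.leaf tD481))))) (.node (.node (.node (.node (.node (.leaf tD17) (.leaf tD529)) (.leaf tD273)) (.node (.leaf tD145) (.leaf tD401))) (.node (.node (.node (.leaf tD81) (.leaf tD593)) (.leaf tD337)) (.node (.leaf tD209) (.leaf tD465)))) (.node (.node (.node (.node (.leaf tD49) (.leaf tD561)) (.leaf tD305)) (.node (.leaf tD177) (.leaf tD433))) (.node (.node (.leaf tD113) (.leaf tD369)) (.node (.leaf tD241) (.leaf tD497)))))) (.node (.node (.node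 (.node (.node (.node (.leaf tD9) (.leaf tD521)) (.leaf tD265)) (.node (.leaf tD137) (.leaf tD393))) (.node (.node (.node (.leaf tD73) (.leaf tD585)) (.leaf tD329)) (.node (.leaf tD201) (.leaf tD457)))) (.node (.node (.node (.node (.leaf tD41) (.leaf tD553)) (.leaf tD297)) (.node (.leaf tD169) (.leaf tD425))) (.node (.node (.leaf tD105) (.leaf tD361)) (.node (.leaf tD233) (.leaf tD489))))) (.node (.node (.node (.node (.node (.leaf tD25) (.leaf tD537)) (.leaf tD281)) (.node (.leaf tD153) (.leaf tD409))) (.node (.node (.leaf tD89) (.leaf tD345)) (.node (.leaf tD217) (.leaf tD473)))) (.node (.node (.node (.node (.leaf tD57) (.leaf tD569)) (.leaf tD313)) (.node (.leaf tD185) (.leaf tD441))) (.node (.node (.leaf tD121) (.leaf tD377)) (.node (.leaf tD249) (.leaf tD505))))))) (.node (.node (.node (.node (.node (.node (.node (.leaf tD5) (.leaf tD517)) (.leaf tD261)) (.node (.leaf tD133) (.leaf tD389))) (.node (.node (.node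 (.leaf tD69) (.leaf tD581)) (.leaf tD325)) (.node (.leaf tD197) (.leaf tD453)))) (.node (.node (.node (.node (.leaf tD37) (.leaf tD549)) (.leaf tD293)) (.node (.leaf tD165) (.leaf tD421))) (.node (.node (.leaf tD101) (.leaf tD357)) (.node (.leaf tD229) (.leaf tD485))))) (.node (.node (.node (.node (.node (.leaf tD21) (.leaf tD533)) (.leaf tD277)) (.node (.leaf tD149) (.leaf tD405))) (.node (.node (.node (.leaf tD85) (.leaf tD597)) (.leaf tD341)) (.node (.leaf tD213) (.leaf tD469)))) (.node (.node (.node (.node (.leaf tD53) (.leaf tD565)) (.leaf tD309)) (.node (.leaf tD181) (.leaf tD437))) (.node (.node (.leaf tD117) (.leaf tD373)) (.node (.leaf tD245) (.leaf tD501)))))) (.node (.node (.node (.node (.node (.node (.leaf tD13) (.leaf tD525)) (.leaf tD269)) (.node (.leaf tD141) (.leaf tD397))) (.node (.node (.node (.leaf tD77) (.leaf tD589)) (.leaf tD333)) (.node (.leaf tD205) (.leaf tD461)))) (.node (.node (.node (.node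 (.leaf tD45) (.leaf tD557)) (.leaf tD301)) (.node (.leaf tD173) (.leaf tD429))) (.node (.node (.leaf tD109) (.leaf tD365)) (.node (.leaf tD237) (.leaf tD493))))) (.node (.node (.node (.node (.node (.leaf tD29) (.leaf tD541)) (.leaf tD285)) (.node (.leaf tD157) (.leaf tD413))) (.node (.node (.leaf tD93) (.leaf tD349)) (.node (.leaf tD221) (.leaf tD477)))) (.node (.node (.node (.node (.leaf tD61) (.leaf tD573)) (.leaf tD317)) (.node (.leaf tD189) (.leaf tD445))) (.node (.node (.leaf tD125) (.leaf tD381)) (.node (.leaf tD253) (.leaf tD509)))))))) (.node (.node (.node (.node (.node (.node (.node (.node (.leaf tD3) (.leaf tD515)) (.leaf tD259)) (.node (.leaf tD131) (.leaf tD387))) (.node (.node (.node (.leaf tD67) (.leaf tD579)) (.leaf tD323)) (.node (.leaf tD195) (.leaf tD451)))) (.node (.node (.node (.node (.leaf tD35) (.leaf tD547)) (.leaf tD291)) (.node (.leaf tD163) (.leaf tD419))) (.node (.node (.leaf tD99) (.leaf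 tD355)) (.node (.leaf tD227) (.leaf tD483))))) (.node (.node (.node (.node (.node (.leaf tD19) (.leaf tD531)) (.leaf tD275)) (.node (.leaf tD147) (.leaf tD403))) (.node (.node (.node (.leaf tD83) (.leaf tD595)) (.leaf tD339)) (.node (.leaf tD211) (.leaf tD467)))) (.node (.node (.node (.node (.leaf tD51) (.leaf tD563)) (.leaf tD307)) (.node (.leaf tD179) (.leaf tD435))) (.node (.node (.leaf tD115) (.leaf tD371)) (.node (.leaf tD243) (.leaf tD499)))))) (.node (.node (.node (.node (.node (.node (.leaf tD11) (.leaf tD523)) (.leaf tD267)) (.node (.leaf tD139) (.leaf tD395))) (.node (.node (.node (.leaf tD75) (.leaf tD587)) (.leaf tD331)) (.node (.leaf tD203) (.leaf tD459)))) (.node (.node (.node (.node (.leaf tD43) (.leaf tD555)) (.leaf tD299)) (.node (.leaf tD171) (.leaf tD427))) (.node (.node (.leaf tD107) (.leaf tD363)) (.node (.leaf tD235) (.leaf tD491))))) (.node (.node (.node (.node (.node (.leaf tD27) (.leaf tD539))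 (.leaf tD283)) (.node (.leaf tD155) (.leaf tD411))) (.node (.node (.leaf tD91) (.leaf tD347)) (.node (.leaf tD219) (.leaf tD475)))) (.node (.node (.node (.node (.leaf tD59) (.leaf tD571)) (.leaf tD315)) (.node (.leaf tD187) (.leaf tD443))) (.node (.node (.leaf tD123) (.leaf tD379)) (.node (.leaf tD251) (.leaf tD507))))))) (.node (.node (.node (.node (.node (.node (.node (.leaf tD7) (.leaf tD519)) (.leaf tD263)) (.node (.leaf tD135) (.leaf tD391))) (.node (.node (.node (.leaf tD71) (.leaf tD583)) (.leaf tD327)) (.node (.leaf tD199) (.leaf tD455)))) (.node (.node (.node (.node (.leaf tD39) (.leaf tD551)) (.leaf tD295)) (.node (.leaf tD167) (.leaf tD423))) (.node (.node (.leaf tD103) (.leaf tD359)) (.node (.leaf tD231) (.leaf tD487))))) (.node (.node (.node (.node (.node (.leaf tD23) (.leaf tD535)) (.leaf tD279)) (.node (.leaf tD151) (.leaf tD407))) (.node (.node (.node (.leaf tD87) (.leaf tD599)) (.leaf tD343)) (.node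 (.leaf tD215) (.leaf tD471)))) (.node (.node (.node (.node (.leaf tD55) (.leaf tD567)) (.leaf tD311)) (.node (.leaf tD183) (.leaf tD439))) (.node (.node (.leaf tD119) (.leaf tD375)) (.node (.leaf tD247) (.leaf tD503)))))) (.node (.node (.node (.node (.node (.node (.leaf tD15) (.leaf tD527)) (.leaf tD271)) (.node (.leaf tD143) (.leaf tD399))) (.node (.node (.node (.leaf tD79) (.leaf tD591)) (.leaf tD335)) (.node (.leaf tD207) (.leaf tD463)))) (.node (.node (.node (.node (.leaf tD47) (.leaf tD559)) (.leaf tD303)) (.node (.leaf tD175) (.leaf tD431))) (.node (.node (.leaf tD111) (.leaf tD367)) (.node (.leaf tD239) (.leaf tD495))))) (.node (.node (.node (.node (.node (.leaf tD31) (.leaf tD543)) (.leaf tD287)) (.node (.leaf tD159) (.leaf tD415))) (.node (.node (.leaf tD95) (.leaf tD351)) (.node (.leaf tD223) (.leaf tD479)))) (.node (.node (.node (.node (.leaf tD63) (.leaf tD575)) (.leaf tD319)) (.node (.leaf tD191) (.leaf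 tD447))) (.node (.node (.leaf tD127) (.leaf tD383)) (.node (.leaf tD255) (.leaf tD511))))))))))

def rels : List (List ℕ) := [[0,0],
  [1,1],
  [2,2],
  [3,3],
  [4,4],
  [5,5],
  [6,6],
  [7,7],
  [8,8],
  [9,9],
  [10,10],
  [11,11],
  [0,1,0,1,0,1],
  [0,2,0,2],
  [0,3,0,3],
  [0,4,0,4],
  [0,5,0,5],
  [0,6,0,6],
  [0,7,0,7],
  [0,8,0,8],
  [0,9,0,9],
  [0,10,0,10,0,10],
  [0,11,0,11],
  [1,2,1,2,1,2],
  [1,3,1,3],
  [1,4,1,4],
  [1,5,1,5],
  [1,6,1,6],
  [1,7,1,7],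
  [1,8,1,8],
  [1,9,1,9],
  [1,10,1,10],
  [1,11,1,11],
  [2,3,2,3,2,3],
  [2,4,2,4],
  [2,5,2,5],
  [2,6,2,6],
  [2,7,2,7],
  [2,8,2,8],
  [2,9,2,9],
  [2,10,2,10],
  [2,11,2,11],
  [3,4,3,4,3,4],
  [3,5,3,5],
  [3,6,3,6],
  [3,7,3,7,3,7],
  [3,8,3,8],
  [3,9,3,9],
  [3,10,3,10],
  [3,11,3,11],
  [4,5,4,5,4,5],
  [4,6,4,6],
  [4,7,4,7],
  [4,8,4,8],
  [4,9,4,9],
  [4,10,4,10],
  [4,11,4,11],
  [5,6,5,6,5,6],
  [5,7,5,7],
  [5,8,5,8],
  [5,9,5,9],
  [5,10,5,10],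
  [5,11,5,11],
  [6,7,6,7],
  [6,8,6,8],
  [6,9,6,9,6,9],
  [6,10,6,10],
  [6,11,6,11],
  [7,8,7,8,7,8],
  [7,9,7,9],
  [7,10,7,10],
  [7,11,7,11],
  [8,9,8,9],
  [8,10,8,10],
  [8,11,8,11],
  [9,10,9,10],
  [9,11,9,11],
  [10,11,10,11,10,11],
  [11,7,5,4,3,2,1,0,7,5,4,3,2,1,0,7,5,4,3,2,1,0,7,5,4,3,2,1,0,7,5,4,3,2,1,0,7,5,4,3,2,1,0,7,5,4,3,2,1,0,7,5,4,3,2,1,0,7,5,4,3,2,1,0],
  [3,2,1,0,10,11,3,4,5,6,9,3,7,8,3,2,1,0,10,11,3,4,5,6,9,3,7,8,3,2,1,0,10,11,3,4,5,6,9,3,7,8,3,2,1,0,10,11,3,4,5,6,9,3,7,8,3,2,1,0,10,11,3,4,5,6,9,3,7,8,3,2,1,0,10,11,3,4,5,6,9,3,7,8,3,2,1,0,10,11,3,4,5,6,9,3,7,8,3,2,1,0,10,11,3,4,5,6,9,3,7,8,3,2,1,0,10,11,3,4,5,6,9,3,7,8,3,2,1,0,10,11,3,4,5,6,9,3,7,8,3,2,1,0,10,11,3,4,5,6,9,3,7,8,3,2,1,0,10,11,3,4,5,6,9,3,7,8,3,2,1,0,10,11,3,4,5,6,9,3,7,8,3,2,1,0,10,11,3,4,5,6,9,3,7,8,3,2,1,0,10,11,3,4,5,6,9,3,7,8,3,2,1,0,10,11,3,4,5,6,9,3,7,8,3,2,1,0,10,11,3,4,5,6,9,3,7,8],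
  [3,2,1,3,4,5,3,7,8,3,2,1,3,4,5,3,7,8,3,2,1,3,4,5,3,7,8,3,2,1,3,4,5,3,7,8,3,2,1,3,4,5,3,7,8,3,2,1,3,4,5,3,7,8,3,2,1,3,4,5,3,7,8,3,2,1,3,4,5,3,7,8,3,2,1,3,4,5,3,7,8,3,2,1,3,4,5,3,7,8]]
def subs : List (List ℕ) := [[0],
  [1],
  [2],
  [3],
  [4],
  [5],
  [6],
  [7],
  [8],
  [9],
  [11]]
def iv (a : ℕ) : ℕ := [0,1,2,3,4,5,6,7,8,9,10,11,12].getD a 0
noncomputable def RR0 : List Rule := [.bwd [0] 0 0 0,
  .bwd [10,0,10,0,10] 21 2 0,
  .bwd [11,0,11] 22 2 0,
  .bwd [7,0,7] 18 2 0,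
  .bwd [8,0,8] 19 2 0,
  .bwd [3,0,3] 14 2 0,
  .bwd [4,0,4] 15 2 0,
  .bwd [5,0,5] 16 2 0,
  .bwd [6,0,6] 17 2 0,
  .bwd [9,0,9] 20 2 0,
  .bwd [2,0,2] 13 2 0,
  .bwd [1,0,1,0,1] 12 2 0,
  .bwd [9,0,9] 20 0 0,
  .bwd [11,0,11] 22 0 0,
  .bwd [8,0,8] 19 0 0,
  .bwd [7,0,7] 18 0 0,
  .bwd [6,0,6] 17 0 0,
  .bwd [5,0,5] 16 0 0,
  .bwd [2,0,2] 13 0 0,
  .bwd [4,0,4] 15 0 0,
  .bwd [3,0,3] 14 0 0,
  .bwd [7,5,4,3,2,1,0,7,5,4,3,2,1,0,7,5,4,3,2,1,0,7,5,4,3,2,1,0,7,5,4,3,2,1,0,7,5,4,3,2,1,0,7,5,4,3,2,1,0,7,5,4,3,2,1,0,11,7,5,4,3,2,1] 78 7 0,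
  .bwd [11,7,5,4,3,2,1,0,7,5,4,3,2,1,0,7,5,4,3,2,1,0,7,5,4,3,2,1,0,7,5,4,3,2,1,0,7,5,4,3,2,1,0,7,5,4,3,2,1,0,7,5,4,3,2,1,0,7,5,4,3,2,1] 78 63 0,
  .bwd [1,2,3,8,7,3,9,6,5,4,3,11,10,0,1,2,3,8,7,3,9,6,5,4,3,11,10,0,1,2,3,8,7,3,9,6,5,4,3,11,10,0,1,2,3,8,7,3,9,6,5,4,3,11,10,0,1,2,3,8,7,3,9,6,5,4,3,11,10,0,1,2,3,8,7,3,9,6,5,4,3,11,10,0,1,2,3,8,7,3,9,6,5,4,3,11,10,0,1,2,3,8,7,3,9,6,5,4,3,11,10,0,1,2,3,8,7,3,9,6,5,4,3,11,10,0,1,2,3,8,7,3,9,6,5,4,3,11,10,0,1,2,3,8,7,3,9,6,5,4,3,11,10,0,1,2,3,8,7,3,9,6,5,4,3,11,10,0,1,2,3,8,7,3,9,6,5,4,3,11,10,0,1,2,3,8,7,3,9,6,5,4,3,11,10,0,1,2,3,8,7,3,9,6,5,4,3,11,10,0,1,2,3,8,7,3,9,6,5,4,3,11,10,0,1,2,3,8,7,3,9,6,5,4,3,11,10] 79 10 1,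
  .bwd [1,0,1,0,1] 12 4 0,
  .bwd [10,0,10,0,10] 21 0 0,
  .bwd [10,0,10,0,10] 21 4 0,
  .bwd [7,5,4,3,2,1,0,7,5,4,3,2,1,0,7,5,4,3,2,1,0,11,7,5,4,3,2,1,0,7,5,4,3,2,1,0,7,5,4,3,2,1,0,7,5,4,3,2,1,0,7,5,4,3,2,1,0,7,5,4,3,2,1] 78 42 0,
  .bwd [7,5,4,3,2,1,0,7,5,4,3,2,1,0,11,7,5,4,3,2,1,0,7,5,4,3,2,1,0,7,5,4,3,2,1,0,7,5,4,3,2,1,0,7,5,4,3,2,1,0,7,5,4,3,2,1,0,7,5,4,3,2,1] 78 49 0,
  .bwd [7,5,4,3,2,1,0,11,7,5,4,3,2,1,0,7,5,4,3,2,1,0,7,5,4,3,2,1,0,7,5,4,3,2,1,0,7,5,4,3,2,1,0,7,5,4,3,2,1,0,7,5,4,3,2,1,0,7,5,4,3,2,1] 78 56 0,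
  .sub [] [] 0 0,
  .bwd [7,5,4,3,2,1,0,7,5,4,3,2,1,0,7,5,4,3,2,1,0,7,5,4,3,2,1,0,7,5,4,3,2,1,0,7,5,4,3,2,1,0,7,5,4,3,2,1,0,11,7,5,4,3,2,1,0,7,5,4,3,2,1] 78 14 0,
  .bwd [1,0,1,0,1] 12 0 0]
noncomputable def RR1 : List Rule := [.bwd [1] 1 0 0,
  .bwd [10,1,10] 31 2 0,
  .bwd [11,1,11] 32 2 0,
  .bwd [7,1,7] 28 2 0,
  .bwd [8,1,8] 29 2 0,
  .bwd [0,1,0,1,0] 12 1 0,
  .bwd [3,1,3] 24 2 0,
  .bwd [4,1,4] 25 2 0,
  .bwd [5,1,5] 26 2 0,
  .bwd [6,1,6] 27 2 0,
  .bwd [9,1,9] 30 2 0,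
  .bwd [2,1,2,1,2] 23 2 0,
  .bwd [10,1,10] 31 0 0,
  .bwd [3,1,3] 24 0 0,
  .bwd [11,1,11] 32 0 0,
  .bwd [7,1,7] 28 0 0,
  .bwd [9,1,9] 30 0 0,
  .bwd [8,1,8] 29 0 0,
  .bwd [2,3,4,5,7,0,1,2,3,4,5,7,0,1,2,3,4,5,7,0,1,2,3,4,5,7,0,1,2,3,4,5,7,0,1,2,3,4,5,7,0,1,2,3,4,5,7,0,1,2,3,4,5,7,0,1,2,3,4,5,7,11,0] 78 1 1,
  .bwd [6,1,6] 27 0 0,
  .bwd [5,1,5] 26 0 0,
  .bwd [3,4,5,3,7,8,3,2,1,3,4,5,3,7,8,3,2,1,3,4,5,3,7,8,3,2,1,3,4,5,3,7,8,3,2,1,3,4,5,3,7,8,3,2,1,3,4,5,3,7,8,3,2,1,3,4,5,3,7,8,3,2,1,3,4,5,3,7,8,3,2,1,3,4,5,3,7,8,3,2,1,3,4,5,3,7,8,3,2] 80 2 0,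
  .bwd [2,1,2,1,2] 23 4 0,
  .bwd [4,1,4] 25 0 0,
  .bwd [0,7,5,4,3,2,1,0,7,5,4,3,2,1,0,7,5,4,3,2,1,0,7,5,4,3,2,1,0,7,5,4,3,2,1,0,7,5,4,3,2,1,0,7,5,4,3,2,1,0,7,5,4,3,2,1,0,11,7,5,4,3,2] 78 6 0,
  .bwd [2,3,4,5,7,0,1,2,3,4,5,7,0,1,2,3,4,5,7,0,1,2,3,4,5,7,0,1,2,3,4,5,7,0,1,2,3,4,5,7,0,1,2,3,4,5,7,0,1,2,3,4,5,7,11,0,1,2,3,4,5,7,0] 78 8 1,
  .bwd [0,1,0,1,0] 12 3 0,
  .bwd [2,3,8,7,3,9,6,5,4,3,11,10,0,1,2,3,8,7,3,9,6,5,4,3,11,10,0,1,2,3,8,7,3,9,6,5,4,3,11,10,0,1,2,3,8,7,3,9,6,5,4,3,11,10,0,1,2,3,8,7,3,9,6,5,4,3,11,10,0,1,2,3,8,7,3,9,6,5,4,3,11,10,0,1,2,3,8,7,3,9,6,5,4,3,11,10,0,1,2,3,8,7,3,9,6,5,4,3,11,10,0,1,2,3,8,7,3,9,6,5,4,3,11,10,0,1,2,3,8,7,3,9,6,5,4,3,11,10,0,1,2,3,8,7,3,9,6,5,4,3,11,10,0,1,2,3,8,7,3,9,6,5,4,3,11,10,0,1,2,3,8,7,3,9,6,5,4,3,11,10,0,1,2,3,8,7,3,9,6,5,4,3,11,10,0,1,2,3,8,7,3,9,6,5,4,3,11,10,0,1,2,3,8,7,3,9,6,5,4,3,11,10,0,1,2,3,8,7,3,9,6,5,4,3,11,10,0] 79 11 1,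
  .bwd [2,3,4,5,7,0,1,2,3,4,5,7,0,1,2,3,4,5,7,0,1,2,3,4,5,7,0,1,2,3,4,5,7,0,1,2,3,4,5,7,11,0,1,2,3,4,5,7,0,1,2,3,4,5,7,0,1,2,3,4,5,7,0] 78 22 1,
  .sub [] [] 1 0,
  .bwd [0,1,0,1,0] 12 5 0,
  .bwd [2,1,2,1,2] 23 0 0,
  .bwd [2,3,4,5,7,0,1,2,3,4,5,7,0,1,2,3,4,5,7,0,1,2,3,4,5,7,0,1,2,3,4,5,7,11,0,1,2,3,4,5,7,0,1,2,3,4,5,7,0,1,2,3,4,5,7,0,1,2,3,4,5,7,0] 78 29 1,
  .bwd [2,3,8,7,3,5,4,3,1,2,3,8,7,3,5,4,3,1,2,3,8,7,3,5,4,3,1,2,3,8,7,3,5,4,3,1,2,3,8,7,3,5,4,3,1,2,3,8,7,3,5,4,3,1,2,3,8,7,3,5,4,3,1,2,3,8,7,3,5,4,3,1,2,3,8,7,3,5,4,3,1,2,3,8,7,3,5,4,3] 80 6 1,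
  .bwd [0,7,5,4,3,2,1,0,7,5,4,3,2,1,0,7,5,4,3,2,1,0,11,7,5,4,3,2,1,0,7,5,4,3,2,1,0,7,5,4,3,2,1,0,7,5,4,3,2,1,0,7,5,4,3,2,1,0,7,5,4,3,2] 78 41 0,
  .bwd [0,11,7,5,4,3,2,1,0,7,5,4,3,2,1,0,7,5,4,3,2,1,0,7,5,4,3,2,1,0,7,5,4,3,2,1,0,7,5,4,3,2,1,0,7,5,4,3,2,1,0,7,5,4,3,2,1,0,7,5,4,3,2] 78 62 0]
noncomputable def RR2 : List Rule := [.bwd [2] 2 0 0,
  .bwd [10,2,10] 40 2 0,
  .bwd [11,2,11] 41 2 0,
  .bwd [7,2,7] 37 2 0,
  .bwd [8,2,8] 38 2 0,
  .bwd [0,2,0] 13 1 0,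
  .bwd [4,2,4] 34 2 0,
  .bwd [5,2,5] 35 2 0,
  .bwd [6,2,6] 36 2 0,
  .bwd [9,2,9] 39 2 0,
  .bwd [1,2,1,2,1] 23 1 0,
  .bwd [3,2,3,2,3] 33 2 0,
  .bwd [7,2,7] 37 0 0,
  .bwd [4,2,4] 34 0 0,
  .bwd [0,2,0] 13 3 0,
  .bwd [11,2,11] 41 0 0,
  .bwd [9,2,9] 39 0 0,
  .bwd [8,2,8] 38 0 0,
  .bwd [1,0,7,5,4,3,2,1,0,7,5,4,3,2,1,0,7,5,4,3,2,1,0,7,5,4,3,2,1,0,7,5,4,3,2,1,0,7,5,4,3,2,1,0,7,5,4,3,2,1,0,7,5,4,3,2,1,0,11,7,5,4,3] 78 5 0,
  .bwd [10,2,10] 40 0 0,
  .bwd [3,2,3,2,3] 33 4 0,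
  .bwd [3,4,5,7,0,1,2,3,4,5,7,0,1,2,3,4,5,7,0,1,2,3,4,5,7,0,1,2,3,4,5,7,0,1,2,3,4,5,7,0,1,2,3,4,5,7,0,1,2,3,4,5,7,0,1,2,3,4,5,7,11,0,1] 78 2 1,
  .bwd [5,2,5] 35 0 0,
  .bwd [6,2,6] 36 0 0,
  .bwd [1,2,1,2,1] 23 3 0,
  .bwd [3,2,3,2,3] 33 0 0,
  .bwd [1,3,4,5,3,7,8,3,2,1,3,4,5,3,7,8,3,2,1,3,4,5,3,7,8,3,2,1,3,4,5,3,7,8,3,2,1,3,4,5,3,7,8,3,2,1,3,4,5,3,7,8,3,2,1,3,4,5,3,7,8,3,2,1,3,4,5,3,7,8,3,2,1,3,4,5,3,7,8,3,2,1,3,4,5,3,7,8,3] 80 1 0,
  .bwd [1,0,7,5,4,3,2,1,0,7,5,4,3,2,1,0,7,5,4,3,2,1,0,11,7,5,4,3,2,1,0,7,5,4,3,2,1,0,7,5,4,3,2,1,0,7,5,4,3,2,1,0,7,5,4,3,2,1,0,7,5,4,3] 78 40 0,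
  .bwd [1,0,10,11,3,4,5,6,9,3,7,8,3,2,1,0,10,11,3,4,5,6,9,3,7,8,3,2,1,0,10,11,3,4,5,6,9,3,7,8,3,2,1,0,10,11,3,4,5,6,9,3,7,8,3,2,1,0,10,11,3,4,5,6,9,3,7,8,3,2,1,0,10,11,3,4,5,6,9,3,7,8,3,2,1,0,10,11,3,4,5,6,9,3,7,8,3,2,1,0,10,11,3,4,5,6,9,3,7,8,3,2,1,0,10,11,3,4,5,6,9,3,7,8,3,2,1,0,10,11,3,4,5,6,9,3,7,8,3,2,1,0,10,11,3,4,5,6,9,3,7,8,3,2,1,0,10,11,3,4,5,6,9,3,7,8,3,2,1,0,10,11,3,4,5,6,9,3,7,8,3,2,1,0,10,11,3,4,5,6,9,3,7,8,3,2,1,0,10,11,3,4,5,6,9,3,7,8,3,2,1,0,10,11,3,4,5,6,9,3,7,8,3,2,1,0,10,11,3,4,5,6,9,3,7,8,3] 79 1 0,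
  .sub [] [] 2 0]
noncomputable def RR3 : List Rule := [.bwd [3] 3 0 0,
  .bwd [10,3,10] 48 2 0,
  .bwd [11,3,11] 49 2 0,
  .bwd [8,3,8] 46 2 0,
  .bwd [0,3,0] 14 1 0,
  .bwd [7,3,7,3,7] 45 2 0,
  .bwd [5,3,5] 43 2 0,
  .bwd [6,3,6] 44 2 0,
  .bwd [9,3,9] 47 2 0,
  .bwd [2,3,2,3,2] 33 1 0,
  .bwd [1,3,1] 24 1 0,
  .bwd [4,3,4,3,4] 42 2 0,
  .bwd [8,3,8] 46 0 0,
  .bwd [9,3,9] 47 0 0,
  .bwd [6,3,6] 44 0 0,
  .bwd [11,3,11] 49 0 0,
  .bwd [5,3,5] 43 0 0,
  .bwd [10,3,10] 48 0 0,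
  .bwd [5,4,3,1,2,3,8,7,3,5,4,3,1,2,3,8,7,3,5,4,3,1,2,3,8,7,3,5,4,3,1,2,3,8,7,3,5,4,3,1,2,3,8,7,3,5,4,3,1,2,3,8,7,3,5,4,3,1,2,3,8,7,3,5,4,3,1,2,3,8,7,3,5,4,3,1,2,3,8,7,3,5,4,3,1,2,3,8,7] 80 2 1,
  .bwd [1,3,1] 24 3 0,
  .bwd [4,3,4,3,4] 42 0 0,
  .bwd [2,3,2,3,2] 33 5 0,
  .bwd [2,1,0,7,5,4,3,2,1,0,7,5,4,3,2,1,0,7,5,4,3,2,1,0,7,5,4,3,2,1,0,7,5,4,3,2,1,0,7,5,4,3,2,1,0,7,5,4,3,2,1,0,7,5,4,3,2,1,0,11,7,5,4] 78 4 0,
  .bwd [2,3,2,3,2] 33 3 0,
  .bwd [7,3,7,3,7] 45 0 0,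
  .bwd [0,3,0] 14 3 0,
  .bwd [7,3,7,3,7] 45 4 0,
  .bwd [4,3,4,3,4] 42 4 0,
  .bwd [1,2,3,8,7,3,5,4,3,1,2,3,8,7,3,5,4,3,1,2,3,8,7,3,5,4,3,1,2,3,8,7,3,5,4,3,1,2,3,8,7,3,5,4,3,1,2,3,8,7,3,5,4,3,1,2,3,8,7,3,5,4,3,1,2,3,8,7,3,5,4,3,1,2,3,8,7,3,5,4,3,1,2,3,8,7,3,5,4] 80 5 1,
  .bwd [4,5,7,0,1,2,3,4,5,7,0,1,2,3,4,5,7,0,1,2,3,4,5,7,0,1,2,3,4,5,7,0,1,2,3,4,5,7,0,1,2,3,4,5,7,0,1,2,3,4,5,7,0,1,2,3,4,5,7,11,0,1,2] 78 3 1,
  .bwd [2,1,0,7,5,4,3,2,1,0,7,5,4,3,2,1,0,7,5,4,3,2,1,0,7,5,4,3,2,1,0,7,5,4,3,2,1,0,11,7,5,4,3,2,1,0,7,5,4,3,2,1,0,7,5,4,3,2,1,0,7,5,4] 78 25 0,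
  .bwd [2,1,0,7,5,4,3,2,1,0,7,5,4,3,2,1,0,7,5,4,3,2,1,0,7,5,4,3,2,1,0,7,5,4,3,2,1,0,7,5,4,3,2,1,0,7,5,4,3,2,1,0,11,7,5,4,3,2,1,0,7,5,4] 78 11 0,
  .bwd [9,6,5,4,3,11,10,0,1,2,3,8,7,3,9,6,5,4,3,11,10,0,1,2,3,8,7,3,9,6,5,4,3,11,10,0,1,2,3,8,7,3,9,6,5,4,3,11,10,0,1,2,3,8,7,3,9,6,5,4,3,11,10,0,1,2,3,8,7,3,9,6,5,4,3,11,10,0,1,2,3,8,7,3,9,6,5,4,3,11,10,0,1,2,3,8,7,3,9,6,5,4,3,11,10,0,1,2,3,8,7,3,9,6,5,4,3,11,10,0,1,2,3,8,7,3,9,6,5,4,3,11,10,0,1,2,3,8,7,3,9,6,5,4,3,11,10,0,1,2,3,8,7,3,9,6,5,4,3,11,10,0,1,2,3,8,7,3,9,6,5,4,3,11,10,0,1,2,3,8,7,3,9,6,5,4,3,11,10,0,1,2,3,8,7,3,9,6,5,4,3,11,10,0,1,2,3,8,7,3,9,6,5,4,3,11,10,0,1,2,3,8,7,3,9,6,5,4,3,11,10,0,1,2,3,8,7] 79 2 1,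
  .bwd [2,1,3,4,5,3,7,8,3,2,1,3,4,5,3,7,8,3,2,1,3,4,5,3,7,8,3,2,1,3,4,5,3,7,8,3,2,1,3,4,5,3,7,8,3,2,1,3,4,5,3,7,8,3,2,1,3,4,5,3,7,8,3,2,1,3,4,5,3,7,8,3,2,1,3,4,5,3,7,8,3,2,1,3,4,5,3,7,8] 80 9 0,
  .bwd [11,10,0,1,2,3,8,7,3,9,6,5,4,3,11,10,0,1,2,3,8,7,3,9,6,5,4,3,11,10,0,1,2,3,8,7,3,9,6,5,4,3,11,10,0,1,2,3,8,7,3,9,6,5,4,3,11,10,0,1,2,3,8,7,3,9,6,5,4,3,11,10,0,1,2,3,8,7,3,9,6,5,4,3,11,10,0,1,2,3,8,7,3,9,6,5,4,3,11,10,0,1,2,3,8,7,3,9,6,5,4,3,11,10,0,1,2,3,8,7,3,9,6,5,4,3,11,10,0,1,2,3,8,7,3,9,6,5,4,3,11,10,0,1,2,3,8,7,3,9,6,5,4,3,11,10,0,1,2,3,8,7,3,9,6,5,4,3,11,10,0,1,2,3,8,7,3,9,6,5,4,3,11,10,0,1,2,3,8,7,3,9,6,5,4,3,11,10,0,1,2,3,8,7,3,9,6,5,4,3,11,10,0,1,2,3,8,7,3,9,6,5,4,3,11,10,0,1,2,3,8,7,3,9,6,5,4] 79 7 1,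
  .bwd [4,5,3,7,8,3,2,1,3,4,5,3,7,8,3,2,1,3,4,5,3,7,8,3,2,1,3,4,5,3,7,8,3,2,1,3,4,5,3,7,8,3,2,1,3,4,5,3,7,8,3,2,1,3,4,5,3,7,8,3,2,1,3,4,5,3,7,8,3,2,1,3,4,5,3,7,8,3,2,1,3,4,5,3,7,8,3,2,1] 80 3 0,
  .bwd [4,5,3,7,8,3,2,1,3,4,5,3,7,8,3,2,1,3,4,5,3,7,8,3,2,1,3,4,5,3,7,8,3,2,1,3,4,5,3,7,8,3,2,1,3,4,5,3,7,8,3,2,1,3,4,5,3,7,8,3,2,1,3,4,5,3,7,8,3,2,1,3,4,5,3,7,8,3,2,1,3,4,5,3,7,8,3,2,1] 80 12 0,
  .bwd [4,5,3,7,8,3,2,1,3,4,5,3,7,8,3,2,1,3,4,5,3,7,8,3,2,1,3,4,5,3,7,8,3,2,1,3,4,5,3,7,8,3,2,1,3,4,5,3,7,8,3,2,1,3,4,5,3,7,8,3,2,1,3,4,5,3,7,8,3,2,1,3,4,5,3,7,8,3,2,1,3,4,5,3,7,8,3,2,1] 80 84 0,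
  .bwd [4,5,7,0,1,2,3,4,5,7,0,1,2,3,4,5,7,0,1,2,3,4,5,7,0,1,2,3,4,5,7,0,1,2,3,4,5,7,0,1,2,3,4,5,7,11,0,1,2,3,4,5,7,0,1,2,3,4,5,7,0,1,2] 78 17 1,
  .bwd [2,1,0,11,7,5,4,3,2,1,0,7,5,4,3,2,1,0,7,5,4,3,2,1,0,7,5,4,3,2,1,0,7,5,4,3,2,1,0,7,5,4,3,2,1,0,7,5,4,3,2,1,0,7,5,4,3,2,1,0,7,5,4] 78 60 0,
  .sub [] [] 3 0]
noncomputable def RR4 : List Rule := [.bwd [4] 4 0 0,
  .bwd [10,4,10] 55 2 0,
  .bwd [11,4,11] 56 2 0,
  .bwd [7,4,7] 52 2 0,
  .bwd [8,4,8] 53 2 0,
  .bwd [0,4,0] 15 1 0,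
  .bwd [6,4,6] 51 2 0,
  .bwd [9,4,9] 54 2 0,
  .bwd [3,4,3,4,3] 42 1 0,
  .bwd [1,4,1] 25 1 0,
  .bwd [2,4,2] 34 1 0,
  .bwd [5,4,5,4,5] 50 2 0,
  .bwd [7,4,7] 52 0 0,
  .bwd [2,4,2] 34 3 0,
  .bwd [3,4,3,4,3] 42 5 0,
  .bwd [1,4,1] 25 3 0,
  .bwd [6,4,6] 51 0 0,
  .bwd [11,4,11] 56 0 0,
  .bwd [5,7,0,1,2,3,4,5,7,0,1,2,3,4,5,7,0,1,2,3,4,5,7,0,1,2,3,4,5,7,0,1,2,3,4,5,7,0,1,2,3,4,5,7,0,1,2,3,4,5,7,0,1,2,3,4,5,7,11,0,1,2,3] 78 4 1,
  .bwd [10,4,10] 55 0 0,
  .bwd [3,4,3,4,3] 42 3 0,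
  .bwd [9,4,9] 54 0 0,
  .bwd [5,4,5,4,5] 50 4 0,
  .bwd [5,7,11,0,1,2,3,4,5,7,0,1,2,3,4,5,7,0,1,2,3,4,5,7,0,1,2,3,4,5,7,0,1,2,3,4,5,7,0,1,2,3,4,5,7,0,1,2,3,4,5,7,0,1,2,3,4,5,7,0,1,2,3] 78 60 1,
  .bwd [8,4,8] 53 0 0,
  .bwd [5,3,7,8,3,2,1,3,4,5,3,7,8,3,2,1,3,4,5,3,7,8,3,2,1,3,4,5,3,7,8,3,2,1,3,4,5,3,7,8,3,2,1,3,4,5,3,7,8,3,2,1,3,4,5,3,7,8,3,2,1,3,4,5,3,7,8,3,2,1,3,4,5,3,7,8,3,2,1,3,4,5,3,7,8,3,2,1,3] 80 4 0,
  .bwd [0,4,0] 15 3 0,
  .bwd [5,4,5,4,5] 50 0 0,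
  .bwd [3,2,1,0,7,5,4,3,2,1,0,7,5,4,3,2,1,0,7,5,4,3,2,1,0,7,5,4,3,2,1,0,7,5,4,3,2,1,0,7,5,4,3,2,1,0,7,5,4,3,2,1,0,7,5,4,3,2,1,0,11,7,5] 78 3 0,
  .bwd [5,7,0,1,2,3,4,5,7,0,1,2,3,4,5,7,0,1,2,3,4,5,7,0,1,2,3,4,5,7,0,1,2,3,4,5,7,0,1,2,3,4,5,7,0,1,2,3,4,5,7,11,0,1,2,3,4,5,7,0,1,2,3] 78 11 1,
  .bwd [3,2,1,0,11,7,5,4,3,2,1,0,7,5,4,3,2,1,0,7,5,4,3,2,1,0,7,5,4,3,2,1,0,7,5,4,3,2,1,0,7,5,4,3,2,1,0,7,5,4,3,2,1,0,7,5,4,3,2,1,0,7,5] 78 59 0,
  .bwd [5,7,0,1,2,3,4,5,7,11,0,1,2,3,4,5,7,0,1,2,3,4,5,7,0,1,2,3,4,5,7,0,1,2,3,4,5,7,0,1,2,3,4,5,7,0,1,2,3,4,5,7,0,1,2,3,4,5,7,0,1,2,3] 78 53 1,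
  .bwd [5,7,0,1,2,3,4,5,7,0,1,2,3,4,5,7,0,1,2,3,4,5,7,0,1,2,3,4,5,7,0,1,2,3,4,5,7,11,0,1,2,3,4,5,7,0,1,2,3,4,5,7,0,1,2,3,4,5,7,0,1,2,3] 78 25 1,
  .sub [] [] 4 0]
noncomputable def RR5 : List Rule := [.bwd [5] 5 0 0,
  .bwd [10,5,10] 61 2 0,
  .bwd [11,5,11] 62 2 0,
  .bwd [7,5,7] 58 2 0,
  .bwd [8,5,8] 59 2 0,
  .bwd [0,5,0] 16 1 0,
  .bwd [3,5,3] 43 1 0,
  .bwd [9,5,9] 60 2 0,
  .bwd [4,5,4,5,4] 50 1 0,
  .bwd [2,5,2] 35 1 0,
  .bwd [1,5,1] 26 1 0,
  .bwd [6,5,6,5,6] 57 2 0,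
  .bwd [3,5,3] 43 3 0,
  .bwd [2,5,2] 35 3 0,
  .bwd [7,0,1,2,3,4,5,7,0,1,2,3,4,5,7,0,1,2,3,4,5,7,0,1,2,3,4,5,7,0,1,2,3,4,5,7,0,1,2,3,4,5,7,0,1,2,3,4,5,7,0,1,2,3,4,5,7,11,0,1,2,3,4] 78 5 1,
  .bwd [3,7,8,3,2,1,3,4,5,3,7,8,3,2,1,3,4,5,3,7,8,3,2,1,3,4,5,3,7,8,3,2,1,3,4,5,3,7,8,3,2,1,3,4,5,3,7,8,3,2,1,3,4,5,3,7,8,3,2,1,3,4,5,3,7,8,3,2,1,3,4,5,3,7,8,3,2,1,3,4,5,3,7,8,3,2,1,3,4] 80 5 0,
  .bwd [7,5,7] 58 0 0,
  .bwd [10,5,10] 61 0 0,
  .bwd [11,5,11] 62 0 0,
  .bwd [8,5,8] 59 0 0,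
  .bwd [1,5,1] 26 3 0,
  .bwd [4,5,4,5,4] 50 3 0,
  .bwd [9,5,9] 60 0 0,
  .bwd [6,5,6,5,6] 57 4 0,
  .bwd [0,5,0] 16 3 0,
  .bwd [6,5,6,5,6] 57 0 0,
  .bwd [7,11,0,1,2,3,4,5,7,0,1,2,3,4,5,7,0,1,2,3,4,5,7,0,1,2,3,4,5,7,0,1,2,3,4,5,7,0,1,2,3,4,5,7,0,1,2,3,4,5,7,0,1,2,3,4,5,7,0,1,2,3,4] 78 61 1,
  .bwd [4,5,4,5,4] 50 5 0,
  .bwd [7,0,1,2,3,4,5,7,0,1,2,3,4,5,7,0,1,2,3,4,5,7,0,1,2,3,4,5,7,0,1,2,3,4,5,7,0,1,2,3,4,5,7,0,1,2,3,4,5,7,11,0,1,2,3,4,5,7,0,1,2,3,4] 78 12 1,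
  .bwd [4,3,1,2,3,8,7,3,5,4,3,1,2,3,8,7,3,5,4,3,1,2,3,8,7,3,5,4,3,1,2,3,8,7,3,5,4,3,1,2,3,8,7,3,5,4,3,1,2,3,8,7,3,5,4,3,1,2,3,8,7,3,5,4,3,1,2,3,8,7,3,5,4,3,1,2,3,8,7,3,5,4,3,1,2,3,8,7,3] 80 3 1,
  .bwd [6,9,3,7,8,3,2,1,0,10,11,3,4,5,6,9,3,7,8,3,2,1,0,10,11,3,4,5,6,9,3,7,8,3,2,1,0,10,11,3,4,5,6,9,3,7,8,3,2,1,0,10,11,3,4,5,6,9,3,7,8,3,2,1,0,10,11,3,4,5,6,9,3,7,8,3,2,1,0,10,11,3,4,5,6,9,3,7,8,3,2,1,0,10,11,3,4,5,6,9,3,7,8,3,2,1,0,10,11,3,4,5,6,9,3,7,8,3,2,1,0,10,11,3,4,5,6,9,3,7,8,3,2,1,0,10,11,3,4,5,6,9,3,7,8,3,2,1,0,10,11,3,4,5,6,9,3,7,8,3,2,1,0,10,11,3,4,5,6,9,3,7,8,3,2,1,0,10,11,3,4,5,6,9,3,7,8,3,2,1,0,10,11,3,4,5,6,9,3,7,8,3,2,1,0,10,11,3,4,5,6,9,3,7,8,3,2,1,0,10,11,3,4,5,6,9,3,7,8,3,2,1,0,10,11,3,4] 79 8 0,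
  .bwd [4,3,1,2,3,8,7,3,5,4,3,1,2,3,8,7,3,5,4,3,1,2,3,8,7,3,5,4,3,1,2,3,8,7,3,5,4,3,1,2,3,8,7,3,5,4,3,1,2,3,8,7,3,5,4,3,1,2,3,8,7,3,5,4,3,1,2,3,8,7,3,5,4,3,1,2,3,8,7,3,5,4,3,1,2,3,8,7,3] 80 84 1,
  .bwd [4,3,2,1,0,7,5,4,3,2,1,0,7,5,4,3,2,1,0,7,5,4,3,2,1,0,7,5,4,3,2,1,0,7,5,4,3,2,1,0,7,5,4,3,2,1,0,7,5,4,3,2,1,0,7,5,4,3,2,1,0,11,7] 78 2 0,
  .sub [] [] 5 0]
noncomputable def RR6 : List Rule := [.bwd [6] 6 0 0,
  .bwd [10,6,10] 66 2 0,
  .bwd [11,6,11] 67 2 0,
  .bwd [7,6,7] 63 2 0,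
  .bwd [0,6,0] 17 1 0,
  .bwd [8,6,8] 64 2 0,
  .bwd [3,6,3] 44 1 0,
  .bwd [4,6,4] 51 1 0,
  .bwd [5,6,5,6,5] 57 1 0,
  .bwd [2,6,2] 36 1 0,
  .bwd [1,6,1] 27 1 0,
  .bwd [9,6,9,6,9] 65 2 0,
  .bwd [4,6,4] 51 3 0,
  .bwd [11,6,11] 67 0 0,
  .bwd [7,6,7] 63 0 0,
  .bwd [3,6,3] 44 3 0,
  .bwd [2,6,2] 36 3 0,
  .bwd [5,6,5,6,5] 57 3 0,
  .bwd [10,6,10] 66 0 0,
  .bwd [1,6,1] 27 3 0,
  .bwd [8,6,8] 64 0 0,
  .bwd [0,6,0] 17 3 0,
  .bwd [9,6,9,6,9] 65 0 0,
  .bwd [5,6,5,6,5] 57 5 0,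
  .bwd [9,6,9,6,9] 65 4 0,
  .bwd [9,3,7,8,3,2,1,0,10,11,3,4,5,6,9,3,7,8,3,2,1,0,10,11,3,4,5,6,9,3,7,8,3,2,1,0,10,11,3,4,5,6,9,3,7,8,3,2,1,0,10,11,3,4,5,6,9,3,7,8,3,2,1,0,10,11,3,4,5,6,9,3,7,8,3,2,1,0,10,11,3,4,5,6,9,3,7,8,3,2,1,0,10,11,3,4,5,6,9,3,7,8,3,2,1,0,10,11,3,4,5,6,9,3,7,8,3,2,1,0,10,11,3,4,5,6,9,3,7,8,3,2,1,0,10,11,3,4,5,6,9,3,7,8,3,2,1,0,10,11,3,4,5,6,9,3,7,8,3,2,1,0,10,11,3,4,5,6,9,3,7,8,3,2,1,0,10,11,3,4,5,6,9,3,7,8,3,2,1,0,10,11,3,4,5,6,9,3,7,8,3,2,1,0,10,11,3,4,5,6,9,3,7,8,3,2,1,0,10,11,3,4,5,6,9,3,7,8,3,2,1,0,10,11,3,4,5] 79 9 0,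
  .sub [] [] 6 0]
noncomputable def RR7 : List Rule := [.bwd [7] 7 0 0,
  .bwd [10,7,10] 70 2 0,
  .bwd [11,7,11] 71 2 0,
  .bwd [0,7,0] 18 1 0,
  .bwd [8,7,8,7,8] 68 2 0,
  .bwd [4,7,4] 52 1 0,
  .bwd [5,7,5] 58 1 0,
  .bwd [6,7,6] 63 1 0,
  .bwd [9,7,9] 69 2 0,
  .bwd [3,7,3,7,3] 45 1 0,
  .bwd [1,7,1] 28 1 0,
  .bwd [2,7,2] 37 1 0,
  .bwd [2,7,2] 37 3 0,
  .bwd [9,7,9] 69 0 0,
  .bwd [11,7,11] 71 0 0,
  .bwd [3,7,3,7,3] 45 5 0,
  .bwd [4,7,4] 52 3 0,
  .bwd [1,7,1] 28 3 0,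
  .bwd [6,7,6] 63 3 0,
  .bwd [5,7,5] 58 3 0,
  .bwd [3,5,4,3,1,2,3,8,7,3,5,4,3,1,2,3,8,7,3,5,4,3,1,2,3,8,7,3,5,4,3,1,2,3,8,7,3,5,4,3,1,2,3,8,7,3,5,4,3,1,2,3,8,7,3,5,4,3,1,2,3,8,7,3,5,4,3,1,2,3,8,7,3,5,4,3,1,2,3,8,7,3,5,4,3,1,2,3,8] 80 1 1,
  .bwd [10,7,10] 70 0 0,
  .bwd [5,4,3,2,1,0,7,5,4,3,2,1,0,7,5,4,3,2,1,0,7,5,4,3,2,1,0,7,5,4,3,2,1,0,7,5,4,3,2,1,0,7,5,4,3,2,1,0,7,5,4,3,2,1,0,11,7,5,4,3,2,1,0] 78 8 0,
  .bwd [8,7,8,7,8] 68 0 0,
  .bwd [0,7,0] 18 3 0,
  .bwd [3,7,3,7,3] 45 3 0,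
  .bwd [11,0,1,2,3,4,5,7,0,1,2,3,4,5,7,0,1,2,3,4,5,7,0,1,2,3,4,5,7,0,1,2,3,4,5,7,0,1,2,3,4,5,7,0,1,2,3,4,5,7,0,1,2,3,4,5,7,0,1,2,3,4,5] 78 62 1,
  .bwd [0,1,2,3,4,5,7,0,1,2,3,4,5,7,0,1,2,3,4,5,7,0,1,2,3,4,5,7,0,1,2,3,4,5,7,0,1,2,3,4,5,7,0,1,2,3,4,5,7,0,1,2,3,4,5,7,11,0,1,2,3,4,5] 78 6 1,
  .bwd [3,9,6,5,4,3,11,10,0,1,2,3,8,7,3,9,6,5,4,3,11,10,0,1,2,3,8,7,3,9,6,5,4,3,11,10,0,1,2,3,8,7,3,9,6,5,4,3,11,10,0,1,2,3,8,7,3,9,6,5,4,3,11,10,0,1,2,3,8,7,3,9,6,5,4,3,11,10,0,1,2,3,8,7,3,9,6,5,4,3,11,10,0,1,2,3,8,7,3,9,6,5,4,3,11,10,0,1,2,3,8,7,3,9,6,5,4,3,11,10,0,1,2,3,8,7,3,9,6,5,4,3,11,10,0,1,2,3,8,7,3,9,6,5,4,3,11,10,0,1,2,3,8,7,3,9,6,5,4,3,11,10,0,1,2,3,8,7,3,9,6,5,4,3,11,10,0,1,2,3,8,7,3,9,6,5,4,3,11,10,0,1,2,3,8,7,3,9,6,5,4,3,11,10,0,1,2,3,8,7,3,9,6,5,4,3,11,10,0,1,2,3,8,7,3,9,6,5,4,3,11,10,0,1,2,3,8] 79 1 1,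
  .bwd [8,3,2,1,3,4,5,3,7,8,3,2,1,3,4,5,3,7,8,3,2,1,3,4,5,3,7,8,3,2,1,3,4,5,3,7,8,3,2,1,3,4,5,3,7,8,3,2,1,3,4,5,3,7,8,3,2,1,3,4,5,3,7,8,3,2,1,3,4,5,3,7,8,3,2,1,3,4,5,3,7,8,3,2,1,3,4,5,3] 80 7 0,
  .bwd [8,7,8,7,8] 68 4 0,
  .bwd [8,3,2,1,0,10,11,3,4,5,6,9,3,7,8,3,2,1,0,10,11,3,4,5,6,9,3,7,8,3,2,1,0,10,11,3,4,5,6,9,3,7,8,3,2,1,0,10,11,3,4,5,6,9,3,7,8,3,2,1,0,10,11,3,4,5,6,9,3,7,8,3,2,1,0,10,11,3,4,5,6,9,3,7,8,3,2,1,0,10,11,3,4,5,6,9,3,7,8,3,2,1,0,10,11,3,4,5,6,9,3,7,8,3,2,1,0,10,11,3,4,5,6,9,3,7,8,3,2,1,0,10,11,3,4,5,6,9,3,7,8,3,2,1,0,10,11,3,4,5,6,9,3,7,8,3,2,1,0,10,11,3,4,5,6,9,3,7,8,3,2,1,0,10,11,3,4,5,6,9,3,7,8,3,2,1,0,10,11,3,4,5,6,9,3,7,8,3,2,1,0,10,11,3,4,5,6,9,3,7,8,3,2,1,0,10,11,3,4,5,6,9,3,7,8,3,2,1,0,10,11,3,4,5,6,9,3] 79 12 0,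
  .bwd [3,5,4,3,1,2,3,8,7,3,5,4,3,1,2,3,8,7,3,5,4,3,1,2,3,8,7,3,5,4,3,1,2,3,8,7,3,5,4,3,1,2,3,8,7,3,5,4,3,1,2,3,8,7,3,5,4,3,1,2,3,8,7,3,5,4,3,1,2,3,8,7,3,5,4,3,1,2,3,8,7,3,5,4,3,1,2,3,8] 80 37 1,
  .bwd [5,4,3,2,1,0,11,7,5,4,3,2,1,0,7,5,4,3,2,1,0,7,5,4,3,2,1,0,7,5,4,3,2,1,0,7,5,4,3,2,1,0,7,5,4,3,2,1,0,7,5,4,3,2,1,0,7,5,4,3,2,1,0] 78 57 0,
  .sub [] [] 7 0]
noncomputable def RR8 : List Rule := [.bwd [8] 8 0 0,
  .bwd [10,8,10] 73 2 0,
  .bwd [11,8,11] 74 2 0,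
  .bwd [0,8,0] 19 1 0,
  .bwd [4,8,4] 53 1 0,
  .bwd [3,8,3] 46 1 0,
  .bwd [6,8,6] 64 1 0,
  .bwd [5,8,5] 59 1 0,
  .bwd [9,8,9] 72 2 0,
  .bwd [7,8,7,8,7] 68 1 0,
  .bwd [2,8,2] 38 1 0,
  .bwd [1,8,1] 29 1 0,
  .bwd [3,8,3] 46 3 0,
  .bwd [7,8,7,8,7] 68 5 0,
  .bwd [5,8,5] 59 3 0,
  .bwd [11,8,11] 74 0 0,
  .bwd [4,8,4] 53 3 0,
  .bwd [6,8,6] 64 3 0,
  .bwd [2,8,2] 38 3 0,
  .bwd [9,8,9] 72 0 0,
  .bwd [10,8,10] 73 0 0,
  .bwd [3,2,1,3,4,5,3,7,8,3,2,1,3,4,5,3,7,8,3,2,1,3,4,5,3,7,8,3,2,1,3,4,5,3,7,8,3,2,1,3,4,5,3,7,8,3,2,1,3,4,5,3,7,8,3,2,1,3,4,5,3,7,8,3,2,1,3,4,5,3,7,8,3,2,1,3,4,5,3,7,8,3,2,1,3,4,5,3,7] 80 8 0,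
  .bwd [7,3,5,4,3,1,2,3,8,7,3,5,4,3,1,2,3,8,7,3,5,4,3,1,2,3,8,7,3,5,4,3,1,2,3,8,7,3,5,4,3,1,2,3,8,7,3,5,4,3,1,2,3,8,7,3,5,4,3,1,2,3,8,7,3,5,4,3,1,2,3,8,7,3,5,4,3,1,2,3,8,7,3,5,4,3,1,2,3] 80 9 1,
  .bwd [1,8,1] 29 3 0,
  .bwd [7,8,7,8,7] 68 3 0,
  .bwd [0,8,0] 19 3 0,
  .bwd [3,2,1,3,4,5,3,7,8,3,2,1,3,4,5,3,7,8,3,2,1,3,4,5,3,7,8,3,2,1,3,4,5,3,7,8,3,2,1,3,4,5,3,7,8,3,2,1,3,4,5,3,7,8,3,2,1,3,4,5,3,7,8,3,2,1,3,4,5,3,7,8,3,2,1,3,4,5,3,7,8,3,2,1,3,4,5,3,7] 80 89 0,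
  .bwd [3,2,1,0,10,11,3,4,5,6,9,3,7,8,3,2,1,0,10,11,3,4,5,6,9,3,7,8,3,2,1,0,10,11,3,4,5,6,9,3,7,8,3,2,1,0,10,11,3,4,5,6,9,3,7,8,3,2,1,0,10,11,3,4,5,6,9,3,7,8,3,2,1,0,10,11,3,4,5,6,9,3,7,8,3,2,1,0,10,11,3,4,5,6,9,3,7,8,3,2,1,0,10,11,3,4,5,6,9,3,7,8,3,2,1,0,10,11,3,4,5,6,9,3,7,8,3,2,1,0,10,11,3,4,5,6,9,3,7,8,3,2,1,0,10,11,3,4,5,6,9,3,7,8,3,2,1,0,10,11,3,4,5,6,9,3,7,8,3,2,1,0,10,11,3,4,5,6,9,3,7,8,3,2,1,0,10,11,3,4,5,6,9,3,7,8,3,2,1,0,10,11,3,4,5,6,9,3,7,8,3,2,1,0,10,11,3,4,5,6,9,3,7,8,3,2,1,0,10,11,3,4,5,6,9,3,7] 79 237 0,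
  .bwd [3,2,1,0,10,11,3,4,5,6,9,3,7,8,3,2,1,0,10,11,3,4,5,6,9,3,7,8,3,2,1,0,10,11,3,4,5,6,9,3,7,8,3,2,1,0,10,11,3,4,5,6,9,3,7,8,3,2,1,0,10,11,3,4,5,6,9,3,7,8,3,2,1,0,10,11,3,4,5,6,9,3,7,8,3,2,1,0,10,11,3,4,5,6,9,3,7,8,3,2,1,0,10,11,3,4,5,6,9,3,7,8,3,2,1,0,10,11,3,4,5,6,9,3,7,8,3,2,1,0,10,11,3,4,5,6,9,3,7,8,3,2,1,0,10,11,3,4,5,6,9,3,7,8,3,2,1,0,10,11,3,4,5,6,9,3,7,8,3,2,1,0,10,11,3,4,5,6,9,3,7,8,3,2,1,0,10,11,3,4,5,6,9,3,7,8,3,2,1,0,10,11,3,4,5,6,9,3,7,8,3,2,1,0,10,11,3,4,5,6,9,3,7,8,3,2,1,0,10,11,3,4,5,6,9,3,7] 79 13 0,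
  .sub [] [] 8 0]
noncomputable def RR9 : List Rule := [.bwd [9] 9 0 0,
  .bwd [10,9,10] 75 2 0,
  .bwd [11,9,11] 76 2 0,
  .bwd [0,9,0] 20 1 0,
  .bwd [7,9,7] 69 1 0,
  .bwd [8,9,8] 72 1 0,
  .bwd [3,9,3] 47 1 0,
  .bwd [4,9,4] 54 1 0,
  .bwd [5,9,5] 60 1 0,
  .bwd [6,9,6,9,6] 65 1 0,
  .bwd [2,9,2] 39 1 0,
  .bwd [1,9,1] 30 1 0,
  .bwd [5,9,5] 60 3 0,
  .bwd [8,9,8] 72 3 0,
  .bwd [11,9,11] 76 0 0,
  .bwd [7,9,7] 69 3 0,
  .bwd [10,9,10] 75 0 0,
  .bwd [4,9,4] 54 3 0,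
  .bwd [3,9,3] 47 3 0,
  .bwd [2,9,2] 39 3 0,
  .bwd [3,7,8,3,2,1,0,10,11,3,4,5,6,9,3,7,8,3,2,1,0,10,11,3,4,5,6,9,3,7,8,3,2,1,0,10,11,3,4,5,6,9,3,7,8,3,2,1,0,10,11,3,4,5,6,9,3,7,8,3,2,1,0,10,11,3,4,5,6,9,3,7,8,3,2,1,0,10,11,3,4,5,6,9,3,7,8,3,2,1,0,10,11,3,4,5,6,9,3,7,8,3,2,1,0,10,11,3,4,5,6,9,3,7,8,3,2,1,0,10,11,3,4,5,6,9,3,7,8,3,2,1,0,10,11,3,4,5,6,9,3,7,8,3,2,1,0,10,11,3,4,5,6,9,3,7,8,3,2,1,0,10,11,3,4,5,6,9,3,7,8,3,2,1,0,10,11,3,4,5,6,9,3,7,8,3,2,1,0,10,11,3,4,5,6,9,3,7,8,3,2,1,0,10,11,3,4,5,6,9,3,7,8,3,2,1,0,10,11,3,4,5,6,9,3,7,8,3,2,1,0,10,11,3,4,5,6] 79 10 0,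
  .bwd [6,9,6,9,6] 65 5 0,
  .bwd [1,9,1] 30 3 0,
  .bwd [6,9,6,9,6] 65 3 0,
  .bwd [0,9,0] 20 3 0,
  .bwd [6,5,4,3,11,10,0,1,2,3,8,7,3,9,6,5,4,3,11,10,0,1,2,3,8,7,3,9,6,5,4,3,11,10,0,1,2,3,8,7,3,9,6,5,4,3,11,10,0,1,2,3,8,7,3,9,6,5,4,3,11,10,0,1,2,3,8,7,3,9,6,5,4,3,11,10,0,1,2,3,8,7,3,9,6,5,4,3,11,10,0,1,2,3,8,7,3,9,6,5,4,3,11,10,0,1,2,3,8,7,3,9,6,5,4,3,11,10,0,1,2,3,8,7,3,9,6,5,4,3,11,10,0,1,2,3,8,7,3,9,6,5,4,3,11,10,0,1,2,3,8,7,3,9,6,5,4,3,11,10,0,1,2,3,8,7,3,9,6,5,4,3,11,10,0,1,2,3,8,7,3,9,6,5,4,3,11,10,0,1,2,3,8,7,3,9,6,5,4,3,11,10,0,1,2,3,8,7,3,9,6,5,4,3,11,10,0,1,2,3,8,7,3,9,6,5,4,3,11,10,0,1,2,3,8,7,3] 79 3 1,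
  .sub [] [] 9 0]
noncomputable def RR10 : List Rule := [.bwd [10] 10 0 0,
  .bwd [11,10,11,10,11] 77 2 0,
  .bwd [0,10,0,10,0] 21 1 0,
  .bwd [7,10,7] 70 1 0,
  .bwd [8,10,8] 73 1 0,
  .bwd [3,10,3] 48 1 0,
  .bwd [4,10,4] 55 1 0,
  .bwd [5,10,5] 61 1 0,
  .bwd [6,10,6] 66 1 0,
  .bwd [9,10,9] 75 1 0,
  .bwd [1,10,1] 31 1 0,
  .bwd [2,10,2] 40 1 0,
  .bwd [7,10,7] 70 3 0,
  .bwd [8,10,8] 73 3 0,
  .bwd [9,10,9] 75 3 0,
  .bwd [6,10,6] 66 3 0,
  .bwd [3,10,3] 48 3 0,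
  .bwd [5,10,5] 61 3 0,
  .bwd [4,10,4] 55 3 0,
  .bwd [2,10,2] 40 3 0,
  .bwd [1,10,1] 31 3 0,
  .bwd [11,10,11,10,11] 77 0 0,
  .bwd [0,1,2,3,8,7,3,9,6,5,4,3,11,10,0,1,2,3,8,7,3,9,6,5,4,3,11,10,0,1,2,3,8,7,3,9,6,5,4,3,11,10,0,1,2,3,8,7,3,9,6,5,4,3,11,10,0,1,2,3,8,7,3,9,6,5,4,3,11,10,0,1,2,3,8,7,3,9,6,5,4,3,11,10,0,1,2,3,8,7,3,9,6,5,4,3,11,10,0,1,2,3,8,7,3,9,6,5,4,3,11,10,0,1,2,3,8,7,3,9,6,5,4,3,11,10,0,1,2,3,8,7,3,9,6,5,4,3,11,10,0,1,2,3,8,7,3,9,6,5,4,3,11,10,0,1,2,3,8,7,3,9,6,5,4,3,11,10,0,1,2,3,8,7,3,9,6,5,4,3,11,10,0,1,2,3,8,7,3,9,6,5,4,3,11,10,0,1,2,3,8,7,3,9,6,5,4,3,11,10,0,1,2,3,8,7,3,9,6,5,4,3,11,10,0,1,2,3,8,7,3,9,6,5,4,3,11] 79 9 1,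
  .bwd [0,10,0,10,0] 21 5 0,
  .bwd [0,10,0,10,0] 21 3 0,
  .bwd [11,3,4,5,6,9,3,7,8,3,2,1,0,10,11,3,4,5,6,9,3,7,8,3,2,1,0,10,11,3,4,5,6,9,3,7,8,3,2,1,0,10,11,3,4,5,6,9,3,7,8,3,2,1,0,10,11,3,4,5,6,9,3,7,8,3,2,1,0,10,11,3,4,5,6,9,3,7,8,3,2,1,0,10,11,3,4,5,6,9,3,7,8,3,2,1,0,10,11,3,4,5,6,9,3,7,8,3,2,1,0,10,11,3,4,5,6,9,3,7,8,3,2,1,0,10,11,3,4,5,6,9,3,7,8,3,2,1,0,10,11,3,4,5,6,9,3,7,8,3,2,1,0,10,11,3,4,5,6,9,3,7,8,3,2,1,0,10,11,3,4,5,6,9,3,7,8,3,2,1,0,10,11,3,4,5,6,9,3,7,8,3,2,1,0,10,11,3,4,5,6,9,3,7,8,3,2,1,0,10,11,3,4,5,6,9,3,7,8,3,2,1,0,10,11,3,4,5,6,9,3,7,8,3,2,1,0] 79 4 0,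
  .bwd [11,10,11,10,11] 77 4 0]
noncomputable def RR11 : List Rule := [.bwd [11] 11 0 0,
  .bwd [10,11,10,11,10] 77 1 0,
  .bwd [0,11,0] 22 1 0,
  .bwd [7,11,7] 71 1 0,
  .bwd [8,11,8] 74 1 0,
  .bwd [3,11,3] 49 1 0,
  .bwd [4,11,4] 56 1 0,
  .bwd [5,11,5] 62 1 0,
  .bwd [6,11,6] 67 1 0,
  .bwd [9,11,9] 76 1 0,
  .bwd [1,11,1] 32 1 0,
  .bwd [2,11,2] 41 1 0,
  .bwd [9,11,9] 76 3 0,
  .bwd [8,11,8] 74 3 0,
  .bwd [7,11,7] 71 3 0,
  .bwd [0,11,0] 22 3 0,
  .bwd [6,11,6] 67 3 0,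
  .bwd [5,11,5] 62 3 0,
  .bwd [4,11,4] 56 3 0,
  .bwd [3,11,3] 49 3 0,
  .bwd [1,11,1] 32 3 0,
  .bwd [2,11,2] 41 3 0,
  .bwd [3,4,5,6,9,3,7,8,3,2,1,0,10,11,3,4,5,6,9,3,7,8,3,2,1,0,10,11,3,4,5,6,9,3,7,8,3,2,1,0,10,11,3,4,5,6,9,3,7,8,3,2,1,0,10,11,3,4,5,6,9,3,7,8,3,2,1,0,10,11,3,4,5,6,9,3,7,8,3,2,1,0,10,11,3,4,5,6,9,3,7,8,3,2,1,0,10,11,3,4,5,6,9,3,7,8,3,2,1,0,10,11,3,4,5,6,9,3,7,8,3,2,1,0,10,11,3,4,5,6,9,3,7,8,3,2,1,0,10,11,3,4,5,6,9,3,7,8,3,2,1,0,10,11,3,4,5,6,9,3,7,8,3,2,1,0,10,11,3,4,5,6,9,3,7,8,3,2,1,0,10,11,3,4,5,6,9,3,7,8,3,2,1,0,10,11,3,4,5,6,9,3,7,8,3,2,1,0,10,11,3,4,5,6,9,3,7,8,3,2,1,0,10,11,3,4,5,6,9,3,7,8,3,2,1,0,10] 79 5 0,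
  .bwd [10,11,10,11,10] 77 5 0,
  .bwd [0,1,2,3,4,5,7,0,1,2,3,4,5,7,0,1,2,3,4,5,7,0,1,2,3,4,5,7,0,1,2,3,4,5,7,0,1,2,3,4,5,7,0,1,2,3,4,5,7,0,1,2,3,4,5,7,0,1,2,3,4,5,7] 78 63 1,
  .bwd [7,5,4,3,2,1,0,7,5,4,3,2,1,0,7,5,4,3,2,1,0,7,5,4,3,2,1,0,7,5,4,3,2,1,0,7,5,4,3,2,1,0,7,5,4,3,2,1,0,7,5,4,3,2,1,0,7,5,4,3,2,1,0] 78 0 0,
  .bwd [10,0,1,2,3,8,7,3,9,6,5,4,3,11,10,0,1,2,3,8,7,3,9,6,5,4,3,11,10,0,1,2,3,8,7,3,9,6,5,4,3,11,10,0,1,2,3,8,7,3,9,6,5,4,3,11,10,0,1,2,3,8,7,3,9,6,5,4,3,11,10,0,1,2,3,8,7,3,9,6,5,4,3,11,10,0,1,2,3,8,7,3,9,6,5,4,3,11,10,0,1,2,3,8,7,3,9,6,5,4,3,11,10,0,1,2,3,8,7,3,9,6,5,4,3,11,10,0,1,2,3,8,7,3,9,6,5,4,3,11,10,0,1,2,3,8,7,3,9,6,5,4,3,11,10,0,1,2,3,8,7,3,9,6,5,4,3,11,10,0,1,2,3,8,7,3,9,6,5,4,3,11,10,0,1,2,3,8,7,3,9,6,5,4,3,11,10,0,1,2,3,8,7,3,9,6,5,4,3,11,10,0,1,2,3,8,7,3,9,6,5,4,3,11,10,0,1,2,3,8,7,3,9,6,5,4,3] 79 8 1,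
  .bwd [10,11,10,11,10] 77 3 0]
noncomputable def RR : List (List Rule) := [RR0, RR1, RR2, RR3, RR4, RR5, RR6, RR7, RR8, RR9, RR10, RR11]
noncomputable def rowp (j : ℕ) : ℕ := piece tT (nat_lit 3) (nat_lit 7) (nat_lit 3936) (Nat.pred (Nat.shiftLeft 1 (nat_lit 3936))) j
noncomputable def row (u : ℕ) : ℕ := rowOf rowp (nat_lit 3) (nat_lit 7) (nat_lit 492) u
noncomputable def jrowp (j : ℕ) : ℕ := piece tJ (nat_lit 3) (nat_lit 7) (nat_lit 2304) (Nat.pred (Nat.shiftLeft 1 (nat_lit 2304))) j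
noncomputable def jrow (u : ℕ) : ℕ := rowOf jrowp (nat_lit 5) (nat_lit 31) (nat_lit 72) u
noncomputable def drowp (j : ℕ) : ℕ := piece tD (nat_lit 3) (nat_lit 7) (nat_lit 2944) (Nat.pred (Nat.shiftLeft 1 (nat_lit 2944))) j
noncomputable def drow (u : ℕ) : ℕ := rowOf drowp (nat_lit 6) (nat_lit 63) (nat_lit 46) u
noncomputable def cert : PCert := ⟨(nat_lit 12), (nat_lit 12), (nat_lit 524287), (nat_lit 41), (nat_lit 2199023255551), (nat_lit 2199023255550), (nat_lit 306936), (nat_lit 306935), (nat_lit 306935), (nat_lit 6), (nat_lit 63), (nat_lit 6), (nat_lit 63), (nat_lit 70368744177663), (nat_lit 0), row, jrow, drow, RR⟩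
theorem params : cert.paramsOK = true := by decide +kernel
theorem rules : rulesOK rels subs iv cert.L cert.LL cert.RR = true := by decide +kernel

end CL.Fi.E24
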