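import Cfsg.Agent.SPOR.FiL3
import Cfsg.Agent.SPOR.FiA7
import Cfsg.Agent.SPOR.Fi24Def

/-!
The common neighbours of two points of level 24.
-/

set_option autoImplicit false

namespace CL.FiL

open Cfsg CL.TTU CL.TT CL.K CL.CE CL.Net CL.Orth CL.OrthE CL.RC QuadraticMap CL.FiC CL.FiA CL.Fi

variable {G : Type*} {G' : Type*} [Group G] [Group G']

/-- conjugation of sets -/
def cjs (g : G) (X : Set G) : Set G := (fun x => g * x * g⁻¹) '' X

theorem cjs_mul (g h : G) (X : Set G) : cjs (g * h) X = cjs g (cjs h X) := by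
  simp only [cjs, Set.image_image, cj_cj]

theorem cjs_one (X : Set G) : cjs 1 X = X := by simp [cjs]

theorem exists_permHom {ι : Type*} {X : ι → Set G} (hX : Function.Injective X) {K : Subgroup G}
    (h : ∀ g ∈ K, ∀ i, ∃ j, cjs g (X i) = X j) :
    ∃ ρ : K →* Equiv.Perm ι, ∀ (g : K) i, cjs (g : G) (X i) = X (ρ g i) := by
  choose f hf using h
  let φ : K →* Function.End ι :=
    { toFun := fun g => f g g.2
      map_one' := funext fun i => hX (by rw [← hf]; exact cjs_one _)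
      map_mul' := fun a b => funext fun i => hX (by
        rw [← hf]
        show cjs (a * b : G) _ = X (f a a.2 (f b b.2 i))
        rw [cjs_mul, hf _ b.2, hf _ a.2]) }
  exact ⟨φ.toHomPerm, fun g i => hf g g.2 i⟩

theorem perm_closure {ι : Type*} {X : ι → Set G} {S : Set G} (hS : ∀ s ∈ S, s * s = 1)
    (h : ∀ g ∈ S, ∀ i, ∃ j, cjs g (X i) = X j) :
    ∀ g ∈ Subgroup.closure S, ∀ i, ∃ j, cjs g (X i) = X j :=
  closure_ind hS (fun i => ⟨i, cjs_one _⟩) fun s hs g _ ih i =>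
    let ⟨j, e⟩ := ih i
    let ⟨k, e'⟩ := h s hs j
    ⟨k, by rw [cjs_mul, e, e']⟩

theorem cjs_ms {n k r m : ℕ} {nets : List (List (ℕ × ℕ))} {T : ℕ → ℕ → ℕ} {pt : ℕ → ℕ}
    {pa : ℕ → List ℕ} {op : ℕ → ℕ → ℕ} (M : Mod n k r m nets T pt pa op) {D : Set G} {p : ℕ → G}
    (R : Real n op D p) {w : List ℕ} (hw : ∀ a ∈ w, a < k) (x : ℕ) :
    cjs (lw p pt w) (ms n p (appw nets w x)) = ms n p x := by
  ext y
  constructor
  · rintro ⟨z, hz, rfl⟩
    exact (M.mem_ms_appw R hw x (R.ms_subset _ hz)).1 hz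
  · intro hy
    refine ⟨_, (M.mem_ms_appw R hw x (R.fs.cj_mem subset_rfl (inv_mem (M.lw_mem R hw))
      (R.ms_subset _ hy))).2 ?_, cj_inv_cj _ _⟩
    rwa [cj_inv_cj]

theorem map_comm_surj {π : G →* G'} (h : Function.Surjective π) :
    (commutator G).map π = commutator G' := by
  rw [map_commutator_eq, MonoidHom.range_eq_top.2 h, commutator_def]

theorem nonempty_comm_quot {F V : Type*} [Field F] [AddCommGroup V] [Module F V]
    {Q : QuadraticForm F V} [FiniteDimensional F V] [Finite F] (hQ : (polarBilin Q).Nondegenerate)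
    (h5 : 5 ≤ Module.finrank F V) {c : F} (hc : c ≠ 0) :
    Nonempty (commutator (R Q c ⧸ Subgroup.center (R Q c)) ≃* pOm (O Q)) := by
  have hle : commutator (O Q) ≤ R Q c := (commutator_O_eq_E hQ h5).le.trans (E_le_R hQ h5 hc)
  let π : commutator (O Q) →* R Q c ⧸ Subgroup.center (R Q c) :=
    (QuotientGroup.mk' _).comp (Subgroup.inclusion hle)
  have hk : π.ker = Subgroup.center (commutator (O Q)) := by
    ext g
    change QuotientGroup.mk (Subgroup.inclusion hle g) = 1 ↔ _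
    rw [QuotientGroup.eq_one_iff, mem_center_R_iff hQ h5 hc, mem_center_commutator_iff hQ h5,
      isScalar_iff hQ (by omega)]
    exact or_congr Iff.rfl ⟨fun e x => congrArg (fun g : O Q => g.1 x) e, fun e => O_ext e⟩
  have hr : π.range = commutator (R Q c ⧸ Subgroup.center (R Q c)) := by
    rw [← map_comm_surj (QuotientGroup.mk'_surjective (Subgroup.center (R Q c)))]
    ext y
    constructor
    · rintro ⟨g, rfl⟩
      exact ⟨_, (mem_commutator_R_iff hQ h5 hc _).2 ((commutator_O_eq_E hQ h5).le g.2), rfl⟩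
    · rintro ⟨g, hg, rfl⟩
      exact ⟨⟨g, (commutator_O_eq_E hQ h5).ge ((mem_commutator_R_iff hQ h5 hc _).1 hg)⟩, rfl⟩
  exact ⟨(MulEquiv.subgroupCongr hr.symm).trans ((QuotientGroup.quotientKerEquivRange π).symm.trans
    (QuotientGroup.quotientMulEquivOfEq hk))⟩

theorem exists_hom8 {X : Set G} {f : ℕ → G} (h : Real 1080 R8.op X f) :
    ∃ π : commutator (Subgroup.closure X) →* POmega (ZMod 3) (quadFormPlus 4 (ZMod 3)),
      Function.Surjective π := by
  obtain ⟨φ, hφ, -⟩ := h.exists_isoOn R8.real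
  obtain ⟨π, h1, -⟩ := exists_hom_quot hφ h.fs R8.fs
  obtain ⟨e⟩ := nonempty_comm_quot R8.nondeg (by rw [R8.finrank_V]; norm_num) (one_ne_zero (α := ZMod 3))
  obtain ⟨e'⟩ := nonempty_O_plus R8.nondeg (m := 4) R8.finrank_V (R8.dsc_Q.trans (by norm_num))
  have h2 := map_comm_surj h1
  have ε := (MulEquiv.subgroupCongr h2).trans (e.trans ((pOmCongr e').trans
    (pOmegaEquiv (QPlus 4 (ZMod 3))).symm))
  exact ⟨ε.toMonoidHom.comp (π.subgroupMap _), ε.surjective.comp (π.subgroupMap_surjective _)⟩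

theorem ker_of_perm3 [Finite G] {S : Type*} [Group S] [Finite S] [IsSimpleGroup S]
    (hS : ∃ x y : S, x * y ≠ y * x) (hG : Nat.card G ≤ 6 * Nat.card S) {ρ : G →* Equiv.Perm (Fin 3)}
    (hρ : Function.Surjective ρ) {A : Type*} [Group A] {ι : A →* G} (hι : Function.Injective ι)
    (hk : ∀ a, ρ (ι a) = 1) {π : A →* S} (hπ : Function.Surjective π) :
    Nonempty (ρ.ker ≃* S) ∧ Subgroup.center G = ⊥ := by
  haveI := Finite.of_injective ι hι
  have h1 := card_eq_ker ρ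
  rw [MonoidHom.range_eq_top.2 hρ, Subgroup.card_top, Nat.card_perm, Nat.card_fin,
    show Nat.factorial 3 = 6 from rfl] at h1
  have h2 : Function.Injective (ι.codRestrict ρ.ker hk) := fun a b e => hι (congrArg Subtype.val e)
  have h3 := Nat.card_le_card_of_injective _ h2
  have h4 := Nat.card_le_card_of_surjective _ hπ
  have e : ρ.ker ≃* S := (MulEquiv.ofBijective _
    (h2.bijective_of_nat_card_le (by omega))).symm.trans
    (MulEquiv.ofBijective _ (hπ.bijective_of_nat_card_le (by omega)))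
  refine ⟨⟨e⟩, eq_bot_iff.2 fun z hz => ?_⟩
  have h6 : ρ z = 1 := (by decide : ∀ a : Equiv.Perm (Fin 3), (∀ b, b * a = a * b) → a = 1) _ fun b => by
    obtain ⟨b, rfl⟩ := hρ b
    rw [← map_mul, ← map_mul, Subgroup.mem_center_iff.1 hz]
  obtain ⟨x, y, hxy⟩ := hS
  have h7 : e ⟨z, h6⟩ ∈ Subgroup.center S := Subgroup.mem_center_iff.2 fun b => by
    obtain ⟨b, rfl⟩ := e.surjective b
    rw [← map_mul, ← map_mul]
    exact congrArg e (Subtype.ext (Subgroup.mem_center_iff.1 hz _))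
  rw [center_eq_bot_of_simple hxy, Subgroup.mem_bot, map_eq_one_iff _ e.injective] at h7
  exact congrArg Subtype.val h7

theorem appw_nil (nets : List (List (ℕ × ℕ))) (x : ℕ) : appw nets [] x = x := rfl

/-- one component of the common neighbours of two points -/
def o24 : ℕ := 0x46e4ab4e6003feac7bcaa990bce6c83504dcc49a032487f165032460c7cd2e1b30ed859ecb3a69962ce6b19aec7c0f578a01769ac932a8d5f9de0e833ef121caf33dd6f57f7d9eb98294c6e3329f43809d7e9e09edf01ef4ca4554651d1d2105afabfd96b9e2fae8d970a11243530c8bedb81e1ccc65b0fe383982a50f05e39efad6b32d8d31f0db6995ddf5127dd99e8d55da110fd1c721576348a9372372b5b2b5c321683706aee26b4ee373360ab6cb90b0f3961876e6d851e3d6f63528cbc1c4034c10a1f39775276c1269eb29812773bcfab720cd7f810be37d208a9eac8a2a5737938f46bf27fc65d0080e37edb88f572566120bf4514afd8d5871aec5556f2b4cdf4705267d0bb2fd47f6b6059d7b3b1e1e6b01f68aeb5ea5cf7e2d736947e4641c2f50e2d712e01dcc4d1a224644297af7ed58dc03445a4619b47f1edd3e7313a9cff5e4d216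a0197ccf03e43ad433b8f0ccf178e2c59a8f0d1052911e3087686c9cda1ebcdfd7a3dd3e85fec7f50fc7879c2c5e7239c3be4e5b062ce6f46b2b92d8ec364c38dcfd1666fcd9af32e38fa29bed31a9e17bc18f003b629b2c6a999205a39749e554feef55c7b9efda98a2f3cff644e90ff854b2b64b49a2aaf0a83a2e0e3773d6f998df34f03733b841ab9a6c8b108ad35d3a34b9c2f0a3d9172ea61bc1145e6fe9874f20b54936855b8bb718fee75243277a119ade2cdda09b4c7d2cf32e78a450491b395c90798f0742c9bd0510e7e9c43d8eccb84286feb8cf498a8dedf9eeadbd2988c2bdd9dc42d84d37c8e7dd53a24e6cd7b21665e1d28f3ed1542f5d484ccb53cf3c0a0438eed3792528ed2a2e457a566dee2cd49a7a4ec9747d9f80d9b91e04985cc2a719762af1c07d98b17b720ecedd18b2b12b9d798a97dd4826bad4b2aa9314c5fa53607e31f143eb5fef288a68d1ae9462698c77caf20d6f8501c5361a5cbcc91ea81c73388511243469d6f7ad37f865bc6b152b6dd08f9d04fdf10cb9f1e55f8949cbbc8f16b40450bd099a49e6cc67928a4fba9f9a8ac66da8e9eac2d1c5774bb6c3dbf91815fed15c5ee60866fc938fbffddf88f4da8cd639a6b78b05856a2a4f8d022883e4b49c5efa74435c27bf45e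d2b1391e416377b60ab4c75553b5296e53ec5128b2f1457a78c6f147293fafc8b83df2b483da223f152ca8cf67a5b4737ab367b976690c983f87ce70bb28e44bf7695302f950264824b2b4504aa316ae5b97b1c9ed53c32aa955fce850dc795ebe7d3887f9725052d88f34690e7df0a9f6181f39a7dc376da85fe7c78db282708d9ed59d8917771b6260f8236cab661f35ab2d0fca3c3ad49875f530f31a8d09357aa702a2df743799b5813cf193f525ac66a36c22432cc3c47f4cbf76fd3d810ced43b81bd55336e8dcac77ecdbc7d0c7e2d181fa8e86c5c978c9c8de4191f0b3dd7b616a42909c13f6d4bd8cb62fa6763ebda603c9decec5abaae3a81f5bf136bf7c74dda5d041f9f307fc8d56e0f264e61cb20cb045840d7bd7b8b69d7fd3c83b557e26d2c56bad980c4884b17b284e839f1b85d4c7ac53202fc47aaddef9a95d2b883043ed08fbe4776964b9d87d6c60a82f107351c31232a55c4a29a0cf4501bee931eedab4a1cc865949ffd785c7e0e57b53db4367ef5d91f1c3d921e8cfde5a9e9d1f3fca43150d028df3839cf0e909cb64e8ab3e54d17622f0eb4f5beb7387c3f12de4bf456a0c9fc841142ca6cc1c093c075dcde06c22da787a00d2e0ee852e3f472a02427b07390f0f5ce260663ffbb0173e0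ab87f2845e5361ff791f45a516d5185e27b98cd0e22881939981c78be298d4d830e498b25aa267acb712bbc8db78e6275541787f47a8d4f28969b25a1b3059a70233d38755e74588f72dd1c2f4588d8b1b33010273dd4f43176e459600020d2025c838508d221e81c9880d05c012c01a80110143e09945e2898b123014e82ff055102840e901ee8c1f0c081a242908c8317de07445430133102222483fc8854065c297858907d50c981e645a0002d0ea62d1049d03a007e01e7868d096f1b3434280a58a7111f6265025082980a660b5c5d70bd10c8c2a743de8b5619cc31286898bf416be0d3018687da17b022a03d88bed09ac36444ce009818ac09a055506050f7626482720b07031a1cf02b60ccc1a460dcc24c03fe16b8003053f02151798160839d0d7b0e8c11c03c40bbd086617a867281ab15bc24ac2fb8b091b66267c645852d157430380b403b60bf8135c3e6803f0a6e0ca86d08d4c12ae337c1b70cfd114435fc552071c166c1d80309064f0b883478342033500a2306c36e814e0bd00f141f882d9156612504e4816d1a5007485de01150fb006bc1930b1414d82488082036507bc34a855c8b2814d62b8817a87d2041817842398c960a4a2c7c1598bd20214018c0fc088c01ee29606a783cc170a27645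b6039a14f62364566096d10ce075403d00e3064229c04418ae608a61bd035a052b0d3c136016d8c310c2806946bb80ca02d4016c6ba0006161412a0446893e0fe0167c16a84d1080018fc56b0c010b3c0a1c66805f006722fa03f70677109a18886d2845c040418940ed82a2018e2394442033200d6195c64e8bc30778265c39209b4135c31705b38b991196253858f086917c80a9c1850b8b18542ff84778852044c1ca0331095e089812d42e706e009b2332004a85af00a81dc04f000fe16340138061840c1378100c14985a50cf8049438b8cdd19e4151c2eb897f12e60a08571803900941568139091b053616b812688211afa2040485856d010c26980a503d10db02b4c3828c040bba05004d88091175e0b0c1078d88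

theorem chk_o24 : embM 306936 D24.op 1080 R8.op (fld 15 32767 o24) 11
    [0, 4, 1, 27, 95, 45, 141, 126, 449] = true ∧
    [0, 4, 1, 27, 95, 45, 141, 126, 449].map (fld 15 32767 o24) =
      [9, 0, 1, 2, 3, 4, 5, 6, 12].map D24.pt := by
  decide +kernel

/-- the words of the components -/
noncomputable def cw (i : Fin 3) : List ℕ := ![[], D24.xw [5611] ++ [9], D24.xw [5611]] i

/-- the components -/
noncomputable def cp (i : Fin 3) : ℕ := appw D24.nets (cw i) (msk (fld 15 32767 o24) 1080)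

theorem chk_cp : force (cp 0) (fun x => force (cp 1) fun y => force (cp 2) fun z =>
    an (an (Nat.beq (D24.cmL [0, 102681]) (Nat.lor x (Nat.lor y z))) (an (tb y 5611) (ltA 17 (D24.xw [5611]))))
    (an (an (an (tb x 3464) (an (no (tb y 3464)) (no (tb z 3464)))) (no (tb z 5611)))
    (an (lall (fun a => an (Nat.beq (appw D24.nets [a] x) x) (an (Nat.beq (appw D24.nets [a] y) z)
      (Nat.beq (appw D24.nets [a] z) y))) [9, 0, 1, 2, 3, 4, 5, 6, 12])
    (an (Nat.beq (appw D24.nets (D24.xw [5611]) y) y) (Nat.beq (appw D24.nets (D24.xw [5611]) z) x))))) = true := by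
  decide +kernel

section

variable (M : Mod 306936 17 14 31671 D24.nets D24.T D24.pt D24.pa D24.op) {D : Set G} {p : ℕ → G}
  (R : Real 306936 D24.op D p)
include M R

theorem far_lk : p 102681 ∈ far D (p 0) := ⟨R.mem (by norm_num), fun e =>
  absurd ((M.commute_zero_iff R (by norm_num)).1 e) (by norm_num)⟩

theorem inter_lk : nb D (p 0) ∩ nb D (p 102681) = ms 306936 p (D24.cmL [0, 102681]) := by
  have hn := (far_lk M R).2
  rw [M.ms_cmL R (by simp)]
  ext z
  simp only [Set.mem_ofPred_eq, List.forall_mem_cons, Set.mem_inter_iff, mem_nb]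
  exact ⟨fun ⟨a, b⟩ => ⟨a.1, a.2.2, b.2.2, fun _ h => absurd h List.not_mem_nil⟩,
    fun ⟨a, b, e, _⟩ => ⟨⟨a, fun t => hn (t ▸ e).symm, b⟩, a, fun t => hn (t ▸ b), e⟩⟩

theorem perm3_inter : ∃ (ρ : Subgroup.closure (nb D (p 0) ∩ nb D (p 102681)) →* Equiv.Perm (Fin 3))
    (X : Set G) (h : X ⊆ nb D (p 0) ∩ nb D (p 102681)), Function.Surjective ρ ∧
      (∃ f, Real 1080 R8.op X f) ∧ ∀ g : Subgroup.closure X,
        ρ (Subgroup.inclusion (Subgroup.closure_mono h) g) 0 = 0 := by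
  obtain ⟨-, R1, h1⟩ := real_embM R R8.real R8.cov chk_o24.1
  have h2 := chk_cp
  simp only [force_eq, an_iff, no_iff, TTU.lall_iff, beq_iff, ltA_iff] at h2
  obtain ⟨⟨h2, h3, h4⟩, ⟨⟨h5, h6, h7⟩, h8⟩, h9, h10, h11⟩ := h2
  have e0 : cp 0 = msk (fld 15 32767 o24) 1080 := by
    rw [cp, show cw 0 = [] from rfl, appw_nil]
  have e2 : cp 2 = appw D24.nets (D24.xw [5611]) (msk (fld 15 32767 o24) 1080) := by
    rw [cp, show cw 2 = D24.xw [5611] by simp only [cw, Matrix.cons_val]]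
  rw [← e0] at R1 h1 e2
  clear e0
  generalize cp = cp at *
  set X : Fin 3 → Set G := fun i => ms 306936 p (cp i) with hX
  have e1 : nb D (p 0) ∩ nb D (p 102681) = X 0 ∪ (X 1 ∪ X 2) := by
    rw [inter_lk M R, h2, ms_lor R, ms_lor R]
  have m1 : p 3464 ∈ X 0 ∧ p 3464 ∉ X 1 ∧ p 3464 ∉ X 2 ∧ p 5611 ∈ X 1 ∧ p 5611 ∉ X 2 := by
    simp only [hX, R.mem_ms (show 3464 < 306936 by norm_num), R.mem_ms (show 5611 < 306936 by norm_num)]
    exact ⟨h5, h6, h7, h3, h8⟩
  have hi : Function.Injective X := by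
    have n1 : X 0 ≠ X 1 := fun e => m1.2.1 (e ▸ m1.1)
    have n2 : X 0 ≠ X 2 := fun e => m1.2.2.1 (e ▸ m1.1)
    have n3 : X 1 ≠ X 2 := fun e => m1.2.2.2.2 (e ▸ m1.2.2.2.1)
    intro i j e
    fin_cases i <;> fin_cases j
    exacts [rfl, absurd e n1, absurd e n2, absurd e.symm n1, rfl, absurd e n3, absurd e.symm n2,
      absurd e.symm n3, rfl]
  have a0 : ∀ a ∈ [9, 0, 1, 2, 3, 4, 5, 6, 12], a < 17 := by decide
  have a1 : ∀ a ∈ [9, 0, 1, 2, 3, 4, 5, 6, 12], cjs (p (D24.pt a)) (X 0) = X 0 ∧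
      cjs (p (D24.pt a)) (X 2) = X 1 ∧ cjs (p (D24.pt a)) (X 1) = X 2 := fun a ha => by
    have h := fun x => cjs_ms M R (w := [a]) (fun b hb => List.mem_singleton.1 hb ▸ a0 a ha) x
    rw [lw_singleton] at h
    exact ⟨by simpa only [(h9 a ha).1] using h (cp 0), by simpa only [(h9 a ha).2.1] using h (cp 1),
      by simpa only [(h9 a ha).2.2] using h (cp 2)⟩
  have a2 : cjs (p 5611) (X 2) = X 0 ∧ cjs (p 5611) (X 1) = X 1 ∧ cjs (p 5611) (X 0) = X 2 := by
    have h := cjs_ms M R h4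
    rw [M.lw_xw R (by simp), wd_singleton] at h
    exact ⟨by simpa only [← e2] using h (cp 0), by simpa only [h10] using h (cp 1), by simpa only [h11] using h (cp 2)⟩
  let S : Set G := insert (p 5611) {x | x ∈ [9, 0, 1, 2, 3, 4, 5, 6, 12].map fun a => p (D24.pt a)}
  have b1 : ∀ s ∈ [0, 4, 1, 27, 95, 45, 141, 126, 449], p (fld 15 32767 o24 s) ∈ S := fun s hs => by
    have h := List.mem_map_of_mem (f := fld 15 32767 o24) hs
    rw [chk_o24.2] at h
    obtain ⟨a, ha, e⟩ := List.mem_map.1 h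
    exact Or.inr (List.mem_map.2 ⟨a, ha, congrArg p e⟩)
  have b2 : X 0 ⊆ Subgroup.closure S := Subgroup.subset_closure.trans
    ((h1 _).2 fun s hs => Subgroup.subset_closure (b1 s hs))
  have b3 : ∀ s ∈ S, ∀ Y : Set G, Y ⊆ Subgroup.closure S → cjs s Y ⊆ Subgroup.closure S := by
    rintro s hs Y hY _ ⟨y, hy, rfl⟩
    exact mul_mem (mul_mem (Subgroup.subset_closure hs) (hY hy)) (inv_mem (Subgroup.subset_closure hs))
  have b4 : X 2 ⊆ Subgroup.closure S := a2.2.2 ▸ b3 _ (Or.inl rfl) _ b2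
  have b5 : X 1 ⊆ Subgroup.closure S := (a1 9 List.mem_cons_self).2.1 ▸
    b3 _ (Or.inr List.mem_cons_self) _ b4
  have b6 : Subgroup.closure (nb D (p 0) ∩ nb D (p 102681)) ≤ Subgroup.closure S := by
    rw [e1, Subgroup.closure_le]
    exact Set.union_subset b2 (Set.union_subset b5 b4)
  obtain ⟨ρ, hρ⟩ := exists_permHom hi fun g hg => perm_closure (S := S) (fun s hs => by
    rcases hs with rfl | hs
    · exact R.fs.sq (R.mem (by norm_num))
    · obtain ⟨a, ha, rfl⟩ := List.mem_map.1 hs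
      exact R.fs.sq (R.mem (M.pt_lt a (a0 a ha)))) (fun s hs i => by
    rcases hs with rfl | hs
    · fin_cases i
      exacts [⟨_, a2.2.2⟩, ⟨_, a2.2.1⟩, ⟨_, a2.1⟩]
    · obtain ⟨a, ha, rfl⟩ := List.mem_map.1 hs
      fin_cases i
      exacts [⟨_, (a1 a ha).1⟩, ⟨_, (a1 a ha).2.2⟩, ⟨_, (a1 a ha).2.1⟩]) g (b6 hg)
  refine ⟨ρ, X 0, e1 ▸ Set.subset_union_left, fun σ => ?_, ⟨_, R1⟩, fun g =>
    hi ((hρ _ 0).symm.trans (image_cj_eq R1.fs subset_rfl g.2))⟩
  let s : Subgroup.closure (nb D (p 0) ∩ nb D (p 102681)) :=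
    ⟨p 3464, Subgroup.subset_closure (e1 ▸ Or.inl m1.1)⟩
  let t : Subgroup.closure (nb D (p 0) ∩ nb D (p 102681)) :=
    ⟨p 5611, Subgroup.subset_closure (e1 ▸ Or.inr (Or.inl m1.2.2.2.1))⟩
  have := (by decide : ∀ s t σ : Equiv.Perm (Fin 3), s 0 = 0 → s 1 = 2 → t 0 = 2 → t 1 = 1 →
    1 = σ ∨ s = σ ∨ t = σ ∨ s * t = σ ∨ t * s = σ ∨ s * t * s = σ) (ρ s) (ρ t) σ
    (hi ((hρ s 0).symm.trans (a1 9 List.mem_cons_self).1))
    (hi ((hρ s 1).symm.trans (a1 9 List.mem_cons_self).2.2)) (hi ((hρ t 0).symm.trans a2.2.2))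
    (hi ((hρ t 1).symm.trans a2.2.1))
  simp only [← map_mul] at this
  rcases this with h | h | h | h | h | h
  exacts [⟨1, (map_one ρ).trans h⟩, ⟨_, h⟩, ⟨_, h⟩, ⟨_, h⟩, ⟨_, h⟩, ⟨_, h⟩]

theorem type24_of (h : Fi 3 D) : IsOfTypeM24 G D := by
  haveI := h.finite
  obtain ⟨ρ, X, hX, h1, ⟨f, R1⟩, h2⟩ := perm3_inter M R
  obtain ⟨π, hπ⟩ := exists_hom8 R1
  have h0 := R.mem M.pos
  have h3 := far_lk M R
  haveI := isSimpleGroup_POmega8
  haveI : Finite (POmega (ZMod 3) (quadFormPlus 4 (ZMod 3))) :=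
    Nat.finite_of_card_ne_zero (by rw [card_POmega8]; norm_num)
  obtain ⟨⟨e⟩, h4⟩ := ker_of_perm3 (not_comm_of_simple (by rw [card_POmega8]; norm_num))
    ((Subgroup.card_le_of_le (closure_inter_le D _ _)).trans (by
      rw [h.card_centralizer_pair h0 h3.1 h3.2, card_POmega8]; exact le_rfl)) h1
    (ι := (Subgroup.inclusion (Subgroup.closure_mono hX)).comp (Subgroup.subtype _))
    ((Subgroup.inclusion_injective (Subgroup.closure_mono hX)).comp Subtype.val_injective) (fun a => by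
      have : commutator (Subgroup.closure X) ≤
          (ρ.comp (Subgroup.inclusion (Subgroup.closure_mono hX))).ker := by
        rw [commutator_def, Subgroup.commutator_le]
        intro a _ b _
        rw [MonoidHom.mem_ker, map_commutatorElement, commutatorElement_eq_one_iff_mul_comm]
        exact (by decide : ∀ a b : Equiv.Perm (Fin 3), a 0 = 0 → b 0 = 0 → a * b = b * a) _ _
          (h2 a) (h2 b)
      exact this a.2) hπ
  exact ⟨h.cen, _, h0, _, h3.1, h3.2, type23 (fi_qt (h.is.loc h0)),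
    transport_normal (quotCenterEquiv h4) ⟨ρ.ker, ρ.normal_ker, ⟨e⟩,
      ⟨QuotientGroup.quotientKerEquivOfSurjective ρ h1⟩⟩⟩

end

end CL.FiL
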