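import Cfsg.Agent.SPOR.FiRec4

/-!
Recognition of the Fischer groups from the centralizer of a transposition, part 5:
a base of the space of `U₆(2)`, its relations, and a Sylow `2`-subgroup of a central extension.
-/

namespace CL.FiRec

open Cfsg CL.TT CL.TTU CL.TTU.U6 CL.Misc CL.K

variable {G : Type*} [Group G]

/-- the points of a base -/
def ps : List ℕ := [0, 5, 6, 23, 24, 29, 93, 113, 349, 30, 96, 116, 117, 120, 350, 355, 356, 405, 408, 417, 420]
/-- the first line -/
def ln0 : List ℕ := [0, 5, 6, 93, 96]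
/-- words, positions and masks of ten lines -/
def lines : List (List ℕ × List ℕ × ℕ) := [([], [0, 1, 2, 6, 10], 1095),
  ([19, 9], [0, 3, 4, 7, 11], 2201),
  ([351, 121], [0, 5, 9, 12, 13], 12833),
  ([489, 9], [0, 8, 18, 14, 17], 409857),
  ([499, 9], [0, 15, 19, 20, 16], 1671169),
  ([16, 7], [3, 1, 5, 15, 8], 33066),
  ([114, 31], [4, 1, 9, 16, 14], 82450),
  ([437, 7], [7, 1, 19, 17, 12], 659586),
  ([107, 98], [3, 9, 2, 17, 20], 1180172),
  ([52, 42], [12, 3, 18, 6, 16], 331848)]
/-- masks of ten lines -/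
def LM : List ℕ := [1095, 2201, 12833, 409857, 1671169, 33066, 82450, 659586, 1180172, 331848]
/-- a hyperoval -/
def HM1 : ℕ := 786955
/-- a hyperoval -/
def HM2 : ℕ := 1069067
/-- certificates -/
def cert0 : List ℕ := [0, 0, 0, 0, 0, 0, 0, 0, 0, 1400, 1, 2, 2744, 4036, 2888, 32, 3696, 3464, 1736, 1968, 2544]
/-- codes modulo the centre -/
def cs0 : List ℕ := [1, 2, 4, 8, 16, 32, 64, 128, 256, 63, 71, 153, 235, 245, 348, 298, 369, 399, 466, 486, 444]
/-- the diagonal automorphism on the base -/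
def dpos : List ℕ := [0, 1, 6, 3, 7, 5, 10, 11, 8, 12, 2, 4, 13, 9, 17, 15, 19, 18, 14, 20, 16]
/-- generators of a Sylow subgroup modulo the base -/
def gs : List (List ℕ) := [[5, 421, 613], [5, 421, 619], [0, 421, 469], [0, 421, 472], [0, 121, 205], [0, 121, 208]]
/-- action of the cosets on the base -/
def sgT : ℕ := 0x2202f94546040a11b58a3012f0a2935180e184ab3a8c03c8344394604da15952a301940c9f051811585a3228c01b8308c94603d21231aa300b00ba7451808205275a8c05c43372146051813a4aa301b30c60f51812385841a8c01a1549442203caa5b581100af54a93088081a9ab384405c94f43822051aa19521101b4521f0088125a8a320440239538c8220412a3b1a110130546740880e22987584403c5507202204d8a224a11019353a0f088113a924184405a050944ca050a223586501af13a93328121892b399401c853438ca03da239526500b4145f03280858983219403b84f8c8ca04d221b1a6501901227432811208a75994024454720ca041825a4a65013314a0f3280e389a4199403a0d39444104ca63b5820818f34693104111998b38820248d043841041a62152208134339f01040e59923208205b8d48c841051265b1a2081b034a7410412219a7588201c4cf7204103d861a4a2080b33220f10408398a418820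
/-- action of the cosets on the base -/
def sg (j t : ℕ) : ℕ := fld 5 31 sgT (Nat.add (Nat.mul 9 j) t)
/-- the cosets containing involutions -/
def invL : List ℕ := [0, 1, 2, 3, 4, 5, 6, 7, 8, 9, 10, 11, 12, 13, 14, 15, 16, 20, 24, 28, 32, 36, 40, 44, 48, 52, 56, 60]
/-- matrices and fixed points of the cosets containing involutions -/
def FL : List (ℕ × List ℕ × ℕ) := [(1, [1, 2, 4, 8, 597, 739, 512, 128, 973, 64],
    0xffff0000000000000000000000000000ffff000000000000000000000000000000000000000000000000000000000000000000000000000000000000000000000000000000000000ffff0000000000000000000000000000ffff),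
  (2, [1, 2, 4, 8, 64, 127, 16, 128, 470, 597],
    0xffff0000000000000000ffff00000000ffff0000000000000000ffff),
  (3, [1, 2, 4, 8, 512, 697, 597, 128, 798, 16],
    0xffff0000000000000000000000000000ffff000000000000000000000000000000000000000000000000000000000000000000000000000000000000000000000000ffff0000000000000000000000000000ffff),
  (4, [1, 2, 4, 8, 307, 256, 490, 128, 32, 932],
    0xffff0000000000000000000000000000ffff000000000000000000000000000000000000ffff0000000000000000000000000000ffff),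
  (5, [1, 2, 4, 8, 888, 973, 932, 128, 739, 490],
    0xffff0000000000000000000000000000ffff000000000000000000000000000000000000000000000000000000000000000000000000000000000000000000000000000000000000000000000000000000000000000000000000000000000000000000000000000000000000ffff0000000000000000000000000000ffff),
  (6, [1, 2, 4, 8, 490, 470, 307, 128, 127, 888],
    0xffff0000000000000000000000000000ffff00000000000000000000000000000000000000000000000000000000ffff0000000000000000000000000000ffff),
  (7, [1, 2, 4, 8, 932, 798, 888, 128, 697, 307],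
    0xffff0000000000000000000000000000ffff000000000000000000000000000000000000000000000000000000000000000000000000000000000000000000000000000000000000000000000000000000000000000000000000000000000000000000000000ffff0000000000000000000000000000ffff),
  (8, [1, 2, 4, 8, 32, 16, 127, 128, 307, 697],
    0xffff00000000ffff0000000000000000ffff00000000ffff),
  (9, [1, 2, 4, 8, 739, 597, 697, 128, 888, 127],
    0xffff0000000000000000000000000000ffff000000000000000000000000000000000000000000000000000000000000000000000000000000000000000000000000000000000000000000000000ffff0000000000000000000000000000ffff),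
  (10, [1, 2, 4, 8, 127, 64, 32, 128, 490, 739],
    0xffff00000000000000000000ffff0000ffff00000000000000000000ffff),
  (11, [1, 2, 4, 8, 697, 512, 739, 128, 932, 32],
    0xffff0000000000000000000000000000ffff0000000000000000000000000000000000000000000000000000000000000000000000000000000000000000000000000000ffff0000000000000000000000000000ffff),
  (12, [1, 2, 4, 8, 256, 307, 470, 128, 16, 798],
    0xffff0000000000000000000000000000ffff00000000000000000000000000000000ffff0000000000000000000000000000ffff),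
  (13, [1, 2, 4, 8, 973, 888, 798, 128, 597, 470],
    0xffff0000000000000000000000000000ffff00000000000000000000000000000000000000000000000000000000000000000000000000000000000000000000000000000000000000000000000000000000000000000000000000000000000000000000000000000000ffff0000000000000000000000000000ffff),
  (14, [1, 2, 4, 8, 470, 490, 256, 128, 64, 973],
    0xffff0000000000000000000000000000ffff00000000000000000000000000000000000000000000ffff0000000000000000000000000000ffff),
  (15, [1, 2, 4, 8, 798, 932, 973, 128, 512, 256],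
    0xffff0000000000000000000000000000ffff000000000000000000000000000000000000000000000000000000000000000000000000000000000000000000000000000000000000000000000000000000000000000000000000000000000000ffff0000000000000000000000000000ffff),
  (16, [1, 2, 143, 128, 16, 32, 490, 8, 256, 697],
    0xf000f000f000f000000000000000000000f000f000f000f00000000000000000f000f000f000f000000000000000000000f000f000f000f),
  (20, [1, 2, 143, 128, 307, 256, 64, 8, 32, 798],
    0xf0000f0000000000f0000f000000000000ff00000000000000ff000000000f0000000000f0000f0000000000f00f00000000000000ff00000000000000f),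
  (24, [1, 2, 143, 128, 32, 16, 470, 8, 307, 512],
    0xf000f0000000000000000000000000f000f000000000000000000000000f00000000000f000000000000000000000f00000000000f0000000000000000000000f000f0000000000000000000000000f000f000000000000000000000000f00000000000f000000000000000000000f00000000000f),
  (28, [1, 2, 143, 128, 256, 307, 127, 8, 16, 932],
    0xf00000000f00000000000000000000f000000000000f000000000000000000000000ff0000000000000000000000000000f0000f0000000000000000000000000000000000000000000f00f00000000000000000000000000f000000f0000000000000000000000f0000000000f000000000000000000f00000000000000f),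
  (32, [1, 2, 8, 4, 16, 32, 127, 143, 256, 798],
    0xf00ff00ff00ff00f000000000000000000000000000000000000000000000000f00ff00ff00ff00f),
  (36, [1, 2, 8, 4, 307, 256, 470, 143, 32, 697],
    0xf00f00000000000000000ff000000000000000000000000000000000f00f000000000000000000000000000000000ff0000000000000000000000000000000000000000000000ff0000000000000000000000000f00f0000000000000000000000000ff00000000000000000000000000000000000000000f00f),
  (40, [1, 2, 8, 4, 32, 16, 64, 143, 307, 932],
    0xff00ff0000000000ff00ff000000000000000000000000000000000000000000000000000000000000000000000f00f00000000f00ff00f00000000f00f),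
  (44, [1, 2, 8, 4, 256, 307, 490, 143, 16, 512],
    0xff000000000000000000000000000000000f00f000000000000000000000ff00000000000000000000000000000000000000000f00f000000000000000000000ff000000000000000000000000000000000f00f000000000000000000000ff00000000000000000000000000000000000000000f00f),
  (48, [1, 2, 128, 143, 16, 32, 470, 4, 256, 932],
    0xf000f000f000f00000000000000000000f000f000f000f000000000000000000f000f000f000f00000000000000000000f000f000f000f),
  (52, [1, 2, 128, 143, 307, 256, 127, 4, 32, 512],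
    0xf00f00000000000000000000000000000ff000000000000000000000000f000000000000f00000000000000000f00000000000000f0000000000000000000000f00f00000000000000000000000000000ff000000000000000000000000f000000000000f00000000000000000f00000000000000f),
  (56, [1, 2, 128, 143, 32, 16, 490, 4, 307, 798],
    0xf00000000000f00000000000000000000f00000000000f0000000000000000000000000f000f00000000000000000000000000f000f000000000000000000000000000000000000000000f000f00000000000000000000000000f000f0000000000000000000000000f00000000000f00000000000000000000f00000000000f),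
  (60, [1, 2, 128, 143, 256, 307, 64, 4, 16, 697],
    0xf0000f0000000000f0000f000000000f000000f00000000f000000f00000f000000000000f00f000000000000f0f00000000000000ff00000000000000f)]
/-- relations -/
def G1 : List ℕ := [2191, 4403, 25667, 819715, 3342339, 66133, 164901, 1319173, 2360345, 663697, 1573910, 2138135]
/-- certificates -/
def cert1 : List ℕ := [0, 0, 0, 0, 0, 0, 0, 0, 0, 0, 1400, 1, 2, 2744, 4036, 2888, 32, 3696, 3464, 1736, 1968, 2544]
/-- codes -/
def cs1 : List ℕ := [1, 2, 4, 8, 16, 32, 64, 128, 256, 512, 127, 143, 307, 470, 490, 697, 597, 739, 798, 932, 973, 888]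
/-- generators of the normalizer of the base -/
def NW : List (List ℕ × List ℕ) := [([31, 68, 31, 55], [1, 932, 4, 490, 16, 470, 64, 307, 739, 512]), ([421, 619, 121, 208], [1, 2, 8, 4, 64, 127, 32, 143, 470, 973])]
/-- types -/
def tyT1 : ℕ := 0xdb6dac976db6da5b36dac976da5976b36dac953da5da5db6976da5dacb36dacdb6b1adacb36db6db6da5da5b36dac976dacb1adb6dac976dacb36da5b36dacda5976da5db6db6b36b36dacda5976db6976dacdb66acb36b36db6b36da5976dacb36da5dac976db69769764e5db6b36da5db6da5dacb36976da5953db6da5b36da5dac976dacda5976b36976db6db6dac976dacda5b36dacdb6db6976da5db6953da5b36976da5dacdb6da5b36db6da5b36976dacb36976da5dacdb6dacdacb1ada5b36b36da5b366acdb6b36b36db66acb36da5b36b36da5dacdb6db6976db6b2596cdb6db696cb25db6976db6db6dac976dacdac976db6b36da5db6db6da5b36db6dac976976dacdb69769764e5b25db6db696cb25db6db696cdb6dacdacb1a976db6db6dacdacb36da5976dacda5b36976976db6db6dacdb6b25b25db6976db6db6dac976db6db6dac4e596c96cb1a4e5976976db6976da5b36dac976b36da5dacdb6dacdacb1a96cdb6db696cdb6dacdacb1adb6dacdacb1a96cb1ab1a688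
/-- witnesses -/
def witT1 : ℕ := 0x58d88290e2514e1a9ea7aaeab584c458946824e328522a1685725c928921408c199a668a228404c220523a12849aa6a505836a5a920d2150d818b22ca06810501410525a0a8218524a0e83415671898483a0e70483405437a1e870c8199264a2a8a40d417106198e6359d85410629866104c136944198a6291e47310e1518e258e09620e3588a45854592e4b30582a1a867b1ec30981688a1996658360d684a269041a8aa2a86a10541559d844146271461a8ea37b5ed6848268881a92a48320c509815058292a4a91a4640cc170ca1a96a5404c3822087b9ee704a3384c4a1e8762163388a45196238dcda2e8b515619164568ca148cc1a9aa6684a38b62d62589484c3588a4620e39ae6b584c4514e199e6758dcd518e2048129064190a427104190e43694614946259d049124470881704828ba2eaaaaa50502509014a128a328c3098130582799e6209c193a4e89224205c2189844156788e23185a588a22105c404411886217356238d4682e0b315613854481e07291633898840543a228828da19364d7a9ea40d4189625285a3105a4789e2785e103c0f6156718904185c578de3ab6ad209a1205a2791e4309019a26889a263050260d418aa2a285c3795e59b26c60543abaae28dc15a5694854448988290e348d46734e2314e149d275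25494850248901aa2a8285a2816059b66d289a1491618ae2b38d469a562389882916389e27384c5185c480e0361167189058060104010105a580a029ba6e20dc1ab2ac604c3205c38120460cc14992649963389a93854479de77adeb315614a16238ca4605429324c82a0a60941a3a8e704a2708a1495259224830d01a368d684833050381a0668c814912449d04614626906148d23714414892248521024098848294651711c488881695a5808a1804a29c270709c2890410380e705c17986259d2670dc38106168da3490618986259e060340d685a1689a279041484a2a2689715c5488a1691a47888178482abeaf7256162d8b38cc451162388c55156361d873864d78cc250923719c66a9aa93e4f9a669788c350d22888c350e02ac6b1a4290699a6729ca88cc250a035a168405ed408c5514e340cc4510e26a4e141d07521484052240921aa6a9309e1a3e8f61986305e2410e258d4571dc79a0e15864872dcb310e3588c5414e358944585e86adab69da74a0e1314e258cc4809416298a94250805429c671884c2888c14190618a248116760d831852660982105e60300c60581a4691ac2b020e22808a320a2380ca26118441505926499be6f28d22788832892378c82615854110441d24790628186140d038984140902405010200851d47385e4389046154338d0561142491415a96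a391e183e0f721c899d01606476b1ac8a6294854431261aceb3605e7731cc6a1a849d01a4a92904c4599663066430905610c330d04614c2910c1398e629242489a79ca727a5e98c230ad2b441e02a08a459565285e628a44490a328e04a10a2498a1394e5591642066620a454948320e05a148291881390e402c0b585615896238ce358d63388e2384e101c070280a50541509421052850d43185e8189a97b4a451144205e798507a4e93acab261e4149ca1314c551545286678be2f61de1485078260991c81310c4291c98b4628206130cc38a041308c2304c10180651946735cd30a4749da240a07a1c8262188290a431228820628b46128ca372441288a2284a101405391287a0626a46120c837b44120882204810100459d67188621846100c0310441008020040100000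
/-- types -/
def ty1 (k : ℕ) : ℕ := fld 3 7 tyT1 k

/-- the letters are points -/
noncomputable def okW (w : List ℕ) : Bool := lall (fun s => Nat.blt s 693) w
/-- the word fixes the generators -/
noncomputable def cenW (w : List ℕ) : Bool :=
  lall (fun g => Nat.beq (act op w g) g) [32, 6, 5, 9, 421, 29, 19]
/-- the word is central and its letters lie in a conjugate of the base -/
noncomputable def relW (x : List ℕ) : Bool :=
  an (cenW x) (lany (fun w => an (okW w) (lall (fun s => lmem (act op w s) ps) x)) [[133, 11], [429]])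
/-- check of a subnormal chain -/
noncomputable def goodOK (l : List (List ℕ)) : Bool :=
  List.rec (motive := fun _ => Bool) true (fun g l ih => an ih (an (okW g) (an (relW (g ++ g))
    (an (lall (fun p => lmem (act op g p) ps) ps)
      (lall (fun a => anyLt (fun m => relW (a.map (act op g) ++ sel l m)) (Nat.pow 2 l.length)) l))))) l

theorem chk_ps : an (okW ps) (lall (fun a => lall (fun b => com op a b) ps) ps) = true := by
  decide +kernel
theorem chk_clique : allLt (fun y => imp (lall (fun p => com op y p) ps) (lmem y ps)) 693 = true := by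
  decide +kernel
theorem chk_lines : (∀ a ∈ lines, okW a.1 = true ∧ ln0.map (act op a.1) = a.2.1.map (ps.getD · 0) ∧
    msk a.2.1 = a.2.2 ∧ ∀ i ∈ a.2.1, i < 21) ∧ lines.map (·.2.2) = LM := by
  decide +kernel
theorem chk_cen : an (cenW ln0) (an (cenW (sel (sing ps) HM1)) (cenW (sel (sing ps) HM2))) = true := by
  decide +kernel
theorem chk_dl : ps.map dl = dpos.map (ps.getD · 0) ∧ (∀ i ∈ dpos, i < 21) ∧
    lin (dpos.map (2 ^ ·)) HM1 = HM2 ∧ lin (dpos.map (2 ^ ·)) HM2 = HM1 ^^^ HM2 ^^^ lin LM 60 ∧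
    lin (dpos.map (2 ^ ·)) 1095 = 1095 := by
  decide +kernel
theorem chk_inj : allLt (fun m => imp (cenW (sel (sing ps) m)) (Nat.beq m 0)) 512 = true := by
  decide +kernel
theorem chk_cs0 : allLt (fun i => an (Nat.blt (cs0.getD i 0) 512) (Nat.beq (Nat.pow 2 i)
    (Nat.xor (cs0.getD i 0) (lin (LM ++ [HM1, HM2]) (cert0.getD i 0))))) 21 = true := by
  decide +kernel
theorem chk_good : goodOK gs = true := by decide +kernel
theorem chk_sg : allLt (fun j => allLt (fun t => an (Nat.blt (sg j t) 21)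
    (Nat.beq (act op (sel gs j) (ps.getD t 0)) (ps.getD (sg j t) 0))) 9) 64 = true := by
  decide +kernel
theorem chk_sg2 : allLt (fun i => allLt (fun j => ou (Nat.beq i j)
    (anyLt (fun t => no (Nat.beq (ps.getD (sg i t) 0) (ps.getD (sg j t) 0))) 9)) 64) 64 = true := by
  decide +kernel
theorem chk_invL : allLt (fun j => ou (lmem j invL)
    (lany (fun p => no (Nat.beq (act op (sel gs j ++ sel gs j) p) p)) ps)) 64 = true := by
  decide +kernel
theorem chk_FL : (∀ a ∈ FL, a.2.1 = 1 :: (List.range 9).map fun t => cs1.getD (sg a.1 t + 1) 0) ∧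
    0 :: FL.map (·.1) = invL := by
  decide +kernel
theorem chk_FL2 : lall (fun a : ℕ × List ℕ × ℕ => an (Nat.ble (cntB (tb a.2.2) 1024) 64)
    (allLt (fun m => imp (Nat.beq (lin a.2.1 m) m) (tb a.2.2 m)) 1024)) FL = true := by
  decide +kernel
theorem chk_FL3 : lall (fun a : ℕ × List ℕ × ℕ => lall (fun b : ℕ × List ℕ × ℕ => ou (Nat.ble a.1 b.1)
    (force (Nat.land a.2.2 b.2.2) fun M => Nat.ble (cntB (tb M) 1024) 32)) FL) FL = true := by
  decide +kernel
theorem chk_cs1 : allLt (fun i => Nat.beq (cs1.getD i 0)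
    (Nat.xor (Nat.pow 2 i) (lin G1 (cert1.getD i 0)))) cs1.length = true ∧
    G1 = LM.map (2 * · + 1) ++ [2 * HM1, 2 * HM2 + 1] ∧ (∀ c ∈ cs1, c < 2 ^ 10) ∧ cs1.Nodup := by
  decide +kernel
theorem chk_NW : ∀ a ∈ NW, okW a.1 = true ∧ ∃ p : List ℕ, (∀ i ∈ p, i < 21) ∧
    (ps.take 9).map (act op a.1) = p.map (ps.getD · 0) ∧
    a.2 = 1 :: p.map fun i => cs1.getD (i + 1) 0 := by
  intro a ha
  refine ⟨by revert a; decide +kernel, (ps.take 9).map fun x => ps.idxOf (act op a.1 x), ?_⟩
  revert a
  decide +kernel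
theorem chk_orb : CL.Orb.orb (fun j => lin (NW.getD j ([], [])).2) (fun c => c) 2 22 600
    (fun S _ => allLt (fun k => imp (Nat.beq (ty1 k) 6) (tb S k)) 1024) = true := by
  decide +kernel
theorem chk_ty1 : allLt (fun k => tyOK cs1 (ty1 k) (fld 5 31 witT1 (Nat.mul 2 k))
    (fld 5 31 witT1 (Nat.succ (Nat.mul 2 k))) k) 1024 = true := by
  decide +kernel
theorem chk_W1 : lall (fun p : ℕ × ℕ => an (Nat.blt p.2 (2 ^ 10)) (an (tb p.1 (ty1 p.2))
    (no (Nat.beq (cnt2 ty1 p.1 (2 ^ 10) 1) (cnt2 ty1 p.1 (2 ^ 10) p.2)))))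
    [(14, 2), (34, 7), (38, 7), (42, 3), (46, 3), (66, 22), (70, 2), (74, 3), (78, 2), (98, 7), (102, 7), (106, 3), (110, 3)] = true := by
  decide +kernel
theorem chk_rel1 : relOK cs1 [2190, 4402, 66132] 2138134 1 2 4 = true := by decide +kernel
theorem chk_tw93 : allLt (fun p => imp (tb TM p) (an (eqB (com op p 5) (com op p 93))
    (eqB (com op p 5) (com op p 96)))) 693 = true := by
  decide +kernel

theorem okW_iff {w : List ℕ} : okW w = true ↔ ∀ s ∈ w, s < 693 := by
  simp only [okW, lall_iff, blt_iff]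

theorem ps_lt {p : ℕ} (hp : p ∈ ps) : p < 693 := okW_iff.1 (an_iff.1 chk_ps).1 p hp

omit [Group G] in
theorem length_ps (f : ℕ → G) : (ps.map f).length = 21 := by rw [List.length_map]; rfl

theorem getD_mem {i : ℕ} (hi : i < 21) : ps.getD i 0 ∈ ps := by
  rw [List.getD_eq_getElem _ _ hi]; exact List.getElem_mem _

theorem getD_map (f : ℕ → G) {i : ℕ} (hi : i < 21) : (ps.map f).getD i 1 = f (ps.getD i 0) := by
  rw [List.getD_eq_getElem _ _ (by rw [length_ps]; exact hi), List.getD_eq_getElem _ _ hi,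
    List.getElem_map]
  rfl

theorem map_sing (f : ℕ → G) (l : List ℕ) : (sing l).map (wd f) = l.map f := by
  simp [sing, wd]

theorem okW_sel {ws : List (List ℕ)} (h : ∀ w ∈ ws, ∀ s ∈ w, s < 693) (m : ℕ) :
    ∀ s ∈ sel ws m, s < 693 := fun s hs => by
  obtain ⟨w, hw, hs⟩ := mem_sel hs
  exact h w hw s hs

theorem okW_sing : ∀ w ∈ sing ps, ∀ s ∈ w, s < 693 := by
  intro w hw s hs
  obtain ⟨p, hp, rfl⟩ := List.mem_map.1 hw
  rw [List.mem_singleton.1 hs]
  exact ps_lt hp

theorem goodOK_ok {l : List (List ℕ)} (h : goodOK l = true) : ∀ w ∈ l, ∀ s ∈ w, s < 693 := by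
  induction l with
  | nil => simp
  | cons g l ih =>
    obtain ⟨h1, h2, -⟩ : goodOK l = true ∧ okW g = true ∧ _ := by
      simpa only [goodOK, an_iff] using h
    intro w hw
    rcases List.mem_cons.1 hw with rfl | hw
    exacts [okW_iff.1 h2, ih h1 w hw]

/-- the group generated by the base -/
def BG (f : ℕ → G) : Subgroup G := Subgroup.closure {a | a ∈ ps.map f}

/-- products of points of the base -/
def J (f : ℕ → G) (m : ℕ) : G := iota (ps.map f) m

/-- the Sylow subgroup -/
def KG (f : ℕ → G) (Z : Subgroup G) : Subgroup G :=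
  BG f ⊔ Z ⊔ Subgroup.closure {a | a ∈ gs.map (wd f)}

theorem J_mem (f : ℕ → G) (m : ℕ) : J f m ∈ BG f :=
  iota_mem' (fun _ ha => Subgroup.subset_closure ha) m

theorem mem_BG (f : ℕ → G) {p : ℕ} (hp : p ∈ ps) : f p ∈ BG f :=
  Subgroup.subset_closure (List.mem_map_of_mem hp)

theorem card_eq_mul [Finite G] {M K : Subgroup G} (hMK : M ≤ K) {n : ℕ} {r : ℕ → G}
    (h1 : ∀ j < n, r j ∈ K) (h2 : ∀ x ∈ K, ∃ j < n, ∃ a ∈ M, x = r j * a)
    (h3 : ∀ i < n, ∀ j < n, (r i)⁻¹ * r j ∈ M → i = j) : Nat.card K = n * Nat.card M := by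
  let φ : Fin n × M → K := fun p => ⟨r p.1 * p.2, K.mul_mem (h1 _ p.1.2) (hMK p.2.2)⟩
  have : Function.Bijective φ := by
    constructor
    · rintro ⟨i, a⟩ ⟨j, b⟩ e
      have e' : r i * a = r j * b := congrArg Subtype.val e
      obtain rfl : i = j := Fin.ext (h3 i i.2 j j.2 (by
        rw [show (r i)⁻¹ * r j = a * (b : G)⁻¹ by
          rw [inv_mul_eq_iff_eq_mul, ← mul_assoc, e', mul_inv_cancel_right]]
        exact M.mul_mem a.2 (M.inv_mem b.2)))
      rw [Subtype.ext (mul_left_cancel e')]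
    · rintro ⟨x, hx⟩
      obtain ⟨j, hj, a, ha, rfl⟩ := h2 x hx
      exact ⟨(⟨j, hj⟩, ⟨a, ha⟩), rfl⟩
  rw [← Nat.card_eq_of_bijective φ this, Nat.card_prod, Nat.card_eq_fintype_card, Fintype.card_fin]

section

variable {X : Set G} {f : ℕ → G} (R : Real 693 op X f)
include R

theorem ci_ps : CI (ps.map f) := by
  constructor
  · intro a ha
    obtain ⟨p, hp, rfl⟩ := List.mem_map.1 ha
    exact R.fs.sq (R.mem (ps_lt hp))
  · intro a ha b hb
    obtain ⟨p, hp, rfl⟩ := List.mem_map.1 ha
    obtain ⟨q, hq, rfl⟩ := List.mem_map.1 hb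
    exact (R.commute_iff (ps_lt hp) (ps_lt hq)).2
      (lall_iff.1 (lall_iff.1 (an_iff.1 chk_ps).2 p hp) q hq)

theorem J_xor (m n : ℕ) : J f (m ^^^ n) = J f m * J f n := (ci_ps R).iota_xor m n

theorem ea_BG : EA (BG f) := ea_closure (ci_ps R).sq (ci_ps R).com

theorem BG_le : BG f ≤ Subgroup.closure X := Subgroup.closure_mono fun a ha => by
  obtain ⟨p, hp, rfl⟩ := List.mem_map.1 ha
  exact R.mem (ps_lt hp)

theorem wd_mem {w : List ℕ} (hw : ∀ s ∈ w, s < 693) : wd f w ∈ Subgroup.closure X :=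
  wd_mem_closure fun s hs => R.mem (hw s hs)

theorem mem_ps {x : G} (hx : x ∈ X) (h : ∀ p ∈ ps, Commute x (f p)) : x ∈ ps.map f := by
  obtain ⟨y, hy, rfl⟩ := R.surj hx
  exact List.mem_map_of_mem (lmem_iff.1 (imp_iff.1 (allLt_iff.1 chk_clique y hy)
    (lall_iff.2 fun p hp => (R.commute_iff hy (ps_lt hp)).1 (h p hp))))

theorem commute_wd_iff {w : List ℕ} (hw : ∀ s ∈ w, s < 693) {p : ℕ} (hp : p < 693) :
    Commute (wd f w) (f p) ↔ act op w p = p := by
  obtain ⟨h1, h2⟩ := R.act_spec hw hp
  rw [← R.eq_iff h1 hp, h2]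
  exact ⟨cj_eq_of_commute, commute_of_cj_eq⟩

theorem cenW_iff {w : List ℕ} (hw : ∀ s ∈ w, s < 693) :
    cenW w = true ↔ ∀ x ∈ X, Commute (wd f w) x := by
  have hl : ∀ s ∈ [32, 6, 5, 9, 421, 29, 19], s < 693 := by decide
  simp only [cenW, lall_iff, beq_iff]
  refine ⟨fun h x hx => ?_, fun h g hg => (commute_wd_iff R hw (hl g hg)).1 (h _ (R.mem (hl g hg)))⟩
  obtain ⟨y, hy, rfl⟩ := R.surj hx
  have hF : FS {x | x ∈ X ∧ Commute (wd f w) x} := R.fs.subset (fun _ h => h.1) fun a ha b hb =>
    ⟨R.fs.conj a ha.1 b hb.1, (ha.2.mul_right hb.2).mul_right ha.2⟩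
  have hm : ∀ s ∈ [32, 6, 5, 9, 421, 29, 19], s < 693 ∧ f s ∈ {x | x ∈ X ∧ Commute (wd f w) x} :=
    fun s hs => ⟨hl s hs, R.mem (hl s hs), (commute_wd_iff R hw (hl s hs)).2 (h s hs)⟩
  exact (R.mem_of_covers (by norm_num) c_all5 hF hm (hm 5 (by simp)).2 hy rfl).2

theorem wd_map_act {w x : List ℕ} (hw : ∀ s ∈ w, s < 693) (hx : ∀ s ∈ x, s < 693) :
    wd f (x.map (act op w)) = wd f w * wd f x * (wd f w)⁻¹ := by
  induction x with
  | nil => simp [wd]
  | cons s x ih =>
    rw [List.map_cons, wd_cons, wd_cons, cj_mul, ih fun t ht => hx t (List.mem_cons_of_mem _ ht),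
      (R.act_spec hw (hx s List.mem_cons_self)).2]

omit R in
theorem J_eq_wd (m : ℕ) : J f m = wd f (sel (sing ps) m) := by rw [wd_sel, map_sing]; rfl

theorem wd_pos {p : List ℕ} (hp : ∀ i ∈ p, i < 21) : wd f (p.map (ps.getD · 0)) = J f (msk p) := by
  rw [J, (ci_ps R).iota_msk (by rw [length_ps]; exact hp), wd, List.map_map]
  exact congrArg List.prod (List.map_congr_left fun i hi => (getD_map f (hp i hi)).symm)

theorem central_ln0 : ∀ x ∈ X, Commute (wd f ln0) x :=
  (cenW_iff R (by decide)).1 (an_iff.1 chk_cen).1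

theorem central_H1 : ∀ x ∈ X, Commute (J f HM1) x := by
  rw [J_eq_wd]
  exact (cenW_iff R (okW_sel okW_sing _)).1 (an_iff.1 (an_iff.1 chk_cen).2).1

theorem central_H2 : ∀ x ∈ X, Commute (J f HM2) x := by
  rw [J_eq_wd]
  exact (cenW_iff R (okW_sel okW_sing _)).1 (an_iff.1 (an_iff.1 chk_cen).2).2

theorem J_line {m : ℕ} (hm : m ∈ LM) : J f m = wd f ln0 := by
  rw [← chk_lines.2] at hm
  obtain ⟨a, ha, rfl⟩ := List.mem_map.1 hm
  obtain ⟨h1, h2, h3, h4⟩ := chk_lines.1 a ha
  rw [← h3, ← wd_pos R h4, ← h2, wd_map_act R (okW_iff.1 h1) (by decide)]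
  exact cj_eq_of_commute
    (TTU.commute_of_mem_closure (fun s hs => (central_ln0 R s hs).symm) (wd_mem R (okW_iff.1 h1)))

theorem J_dl (m : ℕ) : J (f ∘ dl) m = J f (lin (dpos.map (2 ^ ·)) m) := by
  rw [J, J, (ci_ps R).iota_lin, ← List.map_map, chk_dl.1, List.map_map, List.map_map]
  congr 1
  refine List.map_congr_left fun i hi => ?_
  have := chk_dl.2.1 i hi
  simp only [Function.comp]
  rw [iota_two_pow (by rw [length_ps]; exact this), getD_map f this]

theorem ln0_dl : wd (f ∘ dl) ln0 = wd f ln0 := by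
  rw [← J_line (R.comp (ma_dl R)) (m := 1095) (by decide), J_dl R, chk_dl.2.2.2.2,
    J_line R (by decide)]

theorem H1_dl : J (f ∘ dl) HM1 = J f HM2 := by rw [J_dl R, chk_dl.2.2.1]

theorem H2_dl (h : wd f ln0 * wd f ln0 = 1) : J (f ∘ dl) HM2 = J f HM1 * J f HM2 := by
  rw [J_dl R, chk_dl.2.2.2.1, J_xor R, J_xor R, J, J, J, (ci_ps R).iota_lin,
    show LM.map (iota (ps.map f)) = LM.map fun _ => wd f ln0 from
      List.map_congr_left fun m hm => J_line R hm]
  simp [LM, iota_cons, iota_nil, h]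

theorem J_eq_zero {m : ℕ} (hm : m < 512) (h : ∀ x ∈ X, Commute (J f m) x) : m = 0 := by
  rw [J_eq_wd] at h
  exact beq_iff.1 (imp_iff.1 (allLt_iff.1 chk_inj m hm) ((cenW_iff R (okW_sel okW_sing _)).2 h))

theorem exists_J {Z : Subgroup G} (hc : ∀ z ∈ Z, ∀ x ∈ X, Commute z x) (h0 : wd f ln0 ∈ Z)
    (h1 : J f HM1 ∈ Z) (h2 : J f HM2 ∈ Z) {a : G} (ha : a ∈ BG f ⊔ Z) :
    ∃ m < 512, ∃ z ∈ Z, a = J f m * z := by
  have cz : ∀ z ∈ Z, ∀ m, z * J f m = J f m * z := fun z hz m =>
    (TTU.commute_of_mem_closure (fun s hs => (hc z hz s hs).symm) (BG_le R (J_mem f m))).eq.symm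
  let M : Subgroup G :=
    { carrier := {a | ∃ m < 512, ∃ z ∈ Z, a = J f m * z}
      one_mem' := ⟨0, by norm_num, 1, Z.one_mem, by rw [J, iota_zero, one_mul]⟩
      mul_mem' := by
        rintro _ _ ⟨m, hm, z, hz, rfl⟩ ⟨n, hn, w, hw, rfl⟩
        refine ⟨m ^^^ n, Nat.xor_lt_two_pow (n := 9) hm hn, z * w, Z.mul_mem hz hw, ?_⟩
        rw [J_xor R, mul_assoc, ← mul_assoc z, cz z hz]; group
      inv_mem' := by
        rintro _ ⟨m, hm, z, hz, rfl⟩
        refine ⟨m, hm, z⁻¹, Z.inv_mem hz, ?_⟩
        rw [mul_inv_rev, inv_eq_of_mul_eq_one_right (ea_BG R _ (J_mem f m)), cz _ (Z.inv_mem hz)] }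
  have : BG f ⊔ Z ≤ M := by
    refine sup_le ((Subgroup.closure_le _).2 fun a ha => ?_) fun z hz =>
      ⟨0, by norm_num, z, hz, by rw [J, iota_zero, one_mul]⟩
    obtain ⟨i, hi, rfl⟩ := List.getElem_of_mem ha
    have hi' : i < 21 := by rw [length_ps] at hi; exact hi
    obtain ⟨e1, e2⟩ := an_iff.1 (allLt_iff.1 chk_cs0 i hi')
    refine ⟨_, blt_iff.1 e1, J f (lin (LM ++ [HM1, HM2]) (cert0.getD i 0)), ?_, ?_⟩
    · rw [J, (ci_ps R).iota_lin]
      refine iota_mem' (fun a ha => ?_) _
      obtain ⟨m, hm, rfl⟩ := List.mem_map.1 ha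
      simp only [List.mem_append, List.mem_cons, List.not_mem_nil, or_false] at hm
      rcases hm with hm | rfl | rfl
      · show J f m ∈ Z
        rw [J_line R hm]; exact h0
      exacts [h1, h2]
    · rw [← J_xor R, ← List.getD_eq_getElem _ 1 hi, ← iota_two_pow hi]
      exact congrArg _ (beq_iff.1 e2)
  exact this ha

theorem mem_of_central {Z : Subgroup G} (hc : ∀ z ∈ Z, ∀ x ∈ X, Commute z x) (h0 : wd f ln0 ∈ Z)
    (h1 : J f HM1 ∈ Z) (h2 : J f HM2 ∈ Z) {a : G} (ha : a ∈ BG f ⊔ Z)
    (h : ∀ x ∈ X, Commute a x) : a ∈ Z := by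
  obtain ⟨m, hm, z, hz, rfl⟩ := exists_J R hc h0 h1 h2 ha
  rw [J_eq_zero R hm fun x hx => by simpa using (h x hx).mul_left (hc z hz x hx).inv_left, J,
    iota_zero, one_mul]
  exact hz

theorem card_BG [Finite G] {Z : Subgroup G} (hc : ∀ z ∈ Z, ∀ x ∈ X, Commute z x)
    (h0 : wd f ln0 ∈ Z) (h1 : J f HM1 ∈ Z) (h2 : J f HM2 ∈ Z) :
    Nat.card (BG f ⊔ Z : Subgroup G) = 512 * Nat.card Z := by
  refine card_eq_mul le_sup_right (fun j _ => Subgroup.mem_sup_left (J_mem f j))
    (fun x hx => exists_J R hc h0 h1 h2 hx) fun i hi j hj h => ?_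
  rw [inv_eq_of_mul_eq_one_right (ea_BG R _ (J_mem f i)), ← J_xor R] at h
  exact Nat.eq_of_xor_eq_zero (J_eq_zero R (Nat.xor_lt_two_pow (n := 9) hi hj) (hc _ h))

theorem mem_of_relW {Z : Subgroup G} (hB : ∀ a ∈ BG f, (∀ x ∈ X, Commute a x) → a ∈ Z)
    {x : List ℕ} (hx : ∀ s ∈ x, s < 693) (h : relW x = true) : wd f x ∈ Z := by
  simp only [relW, an_iff, lany_iff, lall_iff, lmem_iff, okW_iff] at h
  obtain ⟨h1, w, -, hw, h2⟩ := h
  rw [cenW_iff R hx] at h1
  have e : wd f (x.map (act op w)) = wd f x := by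
    rw [wd_map_act R hw hx]
    exact cj_eq_of_commute
      (TTU.commute_of_mem_closure (fun s hs => (h1 s hs).symm) (wd_mem R hw))
  refine hB _ ?_ h1
  rw [← e]
  refine wd_mem_closure fun s hs => ?_
  obtain ⟨t, ht, rfl⟩ := List.mem_map.1 hs
  exact List.mem_map_of_mem (h2 t ht)

theorem good_of {Z : Subgroup G} (hc : ∀ z ∈ Z, ∀ x ∈ X, Commute z x)
    (hB : ∀ a ∈ BG f, (∀ x ∈ X, Commute a x) → a ∈ Z) {l : List (List ℕ)} (h : goodOK l = true) :
    Good (BG f ⊔ Z) (l.map (wd f)) := by
  induction l with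
  | nil => trivial
  | cons g l ih =>
    obtain ⟨h1, h2, h3, h4, h5⟩ : goodOK l = true ∧ okW g = true ∧ relW (g ++ g) = true ∧
        lall (fun p => lmem (act op g p) ps) ps = true ∧ lall (fun a => anyLt
          (fun m => relW (a.map (act op g) ++ sel l m)) (Nat.pow 2 l.length)) l = true := by
      simpa only [goodOK, an_iff] using h
    rw [okW_iff] at h2
    have hl := goodOK_ok h1
    refine ⟨ih h1, ?_, ?_, ?_⟩
    · rw [← wd_append]
      exact Subgroup.mem_sup_right (mem_of_relW R hB (by simpa [or_imp] using h2) h3)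
    · have : BG f ⊔ Z ≤ (BG f ⊔ Z).comap (MulAut.conj (wd f g)).toMonoidHom := by
        refine sup_le ((Subgroup.closure_le _).2 fun a ha => ?_) fun z hz => ?_
        · obtain ⟨p, hp, rfl⟩ := List.mem_map.1 ha
          refine Subgroup.mem_sup_left (show wd f g * f p * (wd f g)⁻¹ ∈ _ from ?_)
          rw [← (R.act_spec h2 (ps_lt hp)).2]
          exact mem_BG f (lmem_iff.1 (lall_iff.1 h4 p hp))
        · refine Subgroup.mem_sup_right (show wd f g * z * (wd f g)⁻¹ ∈ _ from ?_)
          rwa [cj_eq_of_commute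
            (TTU.commute_of_mem_closure (fun s hs => (hc z hz s hs).symm) (wd_mem R h2))]
      exact fun k hk => this hk
    · intro a' ha'
      obtain ⟨a, ha, rfl⟩ := List.mem_map.1 ha'
      obtain ⟨m, -, h6⟩ := anyLt_iff.1 (lall_iff.1 h5 a ha)
      have h7 := mem_of_relW R hB (fun s hs => by
        rcases List.mem_append.1 hs with hs | hs
        · obtain ⟨t, ht, rfl⟩ := List.mem_map.1 hs
          exact (R.act_spec h2 (hl a ha t ht)).1
        · exact okW_sel hl m s hs) h6
      rw [wd_append, wd_map_act R h2 (hl a ha), wd_sel] at h7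
      have h8 : iota (l.map (wd f)) m ∈ BG f ⊔ Z ⊔ Subgroup.closure {a | a ∈ l.map (wd f)} :=
        Subgroup.mem_sup_right (iota_mem' (fun _ ha => Subgroup.subset_closure ha) m)
      exact (Subgroup.mul_mem_cancel_right _ h8).1
        (Subgroup.mem_sup_left (Subgroup.mem_sup_right h7))

theorem exists_coset {Z : Subgroup G} (hc : ∀ z ∈ Z, ∀ x ∈ X, Commute z x)
    (hB : ∀ a ∈ BG f, (∀ x ∈ X, Commute a x) → a ∈ Z) {x : G} (hx : x ∈ KG f Z) :
    ∃ j < 64, ∃ a ∈ BG f ⊔ Z, x = wd f (sel gs j) * a := by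
  obtain ⟨j, hj, a, ha, e⟩ := (good_of R hc hB chk_good).exists_eq hx
  exact ⟨j, hj, a, ha, by rw [wd_sel]; exact e⟩

theorem commute_BG {Z : Subgroup G} (hc : ∀ z ∈ Z, ∀ x ∈ X, Commute z x) {a : G}
    (ha : a ∈ BG f ⊔ Z) {p : ℕ} (hp : p ∈ ps) : Commute a (f p) := by
  have : BG f ⊔ Z ≤ Subgroup.centralizer {f p} :=
    sup_le (fun a ha => Subgroup.mem_centralizer_singleton_iff.2
      ((ea_BG R).commute ha (mem_BG f hp))) fun z hz =>
        Subgroup.mem_centralizer_singleton_iff.2 (hc z hz _ (R.mem (ps_lt hp)))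
  exact Subgroup.mem_centralizer_singleton_iff.1 (this ha)

theorem cj_coset {j t : ℕ} (hj : j < 64) (ht : t < 9) : sg j t < 21 ∧
    wd f (sel gs j) * f (ps.getD t 0) * (wd f (sel gs j))⁻¹ = f (ps.getD (sg j t) 0) := by
  obtain ⟨h1, h2⟩ := an_iff.1 (allLt_iff.1 (allLt_iff.1 chk_sg j hj) t ht)
  refine ⟨blt_iff.1 h1, ?_⟩
  rw [← (R.act_spec (okW_sel (goodOK_ok chk_good) j) (ps_lt (getD_mem (by omega)))).2, beq_iff.1 h2]

theorem coset_inj {i j : ℕ} (hi : i < 64) (hj : j < 64)
    (h : ∀ p ∈ ps, Commute ((wd f (sel gs i))⁻¹ * wd f (sel gs j)) (f p)) : i = j := by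
  rcases ou_iff.1 (allLt_iff.1 (allLt_iff.1 chk_sg2 i hi) j hj) with h1 | h1
  · exact beq_iff.1 h1
  obtain ⟨t, ht, h2⟩ := anyLt_iff.1 h1
  rw [no_iff, beq_iff] at h2
  obtain ⟨a1, a2⟩ := cj_coset R hi ht
  obtain ⟨b1, b2⟩ := cj_coset R hj ht
  refine absurd (R.inj (ps_lt (getD_mem a1)) (ps_lt (getD_mem b1)) ?_) h2
  rw [← a2, ← b2]
  conv_lhs => rw [← cj_eq_of_commute (h _ (getD_mem (by omega : t < 21)))]
  group

omit R in
theorem wd_sel_mem (Z : Subgroup G) (j : ℕ) : wd f (sel gs j) ∈ KG f Z := by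
  rw [wd_sel]
  exact Subgroup.mem_sup_right (iota_mem' (fun _ ha => Subgroup.subset_closure ha) j)

theorem card_KG [Finite G] {Z : Subgroup G} (hc : ∀ z ∈ Z, ∀ x ∈ X, Commute z x)
    (h0 : wd f ln0 ∈ Z) (h1 : J f HM1 ∈ Z) (h2 : J f HM2 ∈ Z) :
    Nat.card (KG f Z) = 2 ^ 15 * Nat.card Z := by
  rw [card_eq_mul (K := KG f Z) (M := BG f ⊔ Z) le_sup_left (fun j _ => wd_sel_mem Z j)
    (fun x hx => exists_coset R hc
      (fun a ha => mem_of_central R hc h0 h1 h2 (Subgroup.mem_sup_left ha)) hx)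
    fun i hi j hj h => coset_inj R hi hj fun p hp => commute_BG R hc h hp,
    card_BG R hc h0 h1 h2]
  ring

theorem KG_le {Z H : Subgroup G} (hX : X ⊆ H) (hZ : Z ≤ H) : KG f Z ≤ H := by
  have h1 : Subgroup.closure X ≤ H := (Subgroup.closure_le _).2 hX
  refine sup_le (sup_le ((BG_le R).trans h1) hZ) ((Subgroup.closure_le _).2 fun a ha => ?_)
  obtain ⟨w, hw, rfl⟩ := List.mem_map.1 ha
  exact h1 (wd_mem R (goodOK_ok chk_good w hw))

theorem odd_relIndex [Finite G] {Z H : Subgroup G} (hX : X ⊆ H) (hZ : Z ≤ H)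
    (hc : ∀ z ∈ Z, ∀ x ∈ X, Commute z x) (h0 : wd f ln0 ∈ Z) (h1 : J f HM1 ∈ Z)
    (h2 : J f HM2 ∈ Z) (hH : Nat.card H = Nat.card Z * 9196830720) :
    Odd ((KG f Z).relIndex H) := by
  have := Subgroup.relIndex_mul_relIndex ⊥ (KG f Z) H bot_le (KG_le R hX hZ)
  rw [Subgroup.relIndex_bot_left, Subgroup.relIndex_bot_left, card_KG R hc h0 h1 h2, hH] at this
  have hp : 0 < Nat.card Z := Nat.card_pos
  have : (KG f Z).relIndex H = 280665 := by
    refine Nat.eq_of_mul_eq_mul_left (Nat.mul_pos (by norm_num : 0 < 2 ^ 15) hp) ?_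
    rw [this]; ring
  rw [this]; decide

/-- The splitting criterion. -/
theorem exists_split [Finite G] {Z₀ Z H : Subgroup G} (hX : X ⊆ H) (hZ : Z ≤ H)
    (hc : ∀ z ∈ Z, ∀ g ∈ H, Commute z g) (hI : Idx2 Z₀ Z) (h0 : wd f ln0 ∈ Z₀) (h1 : J f HM1 ∈ Z₀)
    (h2 : J f HM2 ∈ Z₀) (hH : Nat.card H = Nat.card Z * 9196830720) :
    ∃ K, Idx2 K H ∧ ∀ z ∈ Z, (z ∈ K ↔ z ∈ Z₀) := by
  have hc' : ∀ z ∈ Z, ∀ x ∈ X, Commute z x := fun z hz x hx => hc z hz x (hX hx)
  have hc₀ : ∀ z ∈ Z₀, ∀ x ∈ X, Commute z x := fun z hz => hc' z (hI.le hz)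
  have hZK : ∀ z ∈ Z, z ∈ KG f Z₀ → z ∈ Z₀ := by
    intro z hz hK
    obtain ⟨j, hj, a, ha, e⟩ := exists_coset R hc₀
      (fun a ha => mem_of_central R hc₀ h0 h1 h2 (Subgroup.mem_sup_left ha)) hK
    obtain rfl : 0 = j := coset_inj R (by norm_num) hj fun p hp => by
      rw [wd_sel f gs 0, iota_zero, inv_one, one_mul, ← mul_inv_eq_iff_eq_mul.2 e]
      exact (hc' z hz _ (R.mem (ps_lt hp))).mul_left (commute_BG R hc₀ ha hp).inv_left
    rw [wd_sel, iota_zero, one_mul] at e
    exact mem_of_central R hc₀ h0 h1 h2 (e ▸ ha) (hc' z hz)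
  have hle : KG f Z₀ ≤ KG f Z := sup_le_sup_right (sup_le_sup_left hI.le _) _
  have hdec : ∀ x ∈ KG f Z, ∃ k ∈ KG f Z₀, ∃ z ∈ Z, x = k * z := by
    intro x hx
    obtain ⟨j, -, a, ha, rfl⟩ := exists_coset R hc' (fun a ha =>
      mem_of_central R hc' (hI.le h0) (hI.le h1) (hI.le h2) (Subgroup.mem_sup_left ha)) hx
    obtain ⟨m, -, z, hz, rfl⟩ := exists_J R hc' (hI.le h0) (hI.le h1) (hI.le h2) ha
    exact ⟨_, mul_mem (wd_sel_mem Z₀ j) (Subgroup.mem_sup_left (Subgroup.mem_sup_left (J_mem f m))),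
      z, hz, (mul_assoc _ _ _).symm⟩
  have hI' : Idx2 (KG f Z₀) (KG f Z) := by
    refine ⟨hle, fun a ha b hb na nb => ?_⟩
    obtain ⟨k, hk, z, hz, rfl⟩ := hdec a ha
    obtain ⟨l, hl, w, hw, rfl⟩ := hdec b hb
    have up : ∀ z ∈ Z₀, z ∈ KG f Z₀ := fun z hz => Subgroup.mem_sup_left (Subgroup.mem_sup_right hz)
    have := hI.mul z hz w hw (fun h => na (mul_mem hk (up z h))) (fun h => nb (mul_mem hl (up w h)))
    rw [mul_assoc, ← mul_assoc z, (hc z hz l (KG_le R hX hZ (hle hl))).eq, mul_assoc]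
    exact mul_mem hk (mul_mem hl (up _ this))
  obtain ⟨K, hK, h⟩ := exists_idx2 (KG_le R hX hZ)
    (odd_relIndex R hX hZ hc' (hI.le h0) (hI.le h1) (hI.le h2) hH) hI'
  refine ⟨K, hK, fun z hz => ?_⟩
  rw [h z (Subgroup.mem_sup_left (Subgroup.mem_sup_right hz)) (hc z hz)]
  exact ⟨hZK z hz, fun h => Subgroup.mem_sup_left (Subgroup.mem_sup_right h)⟩

end

end CL.FiRec
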