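import Cfsg.Agent.SPOR.FiRec7

/-!
Recognition of the Fischer groups from the centralizer of a transposition, part 8:
the local data when the centralizer is a double cover of a group of type `M(22)`.
-/

namespace CL.FiRec

open Cfsg CL.TT CL.TTU CL.TTU.U6 CL.Misc CL.K CL.FiA

variable {G Q : Type*} [Group G] [Group Q]

/-- relations -/
def G2 (β : ℕ) : List ℕ :=
  LM.map (fun m => 2 * (2 * m + 1) + 1) ++ [2 * (2 * HM1) + 1, 2 * (2 * HM2 + 1) + β]
/-- codes -/
def cs2 (β : ℕ) : List ℕ := [[1, 2, 4, 8, 16, 32, 64, 128, 256, 512, 1024, 254, 287, 615, 941, 980, 1394, 1195, 1479, 1596, 1865, 1946, 1777],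
  [1, 2, 4, 8, 16, 32, 64, 128, 256, 512, 1024, 254, 287, 615, 940, 981, 1395, 1195, 1478, 1597, 1865, 1946, 1776]].getD β []
/-- types -/
def tyT2 (β : ℕ) : ℕ := [0xdb6db6db6da5b36db6db6db6db6b36dacdb6db6da5976db6db6b36976db6da5db6db6dacb366acdb6b36db6b36db6db6976db6db6b36db6da5dacdb6db6da5db6db6da5953db6da5dacdb6db6db6db6db6db6976db6b36da5db6db6da5b36db6db6da5da5953db6db6db6da5976db6db6da5dacdb6db6b36dacdb6db6da5db6976b36db6db6b36db6db6db6db6da5db6dacdb6db6da5db6b36976db6db6db6b36db6db6da5db6db6b1adacdacdb6dacdb6db6db6dacdb6db6976976db6db6dacda5db6db6b36db6dac976db6db6db6976db6976db64e5976db6db6dacdb6db6976db6db6db6b36db6da5dacdb6976db6db6b36b366acdb6db6db6b36dacdb6db6b36db6da5976db6db6da5db6b36b36db6da5db6976db6db6db6db6db6db6dacb36db6db6da5db6976dacdb6db6dacdb6db6db6db6976db6db6976db6db69764e5db6976da5db6b36db6db6976db6dacdb6db6db6b36da5db6db6db6db6976da5db6b36db6db6dacdacdb6976db6db6976db6dacdb6db6db6dacdb6dacdacb1adb6976dacdb6da5db6db6b36dacdb6b1adac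db6db6dacdb6da5db6db6db6953da5da5db6db6b36dacdb6da5db6db6976db6dacdb6db6db6db6976db6db6db6dac976b36da5db6db6db6db6b36da5da5b36db6db6976db6db6db6db6db6db6dacb36db6db6da5db6dac976db6db6db6dacdb6db6976db6db6db6db6db6b36da5db6db6db6db6da5976db6b36db6db6dacdb6db6976db6976db64e5976da5b36db6db6db6db6976dacdac976db6db6db6db6976dacdb6db6db6dacdb6dacdacb1ab36db6db6db6db6db6db6da5db6da5dacdb6db6b36976db6db6dacdb6976da5db6b36db6976db6db6db6db6db6db6dacdb6db6da5b36dac976db6db6976db6db6db6db6db6db6dac976db6db6db6db6db6db6dac4e5976976dac976dacdacb1a6acb36b36db6b36db6db6db6b36db6db6976da5db6db6dacb36db6da5db6db6976db6dacdb6db6db6dacdb6dacdacb1ab36da5db6db6db6db6976dacdb6db6db6dacdb6dacdacb1adb6db6db6dacdb6dacdacb1a976dacdacb1adacb1ab1a688,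
  0xdb6db6db6dac976db6db6db6db6b36da5db6db6da5b36db6db6b36976db6dacdb6db6da5b366acdb6b36db6b36db6db6b36db6db6976db6da5dacdb6db6da5db6db6da5953db6da5da5db6db6db6db6db6db6b36db6b36dacdb6db6da5976db6db6dacdacb1adb6db6db6dac976db6db6dacdacdb6db6976da5db6db6dacdb6976b36db6db6b36db6db6db6db6da5db6da5db6db6dacdb6b36976db6db6db6b36db6db6da5db6db6953da5da5db6da5db6db6db6da5db6db6976b36db6db6dacda5db6db6976db6dacb36db6db6db6b36db6b36db66acb36db6db6dacdb6db6976db6db6db6b36db6da5da5db6b36db6db69769764e5db6db6db6976dacdb6db6976db6da5b36db6db6dacdb6976b36db6da5db6976db6db6db6db6db6db6dacb36db6db6dacdb6976da5db6db6da5db6db6db6db6b36db6db6976db6db69764e5db6976dacdb6976db6db6976db6dacdb6db6db6976dacdb6db6db6db6b36da5db6976db6db6dacda5db6b36db6db6976db6dacdb6db6db6dacdb6dacdacb1adb6976da5db6dacdb6db6b36da5db6953da5db6db6da5db6dacdb6db6db6b1adacdacdb6db6b36da5db6dacdb6db6976db6dacdb6db6db6db6976db6db6db6da5b36b36da5db6db6db6db6b36da5dac976db6db6976db6db6db6db6db6db6dacb36db6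db6dacdb6da5976db6db6db6da5db6db6b36db6db6db6db6db6976dacdb6db6db6db6da5b36db6976db6db6dacdb6db6976db6976db64e5976dac976db6db6db6db6976dacda5b36db6db6db6db6976dacdb6db6db6dacdb6dacdacb1ab36db6db6db6db6db6db6da5db6dacda5db6db6976b36db6db6da5db6b36dacdb6976db6976db6db6db6db6db6db6dacdb6db6dac976da5b36db6db6976db6db6db6db6db6db6dac976db6db6db6db6db6db6dac4e5976976dac976dacdacb1a6acb36b36db6b36db6db6db6b36db6db6976da5db6db6dacb36db6da5db6db6976db6dacdb6db6db6dacdb6dacdacb1ab36da5db6db6db6db6976dacdb6db6db6dacdb6dacdacb1adb6db6db6dacdb6dacdacb1a976dacdacb1adacb1ab1a688].getD β 0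
/-- witnesses -/
def witT2 (β : ℕ) : ℕ := [0x8bcf6612ad4d2509c955316c81c5cba2cd3736c813d45b203049c16402c805980b31ca359818357660a872cde9924b660e7185567abdd48aac8249a68391530a6c5bd43054c0a9a87254c19248f5040f501ea8b59530ec82bd429247661687145a8a1c35310143828704920926490bd44924535a2871c1cca2c75289ca24d07054a0a960f654a105160a2e8b0c589a2c5528ec8349a4728366180e501ca8a515291ca149a3a2c907a1ca1c9a29b0f2684126824d05440a8ad28d441002a005415082a1a2cb518a0d3bd4605460a8e6e4d4619bdb5209ca2c16905480a928735481924d171eac45a93b415520e2f5c9a5045e08be2f0cd068bc5048e852358a8bc7048a4e6556404120826c83c1218bc9661e8515563a143272014282856a91558415582ab9b0d0492851d5628bcb26ae84159c9a10353981420284b56746220d33d4772d50496841ce51a0833828141028205020a0400a0014924f171a8315565a0c367b414182838bcd34041340268b39b53964b4cd02a2cf692a0d2cd039b09049ab1551eeaca146a5ca3cd049b06f5aa862da309b051716cf4d56604d809b26c0c9a76293538a0d1cd05054e0a9e86254e183431710106820d93d1538e0d1598bb2d1170e86149eca183539014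30286045c08ba0d245c19b0b170a861a928838ab526c314ce6b0c347b416182c3b083594416102c205820b0400b0016ad2766224f5c5a58a4d271ec41d60a6a8f079ac4151c9b103359416202c4041c083a0e0c5a48385541ac51c9898387461ec513d48b143359016282c583891684116822d7b15358e883c5a29251358aac345a304d609aec524d619359338413382678a495416c61cce2a2d10792c614ce3b182e62816302c68a45078dca44ce4045208a6290d18b041e083eac2c1e18a47078ac6249a8838d540a8f4cce505500aa1ab555019c5566a6ac249cb93cf540ec62d230b2cf492aac1c5a68a4b541272859eeab03079415602aca39b359aac129278bd133041330266ab172712c71ccc26a894616c714cc3b1c304a016382c76a87270a0c4ccc4049c093a882c9c1035406a9aa0d5686a85270ec7245ec838f460eb254cc59b5368aa88241eb05180a322b4d18193cd460ac72d5cdb2cd57a688145a7a203271414402886a8b46126f75a50ac61359e881a92604c209840098013a41531041310262ab933184131826393cb16aec734c62b2cb320413202648a4f271aaf6cc826a8d079e928cc839b116ad20e5a925b2c93284132826593c7541e2e64ca293c5461a0d44ca3049e093e4f0a92405960b2ecb0cca4b2c506b28832923b2c717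22ac3a92293c8a4840a48149ab42b52015682ada399038ead14de49149038aad1c586040e081ec9440e191476626ad24de28a0d3784137826f048a0916450d1c8914503918b54de3910749c6ad2d9c7b3d7549a305498804880912440bd49910503966e351ab0486090e430c16690c4e6aa893cde50024004812082410484090a420dab1b4e127baad345838a0954964b3da8aa2d31604116022c7b55039a6e2c5828a05469dca4c165045008a2280cde6918b59aacf3c5848a07672eb4849a9628f548a8f4416405520aa66e1d521918966a26e145859b83548c137026e91870584105820b8a0b5492cd64162048c091a460c163918547b26e229078bd3018aad3d9c50406080e4b340610404080a93540410020004010082019b97469a0c44a2ab555020e892cde791cb020acf35569040808122e6c081628d670416702ce9b51028e89259c291c9028a2b459c3040a0816af640a191c757a289159c4a243162c1448289048e091e470cdac91c50292891a906628b46924b14d2892c3030c125824bab91030acf24587040c081a4b1c0c1051a0a36cf1d1a18a0f468a4b255ccb3c3468c16782cf9b130312cf12905031406298a0d9c66285549e4b2c5ed628737ae0d4d692b52303166e3a90462894696b38c16783dd69ca893290391cd1726cf2a902ab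56a4040a4014802d405aaad42d418988b50ac91c9859bd8b50ec9151c4b243041c16482c98984b5120c3d1c3044c089a260cde8920b4704147028e898756b2c9251c28392b5168f349829b4f2604126024c9209669a2b3d670ad1517bac92c9839207579ed3545a9898b6a42ae5c98404900922480d1c5920535a60f6a8e68904b51a8f2cd2704480892240c1cdab8f66965054588890749cac9355eb0444088a220dab200220044110822188c507a66d5d1c60446088e230a8e5a3c3668c147828f894954a28f14986059a0b368f1d9a18317668a6e428e4894537328f24168044a0896250a8e3920d6692ac4a8e28946a3840a38147b524b51e0c24d269b4b040dee55691ab8d040a2b2c9ed04100822c93c10183035794106020c89cd27260c159ab6a9369c60c1d1c7a3d70412b3928c59b4557922b1d9c804da09b66d0c9878ac34624115822b9b4704162b128c4055e0abe0c2d5e19b49578a89428c3920f578e2b228c2b398a3040a30146ab873484134826989c967b24b44d22055c0abaae0cd23ab85041a8d628a489c546a20c34d24044e089e270a8a3ab89262ecf428a289c6a2840a28145629128c28f3cd259b4d472ed582883ab8b669e2b3288293d2a2040a20144b2d3579a4e6a86289caa1840a18143a4e0a1040a101420282050400500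0a9c84b4a1c623ca304e409ca720b587ac18f2840f281e59c874892ca43ca2718366280e301c69c89488dc6156086a0f4889c61bca405220a458b4d221b51af1840f181e39c8b551a304bc6203c20784007800f72cef1040f101e2ac57381dc62bc837b10e6a68a3da4b9292f2040f201e4b40d4896b36bc82710318340e201c49c8d5515c415a89a2d5691dc41bcc57b52e622b13ce0b03820704007000e7082f59c0e101c270c359a40e181c3b40b4899c3149aa624f5509c523cc305540aa9ab455419c50f3040f301e6b409550e9263cc2714349200e281c5b4075511c514e2cb404d62dc51bcc405a00b42d00a5078bd55a3ad05b5829c8ed6040d601ac6a09691a934bce572cb0526b1335836a073815c734a29b552f59a8a2b584035006a1a80d56a6a05489e507da6e624d3812b243ce372c768a28a2358572c4f3840f381e70396072dcb0bce204e009c28a14e01a2833808145028a6a0b380ed163ce472c959328a1a506624b690dc724d48a410f592b11b58605a40b4ab115a41ac43690815882b171c2f5880e381c703d607adc713d616a0d6911c71d20c9b14f58eb12250503120625890d22b6245551ed37ca0e624769160d53ce672cd49b6b12a50462493819c72daad945af5968a32503ad1f172a725a502b40e9404094012802d205a69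162d219c90b48aca1d60469c8b48eca13d05b282e61816502ca69c6b491c8356027b0b580415802b0034e069da70ce4c69c548a2ca256038394b496b23bd037b09689dab3526e9c4cf4040f401e8ad132836ca2bd027b05491ad34c5aa03d807b1ec0d60569cb6aba905bd047b0735aa51724e6b55eb499c824d47a40ee60dab2ca2f9c4ae60a504d68d03980732ca33981720349140e401c88a9369b5c81560669cd07a9c81da2bac96e612937a4e59c474911ab15a0c6ac355200d581ab04e209c6710bd069c44e615ab1a4e405240a49c82d2417b0d4909ab224e39c49490eac524e2b410938409381276906b49eb22cd46a40d6895ee4b58803480691a40c60e690559beca3d24b0346068da30da8f68c5272a715d607001a00340d081a103440689a20a4c5ac83688815902b205a20b46b215a216949462ab21bd0772d1688e70624c469473822b22398b7b0f68928a424c3034a0695a50a4c2694493040930126a4053504135026a05200a42900cd4269896921ec5cd43a406e61eb1424a4698758b1c83cd44a408f5a2d2624a3034c0699a60a4a26984928409281256250f736b234d45a40b6899ab3a4839c4f582ed47248293d492040920124b2d5491e307a462acdc91840918123698a9104091012202420484004800902d005a2ad52d019c92b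40a302da86b45cb40e933bd257b4d051d8b2564ea41eb411c934a27b54ee6958b1cdea928b59998b15a0d62c348a40c5818b61ccb4163013d238c02e69011802309288f4840f481e9ad1169b2301bd229286e68ad34568c039a073630239a10494092a4a0bd249284e68d8b2a0e661cab419c925a827b476a0416a02d47b455992504458a03da07b5ed0da837243598c0e481c98a912831c915a8405660acdc91d6617b4959898b320e5030e061d870ce4d61c555263035a8561c7483ad55bd267b4b28ae6e520e461c968bdc92c16aa4d6e69ab27a0e3928d5996916a0e2b41283840838107618ab41e931ca24b549050dee43589a4c3050814982930414082a9314141b5452884128825105aa0b56d50ca226a50f7329324a23b54705118b3a0c5030c0619860d9ca6185493e303d66b618758b6932bd2772d30516d26a0c461893825ed5ca25b54ae69e8a4a0c3928f6a2eb0720c29c5e83040830106030a0615850d60f614538ba4b55a876147692693339ab7b4f051ab14a0a4614946a9c93ca26b54cf5a6706a0a38c17599ecf520a2a49c82840828105001800300c0818103040609820a0830306060d830a08260c48204082010403080611840a0626104818408181036106810408101020202040400400080016002c0b0816102c40589ee3ac410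2c6058e5032c61ad0ab18aca4ce2d02c80592d32ac818a8cb20a926d6096a4eb20eb17d1ca9c1d693d8b41cc502ca0596d322ca1ad06b28a304498aad04b28dcd63d2805680ad2b409cc4b4c2b29016982d37b12e6a2d311cc392911832d319cc2ad08730407300e602cc059a501acc18a88b30ab365a889402b30c12802507b50e6265011ca48a84b311c943dac045408aa2a09ca3b51959a25021ca28a86728407280e5620eb3168f5562eb49d383dab49c839c5366aa5029c82ad0c720407200e4ac1b4926d331c628a8a718407180e37b96710407100e201c20384003800702ce059dee12ce17b82b3880f701ee6a48b38e9345aac94590521ee198a46a46b3920c54a28b55149b1ee218a3035206a5a9098a26a44628406280c5620cb396b24d20d9b5568a5ee29883b41f393a2b51882ad0e620406200c4a45d57aad3398629416618406180c36a4a610406100c2018203040030006620ab39ad16cd49a4135935ee31483ab9548be5039482b4d6520405200a49c9f683ab4594628a8e518405180a36a4c510405100a201420284002800503100621880906262044184041808362064104041008201020204002000462083104031006200c201840018003008201040010002000200040000000,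
  0xb309179ead4d2509c9553162e5d903a2cd3735ea2d902824f640416402c805980b32cc0b946b30506ae872cde9b30724967185567abdd48aa4d3590483915309ea1cd8b054c0a9a87254c17a8324900f501ea8b59530dea15905b30b248e87145a8a1c35310143828704920925ea249219ad1248a871c1cca2c7528a683b944054a0a960f654a105160a2e8b0c589a2c5528e4d25906b30ce5040e501ca8a5152924d1b942a2c907a24d139439343361c126824d05440a8ad28d441002a005415082a1a2cb5189ea341a705460a8e6e4d4619bdb520a0b4b94505480a9287354818b8f249aac45a93b415520e4d2c5eb045e08be68345e18247178a852358a8245178e4e6556404120826090d907b30f17928515563a143272014282856a91558415582ab8249361a851d5629357179684159c9a10353981420284b5674621ea3c1a6824ae5aa841ce51a0833828141028205020a0400a00148b8d249e8315565a0c367b414182839a0317981340268b39b53966814969a2cf692a681c1a5824d3612b1551eeaca146a668239477ad5360e862da308b8b360acf4d56604d809b24d3cd816293538a682c1a3054e0a9e86254e18b890684106820d93d1538ecc5c1a28b8765a286149eca18353901430286045c08ba2e0c1a48b853616861a928838ab5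266735862a3db618416182c3aca3610416102c205820b0400b0016b3115a4e4f5c5a58a4d271eb0558836a8f079a8e4d8829acb620416202c4041c083a0e0c5a48385541a4c4d8a38387461dea458a29ac9628416282c583891684116822d9ac6f62a883c5a29ac524a2ac345a304d609ae6b0d8a499c326b013382678a49541667158c3a2d10792671d8c27315630416302c68a45078e6723948045208a6290d18b041e083eac2c1e18a47078a4d458c4838d540a672d1e905500aa1ab55501b35338aaac249cb93cf540e91858c5a495659eac1c5a68a4b5412cf74e50ab03079415602ac9acd4736ac12927998317a01330266ab17271266158e36a894616661d8e28251638416382c76a87270a6624189049c093a882c9c1035406a9aa0d5686a85270e2f658e4838f460e662d64ab45536a688241eb05180a322b4d18193cd460aae6d8e5abd3659a88145a7a203271414402886a8b4612d284dee9acf58c2881a92604c20984009801398834828131026298c35724131826393cb16ae63158e69903659413202648a4f271a64155ed6a8d079e641d251b56936220e5a92599436590132826593c7541e65145cc93c5461a651c1a8049e093e4f0a92405960b2e65259618359658a88329238b91658eac3a92293c8a4840a48149ab42b52015682ad81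c74732ad14de481c52292ad1c586040e081e070d928b313228ead24de28a0d3784137826f048a09168e448a181c922898b54de3a4e3220ead2d9c7b3d7549a4c4460a04880911ea4c88181cb220a6e351ab0486090e0b348617355218a893cde50024004812082410484090ad58c84193dd69c2ad345838a095496d454967a2d31604116022c81ccf6aa6e2c5828a05469e0b2b949045008a2280cde6acd52316cf3c5848a07672e4d4d690628f548a0b251e805520aa66e1d521b35123126e145859b83548c137026e82c3230c105820b8a0b54920b159ac048c091a0b1c8c1a3d9230a6e2290780c517a6ad3d9c50406080e030c9660404080a020d26a0020004010082019b97469a515418881076aaa892cde781052396cf3556904080812040c5cd628d670416702ce814736a289259c2814523922b459c3040a0816050d5ecabd1238e89159c4a243162c1448289048e091e6d648e18149238a891a906628b4692694496281872584125824b81855722cf24587040c081a060c963051a0a36cf1d1a18a0f468aae64964b3c3468c16782cf81893626cf12905031406298a0d9c66285549e2f6c965628737aeb4941a9818b6a466e3a904628946960b3d671b4e507ba89329038b93239acf2a902ab56a4040a4014802d405aaad42d418988b50a4c2d9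239bd8b50e8e25922820f648416482c98984b5128e1c187044c089a260cde8a3832414147028e898756b28e159248392b5164c151e69303369c126024cb34d24122b3d670ad1517ba4c1d925abcf240ed3545a9898b6a424c255cb049009228e2c9019ad3240a0f6a8e68904b51a693d1e504480892240c1cdb34b571e5054588890749caaf5d9260444088a220dab200220044110822188c507a68e34dab0446088e230a8e5b3474784147828f894954a24c351e2059a0b36cd0d1e3b345062e6e428e4894537320b451e4044a0896250a8e3b349241aac4a8e28946a3840a38147b524b51e693418482073695ee556918205571a2b2c9ed04100822080d927abcb0604106020c89cd2726cd5c1826a9369c68e3c183820947aeb3928c5abc9368a2b1d9c804da09b64c3cda18ac34624115822b820b368e2b128c4055e0abeaf0c185abc5369289428c3abc7241e2b228c2b398a3040a301469a43570c134826989c967b26914968055c0aba691d5c1820d570a8d628a489c546a26924186044e089e270a8a393175712cf428a289c6a2840a28145629128c2692d1e7a397369ad582883b34f57162b3288293d2a2040a20144abcd65a64e6a86289caa1840a18143a4e0a1040a1014202820504005000a9c84b4a1e51b8c404e409ca720b587794358300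f281e59c874891e515948b314e3040e301c69c89488eb0438c26a0f4889e5238c305220a458b4d22178c36a340f181e39c8b5519e31460903c20784007800f7882e59c0f101e2ac57381de41b8c57352f6228a3da4b790325240f201e4b40d4895e41566d8c1ae2040e201c49c8d5516d44b882a2d5691de62b8837310f6a6b13ce0b03820704007000e7acee1040e101c2acd2e1840e181c3b40b489a4d53862624f5509e61b8a405540aa9ab45541798338a00f301e6b409550de61524ca490e2840e281c5b407551271638a2b404d62de6238a305a00b42d00a507ad1d17aad05b5829c8ed6040d601ac6a096919e72d2698292e596b1335836a073816514b8e67acd6aa68a2b584035006a1a80d56a6a05489ed374a0f624d3811e71d648b450e58e8a2358579c2e5880f381e70396072de71396104e009c28a14e01a2833808145028a6a0b380de725a2cac98e5928a1a506624b690e6a438e47ac94822b11b58605a40b4ab115a41ac43690815882b17ac4e3840e381c703d607adeb0b8e26a0d691290638e37ac7362ab12250503120625890d22b6245551e5075a6f62476915e7341aaa4dae59ab12a5046249381ad56b8e57acb28b68a325038b955a3e725a502b40e9404094012802d205a69162d219c90b48ab02594369c8b48de82d942730d6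50416502ca69c6b492b013906ac02f61415802b0034e069da70ce4c69c548a2b01d9448394b495e81d647b44ef611ab3526e7a0338980f401e8ad132835e815945a48cf60ad34c5aa03d807b2b02bd8169cb6ab9e82520b9ad4f60e51724e6b55eb49a6a3b9047307481dab2ca2f73053896504d68d03980731cc0d946a48ae4040e401c88a9369b6b03390269cd07aad15b9037309592e937a4e5a489388dab15a0c6ac355200d581ab04e209c5e834e21730b3889ab1a4e405240a4a920b905a484f619ab224e3a4873892ac524e2b410938409381276906b49e6a35645b44b4819ee4b58803480691a40c60e690559be925d9470346068da30da8f68c5272ab03ce2b001a00340d081a103440689a20a4c5b445590415902b205a20b46d10d64269494629e83d643b446e5a270624c469473821cc5d644b448f61e8a424c3034a0695a50a4c26944930409301269a834808135026a05200a426a15201698969226a1bd8b730f480eb1424a4698758b26a239077ad14812d2624a3034c0699a60a4a26984928409281256250f7366a2d646b44d4815ab3a483ac17389ed47248293d492040920124a48f65aa307a462acdc91840918123698a9104091012202420484004800902d005a2ad52d019c92b40ad434605b45cb40de92d267828ef6998b2564ea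41eb412513b926734b6a9d8b1cdeaaccd25158b15a0d62c348a40c5818b61ccb415e91c6027349180411802307a4325100f481e9ad1169b1e9146037345250ed34568c039a0735cd0c60404940929e924941734725098b2a0e661cab41ad413924b502f68c16a02d4acc8f68a504458a03da07b6d41bda1acc6e4840e481c98a912832d42392205660aceb30b923acc4f6918b320e5030e061d870ce4d61c55526d42c60661c74839e935aab9456f6966e520e461c968be0b53925734d49aeb27a0e3accb251a916a0e2b41283840838107618ab41e512526382876a91ee435898285498414982930414082a0a0d26294436a88128825105aa0b565115aa16a50f732511d26482896a8d8b3a0c5030c0619860d9ca6185493eb35c607618758b5e93d265828ae5a6d26a0c461893826512bdab734f6a968a4a0c3b517251eb0720c29c5e83040830106030a0615850d60f614538bad43c96a61476925cd5d266828cf69eb14a0a4614946aa51339277ad36a9a706a0a3accf182ecf520a2a49c82840828105001800300c0818103040609820a0830306060d830a08260c48204082010403080611840a0626104818408181036106810408101020202040400400080016002c0b0816102c40589ee3ac4102c6058e5032c61ad0ab18a716d94902c80592d32a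c818a8cb20ab04d24d6a4eb20e8e5562fb49f38398b41cc502ca0596d322ca1ad06b28a4c54608ad04b28de9439ac05680ad2b409cc4b4c2b29016982d37350f626d311cc38c192522d319cc2ad08730407300e602cc059a501acc18a88b30ad44566c9402b30c12802507312f6a25011ca48a84b311ed63928045408aa2a09ca3acd16a325021ca28a86728407280e5620eb316b1751ea9c1f6939ab49c83b35538a65029c82ad0c720407200e4a4935836d331c628a8a718407180e37b96710407100e201c20384003800702ce059dee12ce17b82b3880f701ee6a48b38ed565268829128b1ee198a46a46b392514418aa4d96aa1ee218a3035206a5a9098a26a44628406280c5620cb396906d649b45336a9ee298839c9d683e2b51882ad0e620406200c4abd548bad3398629416618406180c36a4a610406100c2018203040030006620ab39a6a4da2dac9b4825ee31483a45f572a5039482b4d6520405200a4b41d393eb4594628a8e518405180a36a4c510405100a201420284002800503100621880906262044184041808362064104041008201020204002000462083104031006200c201840018003008201040010002000200040000000].getD β 0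
/-- types -/
def ty2 (β k : ℕ) : ℕ := fld 3 7 (tyT2 β) k
/-- witnesses -/
def wit2 (β k j : ℕ) : ℕ := fld 5 31 (witT2 β) (Nat.add (Nat.mul 3 k) j)

theorem chk_cs2 : ∀ β < 2, allLt (fun i => Nat.beq ((cs2 β).getD i 0)
    (Nat.xor (Nat.pow 2 i) (lin (G2 β) ((0 :: cert1).getD i 0)))) (cs2 β).length = true ∧
    (∀ c ∈ cs2 β, c < 2 ^ 11) ∧ (cs2 β).Nodup ∧ (cs2 β).length = 23 := by
  decide +kernel
theorem chk_ty2' : allLt (fun β => allLt2 (fun k => force k fun k => an
    (tyOK (cs2 β) (ty2 β k) (wit2 β k 0) (wit2 β k 1) k)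
    (imp (Nat.beq (ty2 β k) 6) (force (wit2 β k 0) fun i => force (wit2 β k 1) fun j =>
      force (wit2 β k 2) fun l => an (an (an (Nat.blt 0 i) (Nat.blt i j)) (an (Nat.blt j l)
        (Nat.blt l 23))) (Nat.beq k (Nat.xor (Nat.xor ((cs2 β).getD i 0) ((cs2 β).getD j 0))
          ((cs2 β).getD l 0)))))) 32 64) 2 = true := by
  decide +kernel
theorem chk_W2 : allLt (fun β => lall (fun p : ℕ × ℕ => an (Nat.blt p.2 (2 ^ 11))
    (an (tb p.1 (ty2 β p.2))
    (no (Nat.beq (cnt2 (ty2 β) p.1 (2 ^ 11) 1) (cnt2 (ty2 β) p.1 (2 ^ 11) p.2)))))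
    [(14, 2), (34, 7), (38, 7), (42, 7), (46, 7), (66, 14), (70, 2), (74, 3), (78, 2), (98, 7), (102, 7), (106, 7), (110, 7)]) 2 = true := by
  decide +kernel
theorem chk_rel2 : allLt (fun β => relOK (cs2 β) [4382, 8806, 132266, 3147820] 4382 1 2 3) 2 = true := by
  decide +kernel
theorem chk_fr2 : frB 693 op [6, 0, 5, 23, 117, 350, 420] = true ∧
    frB 693 op [0, 5, 23, 30, 408, 417] = true := by
  decide +kernel

theorem hex_const {X : Set G} (h : Is22 X) {l₀ l₁ m₀ m₁ : List G} (hl : Fr X (l₀ ++ l₁))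
    (hm : Fr X (m₀ ++ m₁)) (e₀ : l₀.length = 3) (e₁ : l₁.length = 3) (e₂ : m₀.length = 3)
    (e₃ : m₁.length = 3) (p : Eqv X (l₀ ++ l₁).prod 1) (q : Eqv X (m₀ ++ m₁).prod 1) :
    (m₀ ++ m₁).prod = (l₀ ++ l₁).prod := by
  obtain ⟨g, hg, e⟩ := T22.tf3 h l₀ m₀ hl.left hm.left e₀ e₂
  have c : Commute g (l₀ ++ l₁).prod :=
    TTU.commute_of_mem_closure (fun s hs => (eqv_one_iff.1 p s hs).symm) hg
  have h1 := hl.cj (nm_of_mem_closure h.fs subset_rfl hg)
  have h2 := prod_map_cj g (l₀ ++ l₁)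
  rw [List.map_append, e] at h1 h2
  rw [cj_eq_of_commute c] at h2
  have h3 := T22.perm_of_disjoint h h1 hm e₂ (by simp [e₁]) e₃.le
    ((h1.eqv_append h.fs).1 (h2 ▸ p)) ((hm.eqv_append h.fs).1 q)
  rw [← h2, List.prod_append, List.prod_append, h1.right.prod_perm h3]

theorem J_H2 (f : ℕ → G) : J f HM2 = [f 0, f 5, f 23, f 117, f 350, f 420].prod := by
  simp [J, ps, HM2, iota_cons, iota_nil]

theorem J_H1 (f : ℕ → G) : J f HM1 = [f 0, f 5, f 23, f 30, f 408, f 417].prod := by
  simp [J, ps, HM1, iota_cons, iota_nil]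

theorem M1.liftHyp [Finite Q] {d : Q} {X : Set Q} {f : ℕ → Q} (M : M1 d X f) :
    LiftHyp (conjugatesOf d) := by
  have h1 : Fr (conjugatesOf d) [d, f 6, f 0, f 5, f 23, f 117, f 350, f 420] :=
    fr_cons.2 ⟨self_mem_cls d, M.loc.nb_eq ▸ (fr_of_frB M.l1.R chk_fr2.1).2⟩
  have h2 := fr_cons.1 (h1.perm (.swap _ _ _))
  refine liftHyp_of M.gp M.is22.n4 (T22.tf2 M.is22) h2.1 h2.2 ⟨3, rfl⟩ ?_
  rw [List.prod_cons, ← J_H2, M.l1.h2, M.l1.sq]
  exact Eqv.refl _ _

/-- The homomorphism of a central extension. -/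
def CE.hom {d : G} {ρ : G → Q} (h : CE d ρ) {F : Subgroup G} (hF : ∀ g ∈ F, Commute g d) :
    F →* Q where
  toFun g := ρ g
  map_one' := h.one
  map_mul' a b := h.mul a b (hF a a.2) (hF b b.2)

theorem CE.card_le [Finite G] {d : G} {ρ : G → Q} (h : CE d ρ) {F : Subgroup G}
    (hF : ∀ g ∈ F, Commute g d) : Nat.card F ≤ Nat.card (h.hom hF).range * 2 := by
  rw [Subgroup.card_eq_card_quotient_mul_card_subgroup (h.hom hF).ker,
    Nat.card_congr (QuotientGroup.quotientKerEquivRange _).toEquiv]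
  refine Nat.mul_le_mul_left _ ?_
  have : ({1, d} : Set G).ncard = 2 := Set.ncard_pair h.ne.symm
  rw [← this, ← Nat.card_coe_set_eq]
  exact Nat.card_le_card_of_injective (fun x => ⟨x.1, (h.ker _ (hF _ x.1.2)).1 x.2⟩)
    fun x y e => Subtype.ext (Subtype.ext (Subtype.mk.inj e))

theorem CE.card_eq [Finite G] {d : G} {ρ : G → Q} (h : CE d ρ) {F : Subgroup G}
    (hF : ∀ g ∈ F, Commute g d) (hd : d ∈ F) : Nat.card F = Nat.card (h.hom hF).range * 2 := by
  rw [Subgroup.card_eq_card_quotient_mul_card_subgroup (h.hom hF).ker,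
    Nat.card_congr (QuotientGroup.quotientKerEquivRange _).toEquiv]
  congr 1
  have : ({1, d} : Set G).ncard = 2 := Set.ncard_pair h.ne.symm
  rw [← this, ← Nat.card_coe_set_eq]
  refine Nat.card_eq_of_bijective (fun x => ⟨x.1, (h.ker _ (hF _ x.1.2)).1 x.2⟩)
    ⟨fun x y e => Subtype.ext (Subtype.ext (Subtype.mk.inj e)), ?_⟩
  rintro ⟨_, rfl | rfl⟩
  exacts [⟨1, rfl⟩, ⟨⟨⟨_, hd⟩, h.self⟩, rfl⟩]

/-- the group generated by the base -/
def A2 (d a : G) (F : ℕ → G) : Subgroup G := Subgroup.closure {x | x ∈ d :: a :: ps.map F}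

/-- A lifted frame. -/
structure LF (d : G) (ρ : G → Q) (d' : Q) (X' : Set Q) (f : ℕ → Q) (X : Set G) (a : G)
    (F : ℕ → G) : Prop where
  ce : CE d ρ
  m1 : M1 d' X' f
  lift : Lift d ρ (conjugatesOf d') X
  mem : a ∈ X
  R : Real 693 op (nb X a) F
  ea : ρ a = d'
  eF : ∀ i < 693, ρ (F i) = f i

theorem exists_LF {d : G} {ρ : G → Q} {d' : Q} {X' : Set Q} {f : ℕ → Q} {X : Set G} (h : CE d ρ)
    (M : M1 d' X' f) (L : Lift d ρ (conjugatesOf d') X) : ∃ a F, LF d ρ d' X' f X a F := by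
  obtain ⟨ψ, hψ, -, e⟩ := L.iso.exists_symm L.fs
  have h1 := hψ.nb M.gp.fs L.fs (self_mem_cls d')
  rw [M.loc.nb_eq] at h1
  exact ⟨ψ d', ψ ∘ f, h, M, L, hψ.mem (self_mem_cls d'), M.l1.R.map h1 (L.fs.nb _),
    e _ (self_mem_cls d'), fun i hi => e _ (M.loc.memD (M.l1.R.mem hi))⟩

namespace LF

variable {d : G} {ρ : G → Q} {d' : Q} {X' : Set Q} {f : ℕ → Q} {X : Set G} {a : G} {F : ℕ → G}
  (L : LF d ρ d' X' f X a F)
include L

theorem is22 : Is22 X := by
  obtain ⟨ψ, hψ, -⟩ := L.lift.iso.exists_symm L.lift.fs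
  exact L.m1.is22.map hψ L.lift.fs

theorem memX {x : G} (hx : x ∈ a :: ps.map F) : x ∈ X := by
  rcases List.mem_cons.1 hx with rfl | hx
  · exact L.mem
  · obtain ⟨p, hp, rfl⟩ := List.mem_map.1 hx
    exact (L.R.mem (ps_lt hp)).1

theorem com {x : G} (hx : x ∈ a :: ps.map F) : Commute x d := L.lift.com x (L.memX hx)

theorem map : (a :: ps.map F).map ρ = d' :: ps.map f := by
  rw [List.map_cons, L.ea, List.map_map]
  exact congrArg _ (List.map_congr_left fun p hp => L.eF p (ps_lt hp))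

theorem rho_iota (m : ℕ) : ρ (iota (a :: ps.map F) m) = iota (d' :: ps.map f) m := by
  rw [L.ce.iota fun _ => L.com, L.map]

theorem commute_iota (m : ℕ) : Commute (iota (a :: ps.map F) m) d :=
  (FiRec.commute_iota (fun _ hx => (L.com hx).symm) m).symm

theorem iota_or {m : ℕ} (h : iota (d' :: ps.map f) m = 1) :
    iota (a :: ps.map F) m = 1 ∨ iota (a :: ps.map F) m = d :=
  (L.ce.ker _ (L.commute_iota m)).1 ((L.rho_iota m).trans h)

theorem eqv_of {u : G} (h : u = 1 ∨ u = d) : Eqv X u 1 := by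
  refine eqv_one_iff.2 fun x hx => ?_
  rcases h with rfl | rfl
  exacts [Commute.one_left _, (L.lift.com x hx).symm]

theorem or_ln : a * wd F ln0 = 1 ∨ a * wd F ln0 = d := by
  have := L.iota_or (m := 2 * 1095 + 1) (by
    rw [iota_odd]
    exact (congrArg _ ((J_line L.m1.l1.R (by decide)).trans L.m1.l1.ln)).trans L.m1.l1.sq)
  rwa [iota_odd, show iota (ps.map F) 1095 = _ from J_line L.R (by decide)] at this

theorem or_H2 : a * J F HM2 = 1 ∨ a * J F HM2 = d := by
  have := L.iota_or (m := 2 * HM2 + 1) (by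
    rw [iota_odd]
    exact (congrArg _ L.m1.l1.h2).trans L.m1.l1.sq)
  rwa [iota_odd] at this

theorem H1_eq : J F HM1 = a * wd F ln0 := by
  have := L.iota_or (m := 2 * HM1) (by rw [iota_even]; exact L.m1.l1.h1)
  rw [iota_even] at this
  rw [J_H1]
  exact hex_const L.is22 (l₀ := [a, F 0, F 5]) (l₁ := [F 6, F 93, F 96]) (m₀ := [F 0, F 5, F 23])
    (m₁ := [F 30, F 408, F 417]) (fr_cons.2 ⟨L.mem, line_fr L.R⟩)
    ((fr_of_frB L.R chk_fr2.2).2.mono (nb_subset _ _)) rfl rfl rfl rfl (L.eqv_of L.or_ln)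
    (L.eqv_of (J_H1 F ▸ this))

variable [Finite Q]

theorem swap : LF d ρ d' X' f ((fun x => x * d) '' X) (a * d) fun i => F i * d := by
  have L' := L.lift.swap L.ce L.m1.liftHyp
  refine ⟨L.ce, L.m1, L', ⟨a, L.mem, rfl⟩,
    L.R.map ((isoOn_mul L.ce.sq L.lift.com).nb L.lift.fs L'.fs L.mem) (L'.fs.nb _), ?_,
    fun i hi => ?_⟩
  · rw [L.ce.mul_d (L.lift.com a L.mem), L.ea]
  · rw [L.ce.mul_d (L.lift.com _ (L.R.mem hi).1), L.eF i hi]

omit [Finite Q] in
theorem swap_ln : a * d * wd (fun i => F i * d) ln0 = a * wd F ln0 := by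
  have c : ∀ x ∈ nb X a, Commute x d := fun x hx => L.lift.com x hx.1
  rw [ln_mul L.R L.ce.sq c, mul_assoc, ← mul_assoc d,
    ← (TTU.commute_of_mem_closure c (wd_mem L.R (w := ln0) (by decide))).eq, mul_assoc, L.ce.sq,
    mul_one]

omit [Finite Q] in
theorem swap_H2 : a * d * J (fun i => F i * d) HM2 = a * J F HM2 * d := by
  have c : ∀ x ∈ nb X a, Commute x d := fun x hx => L.lift.com x hx.1
  rw [H2_mul L.R L.ce.sq c, mul_assoc, mul_assoc,
    (TTU.commute_of_mem_closure c (BG_le L.R (J_mem F HM2))).eq]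

variable [Finite G]

theorem not_split (hp : Group.IsPerfect (Subgroup.centralizer ({d} : Set G)))
    (h0 : a * wd F ln0 = 1) (h2 : a * J F HM2 = 1) : False := by
  have H := L.m1.liftHyp
  have sa := L.lift.fs.sq L.mem
  have ad := L.lift.com a L.mem
  have e0 : wd F ln0 = a := by rw [← inv_eq_of_mul_eq_one_right h0, inv_eq_of_mul_eq_one_right sa]
  have e2 : J F HM2 = a := by rw [← inv_eq_of_mul_eq_one_right h2, inv_eq_of_mul_eq_one_right sa]
  have mH : ∀ {g}, g ∈ Subgroup.centralizer {d} ⊓ Subgroup.centralizer {a} ↔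
      Commute g d ∧ Commute g a := by
    intro g
    rw [Subgroup.mem_inf, Subgroup.mem_centralizer_singleton_iff,
      Subgroup.mem_centralizer_singleton_iff]
    rfl
  have ca : ∀ z ∈ Subgroup.zpowers a, Commute d z := by
    rintro _ ⟨k, rfl⟩; exact ad.symm.zpow_right k
  have two : ∀ z ∈ Subgroup.zpowers a, z = 1 ∨ z = a := fun z hz => by
    simpa [mul_eq_one_iff_eq_inv, inv_eq_of_mul_eq_one_right sa] using
      mem_or_mul_mem (F := ⊥) sa (by simp) (by rwa [bot_sup_eq])
  have nd : d ∉ Subgroup.zpowers a := fun h => (two d h).elim L.ce.ne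
    fun e => L.lift.d_not_mem L.ce H (e ▸ L.mem)
  have hZ : Subgroup.zpowers a ⊔ Subgroup.zpowers d ≤
      Subgroup.centralizer {d} ⊓ Subgroup.centralizer {a} :=
    sup_le (Subgroup.zpowers_le.2 (mH.2 ⟨ad, Commute.refl _⟩))
      (Subgroup.zpowers_le.2 (mH.2 ⟨Commute.refl _, ad.symm⟩))
  have card : ∀ K : Subgroup G, (hK : K ≤ Subgroup.centralizer {d} ⊓ Subgroup.centralizer {a}) →
      d ∈ K → ∀ K' : Subgroup Q, (∀ g ∈ K, ρ g ∈ K') → (∀ q ∈ K', ∃ g ∈ K, ρ g = q) →
      Nat.card K = Nat.card K' * 2 := by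
    intro K hK hd K' h1 h2
    rw [L.ce.card_eq (fun g hg => (mH.1 (hK hg)).1) hd]
    congr 3
    ext q
    exact ⟨fun ⟨g, e⟩ => e ▸ h1 g g.2, fun hq => let ⟨g, hg, e⟩ := h2 q hq; ⟨⟨g, hg⟩, e⟩⟩
  obtain ⟨K, hK, hz⟩ := exists_split L.R (Z₀ := Subgroup.zpowers a)
    (Z := Subgroup.zpowers a ⊔ Subgroup.zpowers d)
    (H := Subgroup.centralizer {d} ⊓ Subgroup.centralizer {a})
    (fun x hx => mH.2 ⟨L.lift.com x hx.1, hx.2.2.symm⟩) hZ
    (fun z hz g hg => by
      have : Subgroup.zpowers a ⊔ Subgroup.zpowers d ≤ Subgroup.centralizer {g} :=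
        sup_le (Subgroup.zpowers_le.2 (Subgroup.mem_centralizer_singleton_iff.2 (mH.1 hg).2.symm))
          (Subgroup.zpowers_le.2 (Subgroup.mem_centralizer_singleton_iff.2 (mH.1 hg).1.symm))
      exact Subgroup.mem_centralizer_singleton_iff.1 (this hz))
    ⟨le_sup_left, fun g hg k hk n1 n2 => by
      have := mul_mem ((mem_or_mul_mem L.ce.sq ca hg).resolve_left n1)
        ((mem_or_mul_mem L.ce.sq ca hk).resolve_left n2)
      rwa [mul_assoc, ← mul_assoc d, ← (mH.1 (hZ hk)).1.eq, mul_assoc k, L.ce.sq, mul_one] at this⟩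
    (e0 ▸ Subgroup.mem_zpowers _) (by rw [L.H1_eq, h0]; exact one_mem _)
    (e2 ▸ Subgroup.mem_zpowers _) (by
      rw [card _ le_rfl (mH.2 ⟨Commute.refl _, ad.symm⟩) (Subgroup.centralizer {d'}) ?_ ?_,
        card _ hZ (Subgroup.mem_sup_right (Subgroup.mem_zpowers _)) (Subgroup.zpowers d') ?_ ?_,
        L.m1.l1.card, L.m1.l1.card_zpowers]
      · intro g hg
        have h1 : ∀ z ∈ Subgroup.zpowers a, ρ z ∈ Subgroup.zpowers d' := fun z hz => by
          rcases two z hz with rfl | rfl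
          exacts [L.ce.one ▸ one_mem _, L.ea ▸ Subgroup.mem_zpowers _]
        rcases mem_or_mul_mem L.ce.sq ca hg with h | h
        exacts [h1 g h, L.ce.mul_d (mH.1 (hZ hg)).1 ▸ h1 _ h]
      · rintro _ ⟨k, rfl⟩
        obtain ⟨n, e⟩ := (mem_powers_iff_mem_zpowers (x := d')).2 ⟨k, rfl⟩
        exact ⟨a ^ n, Subgroup.mem_sup_left (pow_mem (Subgroup.mem_zpowers _) n),
          by rw [L.ce.pow ad, L.ea]; exact e⟩
      · intro g hg
        refine Subgroup.mem_centralizer_singleton_iff.2 ?_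
        rw [← L.ea, ← L.ce.mul _ _ (mH.1 hg).1 ad, ← L.ce.mul _ _ ad (mH.1 hg).1, (mH.1 hg).2.eq]
      · intro q hq
        obtain ⟨g, hg, rfl⟩ := L.ce.surj q
        exact ⟨g, mH.2 ⟨hg, L.ce.commute_of_commute H ad (L.ea ▸ self_mem_cls _) hg
          (L.ea ▸ Subgroup.mem_centralizer_singleton_iff.1 hq)⟩, rfl⟩)
  have aK : a ∈ K := (hz a (Subgroup.mem_sup_left (Subgroup.mem_zpowers _))).2 (Subgroup.mem_zpowers _)
  have mX : ∀ y ∈ nb X a, y ∈ Subgroup.centralizer {d} ⊓ Subgroup.centralizer {a} :=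
    fun x hx => mH.2 ⟨L.lift.com x hx.1, hx.2.2.symm⟩
  have iff : ∀ y ∈ nb X a, ∀ z ∈ nb X a, y ∈ K ↔ z ∈ K := fun y hy z hz => by
    obtain ⟨g, hg, rfl⟩ := Is21.transOn ⟨F, L.R⟩ y hy z hz
    exact (hK.cj_mem_iff ((Subgroup.closure_le _).2 mX hg) (mX y hy)).symm
  have nK : ∀ y ∈ nb X a, y ∈ K := by
    intro y hy
    by_contra hn
    have m : ∀ i < 693, F i ∉ K := fun i hi h => hn ((iff _ (L.R.mem hi) y hy).1 h)
    have m' := fun i (hi : i < 693) => mX _ (L.R.mem hi)
    rw [← e0] at aK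
    simp only [ln0, wd, List.map_cons, List.map_nil, List.prod_cons, List.prod_nil, mul_one] at aK
    rw [← mul_assoc, ← mul_assoc (F 6), ← mul_assoc] at aK
    exact m 96 (by norm_num) ((Subgroup.mul_mem_cancel_left _ (mul_mem
      (hK.mul _ (m' 0 (by norm_num)) _ (m' 5 (by norm_num)) (m 0 (by norm_num)) (m 5 (by norm_num)))
      (hK.mul _ (m' 6 (by norm_num)) _ (m' 93 (by norm_num)) (m 6 (by norm_num))
        (m 93 (by norm_num))))).1 aK)
  have := L.lift.fs.mem_cgen (Z := ∅) L.is22.n4 (by simp) (by simp) L.mem (g := d)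
    (by rw [Set.union_empty]; exact L.lift.gen L.ce H hp (Commute.refl d)) ad.symm
  refine nd ((hz d (Subgroup.mem_sup_right (Subgroup.mem_zpowers _))).1
    ((Subgroup.closure_le K).2 ?_ this))
  rintro y ((⟨hy, c⟩ | hy) | ⟨hy, c, h3⟩)
  · by_cases e : y = a
    exacts [e ▸ aK, nK y ⟨hy, e, c⟩]
  · exact hy.elim
  · rw [Set.union_empty] at hy
    exact hK.mem_of_cube (mH.2 ⟨TTU.commute_of_mem_closure L.lift.com hy, c⟩) h3

theorem ln_eq (hp : Group.IsPerfect (Subgroup.centralizer ({d} : Set G))) : a * wd F ln0 = d := by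
  refine L.or_ln.resolve_left fun h0 => ?_
  rcases L.or_H2 with h2 | h2
  · exact L.not_split hp h0 h2
  · exact L.swap.not_split hp (L.swap_ln.trans h0) (by rw [L.swap_H2, h2, L.ce.sq])

omit [Finite G] [Finite Q] in
theorem ci : CI (d :: a :: ps.map F) := by
  have c : ∀ x ∈ a :: ps.map F, ∀ y ∈ a :: ps.map F, Commute x y := by
    have hd : ∀ x ∈ ps.map F, Commute a x := fun x hx => by
      obtain ⟨p, hp, rfl⟩ := List.mem_map.1 hx
      exact (L.R.mem (ps_lt hp)).2.2
    intro x hx y hy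
    rcases List.mem_cons.1 hx with h | h <;> rcases List.mem_cons.1 hy with h' | h'
    exacts [h ▸ h' ▸ Commute.refl _, h ▸ hd _ h', h' ▸ (hd _ h).symm, (ci_ps L.R).com x h y h']
  constructor
  · intro x hx
    rcases List.mem_cons.1 hx with rfl | hx
    exacts [L.ce.sq, L.lift.fs.sq (L.memX hx)]
  · intro x hx y hy
    rcases List.mem_cons.1 hx with h | h <;> rcases List.mem_cons.1 hy with h' | h'
    exacts [h ▸ h' ▸ Commute.refl _, h ▸ (L.com h').symm, h' ▸ L.com h, c x h y h']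

theorem exists_co (hp : Group.IsPerfect (Subgroup.centralizer ({d} : Set G))) :
    ∃ β < 2, Co (d :: a :: ps.map F) 11 (cs2 β) (A2 d a F) := by
  obtain ⟨β, hβ, e⟩ : ∃ β < 2, iota (d :: a :: ps.map F) (2 * (2 * HM2 + 1) + β) = 1 := by
    rcases L.or_H2 with h | h
    · exact ⟨0, by norm_num, by rw [add_zero, iota_even, iota_odd]; exact h⟩
    · exact ⟨1, by norm_num, by
        rw [iota_odd, iota_odd]; exact (congrArg _ h).trans L.ce.sq⟩
  obtain ⟨h1, h2, -, h3⟩ := chk_cs2 β hβ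
  refine ⟨β, hβ, L.ci, L.ci.map_of_rel (fun g hg => ?_)
    (by rw [h3, List.length_cons, List.length_cons, length_ps]) h1, h2, fun k hk h => ?_, rfl⟩
  · simp only [G2, List.mem_append, List.mem_map, List.mem_cons, List.not_mem_nil, or_false] at hg
    rcases hg with ⟨m, hm, rfl⟩ | rfl | rfl
    · rw [iota_odd, iota_odd, show iota (ps.map F) m = _ from J_line L.R hm, L.ln_eq hp, L.ce.sq]
    · rw [iota_odd, iota_even, show iota (ps.map F) HM1 = _ from L.H1_eq, L.ln_eq hp, L.ce.sq]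
    · exact e
  · obtain ⟨m, rfl | rfl⟩ := Nat.even_or_odd' k
    · rw [iota_even] at h
      rw [L.m1.l1.co.inj m (by omega) (by rw [← L.rho_iota, h, L.ce.one])]
    · rw [iota_odd, mul_eq_one_iff_inv_eq, inv_eq_of_mul_eq_one_right L.ce.sq] at h
      obtain rfl := L.m1.l1.co.inj m (by omega) (by rw [← L.rho_iota, ← h, L.ce.self])
      rw [iota_zero] at h
      exact absurd h L.ce.ne

variable {β : ℕ} (C : Co (d :: a :: ps.map F) 11 (cs2 β) (A2 d a F))
include C

omit [Finite G] [Finite Q] in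
theorem mem_iff {g : G} (hg : Commute g d) : g ∈ A2 d a F ↔ ρ g ∈ A1 d' f := by
  constructor
  · intro h
    obtain ⟨k, -, rfl⟩ := C.surj h
    obtain ⟨m, rfl | rfl⟩ := Nat.even_or_odd' k
    · rw [iota_even, L.rho_iota]; exact L.m1.l1.co.mem m
    · rw [iota_odd, ← (L.commute_iota m).eq, L.ce.mul_d (L.commute_iota m), L.rho_iota]
      exact L.m1.l1.co.mem m
  · intro h
    obtain ⟨k, -, e⟩ := L.m1.l1.co.surj h
    have h1 : iota (a :: ps.map F) k ∈ A2 d a F := iota_even d _ k ▸ C.mem _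
    rcases L.ce.eq_or hg (L.commute_iota k) (e.symm.trans (L.rho_iota k).symm) with rfl | rfl
    exacts [h1, mul_mem h1 (Subgroup.subset_closure List.mem_cons_self)]

omit [Finite G] in
theorem inv {t : G} (ht : Commute t d) (h : t * t = 1 ∨ t * t = d) :
    ∃ g, Commute g d ∧ g * t * g⁻¹ ∈ A2 d a F := by
  obtain ⟨q, hq⟩ := L.m1.loc.exists_cj_mem (t := ρ t) (by
    rw [← L.ce.mul t t ht ht]
    rcases h with e | e <;> rw [e]
    exacts [L.ce.one, L.ce.self])
  obtain ⟨g, hg, rfl⟩ := L.ce.surj q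
  exact ⟨g, hg, (L.mem_iff C ((hg.mul_left ht).mul_left hg.inv_left)).2 (by rwa [L.ce.cj hg ht])⟩

theorem jp : JP (Subgroup.centralizer {d}) (A2 d a F) := by
  intro B hB hN hE hc
  have c : ∀ g ∈ B, Commute g d := fun g hg => Subgroup.mem_centralizer_singleton_iff.1 (hB hg)
  have h1 := L.ce.card_le c
  have cA : ∀ x ∈ A2 d a F, Commute x d := fun x hx =>
    C.ea.commute hx (Subgroup.subset_closure List.mem_cons_self)
  have h2 := L.m1.loc.jp_top (L.ce.hom c).range le_top (by
    rintro _ ⟨g, rfl⟩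
    refine mem_normalizer_of_forall fun x hx => ?_
    obtain ⟨y, hy, rfl⟩ := L.ce.surj x
    have := cj_mem_of_mem_normalizer (hN g.2) ((L.mem_iff C hy).2 hx)
    rw [L.mem_iff C (cA _ this), L.ce.cj (c g g.2) hy] at this
    exact this) (by
    rintro _ ⟨g, rfl⟩
    rw [← map_mul, show g * g = 1 from Subtype.ext (hE g g.2), map_one]) (by
    rw [C.card] at hc
    rw [L.m1.l1.co.card]
    omega)
  refine Subgroup.eq_of_le_of_card_ge (fun g hg => (L.mem_iff C (c g hg)).2 ?_) hc
  exact h2 ▸ ⟨⟨g, hg⟩, rfl⟩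

theorem pre (hp : Group.IsPerfect (Subgroup.centralizer ({d} : Set G))) : Pre d X (A2 d a F) := by
  have H := L.m1.liftHyp
  refine ⟨L.ce.sq, L.ce.ne, L.lift.fs, fun x hx => (L.lift.com x hx).symm, L.lift.d_not_mem L.ce H,
    L.lift.cj, fun g hg => L.lift.gen L.ce H hp hg,
    fun _ h1 _ h2 _ h3 _ h4 => L.lift.tr2 L.ce H h1 h2 h3 h4, fun _ h => L.lift.nbne H h, C.ea,
    Subgroup.subset_closure List.mem_cons_self, fun t ht h => L.inv C ht (Or.inl h), L.jp C,
    fun g hg => ?_, F 0, (L.R.mem (by norm_num)).1, F 5, ?_, F 1, (L.R.mem (by norm_num)).1,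
    com_false L.R (by decide +kernel), com_false L.R (by decide +kernel)⟩
  · obtain ⟨u, hu, h⟩ := L.inv C (hg ▸ (Commute.refl g).mul_right (Commute.refl g)) (Or.inr hg)
    have := C.ea _ h
    rw [← cj_mul, hg, cj_eq_of_commute hu] at this
    exact L.ce.ne this
  · have := memT L.R (a := 5) (by decide +kernel)
    exact ⟨this.1.1, this.2⟩

omit [Finite G] in
theorem inter : insert d (X ∩ A2 d a F) = {x | x ∈ d :: a :: ps.map F} := by
  ext x
  rw [Set.mem_insert_iff, Set.mem_ofPred_eq, List.mem_cons]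
  refine or_congr_right ⟨fun h => ?_, fun h => ⟨L.memX h,
    Subgroup.subset_closure (List.mem_cons_of_mem _ h)⟩⟩
  have h1 := L.m1.loc.mem_base.2 ⟨L.lift.iso.mem h.1, (L.mem_iff C (L.lift.com x h.1)).1 h.2⟩
  rw [L.m1.l1.inter, Set.mem_ofPred_eq, ← L.map] at h1
  obtain ⟨y, hy, e⟩ := List.mem_map.1 h1
  exact L.lift.iso.inj (L.memX hy) h.1 e ▸ hy

omit [Finite G] [Finite Q] in
theorem ty (hβ : β < 2) {k : ℕ} (hk : k < 2 ^ 11) : ty2 β k ≤ 6 ∧
    Ty d X [a, F 0, F 5].prod (iota (d :: a :: ps.map F) k) (ty2 β k) := by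
  obtain ⟨-, -, h3, h4⟩ := chk_cs2 β hβ
  have q := allLt2_iff.1 (allLt_iff.1 chk_ty2' β hβ) k hk
  rw [force_eq] at q
  obtain ⟨q1, q2⟩ := an_iff.1 q
  have hX : ∀ i, 0 < i → i < (cs2 β).length → iota (d :: a :: ps.map F) ((cs2 β).getD i 0) ∈ X := by
    intro i h0 hi
    obtain ⟨i, rfl⟩ := Nat.exists_eq_succ_of_ne_zero h0.ne'
    rw [C.get hi, List.getD_cons_succ, List.getD_eq_getElem _ _
      (by rw [List.length_cons, length_ps]; omega)]
    exact L.memX (List.getElem_mem _)
  refine C.ty_of h3 (by rw [show 1 = 2 * 0 + 1 from rfl, iota_odd, iota_zero, mul_one]) hX q1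
    fun h6 => ?_
  have := imp_iff.1 q2 (beq_iff.2 h6)
  simp only [force_eq, an_iff, blt_iff, beq_iff, ← h4] at this
  obtain ⟨⟨⟨h0, hij⟩, hjl, hl⟩, e⟩ := this
  have e' : iota (d :: a :: ps.map F) k = [iota (d :: a :: ps.map F) ((cs2 β).getD (wit2 β k 0) 0),
      iota (d :: a :: ps.map F) ((cs2 β).getD (wit2 β k 1) 0),
      iota (d :: a :: ps.map F) ((cs2 β).getD (wit2 β k 2) 0)].prod := by
    rw [List.prod_cons, List.prod_cons, List.prod_singleton, ← mul_assoc, ← C.xor, ← C.xor]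
    exact congrArg _ e
  rw [e']
  refine Gp.isConj_prod (T22.tf3 L.is22) (fr_cons.2 ⟨L.mem, (line_fr L.R).sublist (by simp)⟩)
    ⟨?_, ?_, ?_⟩ rfl rfl
  · simp only [List.nodup_cons, List.mem_cons, List.not_mem_nil, or_false, not_or, List.nodup_nil,
      not_false_eq_true, and_true]
    exact ⟨⟨C.ne_of h3 (by omega) (by omega) (by omega), C.ne_of h3 (by omega) (by omega) (by omega)⟩,
      C.ne_of h3 (by omega) (by omega) (by omega)⟩
  · simp only [List.mem_cons, List.not_mem_nil, or_false, forall_eq_or_imp, forall_eq]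
    exact ⟨hX _ h0 (by omega), hX _ (by omega) (by omega), hX _ (by omega) hl⟩
  · intro x hx y hy
    have m : ∀ x ∈ [iota (d :: a :: ps.map F) ((cs2 β).getD (wit2 β k 0) 0),
      iota (d :: a :: ps.map F) ((cs2 β).getD (wit2 β k 1) 0),
      iota (d :: a :: ps.map F) ((cs2 β).getD (wit2 β k 2) 0)], x ∈ A2 d a F := by
      simp only [List.mem_cons, List.not_mem_nil, or_false, forall_eq_or_imp, forall_eq]
      exact ⟨C.mem _, C.mem _, C.mem _⟩
    exact C.ea.commute (m x hx) (m y hy)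

theorem loc (hp : Group.IsPerfect (Subgroup.centralizer ({d} : Set G))) (hβ : β < 2)
    (hc : Cls d X) : Loc d X (A2 d a F) := by
  obtain ⟨-, -, h3, h4⟩ := chk_cs2 β hβ
  have P := L.pre C hp
  have nbe : nb (conjugatesOf d) d = X := by
    ext e
    exact ⟨fun h => (hc.1 e h.1 h.2.2).resolve_left h.2.1,
      fun h => ⟨hc.2 e h, fun e' => P.dX (e' ▸ h), P.com e h⟩⟩
  refine P.loc C (by norm_num) h3
    (by rw [show 1 = 2 * 0 + 1 from rfl, iota_odd, iota_zero, mul_one]) (L.inter C) hc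
    (allLt_iff.1 chk_rel2 β hβ) (by rw [h4]; decide) ?_ (fun k hk => L.ty C hβ hk) ?_ ?_
  · have h0 := L.R.mem (a := 0) (by norm_num)
    have h5 := memT L.R (a := 5) (by decide +kernel)
    exact ⟨a, hc.2 _ L.mem, F 0, hc.2 _ h0.1, F 5, hc.2 _ h5.1.1, h0.2.1.symm, h5.1.2.1.symm,
      h5.2.1.symm, h0.2.2, h5.1.2.2, h5.2.2, by simp [mul_assoc]⟩
  · obtain ⟨l, l', k, k', n, n', q2, q3⟩ := (T22.fv L.is22).1
    obtain ⟨a, b, rfl⟩ := List.length_eq_two.1 n
    obtain ⟨a', b', rfl⟩ := List.length_eq_two.1 n'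
    simp only [List.prod_cons, List.prod_nil, mul_one] at q2 q3
    exact ⟨a, (fr_two.1 k).1, b, (fr_two.1 k).2, a', (fr_two.1 k').1, b', (fr_two.1 k').2,
      fun h => q2 (h ▸ Eqv.refl _ _), fun h => q3 (h ▸ Eqv.refl _ _)⟩
  · intro x hx u hu h1
    have h2 : u * x * u⁻¹ = d := by rw [← h1, cj_cj, hu, one_mul, inv_one, mul_one]
    obtain ⟨y, hy, c⟩ := fp_of_odd (E := nb X x) (Set.toFinite _)
      (by rw [L.is22.ncard_nb hx]; decide) u (fun y hy => by
        rw [← nbe, nb_nb] at hy ⊢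
        have k1 := mem_nb_cj hy.2 (cj_mem_cls u hy.1.1)
        have k2 := mem_nb_cj hy.1 (cj_mem_cls u hy.1.1)
        rw [h2] at k1
        rw [h1] at k2
        exact ⟨k1, k2⟩) (hu ▸ Eqv.refl _ _)
    exact ⟨y, hy.1, c⟩

end LF

/-- The results at level two. -/
structure M2 (d : G) (X : Set G) (a : G) (F : ℕ → G) (β : ℕ) : Prop where
  lt : β < 2
  mem : a ∈ X
  R : Real 693 op (nb X a) F
  co : Co (d :: a :: ps.map F) 11 (cs2 β) (A2 d a F)
  pre : Pre d X (A2 d a F)
  inter : insert d (X ∩ A2 d a F) = {x | x ∈ d :: a :: ps.map F}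
  loc : Loc d X (A2 d a F)
  is23 : Is23 (conjugatesOf d)
  gp : Gp (conjugatesOf d)

theorem M2.ncard {d : G} {X : Set G} {a : G} {F : ℕ → G} {β : ℕ} (M : M2 d X a F β) :
    (insert d (X ∩ A2 d a F)).ncard = 23 := by
  rw [M.inter, M.co.ncard_pts (chk_cs2 β M.lt).2.2.1, (chk_cs2 β M.lt).2.2.2]

theorem exists_M2 [Finite G] [Finite Q] {d : G} {ρ : G → Q} (h : CE d ρ) {d' : Q} {X' : Set Q}
    {f : ℕ → Q} (M : M1 d' X' f) (hp : Group.IsPerfect (Subgroup.centralizer ({d} : Set G)))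
    (hn : ∃ g : G, g * d * g⁻¹ ∈ Subgroup.centralizer ({d} : Set G) ∧ g * d * g⁻¹ ≠ d) :
    ∃ X a F β, M2 d X a F β := by
  obtain ⟨X, a, F, L, hc⟩ : ∃ X a F, LF d ρ d' X' f X a F ∧ Cls d X := by
    obtain ⟨x, hx, e⟩ := h.surj d'
    obtain ⟨X, L, -⟩ := h.exists_lift M.liftHyp hx (e ▸ self_mem_cls _)
    obtain ⟨a, F, L⟩ := exists_LF h M L
    obtain ⟨β, hβ, C⟩ := L.exists_co hp
    obtain ⟨u, h1, h2⟩ := hn
    rcases (L.pre C hp).classify C (by norm_num)
      (by rw [show 1 = 2 * 0 + 1 from rfl, iota_odd, iota_zero, mul_one])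
      (fun k hk => L.ty C hβ hk) (allLt_iff.1 chk_W2 β hβ) rfl ⟨_, isConj_iff.2 ⟨u, rfl⟩,
        (show Commute _ d from Subgroup.mem_centralizer_singleton_iff.1 h1).symm, h2⟩ with hc | hc
    exacts [⟨_, _, _, L, hc⟩, ⟨_, _, _, L.swap, hc⟩]
  obtain ⟨β, hβ, C⟩ := L.exists_co hp
  have K := L.loc C hp hβ hc
  have h23 : Is23 (conjugatesOf d) := ⟨K.fs_cls, Set.toFinite _, ⟨d, self_mem_cls d⟩,
    fun a ha b hb => K.conn ha hb, fun q hq => by
      obtain ⟨g, rfl⟩ := exists_cj_of_mem hq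
      rw [← FiC.image_cj_nb (fun g _ h => cj_mem_cls g h), K.nb_eq]
      exact L.is22.map (isoOn_cj_image g X) (fs_cj K.fs g)⟩
  exact ⟨X, a, F, β, hβ, L.mem, L.R, C, L.pre C hp, L.inter C, K, h23, lv23 h23, K.closure_eq_top,
    K.center_eq fun u hu hx => L.lift.central h M.liftHyp M.gp.cen hu hx⟩

end CL.FiRec
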