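import Mathlib.Data.Nat.Notation
set_option Elab.async false
namespace CL.J4G

end CL.J4G
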