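/- Relations between the matrices (generated by tools/cgt/dg.py). -/
import Cfsg.Agent.SPOR.J4GMat
set_option autoImplicit false
set_option Elab.async false
set_option maxRecDepth 100000

namespace CL.J4G
open CL.CE CL.K CL.Net

def RM0 : List (List ℕ) := [[1,1,1], [0,1,0,1,0,1,0,1,0,1,0,1,0,1,0,1,0,1,0,1,0,1,0,1,0,1,0,1,0,1,0,1,0,1,0,1,0,1,0,1,0,1,0,1,0,1], [0,2,0,1,0,2,0,1,0,2,0,1,0,2,0,1,0,2,0,1,0,2,0,1,0,2,0,1,0,2,0,1,0,2,0,1,0,2,0,1,0,2,0,1,0,2,0,1], [0,2,0,2,0,1,0,1,0,2,0,2,0,1,0,1,0,2,0,2,0,1,0,1,0,2,0,2,0,1,0,1,0,2,0,2,0,1,0,1], [0,1,0,1,0,2,0,1,0,2,0,1,0,2,0,1,0,1,0,2,0,1,0,2,0,1,0,2,0,1,0,1,0,2,0,1,0,2,0,1,0,2,0,1,0,1,0,2,0,1,0,2,0,1,0,2], [0,1,0,1,0,2,0,1,0,1,0,2,0,1,0,1,0,2,0,1,0,2,0,2,0,1,0,2,0,2,0,1,0,2,0,2],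 [3,2,0,2,0,2,0,1,0,1,0,2,0,2,3,1,0,1,0,2,0,2,0,1,0,1,0,1], [3,0,3,0], [1,0,1,0,2,0,1,0,2,3,1,0,2,0,1,0,2,0,1,0,1,0,2,0,1,0,2,3,1,0,2,0,1,0,2,0,1,0,1,0,2,0,1,0,2,3,1,0,2,0,1,0,2,0], [1,0,1,0,1,0,1,1,0,1,0,1,0,1,1,0,1,0,1,0,1,3,2,2,0,2,0,2,0,2,0,2,0,2,0,2,2,0,2,0,2,0,3,0,1,0,1,0,1,1,0,1,0,1,0,1,0,1,0,1,0,1,1,1,0,1,0,1,0,1,1,0,1,0,1,0,1,1,0,1,0,1,0,1,3,2,2,0,2,0,2,0,2,0,2,0,2,0,2,2,0,2,0,2,0,3,0,1,0,1,0,1,1,0,1,0,1,0,1,0,1,0,1,0,1,1]]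
theorem RM0_ok : (∀ r ∈ RM0, ev gM r = 1) ∧ ∀ w ∈ ([] : List (List ℕ)), ev gM w ≠ 1 :=
  ltrsM.of_run codeM (prog := [(0, 1), (1, 3), (1, 0), (2, 2), (3, 1), (2, 2), (4, 4), (3, 6), (4, 4), (10, 1), (5, 8), (9, 8), (14, 5), (8, 7), (17, 15), (10, 12), (16, 19), (2, 5), (9, 9), (13, 13), (9, 9), (7, 7), (12, 12), (16, 16), (6, 8), (2, 15), (0, 29), (0, 29), (0, 15), (0, 5), (0, 17), (0, 14), (0, 24), (0, 34), (0, 25), (0, 31), (0, 37), (38, 38), (19, 19), (0, 30), (0, 32), (39, 21), (0, 22), (0, 37), (0, 41), (0, 44), (39, 25), (0, 26), (0, 44), (27, 27), (45, 45), (0, 35), (0, 40), (0, 41), (0, 52), (58, 42), (0, 45), (0, 42), (0, 55), (0, 57), (0, 52), (64, 44), (63, 56), (0, 38), (0, 39),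 (0, 47), (29, 29)])
    (es := [(29, 69), (26, 99999), (21, 99999), (18, 99999), (17, 99999), (12, 99999), (6, 99999), (5, 67), (1, 67), (0, 99999)]) (ns := []) (by decide +kernel) (L := 4) (by decide +kernel)
def RM : List (List ℕ) := RM0
theorem RM_ok : ∀ r ∈ RM, ev gM r = 1 :=
  RM0_ok.1
def RP0 : List (List ℕ) := [[1,3,0,2,0,3,2,3,2,3,1,3,0,2,0,3,2,3,2,3,1,3,0,2,0,3,2,3,2,3,1,3,0,2,0,3,2,3,2,3,1,3,0,2,0,3,2,3,2,3,1,3,0,2,0,3,2,3,2,3,1,3,0,2,0,3,2,3,2,3,1,3,0,2,0,3,2,3,2,3,1,3,0,2,0,3,2,3,2,3,1,3,0,2,0,3,2,3,2,3,1,3,0,2,0,3,2,3,2,3,1,3,0,2,0,3,2,3,2,3,1,3,0,2,0,3,2,3,2,3,1,3,0,2,0,3,2,3,2,3,1,3,0,2,0,3,2,3,2,3,1,3,0,2,0,3,2,3,2,3,1,3,0,2,0,3,2,3,2,3,1,3,0,2,0,3,2,3,2,3,1,3,0,2,0,3,2,3,2,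3,1,3,0,2,0,3,2,3,2,3,1,3,0,2,0,3,2,3,2,3,1,3,0,2,0,3,2,3,2,3,1,3,0,2,0,3,2,3,2,3,1,3,0,2,0,3,2,3,2,3,1,3,0,2,0,3,2,3,2,3,1,3,0,2,0,3,2,3,2,3,1,3,0,2,0,3,2,3,2,3,1,3,0,2,0,3,2,3,2,3,1,3,0,2,0,3,2,3,2,3,1,3,0,2,0,3,2,3,2,3,1,3,0,2,0,3,2,3,2,3,1,3,0,2,0,3,2,3,2,3,1,3,0,2,0,3,2,3,2,3,1,3,0,2,0,3,2,3,2,3,1,3,0,2,0,3,2,3,2,3,1,3,0,2,0,3,2,3,2,3,1,3,0,2,0,3,2,3,2,3,1,3,0,2,0,3,2,3,2,3,1,3,0,2,0,3,2,3,2,3,1,3,0,2,0,3,2,3,2,3,1,3,0,2,0,3,2,3,2,3,1,3,0,2,0,3,2,3,2,3,1,3,0,2,0,3,2,3,2,3], [1,3,0,2,0,3,2,3,2,3,0,1,3,0,2,0,3,2,3,2,3,0,1,3,0,2,0,3,2,3,2,3,0,1,3,0,2,0,3,2,3,2,3,0,1,3,0,2,0,3,2,3,2,3,0,1,3,0,2,0,3,2,3,2,3,0,1,3,0,2,0,3,2,3,2,3,0,1,3,0,2,0,3,2,3,2,3,0,1,3,0,2,0,3,2,3,2,3,0,1,3,0,2,0,3,2,3,2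,3,0,1,3,0,2,0,3,2,3,2,3,0,1,3,0,2,0,3,2,3,2,3,0,1,3,0,2,0,3,2,3,2,3,0,1,3,0,2,0,3,2,3,2,3,0,1,3,0,2,0,3,2,3,2,3,0,1,3,0,2,0,3,2,3,2,3,0,1,3,0,2,0,3,2,3,2,3,0,1,3,0,2,0,3,2,3,2,3,0,1,3,0,2,0,3,2,3,2,3,0,1,3,0,2,0,3,2,3,2,3,0,1,3,0,2,0,3,2,3,2,3,0,1,3,0,2,0,3,2,3,2,3,0,1,3,0,2,0,3,2,3,2,3,0,1,3,0,2,0,3,2,3,2,3,0,1,3,0,2,0,3,2,3,2,3,0,1,3,0,2,0,3,2,3,2,3,0,1,3,0,2,0,3,2,3,2,3,0,1,3,0,2,0,3,2,3,2,3,0,1,3,0,2,0,3,2,3,2,3,0,1,3,0,2,0,3,2,3,2,3,0,1,3,0,2,0,3,2,3,2,3,0,1,3,0,2,0,3,2,3,2,3,0,1,3,0,2,0,3,2,3,2,3,0,1,3,0,2,0,3,2,3,2,3,0,1,3,0,2,0,3,2,3,2,3,0,1,3,0,2,0,3,2,3,2,3,0,1,3,0,2,0,3,2,3,2,3,0,1,3,0,2,0,3,2,3,2,3,0,1,3,0,2,0,3,2,3,2,3,0,1,3,0,2,0,3,2,3,2,3,0,1,3,0,2,0,3,2,3,2,3,0,1,3,0,2,0,3,2,3,2,3,0,1,3,0,2,0,3,2,3,2,3,0]]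
theorem RP0_ok : (∀ r ∈ RP0, ev gM r = 1) ∧ ∀ w ∈ ([[1,3,0,2,0,3,2,3,2,3]] : List (List ℕ)), ev gM w ≠ 1 :=
  ltrsM.of_run codeM (prog := [(3, 2), (4, 1), (1, 1), (4, 1), (0, 6), (0, 5), (0, 3), (0, 10), (1, 6), (1, 1), (1, 1), (1, 1), (1, 1), (1, 1), (1, 1), (1, 1), (1, 1), (1, 1), (0, 4), (0, 9), (0, 12), (4, 4), (0, 7), (0, 12), (0, 15)])
    (es := [(4, 99999), (0, 99999)]) (ns := [17]) (by decide +kernel) (L := 4) (by decide +kernel)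
def RP : List (List ℕ) := RP0
theorem RP_ok : ∀ r ∈ RP, ev gM r = 1 :=
  RP0_ok.1

end CL.J4G
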