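/- Relations between the matrices (generated by tools/cgt/dg.py). -/
import Cfsg.Agent.SPOR.J4GMat
set_option autoImplicit false
set_option Elab.async false
set_option maxRecDepth 100000

namespace CL.J4G
open CL.CE CL.K CL.Net

def RX0 : List (List ℕ) := [[1,0,1,0,1,0,1,0,2,0,2,0,1,0,1,0,1,0,1,0,1,0,2,0,1,0,1,0,2,0,2,0,1,0,2,0,1,0,2,0,2,0,2,0,1,0,1,0,2,0,1,0,2,3,1,0,1,0,1,0,1,0,2,0,2,0,1,0,1,0,1,0,1,0,1,0,2,0,1,0,1,0,2,0,2,0,1,0,2,0,1,0,2,0,2,0,2,0,1,0,1,0,2,0,1,0,2,0,1,0,1,0,1,0,2,0,1,0,2,0,1,0,2,0,2,0,1,0,1,0,1,0,1,0,2,0,1,0,2,0,1,0,2,0,2,0,2,0,2,0,1,0,1,0,2,0,2,0,1,0,1,0,1,0,1,0,1,0,2,0,2,0,1,0,1,0,1,0,1,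0,1,0,2,0,1,0,1,0,2,0,2,0,1,0,2,0,1,0,2,0,2,0,2,0,1,0,1,0,2,0,1,0,2,3,1,0,1,0,1,0,1,0,2,0,2,0,1,0,1,0,1,0,1,0,1,0,2,0,1,0,1,0,2,0,2,0,1,0,2,0,1,0,2,0,2,0,2,0,1,0,1,0,2,0,1,0,2,0,1,0,1,0,1,0,2,0,1,0,2,0,1,0,2,0,2,0,1,0,1,0,1,0,1,0,2,0,1,0,2,0,1,0,2,0,2,0,2,0,2,0,1,0,1,0,2,0,2,0,1,1,0,2,0,1,0,1,0,2,0,2,0,1,0,2,0,1,0,2,0,1,0,1,0,1,0,1,0,2,0,2,0,2,0,1,0,1,0,2,0,1,0,2,0,1,0,2,0,1,0,1,0,1,0,1,0,1,0,2,0,1,0,2,0,1,0,2,0,2,0,1,0,1,0,1,0,1,0,2,0,1,0,2,0,1,0,2,0,2,0,2,0,2,0,1,0,1,0,2,0,2,0,1,0,1,0,1,0,1,0,1,0,2,0,2,0,1,0,1,0,1,0,1,0,1,0,2,0,1,0,1,0,2,0,2,0,1,0,2,0,1,0,2,0,2,0,2,0,1,0,1,0,2,0,1,0,2,3,1,0,1,0,1,0,1,0,2,0,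2,0,1,0,1,0,1,0,1,0,1,0,2,0,1,0,1,0,2,0,2,0,1,0,2,0,1,0,2,0,2,0,2,0,1,0,1,0,2,0,1,0,2,0,1,0,1,0,1,0,2,0,1,0,2,0,1,0,2,0,2,0,1,0,1,0,1,0,1,0,2,0,1,0,2,0,1,0,2,0,2,0,2,0,2,0,1,0,1,0,2,0,2,0,1,1,0,2,0,1,0,1,0,2,0,2,0,1,0,2,0,1,0,2,0,1,0,1,0,1,0,1,0,2,0,2,0,2,0,1,0,1,0,2,0,1,0,2,0,1,0,2,0,1,0,1,1,0,1,0,1,0,1,0,2,0,2,0,1,0,1,0,1,0,1,0,1,0,2,0,1,0,1,0,2,0,2,0,1,0,2,0,1,0,2,0,2,0,2,0,1,0,1,0,2,0,1,0,2,3,1,0,1,0,1,0,1,0,2,0,2,0,1,0,1,0,1,0,1,0,1,0,2,0,1,0,1,0,2,0,2,0,1,0,2,0,1,0,2,0,2,0,2,0,1,0,1,0,2,0,1,0,2,0,1,0,1,0,1,0,2,0,1,0,2,0,1,0,2,0,2,0,1,0,1,0,1,0,1,0,2,0,1,0,2,0,1,0,2,0,2,0,2,0,2,0,1,0,1,0,2,0,2,0,1,0,1,0,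1,0,1,0,1,0,2,0,2,0,1,0,1,0,1,0,1,0,1,0,2,0,1,0,1,0,2,0,2,0,1,0,2,0,1,0,2,0,2,0,2,0,1,0,1,0,2,0,1,0,2,3,1,0,1,0,1,0,1,0,2,0,2,0,1,0,1,0,1,0,1,0,1,0,2,0,1,0,1,0,2,0,2,0,1,0,2,0,1,0,2,0,2,0,2,0,1,0,1,0,2,0,1,0,2,0,1,0,1,0,1,0,2,0,1,0,2,0,1,0,2,0,2,0,1,0,1,0,1,0,1,0,2,0,1,0,2,0,1,0,2,0,2,0,2,0,2,0,1,0,1,0,2,0,2,0,1,1,0,2,0,1,0,1,0,2,0,2,0,1,0,2,0,1,0,2,0,1,0,1,0,1,0,1,0,2,0,2,0,2,0,1,0,1,0,2,0,1,0,2,0,1,0,2,0,1,0,1,0,1,0,1,0,1,0,2,0,1,0,2,0,1,0,2,0,2,0,1,0,1,0,1,0,1,0,2,0,1,0,2,0,1,0,2,0,2,0,2,0,2,0,1,0,1,0,2,0,2,0,1,0,1,0,1,0,1,0,1,0,2,0,2,0,1,0,1,0,1,0,1,0,1,0,2,0,1,0,1,0,2,0,2,0,1,0,2,0,1,0,2,0,2,0,2,0,1,0,1,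0,2,0,1,0,2,3,1,0,1,0,1,0,1,0,2,0,2,0,1,0,1,0,1,0,1,0,1,0,2,0,1,0,1,0,2,0,2,0,1,0,2,0,1,0,2,0,2,0,2,0,1,0,1,0,2,0,1,0,2,0,1,0,1,0,1,0,2,0,1,0,2,0,1,0,2,0,2,0,1,0,1,0,1,0,1,0,2,0,1,0,2,0,1,0,2,0,2,0,2,0,2,0,1,0,1,0,2,0,2,0,1,1,0,2,0,1,0,1,0,2,0,2,0,1,0,2,0,1,0,2,0,1,0,1,0,1,0,1,0,2,0,2,0,2,0,1,0,1,0,2,0,1,0,2,0,1,0,2,0,1,0,1], [1,0,1,0,1,0,1,0,2,0,2,0,1,0,1,0,1,0,1,0,1,0,2,0,1,0,1,0,2,0,2,0,1,0,2,0,1,0,2,0,2,0,2,0,1,0,1,0,2,0,1,0,2,3,1,0,1,0,1,0,1,0,2,0,2,0,1,0,1,0,1,0,1,0,1,0,2,0,1,0,1,0,2,0,2,0,1,0,2,0,1,0,2,0,2,0,2,0,1,0,1,0,2,0,1,0,2,0,1,0,1,0,1,0,2,0,1,0,2,0,1,0,2,0,2,0,1,0,1,0,1,0,1,0,2,0,1,0,2,0,1,0,2,0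,2,0,2,0,2,0,1,0,1,0,2,0,2,0,1,0,1,0,1,0,1,0,1,0,2,0,2,0,1,0,1,0,1,0,1,0,1,0,2,0,1,0,1,0,2,0,2,0,1,0,2,0,1,0,2,0,2,0,2,0,1,0,1,0,2,0,1,0,2,3,1,0,1,0,1,0,1,0,2,0,2,0,1,0,1,0,1,0,1,0,1,0,2,0,1,0,1,0,2,0,2,0,1,0,2,0,1,0,2,0,2,0,2,0,1,0,1,0,2,0,1,0,2,0,1,0,1,0,1,0,2,0,1,0,2,0,1,0,2,0,2,0,1,0,1,0,1,0,1,0,2,0,1,0,2,0,1,0,2,0,2,0,2,0,2,0,1,0,1,0,2,0,2,0,1,1,0,2,0,1,0,1,0,2,0,2,0,1,0,2,0,1,0,2,0,1,0,1,0,1,0,1,0,2,0,2,0,2,0,1,0,1,0,2,0,1,0,2,0,1,0,2,0,1,0,1,0,1,0,1,0,1,0,2,0,1,0,2,0,1,0,2,0,2,0,1,0,1,0,1,0,1,0,2,0,1,0,2,0,1,0,2,0,2,0,2,0,2,0,1,0,1,0,2,0,2,0,1,0,1,0,1,0,1,0,1,0,2,0,2,0,1,0,1,0,1,0,1,0,1,0,2,0,1,0,1,0,2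,0,2,0,1,0,2,0,1,0,2,0,2,0,2,0,1,0,1,0,2,0,1,0,2,3,1,0,1,0,1,0,1,0,2,0,2,0,1,0,1,0,1,0,1,0,1,0,2,0,1,0,1,0,2,0,2,0,1,0,2,0,1,0,2,0,2,0,2,0,1,0,1,0,2,0,1,0,2,0,1,0,1,0,1,0,2,0,1,0,2,0,1,0,2,0,2,0,1,0,1,0,1,0,1,0,2,0,1,0,2,0,1,0,2,0,2,0,2,0,2,0,1,0,1,0,2,0,2,0,1,1,0,2,0,1,0,1,0,2,0,2,0,1,0,2,0,1,0,2,0,1,0,1,0,1,0,1,0,2,0,2,0,2,0,1,0,1,0,2,0,1,0,2,0,1,0,2,0,1,0,1,0,1,0,1,0,1,0,1,0,2,0,1,0,1,0,2,0,2,0,2,0,2,0,2,0,1,0,2,0,2,0,1,0,1,0,1,0,2,0,1,0,1,0,2,0,2,0,2,0,1,0,1,0,1,0,1,0,1,0,1,0,2,0,2,0,1,0,1,0,1,0,1,0,1,0,2,0,1,0,1,0,2,0,2,0,1,0,2,0,1,0,2,0,2,0,2,0,1,0,1,0,2,0,1,0,2,3,1,0,1,0,1,0,1,0,2,0,2,0,1,0,1,0,1,0,1,0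,1,0,2,0,1,0,1,0,2,0,2,0,1,0,2,0,1,0,2,0,2,0,2,0,1,0,1,0,2,0,1,0,2,0,1,0,1,0,1,0,2,0,1,0,2,0,1,0,2,0,2,0,1,0,1,0,1,0,1,0,2,0,1,0,2,0,1,0,2,0,2,0,2,0,2,0,1,0,1,0,2,0,2,0,1,0,1,0,1,0,1,0,1,0,2,0,2,0,1,0,1,0,1,0,1,0,1,0,2,0,1,0,1,0,2,0,2,0,1,0,2,0,1,0,2,0,2,0,2,0,1,0,1,0,2,0,1,0,2,3,1,0,1,0,1,0,1,0,2,0,2,0,1,0,1,0,1,0,1,0,1,0,2,0,1,0,1,0,2,0,2,0,1,0,2,0,1,0,2,0,2,0,2,0,1,0,1,0,2,0,1,0,2,0,1,0,1,0,1,0,2,0,1,0,2,0,1,0,2,0,2,0,1,0,1,0,1,0,1,0,2,0,1,0,2,0,1,0,2,0,2,0,2,0,2,0,1,0,1,0,2,0,2,0,1,1,0,2,0,1,0,1,0,2,0,2,0,1,0,2,0,1,0,2,0,1,0,1,0,1,0,1,0,2,0,2,0,2,0,1,0,1,0,2,0,1,0,2,0,1,0,2,0,1,0,1,0,1,0,1,0,1,0,2,0,1,0,2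,0,1,0,2,0,2,0,1,0,1,0,1,0,1,0,2,0,1,0,2,0,1,0,2,0,2,0,2,0,2,0,1,0,1,0,2,0,2,0,1,0,1,0,1,0,1,0,1,0,2,0,2,0,1,0,1,0,1,0,1,0,1,0,2,0,1,0,1,0,2,0,2,0,1,0,2,0,1,0,2,0,2,0,2,0,1,0,1,0,2,0,1,0,2,3,1,0,1,0,1,0,1,0,2,0,2,0,1,0,1,0,1,0,1,0,1,0,2,0,1,0,1,0,2,0,2,0,1,0,2,0,1,0,2,0,2,0,2,0,1,0,1,0,2,0,1,0,2,0,1,0,1,0,1,0,2,0,1,0,2,0,1,0,2,0,2,0,1,0,1,0,1,0,1,0,2,0,1,0,2,0,1,0,2,0,2,0,2,0,2,0,1,0,1,0,2,0,2,0,1,1,0,2,0,1,0,1,0,2,0,2,0,1,0,2,0,1,0,2,0,1,0,1,0,1,0,1,0,2,0,2,0,2,0,1,0,1,0,2,0,1,0,2,0,1,0,2,0,1,0,1,0,1,0,1,0,1,0,1,0,2,0,1,0,1,0,2,0,2,0,2,0,2,0,2,0,1,0,2,0,2,0,1,0,1,0,1,0,2,0,1,0,1,0,2,0,2,0,2,0,1,0,1,0], [1,0,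1,0,1,0,1,0,2,0,2,0,1,0,1,0,1,0,1,0,1,0,2,0,1,0,1,0,2,0,2,0,1,0,2,0,1,0,2,0,2,0,2,0,1,0,1,0,2,0,1,0,2,3,1,0,1,0,1,0,1,0,2,0,2,0,1,0,1,0,1,0,1,0,1,0,2,0,1,0,1,0,2,0,2,0,1,0,2,0,1,0,2,0,2,0,2,0,1,0,1,0,2,0,1,0,2,0,1,0,1,0,1,0,2,0,1,0,2,0,1,0,2,0,2,0,1,0,1,0,1,0,1,0,2,0,1,0,2,0,1,0,2,0,2,0,2,0,2,0,1,0,1,0,2,0,2,0,1,0,1,0,1,0,1,0,1,0,2,0,2,0,1,0,1,0,1,0,1,0,1,0,2,0,1,0,1,0,2,0,2,0,1,0,2,0,1,0,2,0,2,0,2,0,1,0,1,0,2,0,1,0,2,3,1,0,1,0,1,0,1,0,2,0,2,0,1,0,1,0,1,0,1,0,1,0,2,0,1,0,1,0,2,0,2,0,1,0,2,0,1,0,2,0,2,0,2,0,1,0,1,0,2,0,1,0,2,0,1,0,1,0,1,0,2,0,1,0,2,0,1,0,2,0,2,0,1,0,1,0,1,0,1,0,2,0,1,0,2,0,1,0,2,0,2,0,2,0,2,0,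1,0,1,0,2,0,2,0,1,1,0,2,0,1,0,1,0,2,0,2,0,1,0,2,0,1,0,2,0,1,0,1,0,1,0,1,0,2,0,2,0,2,0,1,0,1,0,2,0,1,0,2,0,1,0,2,0,1,0,1,0,1,0,1,0,1,0,2,0,1,0,2,0,1,0,2,0,2,0,1,0,1,0,1,0,1,0,2,0,1,0,2,0,1,0,2,0,2,0,2,0,2,0,1,0,1,0,2,0,2,0,1,0,1,0,1,0,1,0,1,0,2,0,2,0,1,0,1,0,1,0,1,0,1,0,2,0,1,0,1,0,2,0,2,0,1,0,2,0,1,0,2,0,2,0,2,0,1,0,1,0,2,0,1,0,2,3,1,0,1,0,1,0,1,0,2,0,2,0,1,0,1,0,1,0,1,0,1,0,2,0,1,0,1,0,2,0,2,0,1,0,2,0,1,0,2,0,2,0,2,0,1,0,1,0,2,0,1,0,2,0,1,0,1,0,1,0,2,0,1,0,2,0,1,0,2,0,2,0,1,0,1,0,1,0,1,0,2,0,1,0,2,0,1,0,2,0,2,0,2,0,2,0,1,0,1,0,2,0,2,0,1,1,0,2,0,1,0,1,0,2,0,2,0,1,0,2,0,1,0,2,0,1,0,1,0,1,0,1,0,2,0,2,0,2,0,1,0,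1,0,2,0,1,0,2,0,1,0,2,0,1,0,1,1,0,1,0,2,0,1,0,1,0,1,0,2,0,2,0,1,0,2,0,2,0,2,0,1,0,1,0,1,0,2,0,1,0,1,0,2,0,2,0,2,0,1,1,0,1,0,2,0,2,0,1,0,1,0,1,0,1,0,1,0,2,0,1,0,1,0,2,0,2,0,1,0,2,0,1,0,2,0,2,0,2,0,1,0,1,0,2,0,1,0,2,3,1,0,1,0,1,0,1,0,2,0,2,0,1,0,1,0,1,0,1,0,1,0,2,0,1,0,1,0,2,0,2,0,1,0,2,0,1,0,2,0,2,0,2,0,1,0,1,0,2,0,1,0,2,0,1,0,1,0,1,0,2,0,1,0,2,0,1,0,2,0,2,0,1,0,1,0,1,0,1,0,2,0,1,0,2,0,1,0,2,0,2,0,2,0,2,0,1,0,1,0,2,0,2,0,1,0,1,0,1,0,1,0,1,0,2,0,2,0,1,0,1,0,1,0,1,0,1,0,2,0,1,0,1,0,2,0,2,0,1,0,2,0,1,0,2,0,2,0,2,0,1,0,1,0,2,0,1,0,2,3,1,0,1,0,1,0,1,0,2,0,2,0,1,0,1,0,1,0,1,0,1,0,2,0,1,0,1,0,2,0,2,0,1,0,2,0,1,0,2,0,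2,0,2,0,1,0,1,0,2,0,1,0,2,0,1,0,1,0,1,0,2,0,1,0,2,0,1,0,2,0,2,0,1,0,1,0,1,0,1,0,2,0,1,0,2,0,1,0,2,0,2,0,2,0,2,0,1,0,1,0,2,0,2,0,1,1,0,2,0,1,0,1,0,2,0,2,0,1,0,2,0,1,0,2,0,1,0,1,0,1,0,1,0,2,0,2,0,2,0,1,0,1,0,2,0,1,0,2,0,1,0,2,0,1,0,1,0,1,0,1,0,1,0,2,0,1,0,2,0,1,0,2,0,2,0,1,0,1,0,1,0,1,0,2,0,1,0,2,0,1,0,2,0,2,0,2,0,2,0,1,0,1,0,2,0,2,0,1,0,1,0,1,0,1,0,1,0,2,0,2,0,1,0,1,0,1,0,1,0,1,0,2,0,1,0,1,0,2,0,2,0,1,0,2,0,1,0,2,0,2,0,2,0,1,0,1,0,2,0,1,0,2,3,1,0,1,0,1,0,1,0,2,0,2,0,1,0,1,0,1,0,1,0,1,0,2,0,1,0,1,0,2,0,2,0,1,0,2,0,1,0,2,0,2,0,2,0,1,0,1,0,2,0,1,0,2,0,1,0,1,0,1,0,2,0,1,0,2,0,1,0,2,0,2,0,1,0,1,0,1,0,1,0,2,0,1,0,2,0,1,0,2,0,2,0,2,0,2,0,1,0,1,0,2,0,2,0,1,1,0,2,0,1,0,1,0,2,0,2,0,1,0,2,0,1,0,2,0,1,0,1,0,1,0,1,0,2,0,2,0,2,0,1,0,1,0,2,0,1,0,2,0,1,0,2,0,1,0,1,1,0,1,0,2,0,1,0,1,0,1,0,2,0,2,0,1,0,2,0,2,0,2,0,1,0,1,0,1,0,2,0,1,0,1,0,2,0,2,0,2,0,1,0,2,0,2],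 [1,0,1,0,1,0,1,0,2,0,2,0,1,0,1,0,1,0,1,0,1,0,2,0,1,0,1,0,2,0,2,0,1,0,2,0,1,0,2,0,2,0,2,0,1,0,1,0,2,0,1,0,2,3,1,0,1,0,1,0,1,0,2,0,2,0,1,0,1,0,1,0,1,0,1,0,2,0,1,0,1,0,2,0,2,0,1,0,2,0,1,0,2,0,2,0,2,0,1,0,1,0,2,0,1,0,2,0,1,0,1,0,1,0,2,0,1,0,2,0,1,0,2,0,2,0,1,0,1,0,1,0,1,0,2,0,1,0,2,0,1,0,2,0,2,0,2,0,2,0,1,0,1,0,2,0,2,0,1,0,1,0,1,0,1,0,1,0,2,0,2,0,1,0,1,0,1,0,1,0,1,0,2,0,1,0,1,0,2,0,2,0,1,0,2,0,1,0,2,0,2,0,2,0,1,0,1,0,2,0,1,0,2,3,1,0,1,0,1,0,1,0,2,0,2,0,1,0,1,0,1,0,1,0,1,0,2,0,1,0,1,0,2,0,2,0,1,0,2,0,1,0,2,0,2,0,2,0,1,0,1,0,2,0,1,0,2,0,1,0,1,0,1,0,2,0,1,0,2,0,1,0,2,0,2,0,1,0,1,0,1,0,1,0,2,0,1,0,2,0,1,0,2,0,2,0,2,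0,2,0,1,0,1,0,2,0,2,0,1,1,0,2,0,1,0,1,0,2,0,2,0,1,0,2,0,1,0,2,0,1,0,1,0,1,0,1,0,2,0,2,0,2,0,1,0,1,0,2,0,1,0,2,0,1,0,2,0,1,0,1,0,1,0,1,0,1,0,2,0,1,0,2,0,1,0,2,0,2,0,1,0,1,0,1,0,1,0,2,0,1,0,2,0,1,0,2,0,2,0,2,0,2,0,1,0,1,0,2,0,2,0,1,0,1,0,1,0,1,0,1,0,2,0,2,0,1,0,1,0,1,0,1,0,1,0,2,0,1,0,1,0,2,0,2,0,1,0,2,0,1,0,2,0,2,0,2,0,1,0,1,0,2,0,1,0,2,3,1,0,1,0,1,0,1,0,2,0,2,0,1,0,1,0,1,0,1,0,1,0,2,0,1,0,1,0,2,0,2,0,1,0,2,0,1,0,2,0,2,0,2,0,1,0,1,0,2,0,1,0,2,0,1,0,1,0,1,0,2,0,1,0,2,0,1,0,2,0,2,0,1,0,1,0,1,0,1,0,2,0,1,0,2,0,1,0,2,0,2,0,2,0,2,0,1,0,1,0,2,0,2,0,1,1,0,2,0,1,0,1,0,2,0,2,0,1,0,2,0,1,0,2,0,1,0,1,0,1,0,1,0,2,0,2,0,2,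0,1,0,1,0,2,0,1,0,2,0,1,0,2,0,1,0,1,0,1,0,2,0,2,0,2,0,1,0,1,0,1,0,1,0,2,0,1,0,2,0,2,0,1,0,1,0,2,0,1,0,2,0,1,0,2,0,1,0,1,0,1,1,0,1,0,1,0,2,0,2,0,1,0,1,0,1,0,1,0,1,0,2,0,1,0,1,0,2,0,2,0,1,0,2,0,1,0,2,0,2,0,2,0,1,0,1,0,2,0,1,0,2,3,1,0,1,0,1,0,1,0,2,0,2,0,1,0,1,0,1,0,1,0,1,0,2,0,1,0,1,0,2,0,2,0,1,0,2,0,1,0,2,0,2,0,2,0,1,0,1,0,2,0,1,0,2,0,1,0,1,0,1,0,2,0,1,0,2,0,1,0,2,0,2,0,1,0,1,0,1,0,1,0,2,0,1,0,2,0,1,0,2,0,2,0,2,0,2,0,1,0,1,0,2,0,2,0,1,0,1,0,1,0,1,0,1,0,2,0,2,0,1,0,1,0,1,0,1,0,1,0,2,0,1,0,1,0,2,0,2,0,1,0,2,0,1,0,2,0,2,0,2,0,1,0,1,0,2,0,1,0,2,3,1,0,1,0,1,0,1,0,2,0,2,0,1,0,1,0,1,0,1,0,1,0,2,0,1,0,1,0,2,0,2,0,1,0,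2,0,1,0,2,0,2,0,2,0,1,0,1,0,2,0,1,0,2,0,1,0,1,0,1,0,2,0,1,0,2,0,1,0,2,0,2,0,1,0,1,0,1,0,1,0,2,0,1,0,2,0,1,0,2,0,2,0,2,0,2,0,1,0,1,0,2,0,2,0,1,1,0,2,0,1,0,1,0,2,0,2,0,1,0,2,0,1,0,2,0,1,0,1,0,1,0,1,0,2,0,2,0,2,0,1,0,1,0,2,0,1,0,2,0,1,0,2,0,1,0,1,0,1,0,1,0,1,0,2,0,1,0,2,0,1,0,2,0,2,0,1,0,1,0,1,0,1,0,2,0,1,0,2,0,1,0,2,0,2,0,2,0,2,0,1,0,1,0,2,0,2,0,1,0,1,0,1,0,1,0,1,0,2,0,2,0,1,0,1,0,1,0,1,0,1,0,2,0,1,0,1,0,2,0,2,0,1,0,2,0,1,0,2,0,2,0,2,0,1,0,1,0,2,0,1,0,2,3,1,0,1,0,1,0,1,0,2,0,2,0,1,0,1,0,1,0,1,0,1,0,2,0,1,0,1,0,2,0,2,0,1,0,2,0,1,0,2,0,2,0,2,0,1,0,1,0,2,0,1,0,2,0,1,0,1,0,1,0,2,0,1,0,2,0,1,0,2,0,2,0,1,0,1,0,1,0,1,0,2,0,1,0,2,0,1,0,2,0,2,0,2,0,2,0,1,0,1,0,2,0,2,0,1,1,0,2,0,1,0,1,0,2,0,2,0,1,0,2,0,1,0,2,0,1,0,1,0,1,0,1,0,2,0,2,0,2,0,1,0,1,0,2,0,1,0,2,0,1,0,2,0,1,0,1,0,1,0,2,0,2,0,2,0,1,0,1,0,1,0,1,0,2,0,1,0,2,0,2,0,1,0,1,0,2,0,1,0,2,0,1,0,2,0,1,0,1,0,1,0,2],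 [1,0,1,0,1,0,1,0,2,0,2,0,1,0,1,0,1,0,1,0,1,0,2,0,1,0,1,0,2,0,2,0,1,0,2,0,1,0,2,0,2,0,2,0,1,0,1,0,2,0,1,0,2,3,1,0,1,0,1,0,1,0,2,0,2,0,1,0,1,0,1,0,1,0,1,0,2,0,1,0,1,0,2,0,2,0,1,0,2,0,1,0,2,0,2,0,2,0,1,0,1,0,2,0,1,0,2,0,1,0,1,0,1,0,2,0,1,0,2,0,1,0,2,0,2,0,1,0,1,0,1,0,1,0,2,0,1,0,2,0,1,0,2,0,2,0,2,0,2,0,1,0,1,0,2,0,2,0,1,0,1,0,1,0,1,0,1,0,2,0,2,0,1,0,1,0,1,0,1,0,1,0,2,0,1,0,1,0,2,0,2,0,1,0,2,0,1,0,2,0,2,0,2,0,1,0,1,0,2,0,1,0,2,3,1,0,1,0,1,0,1,0,2,0,2,0,1,0,1,0,1,0,1,0,1,0,2,0,1,0,1,0,2,0,2,0,1,0,2,0,1,0,2,0,2,0,2,0,1,0,1,0,2,0,1,0,2,0,1,0,1,0,1,0,2,0,1,0,2,0,1,0,2,0,2,0,1,0,1,0,1,0,1,0,2,0,1,0,2,0,1,0,2,0,2,0,2,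0,2,0,1,0,1,0,2,0,2,0,1,1,0,2,0,1,0,1,0,2,0,2,0,1,0,2,0,1,0,2,0,1,0,1,0,1,0,1,0,2,0,2,0,2,0,1,0,1,0,2,0,1,0,2,0,1,0,2,0,1,0,1,0,1,0,1,0,1,0,2,0,1,0,2,0,1,0,2,0,2,0,1,0,1,0,1,0,1,0,2,0,1,0,2,0,1,0,2,0,2,0,2,0,2,0,1,0,1,0,2,0,2,0,1,0,1,0,1,0,1,0,1,0,2,0,2,0,1,0,1,0,1,0,1,0,1,0,2,0,1,0,1,0,2,0,2,0,1,0,2,0,1,0,2,0,2,0,2,0,1,0,1,0,2,0,1,0,2,3,1,0,1,0,1,0,1,0,2,0,2,0,1,0,1,0,1,0,1,0,1,0,2,0,1,0,1,0,2,0,2,0,1,0,2,0,1,0,2,0,2,0,2,0,1,0,1,0,2,0,1,0,2,0,1,0,1,0,1,0,2,0,1,0,2,0,1,0,2,0,2,0,1,0,1,0,1,0,1,0,2,0,1,0,2,0,1,0,2,0,2,0,2,0,2,0,1,0,1,0,2,0,2,0,1,1,0,2,0,1,0,1,0,2,0,2,0,1,0,2,0,1,0,2,0,1,0,1,0,1,0,1,0,2,0,2,0,2,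0,1,0,1,0,2,0,1,0,2,0,1,0,2,0,1,0,1,0,1,0,2,0,1,0,1,0,2,0,2,0,1,0,2,0,1,0,2,0,1,0,1,0,1,0,1,0,2,0,2,0,2,0,1,0,1,0,2,0,1,0,2,0,1,0,2,0,1,0,1,1,0,1,0,1,0,1,0,2,0,2,0,1,0,1,0,1,0,1,0,1,0,2,0,1,0,1,0,2,0,2,0,1,0,2,0,1,0,2,0,2,0,2,0,1,0,1,0,2,0,1,0,2,3,1,0,1,0,1,0,1,0,2,0,2,0,1,0,1,0,1,0,1,0,1,0,2,0,1,0,1,0,2,0,2,0,1,0,2,0,1,0,2,0,2,0,2,0,1,0,1,0,2,0,1,0,2,0,1,0,1,0,1,0,2,0,1,0,2,0,1,0,2,0,2,0,1,0,1,0,1,0,1,0,2,0,1,0,2,0,1,0,2,0,2,0,2,0,2,0,1,0,1,0,2,0,2,0,1,0,1,0,1,0,1,0,1,0,2,0,2,0,1,0,1,0,1,0,1,0,1,0,2,0,1,0,1,0,2,0,2,0,1,0,2,0,1,0,2,0,2,0,2,0,1,0,1,0,2,0,1,0,2,3,1,0,1,0,1,0,1,0,2,0,2,0,1,0,1,0,1,0,1,0,1,0,2,0,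1,0,1,0,2,0,2,0,1,0,2,0,1,0,2,0,2,0,2,0,1,0,1,0,2,0,1,0,2,0,1,0,1,0,1,0,2,0,1,0,2,0,1,0,2,0,2,0,1,0,1,0,1,0,1,0,2,0,1,0,2,0,1,0,2,0,2,0,2,0,2,0,1,0,1,0,2,0,2,0,1,1,0,2,0,1,0,1,0,2,0,2,0,1,0,2,0,1,0,2,0,1,0,1,0,1,0,1,0,2,0,2,0,2,0,1,0,1,0,2,0,1,0,2,0,1,0,2,0,1,0,1,0,1,0,1,0,1,0,2,0,1,0,2,0,1,0,2,0,2,0,1,0,1,0,1,0,1,0,2,0,1,0,2,0,1,0,2,0,2,0,2,0,2,0,1,0,1,0,2,0,2,0,1,0,1,0,1,0,1,0,1,0,2,0,2,0,1,0,1,0,1,0,1,0,1,0,2,0,1,0,1,0,2,0,2,0,1,0,2,0,1,0,2,0,2,0,2,0,1,0,1,0,2,0,1,0,2,3,1,0,1,0,1,0,1,0,2,0,2,0,1,0,1,0,1,0,1,0,1,0,2,0,1,0,1,0,2,0,2,0,1,0,2,0,1,0,2,0,2,0,2,0,1,0,1,0,2,0,1,0,2,0,1,0,1,0,1,0,2,0,1,0,2,0,1,0,2,0,2,0,1,0,1,0,1,0,1,0,2,0,1,0,2,0,1,0,2,0,2,0,2,0,2,0,1,0,1,0,2,0,2,0,1,1,0,2,0,1,0,1,0,2,0,2,0,1,0,2,0,1,0,2,0,1,0,1,0,1,0,1,0,2,0,2,0,2,0,1,0,1,0,2,0,1,0,2,0,1,0,2,0,1,0,1,0,1,0,2,0,1,0,1,0,2,0,2,0,1,0,2,0,1,0,2,0,1,0,1,0,1,0,1,0,2,0,2,0,2,0,1,0,1,0,2,0,1,0,2,0,1,0,2,0,1,0,1],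 [1,0,1,0,1,0,1,0,2,0,2,0,1,0,1,0,1,0,1,0,1,0,2,0,1,0,1,0,2,0,2,0,1,0,2,0,1,0,2,0,2,0,2,0,1,0,1,0,2,0,1,0,2,3,1,0,1,0,1,0,1,0,2,0,2,0,1,0,1,0,1,0,1,0,1,0,2,0,1,0,1,0,2,0,2,0,1,0,2,0,1,0,2,0,2,0,2,0,1,0,1,0,2,0,1,0,2,0,1,0,1,0,1,0,2,0,1,0,2,0,1,0,2,0,2,0,1,0,1,0,1,0,1,0,2,0,1,0,2,0,1,0,2,0,2,0,2,0,2,0,1,0,1,0,2,0,2,0,1,0,1,0,1,0,1,0,1,0,2,0,2,0,1,0,1,0,1,0,1,0,1,0,2,0,1,0,1,0,2,0,2,0,1,0,2,0,1,0,2,0,2,0,2,0,1,0,1,0,2,0,1,0,2,3,1,0,1,0,1,0,1,0,2,0,2,0,1,0,1,0,1,0,1,0,1,0,2,0,1,0,1,0,2,0,2,0,1,0,2,0,1,0,2,0,2,0,2,0,1,0,1,0,2,0,1,0,2,0,1,0,1,0,1,0,2,0,1,0,2,0,1,0,2,0,2,0,1,0,1,0,1,0,1,0,2,0,1,0,2,0,1,0,2,0,2,0,2,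0,2,0,1,0,1,0,2,0,2,0,1,1,0,2,0,1,0,1,0,2,0,2,0,1,0,2,0,1,0,2,0,1,0,1,0,1,0,1,0,2,0,2,0,2,0,1,0,1,0,2,0,1,0,2,0,1,0,2,0,1,0,1,0,1,0,1,0,1,0,2,0,1,0,2,0,1,0,2,0,2,0,1,0,1,0,1,0,1,0,2,0,1,0,2,0,1,0,2,0,2,0,2,0,2,0,1,0,1,0,2,0,2,0,1,0,1,0,1,0,1,0,1,0,2,0,2,0,1,0,1,0,1,0,1,0,1,0,2,0,1,0,1,0,2,0,2,0,1,0,2,0,1,0,2,0,2,0,2,0,1,0,1,0,2,0,1,0,2,3,1,0,1,0,1,0,1,0,2,0,2,0,1,0,1,0,1,0,1,0,1,0,2,0,1,0,1,0,2,0,2,0,1,0,2,0,1,0,2,0,2,0,2,0,1,0,1,0,2,0,1,0,2,0,1,0,1,0,1,0,2,0,1,0,2,0,1,0,2,0,2,0,1,0,1,0,1,0,1,0,2,0,1,0,2,0,1,0,2,0,2,0,2,0,2,0,1,0,1,0,2,0,2,0,1,1,0,2,0,1,0,1,0,2,0,2,0,1,0,2,0,1,0,2,0,1,0,1,0,1,0,1,0,2,0,2,0,2,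0,1,0,1,0,2,0,1,0,2,0,1,0,2,0,1,0,1,1,0,1,0,1,0,1,0,2,0,2,0,1,0,1,0,1,0,1,0,1,0,2,0,1,0,1,0,2,0,2,0,1,0,2,0,1,0,2,0,2,0,2,0,1,0,1,0,2,0,1,1,0,1,0,1,0,2,0,2,0,1,0,1,0,1,0,1,0,1,0,2,0,1,0,1,0,2,0,2,0,1,0,2,0,1,0,2,0,2,0,2,0,1,0,1,0,2,0,1,0,2,3,1,0,1,0,1,0,1,0,2,0,2,0,1,0,1,0,1,0,1,0,1,0,2,0,1,0,1,0,2,0,2,0,1,0,2,0,1,0,2,0,2,0,2,0,1,0,1,0,2,0,1,0,2,0,1,0,1,0,1,0,2,0,1,0,2,0,1,0,2,0,2,0,1,0,1,0,1,0,1,0,2,0,1,0,2,0,1,0,2,0,2,0,2,0,2,0,1,0,1,0,2,0,2,0,1,0,1,0,1,0,1,0,1,0,2,0,2,0,1,0,1,0,1,0,1,0,1,0,2,0,1,0,1,0,2,0,2,0,1,0,2,0,1,0,2,0,2,0,2,0,1,0,1,0,2,0,1,0,2,3,1,0,1,0,1,0,1,0,2,0,2,0,1,0,1,0,1,0,1,0,1,0,2,0,1,0,1,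0,2,0,2,0,1,0,2,0,1,0,2,0,2,0,2,0,1,0,1,0,2,0,1,0,2,0,1,0,1,0,1,0,2,0,1,0,2,0,1,0,2,0,2,0,1,0,1,0,1,0,1,0,2,0,1,0,2,0,1,0,2,0,2,0,2,0,2,0,1,0,1,0,2,0,2,0,1,1,0,2,0,1,0,1,0,2,0,2,0,1,0,2,0,1,0,2,0,1,0,1,0,1,0,1,0,2,0,2,0,2,0,1,0,1,0,2,0,1,0,2,0,1,0,2,0,1,0,1,0,1,0,1,0,1,0,2,0,1,0,2,0,1,0,2,0,2,0,1,0,1,0,1,0,1,0,2,0,1,0,2,0,1,0,2,0,2,0,2,0,2,0,1,0,1,0,2,0,2,0,1,0,1,0,1,0,1,0,1,0,2,0,2,0,1,0,1,0,1,0,1,0,1,0,2,0,1,0,1,0,2,0,2,0,1,0,2,0,1,0,2,0,2,0,2,0,1,0,1,0,2,0,1,0,2,3,1,0,1,0,1,0,1,0,2,0,2,0,1,0,1,0,1,0,1,0,1,0,2,0,1,0,1,0,2,0,2,0,1,0,2,0,1,0,2,0,2,0,2,0,1,0,1,0,2,0,1,0,2,0,1,0,1,0,1,0,2,0,1,0,2,0,1,0,2,0,2,0,1,0,1,0,1,0,1,0,2,0,1,0,2,0,1,0,2,0,2,0,2,0,2,0,1,0,1,0,2,0,2,0,1,1,0,2,0,1,0,1,0,2,0,2,0,1,0,2,0,1,0,2,0,1,0,1,0,1,0,1,0,2,0,2,0,2,0,1,0,1,0,2,0,1,0,2,0,1,0,2,0,1,0,1,1,0,1,0,1,0,1,0,2,0,2,0,1,0,1,0,1,0,1,0,1,0,2,0,1,0,1,0,2,0,2,0,1,0,2,0,1,0,2,0,2,0,2,0,1,0,1,0,2,0,1,0,2],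 [1,0,1,0,1,0,1,0,2,0,2,0,1,0,1,0,1,0,1,0,1,0,2,0,1,0,1,0,2,0,2,0,1,0,2,0,1,0,2,0,2,0,2,0,1,0,1,0,2,0,1,0,2,3,1,0,1,0,1,0,1,0,2,0,2,0,1,0,1,0,1,0,1,0,1,0,2,0,1,0,1,0,2,0,2,0,1,0,2,0,1,0,2,0,2,0,2,0,1,0,1,0,2,0,1,0,2,0,1,0,1,0,1,0,2,0,1,0,2,0,1,0,2,0,2,0,1,0,1,0,1,0,1,0,2,0,1,0,2,0,1,0,2,0,2,0,2,0,2,0,1,0,1,0,2,0,2,0,1,0,1,0,1,0,1,0,1,0,2,0,2,0,1,0,1,0,1,0,1,0,1,0,2,0,1,0,1,0,2,0,2,0,1,0,2,0,1,0,2,0,2,0,2,0,1,0,1,0,2,0,1,0,2,3,1,0,1,0,1,0,1,0,2,0,2,0,1,0,1,0,1,0,1,0,1,0,2,0,1,0,1,0,2,0,2,0,1,0,2,0,1,0,2,0,2,0,2,0,1,0,1,0,2,0,1,0,2,0,1,0,1,0,1,0,2,0,1,0,2,0,1,0,2,0,2,0,1,0,1,0,1,0,1,0,2,0,1,0,2,0,1,0,2,0,2,0,2,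0,2,0,1,0,1,0,2,0,2,0,1,1,0,2,0,1,0,1,0,2,0,2,0,1,0,2,0,1,0,2,0,1,0,1,0,1,0,1,0,2,0,2,0,2,0,1,0,1,0,2,0,1,0,2,0,1,0,2,0,1,0,1,0,1,0,1,0,1,0,2,0,1,0,2,0,1,0,2,0,2,0,1,0,1,0,1,0,1,0,2,0,1,0,2,0,1,0,2,0,2,0,2,0,2,0,1,0,1,0,2,0,2,0,1,0,1,0,1,0,1,0,1,0,2,0,2,0,1,0,1,0,1,0,1,0,1,0,2,0,1,0,1,0,2,0,2,0,1,0,2,0,1,0,2,0,2,0,2,0,1,0,1,0,2,0,1,0,2,3,1,0,1,0,1,0,1,0,2,0,2,0,1,0,1,0,1,0,1,0,1,0,2,0,1,0,1,0,2,0,2,0,1,0,2,0,1,0,2,0,2,0,2,0,1,0,1,0,2,0,1,0,2,0,1,0,1,0,1,0,2,0,1,0,2,0,1,0,2,0,2,0,1,0,1,0,1,0,1,0,2,0,1,0,2,0,1,0,2,0,2,0,2,0,2,0,1,0,1,0,2,0,2,0,1,1,0,2,0,1,0,1,0,2,0,2,0,1,0,2,0,1,0,2,0,1,0,1,0,1,0,1,0,2,0,2,0,2,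0,1,0,1,0,2,0,1,0,2,0,1,0,2,0,1,1,0,1,0,1,0,2,0,1,0,1,0,1,0,1,0,2,0,1,0,1,0,1,0,2,0,2,0,2,0,1,0,2,0,1,0,2,0,2,0,1,1,0,1,0,1,0,1,0,2,0,2,0,1,0,1,0,1,0,1,0,1,0,2,0,1,0,1,0,2,0,2,0,1,0,2,0,1,0,2,0,2,0,2,0,1,0,1,0,2,0,1,0,2,3,1,0,1,0,1,0,1,0,2,0,2,0,1,0,1,0,1,0,1,0,1,0,2,0,1,0,1,0,2,0,2,0,1,0,2,0,1,0,2,0,2,0,2,0,1,0,1,0,2,0,1,0,2,0,1,0,1,0,1,0,2,0,1,0,2,0,1,0,2,0,2,0,1,0,1,0,1,0,1,0,2,0,1,0,2,0,1,0,2,0,2,0,2,0,2,0,1,0,1,0,2,0,2,0,1,0,1,0,1,0,1,0,1,0,2,0,2,0,1,0,1,0,1,0,1,0,1,0,2,0,1,0,1,0,2,0,2,0,1,0,2,0,1,0,2,0,2,0,2,0,1,0,1,0,2,0,1,0,2,3,1,0,1,0,1,0,1,0,2,0,2,0,1,0,1,0,1,0,1,0,1,0,2,0,1,0,1,0,2,0,2,0,1,0,2,0,1,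0,2,0,2,0,2,0,1,0,1,0,2,0,1,0,2,0,1,0,1,0,1,0,2,0,1,0,2,0,1,0,2,0,2,0,1,0,1,0,1,0,1,0,2,0,1,0,2,0,1,0,2,0,2,0,2,0,2,0,1,0,1,0,2,0,2,0,1,1,0,2,0,1,0,1,0,2,0,2,0,1,0,2,0,1,0,2,0,1,0,1,0,1,0,1,0,2,0,2,0,2,0,1,0,1,0,2,0,1,0,2,0,1,0,2,0,1,0,1,0,1,0,1,0,1,0,2,0,1,0,2,0,1,0,2,0,2,0,1,0,1,0,1,0,1,0,2,0,1,0,2,0,1,0,2,0,2,0,2,0,2,0,1,0,1,0,2,0,2,0,1,0,1,0,1,0,1,0,1,0,2,0,2,0,1,0,1,0,1,0,1,0,1,0,2,0,1,0,1,0,2,0,2,0,1,0,2,0,1,0,2,0,2,0,2,0,1,0,1,0,2,0,1,0,2,3,1,0,1,0,1,0,1,0,2,0,2,0,1,0,1,0,1,0,1,0,1,0,2,0,1,0,1,0,2,0,2,0,1,0,2,0,1,0,2,0,2,0,2,0,1,0,1,0,2,0,1,0,2,0,1,0,1,0,1,0,2,0,1,0,2,0,1,0,2,0,2,0,1,0,1,0,1,0,1,0,2,0,1,0,2,0,1,0,2,0,2,0,2,0,2,0,1,0,1,0,2,0,2,0,1,1,0,2,0,1,0,1,0,2,0,2,0,1,0,2,0,1,0,2,0,1,0,1,0,1,0,1,0,2,0,2,0,2,0,1,0,1,0,2,0,1,0,2,0,1,0,2,0,1,1,0,1,0,1,0,2,0,1,0,1,0,1,0,1,0,2,0,1,0,1,0,1,0,2,0,2,0,2,0,1,0,2,0,1,0,2,0,2,0,1],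 [1,0,1,0,1,0,1,0,2,0,2,0,1,0,1,0,1,0,1,0,1,0,2,0,1,0,1,0,2,0,2,0,1,0,2,0,1,0,2,0,2,0,2,0,1,0,1,0,2,0,1,0,2,3,1,0,1,0,1,0,1,0,2,0,2,0,1,0,1,0,1,0,1,0,1,0,2,0,1,0,1,0,2,0,2,0,1,0,2,0,1,0,2,0,2,0,2,0,1,0,1,0,2,0,1,0,2,0,1,0,1,0,1,0,2,0,1,0,2,0,1,0,2,0,2,0,1,0,1,0,1,0,1,0,2,0,1,0,2,0,1,0,2,0,2,0,2,0,2,0,1,0,1,0,2,0,2,0,1,0,1,0,1,0,1,0,1,0,2,0,2,0,1,0,1,0,1,0,1,0,1,0,2,0,1,0,1,0,2,0,2,0,1,0,2,0,1,0,2,0,2,0,2,0,1,0,1,0,2,0,1,0,2,3,1,0,1,0,1,0,1,0,2,0,2,0,1,0,1,0,1,0,1,0,1,0,2,0,1,0,1,0,2,0,2,0,1,0,2,0,1,0,2,0,2,0,2,0,1,0,1,0,2,0,1,0,2,0,1,0,1,0,1,0,2,0,1,0,2,0,1,0,2,0,2,0,1,0,1,0,1,0,1,0,2,0,1,0,2,0,1,0,2,0,2,0,2,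0,2,0,1,0,1,0,2,0,2,0,1,1,0,2,0,1,0,1,0,2,0,2,0,1,0,2,0,1,0,2,0,1,0,1,0,1,0,1,0,2,0,2,0,2,0,1,0,1,0,2,0,1,0,2,0,1,0,2,0,1,0,1,0,1,0,1,0,1,0,2,0,1,0,2,0,1,0,2,0,2,0,1,0,1,0,1,0,1,0,2,0,1,0,2,0,1,0,2,0,2,0,2,0,2,0,1,0,1,0,2,0,2,0,1,0,1,0,1,0,1,0,1,0,2,0,2,0,1,0,1,0,1,0,1,0,1,0,2,0,1,0,1,0,2,0,2,0,1,0,2,0,1,0,2,0,2,0,2,0,1,0,1,0,2,0,1,0,2,3,1,0,1,0,1,0,1,0,2,0,2,0,1,0,1,0,1,0,1,0,1,0,2,0,1,0,1,0,2,0,2,0,1,0,2,0,1,0,2,0,2,0,2,0,1,0,1,0,2,0,1,0,2,0,1,0,1,0,1,0,2,0,1,0,2,0,1,0,2,0,2,0,1,0,1,0,1,0,1,0,2,0,1,0,2,0,1,0,2,0,2,0,2,0,2,0,1,0,1,0,2,0,2,0,1,1,0,2,0,1,0,1,0,2,0,2,0,1,0,2,0,1,0,2,0,1,0,1,0,1,0,1,0,2,0,2,0,2,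0,1,0,1,0,2,0,1,0,2,0,1,0,2,0,1,0,1,0,1,0,1,0,1,0,2,0,1,0,2,0,1,0,2,0,2,0,1,0,1,0,1,0,1,0,2,0,1,0,2,0,1,0,2,0,2,0,2,0,2,0,1,0,1,0,2,0,2,0,1,0,1,0,1,0,1,0,1,0,2,0,2,0,1,0,1,0,1,0,1,0,1,0,2,0,1,0,1,0,2,0,2,0,1,0,2,0,1,0,2,0,2,0,2,0,1,0,1,0,2,0,1,0,2,3,1,0,1,0,1,0,1,0,2,0,2,0,1,0,1,0,1,0,1,0,1,0,2,0,1,0,1,0,2,0,2,0,1,0,2,0,1,0,2,0,2,0,2,0,1,0,1,0,2,0,1,0,2,0,1,0,1,0,1,0,2,0,1,0,2,0,1,0,2,0,2,0,1,0,1,0,1,0,1,0,2,0,1,0,2,0,1,0,2,0,2,0,2,0,2,0,1,0,1,0,2,0,2,0,1,0,1,0,1,0,1,0,1,0,2,0,2,0,1,0,1,0,1,0,1,0,1,0,2,0,1,0,1,0,2,0,2,0,1,0,2,0,1,0,2,0,2,0,2,0,1,0,1,0,2,0,1,0,2,3,1,0,1,0,1,0,1,0,2,0,2,0,1,0,1,0,1,0,1,0,1,0,2,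0,1,0,1,0,2,0,2,0,1,0,2,0,1,0,2,0,2,0,2,0,1,0,1,0,2,0,1,0,2,0,1,0,1,0,1,0,2,0,1,0,2,0,1,0,2,0,2,0,1,0,1,0,1,0,1,0,2,0,1,0,2,0,1,0,2,0,2,0,2,0,2,0,1,0,1,0,2,0,2,0,1,1,0,2,0,1,0,1,0,2,0,2,0,1,0,2,0,1,0,2,0,1,0,1,0,1,0,1,0,2,0,2,0,2,0,1,0,1,0,2,0,1,0,2,0,1,0,2,0,1,0,1,0,1,0,1,0,1,0,2,0,1,0,2,0,1,0,2,0,2,0,1,0,1,0,1,0,1,0,2,0,1,0,2,0,1,0,2,0,2,0,2,0,2,0,1,0,1,0,2,0,2,0,1,0,1,0,1,0,1,0,1,0,2,0,2,0,1,0,1,0,1,0,1,0,1,0,2,0,1,0,1,0,2,0,2,0,1,0,2,0,1,0,2,0,2,0,2,0,1,0,1,0,2,0,1,0,2,3,1,0,1,0,1,0,1,0,2,0,2,0,1,0,1,0,1,0,1,0,1,0,2,0,1,0,1,0,2,0,2,0,1,0,2,0,1,0,2,0,2,0,2,0,1,0,1,0,2,0,1,0,2,0,1,0,1,0,1,0,2,0,1,0,2,0,1,0,2,0,2,0,1,0,1,0,1,0,1,0,2,0,1,0,2,0,1,0,2,0,2,0,2,0,2,0,1,0,1,0,2,0,2,0,1,1,0,2,0,1,0,1,0,2,0,2,0,1,0,2,0,1,0,2,0,1,0,1,0,1,0,1,0,2,0,2,0,2,0,1,0,1,0,2,0,1,0,2,0,1,0,2,0,1,0,1,0,1,0,1,0,1,0,2,0,1,0,2,0,1,0,2,0,2,0,1,0,1,0,1,0,1,0,2,0,1,0,2,0,1,0,2,0,2,0,2,0,2,0,1,0,1,0,2,0,2,0,1,0],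 [1,0,1,0,1,0,1,0,2,0,2,0,1,0,1,0,1,0,1,0,1,0,2,0,1,0,1,0,2,0,2,0,1,0,2,0,1,0,2,0,2,0,2,0,1,0,1,0,2,0,1,0,2,3,1,0,1,0,1,0,1,0,2,0,2,0,1,0,1,0,1,0,1,0,1,0,2,0,1,0,1,0,2,0,2,0,1,0,2,0,1,0,2,0,2,0,2,0,1,0,1,0,2,0,1,0,2,0,1,0,1,0,1,0,2,0,1,0,2,0,1,0,2,0,2,0,1,0,1,0,1,0,1,0,2,0,1,0,2,0,1,0,2,0,2,0,2,0,2,0,1,0,1,0,2,0,2,0,1,0,1,0,1,0,1,0,1,0,2,0,2,0,1,0,1,0,1,0,1,0,1,0,2,0,1,0,1,0,2,0,2,0,1,0,2,0,1,0,2,0,2,0,2,0,1,0,1,0,2,0,1,0,2,3,1,0,1,0,1,0,1,0,2,0,2,0,1,0,1,0,1,0,1,0,1,0,2,0,1,0,1,0,2,0,2,0,1,0,2,0,1,0,2,0,2,0,2,0,1,0,1,0,2,0,1,0,2,0,1,0,1,0,1,0,2,0,1,0,2,0,1,0,2,0,2,0,1,0,1,0,1,0,1,0,2,0,1,0,2,0,1,0,2,0,2,0,2,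0,2,0,1,0,1,0,2,0,2,0,1,1,0,2,0,1,0,1,0,2,0,2,0,1,0,2,0,1,0,2,0,1,0,1,0,1,0,1,0,2,0,2,0,2,0,1,0,1,0,2,0,1,0,2,0,1,0,2,0,1,0,1,0,1,0,1,0,1,0,2,0,1,0,2,0,1,0,2,0,2,0,1,0,1,0,1,0,1,0,2,0,1,0,2,0,1,0,2,0,2,0,2,0,2,0,1,0,1,0,2,0,2,0,1,0,1,0,1,0,1,0,1,0,2,0,2,0,1,0,1,0,1,0,1,0,1,0,2,0,1,0,1,0,2,0,2,0,1,0,2,0,1,0,2,0,2,0,2,0,1,0,1,0,2,0,1,0,2,3,1,0,1,0,1,0,1,0,2,0,2,0,1,0,1,0,1,0,1,0,1,0,2,0,1,0,1,0,2,0,2,0,1,0,2,0,1,0,2,0,2,0,2,0,1,0,1,0,2,0,1,0,2,0,1,0,1,0,1,0,2,0,1,0,2,0,1,0,2,0,2,0,1,0,1,0,1,0,1,0,2,0,1,0,2,0,1,0,2,0,2,0,2,0,2,0,1,0,1,0,2,0,2,0,1,1,0,2,0,1,0,1,0,2,0,2,0,1,0,2,0,1,0,2,0,1,0,1,0,1,0,1,0,2,0,2,0,2,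0,1,0,1,0,2,0,1,0,2,0,1,0,2,0,1,0,1,3,0,1,0,1,0,1,0,2,0,1,0,2,0,1,0,2,0,2,0,1,0,1,0,1,0,1,0,2,0,1,0,2,0,1,0,2,0,2,0,2,0,2,0,1,0,1,0,2,0,2,0,1,1,0,1,0,1,0,1,0,2,0,1,0,1,0,2,0,2,0,2,0,2,0,2,0,1,0,2,0,2,0,1,0,1,0,1,0,2,0,1,0,1,0,2,0,2,0,2,0,1,0,1,0,1,0,1,0,1,0,1,0,2,0,2,0,1,0,1,0,1,0,1,0,1,0,2,0,1,0,1,0,2,0,2,0,1,0,2,0,1,0,2,0,2,0,2,0,1,0,1,0,2,0,1,0,2,0,1,0,1,0,1,0,2,0,1,0,2,0,1,0,2,0,2,0,1,0,1,0,1,0,1,0,2,0,1,0,2,0,1,0,2,0,2,0,2,0,2,0,1,0,1,0,2,0,2,0,1,1,0,2,0,2,0,2,0,1,0,1,0,1,0,1,0,2,0,1,0,2,0,2,0,1,0,1,0,2,0,1,0,2,0,1,0,2,0,1,0,1,0,1,1,0,1,0,1,0,2,0,2,0,1,0,1,0,1,0,1,0,1,0,2,0,1,0,1,0,2,0,2,0,1,0,2,0,1,0,2,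0,2,0,2,0,1,0,1,0,2,0,1,0,2,0,1,0,2,0,1,0,1,0,2,0,2,0,1,0,2,0,1,0,2,0,1,0,1,0,1,0,1,0,2,0,2,0,2,0,1,0,1,0,2,0,1,0,2,0,1,0,2,0,1,0,1,0,1,0,2,0,2,0,2,0,1,0,1,0,1,0,1,0,2,0,1,0,2,0,2,0,1,0,1,0,2,0,1,0,2,0,1,0,2,0,1,0,1,0,1,1,0,2,0,1,0,1,0,1,0,2,0,2,0,1,0,2,0,2,0,2,0,1,0,1,0,1,0,2,0,1,0,1,0,2,0,2,0,2,0,1,0,2,0,2,3,0,1,0,1,0,1,0,2,0,1,0,2,0,1,0,2,0,2,0,1,0,1,0,1,0,1,0,2,0,1,0,2,0,1,0,2,0,2,0,2,0,2,0,1,0,1,0,2,0,2,0,1,1,0,1,0,1,0,1,0,2,0,1,0,1,0,2,0,2,0,2,0,2,0,2,0,1,0,2,0,2,0,1,0,1,0,1,0,2,0,1,0,1,0,2,0,2,0,2,0,1,0,1,0,1,0,1,0,1,0,1,0,2,0,2,0,1,0,1,0,1,0,1,0,1,0,2,0,1,0,1,0,2,0,2,0,1,0,2,0,1,0,2,0,2,0,2,0,1,0,1,0,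2,0,1,0,2,0,1,0,1,0,1,0,2,0,1,0,2,0,1,0,2,0,2,0,1,0,1,0,1,0,1,0,2,0,1,0,2,0,1,0,2,0,2,0,2,0,2,0,1,0,1,0,2,0,2,0,1,1,0,2,0,2,0,2,0,1,0,1,0,1,0,1,0,2,0,1,0,2,0,2,0,1,0,1,0,2,0,1,0,2,0,1,0,2,0,1,0,1,0,1,1,0,1,0,1,0,2,0,2,0,1,0,1,0,1,0,1,0,1,0,2,0,1,0,1,0,2,0,2,0,1,0,2,0,1,0,2,0,2,0,2,0,1,0,1,0,2,0,1,0,2,0,1,0,2,0,1,0,1,0,2,0,2,0,1,0,2,0,1,0,2,0,1,0,1,0,1,0,1,0,2,0,2,0,2,0,1,0,1,0,2,0,1,0,2,0,1,0,2,0,1,0,1,0,1,0,2,0,2,0,2,0,1,0,1,0,1,0,1,0,2,0,1,0,2,0,2,0,1,0,1,0,2,0,1,0,2,0,1,0,2,0,1,0,1,0,1,1,0,2,0,1,0,1,0,1,0,2,0,2,0,1,0,2,0,2,0,2,0,1,0,1,0,1,0,2,0,1,0,1,0,2,0,2,0,2,0,1,0,2,0,2,3,0,1,0,1,0,1,0,2,0,1,0,2,0,1,0,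2,0,2,0,1,0,1,0,1,0,1,0,2,0,1,0,2,0,1,0,2,0,2,0,2,0,2,0,1,0,1,0,2,0,2,0,1,1,0,1,0,1,0,1,0,2,0,1,0,1,0,2,0,2,0,2,0,2,0,2,0,1,0,2,0,2,0,1,0,1,0,1,0,2,0,1,0,1,0,2,0,2,0,2,0,1,0,1,0,1,0,1,0,1,0,1,0,2,0,2,0,1,0,1,0,1,0,1,0,1,0,2,0,1,0,1,0,2,0,2,0,1,0,2,0,1,0,2,0,2,0,2,0,1,0,1,0,2,0,1,0,2,0,1,0,1,0,1,0,2,0,1,0,2,0,1,0,2,0,2,0,1,0,1,0,1,0,1,0,2,0,1,0,2,0,1,0,2,0,2,0,2,0,2,0,1,0,1,0,2,0,2,0,1,1,0,2,0,2,0,2,0,1,0,1,0,1,0,1,0,2,0,1,0,2,0,2,0,1,0,1,0,2,0,1,0,2,0,1,0,2,0,1,0,1,0,1,1,0,1,0,1,0,2,0,2,0,1,0,1,0,1,0,1,0,1,0,2,0,1,0,1,0,2,0,2,0,1,0,2,0,1,0,2,0,2,0,2,0,1,0,1,0,2,0,1,0,2,0,1,0,2,0,1,0,1,0,2,0,2,0,1,0,2,0,1,0,2,0,1,0,1,0,1,0,1,0,2,0,2,0,2,0,1,0,1,0,2,0,1,0,2,0,1,0,2,0,1,0,1,0,1,0,2,0,2,0,2,0,1,0,1,0,1,0,1,0,2,0,1,0,2,0,2,0,1,0,1,0,2,0,1,0,2,0,1,0,2,0,1,0,1,0,1,1,0,2,0,1,0,1,0,1,0,2,0,2,0,1,0,2,0,2,0,2,0,1,0,1,0,1,0,2,0,1,0,1,0,2,0,2,0,2,0,1,0,2,0,2],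 [1,0,2,0,1,0,2,0,1,0,2,0,1,0,2,0,1,0,2,0,1,1,0,2,0,1,0,1,0,1,0,2,0,2,0,1,0,2,0,2,0,2,0,1,0,1,0,1,0,2,0,1,0,1,0,2,0,2,0,2,0,1,1,0,1,0,2,0,2,0,1,0,1,0,1,0,1,0,1,0,2,0,1,0,1,0,2,0,2,0,1,0,2,0,1,0,2,0,2,0,2,0,1,0,1,0,2,0,1,0,2,3,1,0,2,0,1,0,2,0,2,0,1,0,1,0,1,0,2,0,1,0,2,0,1,0,1,0,2,0,2,0,1,0,2,0,2,0,2,0,2,0,2,0,1,0,1,0,2,0,2,0,2,0,2,0,1,0,1,0,1,0,2,0,1,0,2,0,1,0,2,0,2,0,1,0,1,0,1,0,1,0,2,0,1,0,2,0,1,0,2,0,2,0,2,0,2,0,1,0,1,0,2,0,2,0,1,0,1,0,1,0,1,0,1,0,2,0,2,0,1,0,1,0,1,0,1,0,1,0,2,0,1,0,1,0,2,0,2,0,1,0,2,0,1,0,2,0,2,0,2,0,1,0,1,0,2,0,1,0,2,3,1,0,2,0,1,0,2,0,2,0,1,0,1,0,1,0,2,0,1,0,2,0,1,0,1,0,2,0,2,0,1,0,2,0,2,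0,2,0,2,0,2,0,1,0,1,0,2,0,2,0,2,0,2,0,1,0,1,0,1,0,2,0,1,0,2,0,1,0,2,0,2,0,1,0,1,0,1,0,1,0,2,0,1,0,2,0,1,0,2,0,2,0,2,0,2,0,1,0,1,0,2,0,2,0,1,1,0,2,0,1,0,1,0,2,0,2,0,1,0,2,0,1,0,2,0,1,0,1,0,1,0,1,0,2,0,2,0,2,0,1,0,1,0,2,0,1,0,2,0,1,0,2,0,1,0,1,0,1,0,1,0,1,0,2,0,1,0,2,0,1,0,2,0,2,0,1,0,1,0,1,0,1,0,2,0,1,0,2,0,1,0,2,0,2,0,2,0,2,0,1,0,1,0,2,0,2,0,1,0,1,0,1,0,1,0,1,0,2,0,2,0,1,0,1,0,1,0,1,0,1,0,2,0,1,0,1,0,2,0,2,0,1,0,2,0,1,0,2,0,2,0,2,0,1,0,1,0,2,0,1,0,2,3,1,0,2,0,1,0,2,0,2,0,1,0,1,0,1,0,2,0,1,0,2,0,1,0,1,0,2,0,2,0,1,0,2,0,2,0,2,0,2,0,2,0,1,0,1,0,2,0,2,0,2,0,2,0,1,0,1,0,1,0,2,0,1,0,2,0,1,0,2,0,2,0,1,0,1,0,1,0,1,0,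2,0,1,0,2,0,1,0,2,0,2,0,2,0,2,0,1,0,1,0,2,0,2,0,1,1,0,2,0,1,0,1,0,2,0,2,0,1,0,2,0,1,0,2,0,1,0,1,0,1,0,1,0,2,0,2,0,2,0,1,0,1,0,2,0,1,0,2,0,1,0,2,0,1,0,1,1,0,2,0,1,0,2,0,1,0,2,0,1,0,2,0,1,0,2,0,1,1,0,2,0,1,0,1,0,1,0,2,0,2,0,1,0,2,0,2,0,2,0,1,0,1,0,1,0,2,0,1,0,1,0,2,0,2,0,2,0,1,1,0,1,0,2,0,2,0,1,0,1,0,1,0,1,0,1,0,2,0,1,0,1,0,2,0,2,0,1,0,2,0,1,0,2,0,2,0,2,0,1,0,1,0,2,0,1,0,2,3,1,0,2,0,1,0,2,0,2,0,1,0,1,0,1,0,2,0,1,0,2,0,1,0,1,0,2,0,2,0,1,0,2,0,2,0,2,0,2,0,2,0,1,0,1,0,2,0,2,0,2,0,2,0,1,0,1,0,1,0,2,0,1,0,2,0,1,0,2,0,2,0,1,0,1,0,1,0,1,0,2,0,1,0,2,0,1,0,2,0,2,0,2,0,2,0,1,0,1,0,2,0,2,0,1,0,1,0,1,0,1,0,1,0,2,0,2,0,1,0,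1,0,1,0,1,0,1,0,2,0,1,0,1,0,2,0,2,0,1,0,2,0,1,0,2,0,2,0,2,0,1,0,1,0,2,0,1,0,2,3,1,0,2,0,1,0,2,0,2,0,1,0,1,0,1,0,2,0,1,0,2,0,1,0,1,0,2,0,2,0,1,0,2,0,2,0,2,0,2,0,2,0,1,0,1,0,2,0,2,0,2,0,2,0,1,0,1,0,1,0,2,0,1,0,2,0,1,0,2,0,2,0,1,0,1,0,1,0,1,0,2,0,1,0,2,0,1,0,2,0,2,0,2,0,2,0,1,0,1,0,2,0,2,0,1,1,0,2,0,1,0,1,0,2,0,2,0,1,0,2,0,1,0,2,0,1,0,1,0,1,0,1,0,2,0,2,0,2,0,1,0,1,0,2,0,1,0,2,0,1,0,2,0,1,0,1,0,1,0,1,0,1,0,2,0,1,0,2,0,1,0,2,0,2,0,1,0,1,0,1,0,1,0,2,0,1,0,2,0,1,0,2,0,2,0,2,0,2,0,1,0,1,0,2,0,2,0,1,0,1,0,1,0,1,0,1,0,2,0,2,0,1,0,1,0,1,0,1,0,1,0,2,0,1,0,1,0,2,0,2,0,1,0,2,0,1,0,2,0,2,0,2,0,1,0,1,0,2,0,1,0,2,3,1,0,2,0,1,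0,2,0,2,0,1,0,1,0,1,0,2,0,1,0,2,0,1,0,1,0,2,0,2,0,1,0,2,0,2,0,2,0,2,0,2,0,1,0,1,0,2,0,2,0,2,0,2,0,1,0,1,0,1,0,2,0,1,0,2,0,1,0,2,0,2,0,1,0,1,0,1,0,1,0,2,0,1,0,2,0,1,0,2,0,2,0,2,0,2,0,1,0,1,0,2,0,2,0,1,1,0,2,0,1,0,1,0,2,0,2,0,1,0,2,0,1,0,2,0,1,0,1,0,1,0,1,0,2,0,2,0,2,0,1,0,1,0,2,0,1,0,2,0,1,0,2,0,1,0,1,1,0,2,0,1,0,2,0,1,0,2,0,1,0,2,0,1,0,2,0,1,1,0,2,0,1,0,1,0,1,0,2,0,2,0,1,0,2,0,2,0,2,0,1,0,1,0,1,0,2,0,1,0,1,0,2,0,2,0,2,0,1,1,0,1,0,2,0,2,0,1,0,1,0,1,0,1,0,1,0,2,0,1,0,1,0,2,0,2,0,1,0,2,0,1,0,2,0,2,0,2,0,1,0,1,0,2,0,1,0,2,3,1,0,2,0,1,0,2,0,2,0,1,0,1,0,1,0,2,0,1,0,2,0,1,0,1,0,2,0,2,0,1,0,2,0,2,0,2,0,2,0,2,0,1,0,1,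0,2,0,2,0,2,0,2,0,1,0,1,0,1,0,2,0,1,0,2,0,1,0,2,0,2,0,1,0,1,0,1,0,1,0,2,0,1,0,2,0,1,0,2,0,2,0,2,0,2,0,1,0,1,0,2,0,2,0,1,0,1,0,1,0,1,0,1,0,2,0,2,0,1,0,1,0,1,0,1,0,1,0,2,0,1,0,1,0,2,0,2,0,1,0,2,0,1,0,2,0,2,0,2,0,1,0,1,0,2,0,1,0,2,3,1,0,2,0,1,0,2,0,2,0,1,0,1,0,1,0,2,0,1,0,2,0,1,0,1,0,2,0,2,0,1,0,2,0,2,0,2,0,2,0,2,0,1,0,1,0,2,0,2,0,2,0,2,0,1,0,1,0,1,0,2,0,1,0,2,0,1,0,2,0,2,0,1,0,1,0,1,0,1,0,2,0,1,0,2,0,1,0,2,0,2,0,2,0,2,0,1,0,1,0,2,0,2,0,1,1,0,2,0,1,0,1,0,2,0,2,0,1,0,2,0,1,0,2,0,1,0,1,0,1,0,1,0,2,0,2,0,2,0,1,0,1,0,2,0,1,0,2,0,1,0,2,0,1,0,1,0,1,0,1,0,1,0,2,0,1,0,2,0,1,0,2,0,2,0,1,0,1,0,1,0,1,0,2,0,1,0,2,0,1,0,2,0,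2,0,2,0,2,0,1,0,1,0,2,0,2,0,1,0,1,0,1,0,1,0,1,0,2,0,2,0,1,0,1,0,1,0,1,0,1,0,2,0,1,0,1,0,2,0,2,0,1,0,2,0,1,0,2,0,2,0,2,0,1,0,1,0,2,0,1,0,2,3,1,0,2,0,1,0,2,0,2,0,1,0,1,0,1,0,2,0,1,0,2,0,1,0,1,0,2,0,2,0,1,0,2,0,2,0,2,0,2,0,2,0,1,0,1,0,2,0,2,0,2,0,2,0,1,0,1,0,1,0,2,0,1,0,2,0,1,0,2,0,2,0,1,0,1,0,1,0,1,0,2,0,1,0,2,0,1,0,2,0,2,0,2,0,2,0,1,0,1,0,2,0,2,0,1,1,0,2,0,1,0,1,0,2,0,2,0,1,0,2,0,1,0,2,0,1,0,1,0,1,0,1,0,2,0,2,0,2,0,1,0,1,0,2,0,1,0,2,0,1,0,2,0,1,0,1], [1,0,1,0,1,0,1,0,2,0,2,0,1,0,1,0,1,0,1,0,1,0,2,0,1,0,1,0,2,0,2,0,1,0,2,0,1,0,2,0,2,0,2,0,1,0,1,0,2,0,1,0,2,3,1,0,2,0,1,0,2,0,2,0,1,0,1,0,1,0,2,0,1,0,2,0,1,0,1,0,2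,0,2,0,1,0,2,0,2,0,2,0,2,0,2,0,1,0,1,0,2,0,2,0,2,0,2,0,1,0,1,0,1,0,2,0,1,0,2,0,1,0,2,0,2,0,1,0,1,0,1,0,1,0,2,0,1,0,2,0,1,0,2,0,2,0,2,0,2,0,1,0,1,0,2,0,2,0,1,0,1,0,1,0,1,0,1,0,2,0,2,0,1,0,1,0,1,0,1,0,1,0,2,0,1,0,1,0,2,0,2,0,1,0,2,0,1,0,2,0,2,0,2,0,1,0,1,0,2,0,1,0,2,3,1,0,2,0,1,0,2,0,2,0,1,0,1,0,1,0,2,0,1,0,2,0,1,0,1,0,2,0,2,0,1,0,2,0,2,0,2,0,2,0,2,0,1,0,1,0,2,0,2,0,2,0,2,0,1,0,1,0,1,0,2,0,1,0,2,0,1,0,2,0,2,0,1,0,1,0,1,0,1,0,2,0,1,0,2,0,1,0,2,0,2,0,2,0,2,0,1,0,1,0,2,0,2,0,1,1,0,2,0,1,0,1,0,2,0,2,0,1,0,2,0,1,0,2,0,1,0,1,0,1,0,1,0,2,0,2,0,2,0,1,0,1,0,2,0,1,0,2,0,1,0,2,0,1,0,1,0,1,0,1,0,1,0,2,0,1,0,2,0,1,0,2,0,2,0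,1,0,1,0,1,0,1,0,2,0,1,0,2,0,1,0,2,0,2,0,2,0,2,0,1,0,1,0,2,0,2,0,1,0,1,0,1,0,1,0,1,0,2,0,2,0,1,0,1,0,1,0,1,0,1,0,2,0,1,0,1,0,2,0,2,0,1,0,2,0,1,0,2,0,2,0,2,0,1,0,1,0,2,0,1,0,2,3,1,0,2,0,1,0,2,0,2,0,1,0,1,0,1,0,2,0,1,0,2,0,1,0,1,0,2,0,2,0,1,0,2,0,2,0,2,0,2,0,2,0,1,0,1,0,2,0,2,0,2,0,2,0,1,0,1,0,1,0,2,0,1,0,2,0,1,0,2,0,2,0,1,0,1,0,1,0,1,0,2,0,1,0,2,0,1,0,2,0,2,0,2,0,2,0,1,0,1,0,2,0,2,0,1,1,0,2,0,1,0,1,0,2,0,2,0,1,0,2,0,1,0,2,0,1,0,1,0,1,0,1,0,2,0,2,0,2,0,1,0,1,0,2,0,1,0,2,0,1,0,2,0,1,0,1,1,0,2,0,1,0,2,0,1,0,2,0,1,0,2,0,1,0,2,0,1,1,0,1,0,1,0,2,0,2,0,1,0,1,0,1,0,1,0,1,0,2,0,1,0,1,0,2,0,2,0,1,0,2,0,1,0,2,0,2,0,2,0,1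,0,1,0,2,0,1,0,2,3,1,0,2,0,1,0,2,0,2,0,1,0,1,0,1,0,2,0,1,0,2,0,1,0,1,0,2,0,2,0,1,0,2,0,2,0,2,0,2,0,2,0,1,0,1,0,2,0,2,0,2,2,0,1,0,2,0,1,0,2,0,1,0,2,0,1,0,2,0,1,1,0,1,0,1,0,2,0,2,0,1,0,1,0,1,0,1,0,1,0,2,0,1,0,1,0,2,0,2,0,1,0,2,0,1,0,2,0,2,0,2,0,1,0,1,0,2,0,1,0,2,3,1,0,2,0,1,0,2,0,2,0,1,0,1,0,1,0,2,0,1,0,2,0,1,0,1,0,2,0,2,0,1,0,2,0,2,0,2,0,2,0,2,0,1,0,1,0,2,0,2,0,2,0,2,0,1,0,1,0,1,0,2,0,1,0,2,0,1,0,2,0,2,0,1,0,1,0,1,0,1,0,2,0,1,0,2,0,1,0,2,0,2,0,2,0,2,0,1,0,1,0,2,0,2,0,1,0,1,0,1,0,1,0,1,0,2,0,2,0,1,0,1,0,1,0,1,0,1,0,2,0,1,0,1,0,2,0,2,0,1,0,2,0,1,0,2,0,2,0,2,0,1,0,1,0,2,0,1,0,2,3,1,0,2,0,1,0,2,0,2,0,1,0,1,0,1,0,2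,0,1,0,2,0,1,0,1,0,2,0,2,0,1,0,2,0,2,0,2,0,2,0,2,0,1,0,1,0,2,0,2,0,2,0,2,0,1,0,1,0,1,0,2,0,1,0,2,0,1,0,2,0,2,0,1,0,1,0,1,0,1,0,2,0,1,0,2,0,1,0,2,0,2,0,2,0,2,0,1,0,1,0,2,0,2,0,1,1,0,2,0,1,0,1,0,2,0,2,0,1,0,2,0,1,0,2,0,1,0,1,0,1,0,1,0,2,0,2,0,2,0,1,0,1,0,2,0,1,0,2,0,1,0,2,0,1,0,1,0,1,0,1,0,1,0,2,0,1,0,2,0,1,0,2,0,2,0,1,0,1,0,1,0,1,0,2,0,1,0,2,0,1,0,2,0,2,0,2,0,2,0,1,0,1,0,2,0,2,0,1,0,1,0,1,0,1,0,1,0,2,0,2,0,1,0,1,0,1,0,1,0,1,0,2,0,1,0,1,0,2,0,2,0,1,0,2,0,1,0,2,0,2,0,2,0,1,0,1,0,2,0,1,0,2,3,1,0,2,0,1,0,2,0,2,0,1,0,1,0,1,0,2,0,1,0,2,0,1,0,1,0,2,0,2,0,1,0,2,0,2,0,2,0,2,0,2,0,1,0,1,0,2,0,2,0,2,0,2,0,1,0,1,0,1,0,2,0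,1,0,2,0,1,0,2,0,2,0,1,0,1,0,1,0,1,0,2,0,1,0,2,0,1,0,2,0,2,0,2,0,2,0,1,0,1,0,2,0,2,0,1,1,0,2,0,1,0,1,0,2,0,2,0,1,0,2,0,1,0,2,0,1,0,1,0,1,0,1,0,2,0,2,0,2,0,1,0,1,0,2,0,1,0,2,0,1,0,2,0,1,0,1,1,0,2,0,1,0,2,0,1,0,2,0,1,0,2,0,1,0,2,0,1,1,0,1,0,1,0,2,0,2,0,1,0,1,0,1,0,1,0,1,0,2,0,1,0,1,0,2,0,2,0,1,0,2,0,1,0,2,0,2,0,2,0,1,0,1,0,2,0,1,0,2,3,1,0,2,0,1,0,2,0,2,0,1,0,1,0,1,0,2,0,1,0,2,0,1,0,1,0,2,0,2,0,1,0,2,0,2,0,2,0,2,0,2,0,1,0,1,0,2,0,2,0,2,2,0,1,0,2,0,1,0,2,0,1,0,2,0,1,0,2,0,1,0,2,2,0,1,0,1,0,1,0,2,0,1,0,1,0,1,0,1,0,2,0,1,0,1,0,1,0,2,0,2,0,2,0,1,0,2,0,1,0,2,0,2,0,1,1,0,2,0,1,0,2,0,1,0,2,0,1,0,2,0,1,0,2,0,1,1,0,2,0,1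,0,1,0,1,0,2,0,2,0,1,0,2,0,2,0,2,0,1,0,1,0,1,0,2,0,1,0,1,0,2,0,2,0,2,0,1,0,2,0,2,0,1,0,1,0,1,0,1,0,2,0,1,0,1,0,2,0,2,0,2,0,2,0,2,0,1,0,2,0,2,0,1,0,1,0,1,0,2,0,1,0,1,0,2,0,2,0,2,0,1,0,1,1,0,2,0,1,0,1,0,2,0,2,0,1,0,2,0,1,0,2,0,1,0,1,0,1,0,1,0,2,0,2,0,2,0,1,0,1,0,2,0,1,0,2,0,1,0,2,0,1,0,1,0,1,0,1,0,1,0,1,0,2,0,1,0,1,0,2,0,2,0,2,0,2,0,2,0,1,0,2,0,2,0,1,0,1,0,1,0,2,0,1,0,1,0,2,0,2,0,2,0,1,0,1,0,1,0,1,0,2,0,1,0,1,0,1,0,2,0,2,0,1,0,2,0,2,0,2,0,1,0,1,0,1,0,2,0,1,0,1,0,2,0,2,0,2,0,1,0,2,2,0,1,0,2,0,1,0,2,0,1,0,2,0,1,0,2,0,1,0,2,2,0,1,0,1,0,1,0,2,0,1,0,1,0,1,0,1,0,2,0,1,0,1,0,1,0,2,0,2,0,2,0,1,0,2,0,1,0,2,0,2,0,1,0,1,0,2,0,1,0,1,0,2,0,2,0,1,0,2,0,1,0,2,0,1,0,1,0,1,0,1,0,2,0,2,0,2,0,1,0,1,0,2,0,1,0,2,0,1,0,2,0,1,0,1]]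
theorem RX0_ok : (∀ r ∈ RX0, ev gM r = 1) ∧ ∀ w ∈ ([[0]] : List (List ℕ)), ev gM w ≠ 1 :=
  ltrsM.of_run codeM (prog := [(1, 0), (3, 1), (1, 0), (2, 0), (3, 0), (2, 2), (5, 1), (5, 5), (4, 6), (3, 1), (9, 3), (0, 2), (0, 2), (0, 9), (12, 0), (9, 13), (0, 9), (0, 7), (0, 16), (0, 10), (19, 22), (16, 1), (1, 25), (16, 8), (16, 20), (22, 16), (23, 4), (4, 3), (0, 1), (23, 22), (0, 5), (0, 25), (21, 17), (34, 7), (0, 2), (2, 6), (0, 1), (34, 29), (27, 18), (35, 31), (39, 41), (4, 2), (37, 2), (20, 27), (0, 39), (0, 19), (0, 8), (44, 45), (19, 6), (2, 24), (0, 42), (0, 49), (0, 30), (4, 16), (30, 0), (50, 53), (0,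 18), (0, 14), (25, 5), (0, 24), (54, 54), (56, 53), (55, 14), (0, 59), (0, 58), (0, 64), (61, 51), (27, 59), (0, 20), (0, 26), (4, 29), (68, 13), (2, 71), (64, 41), (13, 71), (0, 76), (21, 35), (24, 17), (0, 39), (0, 19), (0, 39), (82, 72), (0, 68), (80, 85), (22, 13), (80, 78), (0, 24), (0, 71), (81, 15), (13, 17), (89, 79), (17, 50), (4, 93), (96, 93), (0, 72), (0, 96), (0, 7), (0, 64), (0, 71), (0, 100), (0, 62), (0, 30), (0, 35), (0, 97), (0, 30), (0, 20), (0, 34), (0, 23), (18, 25), (0, 28), (108, 49), (20, 38), (76, 70), (109, 55), (60, 73), (60, 110), (0, 24), (118, 50), (63, 119), (0, 26), (39, 44), (0,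 54), (0, 75), (0, 115), (0, 115), (0, 127), (0, 15), (106, 125), (51, 51), (74, 17), (0, 17), (0, 94), (0, 20), (0, 132), (57, 20), (0, 52), (0, 21), (0, 23), (0, 54), (84, 54), (0, 73), (0, 87), (0, 80), (0, 77), (0, 143), (0, 124), (29, 29), (70, 123), (0, 30), (0, 34), (0, 126), (0, 130), (32, 32), (129, 104), (0, 112), (0, 42), (0, 114), (0, 156), (81, 50), (0, 51), (0, 52), (51, 51), (0, 52), (139, 36), (0, 46), (0, 38), (0, 38), (0, 74), (0, 78), (0, 121), (0, 81), (0, 136), (0, 81), (0, 103), (0, 167), (0, 117), (0, 155), (0, 66), (0, 50), (0, 91), (0, 176), (0, 89)])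
    (es := [(53, 99999), (48, 99999), (43, 99999), (36, 99999), (35, 99999), (30, 99999), (29, 99999), (24, 99999), (21, 99999), (19, 99999), (0, 99999)]) (ns := [182]) (by decide +kernel) (L := 4) (by decide +kernel)
def RX : List (List ℕ) := RX0
theorem RX_ok : ∀ r ∈ RX, ev gM r = 1 :=
  RX0_ok.1

end CL.J4G
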