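/-
Identification of subgroups of the Leech lattice group with simple groups given by presentations.
-/
import Cfsg.Agent.REC.Lam2
import Cfsg.Agent.REC.Amal
import Cfsg.Agent.SPOR.LeechTrans

set_option autoImplicit false

namespace CL.Rec

open Cfsg CL.Leech CL.K CL.CG CL.CE CL.F2M MulAction

theorem equiv_of_hom {K : Subgroup Co0} {X : Type*} [Group X] [IsSimpleGroup X] (f : X →* GL24)
    (hf : f.range ≤ K.map rho) {x : GL24} (hx : x ∈ f.range) (h1 : x ≠ 1) (hc : Nat.card K ≤ Nat.card X) :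
    Nonempty (K ≃* X) := by
  have : Finite Co0 := Nat.finite_of_card_ne_zero (by rw [card_Co0]; norm_num)
  have hi : Function.Injective f := (MonoidHom.ker_eq_bot_iff f).1 (f.normal_ker.eq_bot_or_eq_top.resolve_right fun e => by
    obtain ⟨x, rfl⟩ := hx
    exact h1 (e.ge trivial))
  rw [Nat.card_congr (MonoidHom.ofInjective hi).toEquiv] at hc
  have h2 := rho.subgroupMap_surjective K
  have h3 := Subgroup.eq_of_le_of_card_ge hf ((Nat.card_le_card_of_surjective _ h2).trans hc)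
  exact ⟨(MulEquiv.ofBijective _ (h2.bijective_of_nat_card_le (h3 ▸ hc))).trans
    ((MulEquiv.subgroupCongr h3.symm).trans (MonoidHom.ofInjective hi).symm)⟩

theorem mem_stab3 {u v w : leechLattice} (hu : sqNorm (u : GolayPt → ℤ) ≤ 80) (hv : sqNorm (v : GolayPt → ℤ) ≤ 80)
    (hw : sqNorm (w : GolayPt → ℤ) ≤ 80) {a b c : ℕ} (ha : Leech.enc u = a) (hb : Leech.enc v = b) (hc : Leech.enc w = c)
    {P : List (ℕ × ℕ)} (h : lall (okGen [a, b, c]) P = true) (W : List (List ℕ)) :
    ∀ d ∈ W.map (evC mm c1 (P.map Prod.snd)),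
      Mem gcode ((stabilizer Co0 u ⊓ stabilizer Co0 v ⊓ stabilizer Co0 w).map rho) d := by
  have h1 : ∀ d ∈ P.map Prod.snd, Mem gcode ((stabilizer Co0 u ⊓ stabilizer Co0 v ⊓ stabilizer Co0 w).map rho) d :=
    List.forall_mem_map.2 fun p hp => by
      obtain ⟨g, h1, h2⟩ := okGen_spec (lall_iff.1 h p hp)
      exact ⟨_, ⟨g, ⟨⟨h2 _ hu (by simp [ha]), h2 _ hv (by simp [hb])⟩, h2 _ hw (by simp [hc])⟩, rfl⟩, h1⟩
  exact List.forall_mem_map.2 fun w _ => mem_ev C24 (fun c hc => (h1 c hc).top) (ev_mem fun a _ => lt_mem C24 h1 a)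

theorem pres_of_relsB {K : Subgroup GL24} {L ivl : List ℕ} {R : List (List ℕ)} (hL : ∀ d ∈ L, Mem gcode K d)
    (h : forceL L (fun L => relsB mm c1 L R) = true) (hl : L.length = ivl.length)
    (hc : allLt (fun a => R.any (leq [a, ivl.getD a a])) ivl.length = true) :
    Pres (lt (gcode : GL24 → ℕ) L) (fun a => ivl.getD a a) R :=
  A10.pres_lets _ (ev_one_of_relsB C24 (fun c hc => (hL c hc).top) ((forceL_eq L _).symm.trans h)) ((List.length_map _).trans hl) hc

end CL.Rec
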