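/-
Automorphisms of subgroups of the lattice group: the model and three centralisers.
-/
import Mathlib
import Cfsg.Agent.SPOR.AutTree
import Cfsg.Agent.SPOR.LeechMdl
import Cfsg.Agent.SPOR.LeechMax
import Cfsg.Agent.SPOR.Cent5

set_option autoImplicit false

namespace CL.Leech

open Cfsg MulAction CL.K CL.Pack CL.SchurC CL.AutT CL.MT
open CL.Golay (Cent R I okM pm)

theorem Rep.rp {k : Co0} {T : List ℕ} {j : ℕ} (h : Rep k (tabM T j) (tabK T j)) :
    Rp DC VC k (actT T j) := by
  rintro _ ⟨x, hx, rfl⟩
  rw [actT_senc h hx, DC_senc hx, DC_senc (by rwa [sqNorm_smul])]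
  exact ⟨vc_senc (by rwa [sqNorm_smul]), rfl⟩

theorem isBase0 : IsBase Co0 DC VC baseC :=
  ⟨(isBase ⊤).valid, fun g h => congrArg Subtype.val ((isBase ⊤).eq_one ⟨g, trivial⟩ h)⟩

theorem exists_mdl {c : ℕ} {L : List ℕ} (h : okT (fun _ _ => true) (c :: L) = true) :
    ∃ g : ℕ → Co0, Mdl DC VC g (actT (c :: L)) baseC := by
  have hT : TabIn ⊤ (c :: L) := tabIn_of_ok (fun _ _ _ _ _ => Subgroup.mem_top _) h
  choose g _ hg using hT
  exact ⟨g, fun j => (hg j).rp, (actMdl ⊤ []).inj, isBase0⟩

theorem rp_perm {σ : M24} {c P : ℕ} (hP : R σ.1 P) (h : okP c P = true) :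
    Rp DC VC (permHom σ) (actT [c] 0) :=
  Rep.rp fun x hx => by
    have := rep_perm hP h x hx
    rwa [ap, force_eq] at this

theorem card_Cent_eq {t : Equiv.Perm GolayPt} {T : ℕ} (ht : R t T) : Nat.card (Cent t) =
    Golay.sumP24 (PC.cConj 5 31 T T) (Golay.qConj T T) Golay.lv0 [] Golay.one24 := by
  rw [← Golay.lvl0.count1 (Enc.Snd.cConj ht ht) (Golay.qConj_spec ht ht), ← SetLike.coe_sort_coe,
    Nat.card_coe_set_eq]
  refine congrArg Set.ncard (Set.ext fun g => ?_)
  simp [Golay.mem_Cent]

theorem card_cent_conj {G : Type*} [Group G] (m t : G) :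
    Nat.card (Subgroup.centralizer {m * t * m⁻¹}) = Nat.card (Subgroup.centralizer {t}) := by
  have : (Subgroup.centralizer {t}).map (MulAut.conj m).toMonoidHom =
      Subgroup.centralizer {m * t * m⁻¹} := by
    ext k
    rw [Subgroup.mem_map_equiv, Subgroup.mem_centralizer_singleton_iff,
      Subgroup.mem_centralizer_singleton_iff]
    show m⁻¹ * k * m * t = t * (m⁻¹ * k * m) ↔ _
    refine ⟨fun h => ?_, fun h => ?_⟩
    · calc k * (m * t * m⁻¹) = m * (m⁻¹ * k * m * t) * m⁻¹ := by group
        _ = _ := by rw [h]; group
    · calc m⁻¹ * k * m * t = m⁻¹ * (k * (m * t * m⁻¹)) * m := by group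
        _ = _ := by rw [h]; group
  rw [← this, Subgroup.card_map_of_injective (MulAut.conj m).injective]

/-- a permutation of order 23 -/
def p23 : ℕ := 956302485175575353788796878166559809
/-- its matrix -/
def m23 : ℕ := 0x821084210842108421084210842108422084210842108421084210842108421104210842108421084210842108421088210842108421084210842108421084410842108421084210842108421084220842108421084210842108421084211042108421084210842108421084210882108421084210842108421084210844108421084210842108421084210842208421084210842108421084210842110421084210842108421084210842108821084210842108421084210842108441084210842108421084210842108422084210842108421084210842108421104210842108421084210842108421088210842108421084210842108421084410842108421084210842108421084220842108421084210842108421084211042108421084210842108421084210882108421084210842108421084210844108421084210842108421084210842208421084210842108421084210842110441084210842108421084210842108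
/-- the fixed classes -/
def f23 : ℕ := 0x6a5294a5294a5294a5294a5294a5298210842108421084210842108421082a5294a5294a5294a5294a5294a529421084210842108421084210842108

theorem p23_in : I M24 p23 := Golay.I.of_okM (by decide +kernel)

/-- the element of order 23 -/
noncomputable def s23 : M24 := ⟨pm p23, p23_in.permOf_mem⟩

theorem card_cent23 {k : Co0} {F : ℕ → ℕ} (h : Rp DC VC k F)
    (e : feq F (actT [m23] 0) baseC = true) : Nat.card (Subgroup.centralizer {k}) ≤ 46 := by
  have hR : R s23.1 p23 := p23_in.rep
  have hP : okP m23 p23 = true := by decide +kernel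
  rw [h.eq isBase0 (rp_perm hR hP) e]
  obtain ⟨t1, t2⟩ := tab_of_ok (σ := s23) (n := 23) (T := f23) (a := 2) (b := 2) (reps := [0, 23])
    (ps := [0, 299]) hR (rep_perm hR hP) (by decide)
    (Subtype.ext ((hR.pow_succ_eq_one_iff 22).1 (by decide +kernel))) (by decide +kernel) rfl
    (by decide +kernel)
  have h1 := t1.card_cent_le' hR
  have h2 : sumLt2 (fun i => K.ind (nrmN (rowOf f23 i)) 64) 2 2 = 1 := by decide +kernel
  have h3 : sumLt2 (fun k => force (Golay.cw k) fun w => K.ind (Golay.img24 p23 w) w) 64 64 = 2 := by
    decide +kernel
  have h4 : Nat.card (Cent s23.1) = 23 := (card_Cent_eq hR).trans (by decide +kernel)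
  rwa [card_norm64 t2, h2, h3, h4] at h1

/-- a permutation of order 11 -/
def p11 : ℕ := 983435072843990828779021698901151808
/-- its matrix -/
def m11 : ℕ := 0x821084210842108421084210842108421084210842108821084210842108441084210842108421084210842108421084210842108441084210842108422084210842108421084210842108421084210842108422084210842108421104210842108421084210842108421084210842108421104210842108421088210842108421084210842108421084210842108421088210842108421084410842108421084210842108421084210842108421084410842108421084220842108421084210842108421084210842108421084220842108421084211042108421084210842108421084210842108421084211042108421084210882108421084210842108421084210842108421084210882108421084210844108421084210842108421084210842108421084210844108421084210842208421084210842108421084210842108421084210842208421084210842110421084210842108421084210842108421084210842110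
/-- the fixed classes -/
def f11 : ℕ := 0x6a5294a5294a5294a5294a5294a529421084290a4214a4214a4290a5294a62108421084210842108421084210c39ce73a4e939d2939d293a4e94a52d621084290a4214a4214a4290a529464a5294a5294a5294a5294a5294a52d59ce73a4e939d2939d293a4e94a5298210842108421084210842108421082a5294a5294a5294a5294a5294a5295294a52148529085290852148421086210842108421084210842108421044a52949d274a4e74a4e749d2739ceb5294a331485190832908320c8421084a5294a5294a5294a5294a5294a5256a52949d274a4e74a4e749d2739ce7421084210842108421084210842108

theorem p11_in : I M24 p11 := Golay.I.of_okM (by decide +kernel)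

/-- the element of order 11 -/
noncomputable def s11 : M24 := ⟨pm p11, p11_in.permOf_mem⟩

theorem card_cent11 {k : Co0} {F : ℕ → ℕ} (h : Rp DC VC k F)
    (e : feq F (actT [m11] 0) baseC = true) : Nat.card (Subgroup.centralizer {k}) ≤ 132 := by
  have hR : R s11.1 p11 := p11_in.rep
  have hP : okP m11 p11 = true := by decide +kernel
  rw [h.eq isBase0 (rp_perm hR hP) e]
  obtain ⟨t1, t2⟩ := tab_of_ok (σ := s11) (n := 11) (T := f11) (a := 4) (b := 4) (reps := [0, 1, 5, 23])
    (ps := [0, 1, 65, 299]) hR (rep_perm hR hP) (by decide)
    (Subtype.ext ((hR.pow_succ_eq_one_iff 10).1 (by decide +kernel))) (by decide +kernel) rfl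
    (by decide +kernel)
  have h1 := t1.card_cent_le' hR
  have h2 : sumLt2 (fun i => K.ind (nrmN (rowOf f11 i)) 64) 4 4 = 3 := by decide +kernel
  have h3 : sumLt2 (fun k => force (Golay.cw k) fun w => K.ind (Golay.img24 p11 w) w) 64 64 = 4 := by
    decide +kernel
  have h4 : Nat.card (Cent s11.1) = 11 := (card_Cent_eq hR).trans (by decide +kernel)
  rwa [card_norm64 t2, h2, h3, h4] at h1

/-- a permutation of order 5 -/
def p5 : ℕ := 974380510768821363662145534143076928
/-- its matrix -/
def m5 : ℕ := 0x821084210842108421084210842108421088210842108421084210842108421084210842108421084220842108422084210842108421084210842108421084210842108821084210842108421084210842108421084210842208421084210844108421084210842108421084210842108421104210842108421084210882108421084210842108441084210842108421084210842108421084211042108421084210842108421084210842108422084210842108421084220842108421084210842108421104210842108421084210842108421084210842208421084210842108421084210842110421084210842108421084210842108441084210842108421084210842108421084210844108421084210842108421088210842108421084410842108421084210842108421084210842108421084210882108421084210842108421084211042108421084210842108421084410842108421084210842108421084210842110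

theorem card_cent5 {k : Co0} {F : ℕ → ℕ} (h : Rp DC VC k F)
    (e : feq F (actT [m5] 0) baseC = true) : Nat.card (Subgroup.centralizer {k}) ≤ 72000 := by
  have hm : I M24 727190382719471088865356683509455467 := Golay.I.of_okM (by decide +kernel)
  let m : M24 := ⟨_, hm.permOf_mem⟩
  have hR : R (m * C5.s0 * m⁻¹).1 p5 := by
    have := Golay.R.conj hm.rep Golay.R_5A
    rwa [show Golay.conj24 _ _ = p5 by decide +kernel] at this
  rw [h.eq isBase0 (rp_perm hR (c := m5) (by decide +kernel)) e, map_mul, map_mul, map_inv,
    card_cent_conj]
  exact C5.card_cent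

theorem cv_sub (K : Subgroup Co0) {x : ℕ} (hx : vbC x = true) :
    Cv (MonoidHom.id K) DC VC x fun c => !Nat.beq c x where
  surj := Function.surjective_id
  ker k h := by
    obtain rfl : k = 1 := h
    exact ⟨one_mem _, one_mul _⟩
  vx := vbC_spec x hx
  test k h c hc e := by
    obtain rfl : k = 1 := h
    rw [OneMemClass.coe_one, one_smul] at e
    rw [(actMdl ⊤ []).inj _ _ (vbC_spec x hx) hc e, Nat.beq_refl]
    rfl

/-- the projection onto the central quotient -/
noncomputable def prj : (⊤ : Subgroup Co0) →* Co0 ⧸ Subgroup.center Co0 :=
  (QuotientGroup.mk' _).comp (Subgroup.subtype ⊤)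

theorem prj_eq_one {k : (⊤ : Subgroup Co0)} : prj k = 1 ↔ (k : Co0) = 1 ∨ (k : Co0) = neg1 :=
  (QuotientGroup.eq_one_iff _).trans mem_center_iff

/-- the code of the negative vector -/
def negS (c : ℕ) : ℕ := salt (Nat.sub (Nat.mul 16 ONES) (unsalt c))

theorem rp_neg : Rp DC VC neg1 negS := by
  rintro _ ⟨x, hx, rfl⟩
  have : negS (senc x) = senc (neg1 • x) := by
    rw [negS, senc, unsalt_salt, senc, ← RepF.neg x hx]
  rw [this, DC_senc hx, DC_senc (by rwa [sqNorm_smul])]
  exact ⟨vc_senc (by rwa [sqNorm_smul]), rfl⟩

theorem cv_top {x : ℕ} (hx : vbC x = true) :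
    Cv prj DC VC x fun c => !Nat.beq c x && !Nat.beq c (negS x) where
  surj := (QuotientGroup.mk'_surjective _).comp fun k => ⟨⟨k, trivial⟩, rfl⟩
  ker k h := by
    have h1 : (k : Co0) ∈ Subgroup.center Co0 := (QuotientGroup.eq_one_iff _).1 h
    refine ⟨Subgroup.mem_center_iff.2 fun y => Subtype.ext (Subgroup.mem_center_iff.1 h1 y), ?_⟩
    have h2 := pow_card_eq_one' (x := (⟨_, h1⟩ : Subgroup.center Co0))
    rw [card_center, sq] at h2
    exact Subtype.ext (congrArg (Subtype.val (p := (· ∈ Subgroup.center Co0))) h2)
  vx := vbC_spec x hx
  test k h c hc e := by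
    have hx' := vbC_spec x hx
    rcases prj_eq_one.1 h with h | h <;> rw [h] at e
    · rw [one_smul] at e
      rw [(actMdl ⊤ []).inj _ _ hx' hc e, Nat.beq_refl]
      rfl
    · rw [(rp_neg x hx').2] at e
      rw [← (actMdl ⊤ []).inj _ _ (rp_neg x hx').1 hc e, Nat.beq_refl, Bool.not_true, Bool.and_false]

theorem stab_senc {v : leechLattice} (hv : sqNorm (v : GolayPt → ℤ) ≤ 80) {c : ℕ} (h : enc v = c) :
    VC (salt c) ∧ DC (salt c) = v := h ▸ ⟨vc_senc hv, DC_senc hv⟩

end CL.Leech
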