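import Cfsg.Agent.SPOR.Ord12a

/-! The principal `5`-block and two classes of involutions of a simple group of order `95040`. -/

set_option autoImplicit false
open Cfsg Subgroup CL.Char
open scoped ComplexConjugate

namespace CL.Ord

variable {G : Type*} [Group G] [Finite G]

theorem sum_of_list' {M : Type*} [AddCommMonoid M] {α : Type*} [Fintype α] {L : List α}
    (h : L.Nodup) {f : α → M} (h' : ∀ a ∉ L, f a = 0) : ∑ a, f a = (L.map f).sum := by
  classical
  rw [← List.sum_toFinset f h]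
  exact (Finset.sum_subset (Finset.subset_univ _) fun a _ ha => h' a (by simpa using ha)).symm

theorem sum_int_le_cent {L : List (IrrCharacter G)} (hL : L.Nodup) {g : G}
    {f : IrrCharacter G → ℤ} (h : ∀ χ ∈ L, χ.1 g = f χ) :
    (L.map fun χ => f χ ^ 2).sum ≤ Nat.card (centralizer ({g} : Set G)) := by
  have h1 := sum_le_cent hL g
  rw [List.map_congr_left fun χ hχ => show _ = ((f χ ^ 2 : ℤ) : ℝ) by simp [h χ hχ]] at h1
  rw [← Int.cast_le (R := ℝ), Int.cast_list_sum, List.map_map]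
  exact h1

theorem sum_deg_le {L : List (IrrCharacter G)} (hL : L.Nodup) :
    (L.map fun χ => charDegree χ.1 ^ 2).sum ≤ Nat.card G := by
  classical
  rw [← List.sum_toFinset _ hL, ← sum_deg_sq]
  exact Finset.sum_le_sum_of_subset (Finset.subset_univ _)

theorem div_sdeg {δ : ℤ} {χ : IrrCharacter G} (h : δ = 1 ∨ δ = -1) :
    (δ * charDegree χ.1).sign = δ ∧ (δ * charDegree χ.1).natAbs = charDegree χ.1 ∧
      ((Nat.card G / (δ * charDegree χ.1) : ℤ) : ℂ) = δ * Nat.card G / χ.1 1 := by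
  have h1 := χ.2.charDegree_pos
  obtain ⟨m, hm⟩ := χ.2.charDegree_dvd_card
  have h3 : (charDegree χ.1 : ℂ) ≠ 0 := by exact_mod_cast h1.ne'
  rw [χ.2.apply_one_eq_charDegree, hm]
  rcases h with rfl | rfl <;> simp [Int.sign_eq_one_of_pos, h1, h1.ne', mul_div_cancel_left₀, h3,
    neg_div]

omit [Finite G] in
theorem B11.mem_or (B : B11 G) (χ : IrrCharacter G) : 11 ∣ charDegree χ.1 ∨ χ = irrOne G ∨
    χ = B.c45 ∨ χ = B.c54 ∨ χ = B.c120 ∨ χ = B.c144 ∨ χ = B.t1 ∨ χ = B.t2 := by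
  simpa [or_iff_not_imp_right] using B.dvd χ

/-- The principal `5`-block and the columns of an element of order five and two involutions. -/
structure B5 (G : Type*) [Group G] extends B11 G where
  (x z t : G)
  (c66 c99 c176 : IrrCharacter G)
  ox : orderOf x = 5
  oz : orderOf z = 2
  ot : orderOf t = 2
  comm : Commute x z
  C5 : Nat.card (centralizer ({x} : Set G)) = 10
  N5 : Nat.card (normalizer (zpowers x : Set G)) = 40
  Cz : Nat.card (centralizer ({z} : Set G)) = 240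
  Ct : Nat.card (centralizer ({t} : Set G)) = 192
  d66 : charDegree c66.1 = 66
  d99 : charDegree c99.1 = 99
  d176 : charDegree c176.1 = 176
  neg : ∀ χ ∉ [irrOne G, c66, c99, c144, c176], χ.1 (x * z) = -χ.1 x
  rel5 : ∀ g, ¬ 5 ∣ orderOf g → 1 + c66.1 g - c99.1 g - c144.1 g + c176.1 g = 0
  vx : [c45, c54, c120, c144, t1, t2, c66, c99, c176].map (·.1 x) = [0, -1, 0, -1, 1, 1, 1, -1, 1]
  vz : [c45, c54, c120, c144, t1, t2, c66, c99, c176].map (·.1 z) = [5, 6, 0, 4, 4, 4, 6, -1, -4]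
  vt : [c45, c54, c120, c144, t1, t2, c66, c99, c176].map (·.1 t) = [-3, 6, -8, 0, 0, 0, 2, 3, 0]
  cmt : cm t t x ≠ 0

/-- Conditions on the pairs (signed degree, value at an involution) of the principal `5`-block. -/
def ok5 (C : ℕ) (N d e : ℤ) (P : List (ℤ × ℤ)) : Prop :=
  (∀ p ∈ P, (p.1.natAbs = 144 → p.2 = d) ∧ (p.1.natAbs = 16 → p.2 = e)) ∧
    1 + (P.map fun p => p.1.sign * p.2).sum = 0 ∧
    N + ((P.filter fun p => 11 ∣ p.1.natAbs).map fun p => p.2 ^ 2).sum ≤ C ∧
    (C : ℤ) * C ∣ 2 * (95040 + (P.map fun p => 95040 / p.1 * (p.2 * p.2)).sum)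

instance (C : ℕ) (N d e : ℤ) (P : List (ℤ × ℤ)) : Decidable (ok5 C N d e P) := by
  unfold ok5; infer_instance

theorem exists_B5 [IsSimpleGroup G] (hG : Nat.card G = 95040) : Nonempty (B5 G) := by
  classical
  have hc : ¬ IsMulCommutative G := CL.Small.not_comm_of_not_prime (by rw [hG]; norm_num)
  have : Fact (Nat.Prime 11) := ⟨by norm_num⟩
  have : Fact (Nat.Prime 5) := ⟨by norm_num⟩
  have : Fact (Nat.Prime 3) := ⟨by norm_num⟩
  obtain ⟨B⟩ := exists_B11 hG
  have d0 : charDegree (irrOne G).1 = 1 := charDegree_const_one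
  have ⟨d1, d2, d3, d4, d5, d6⟩ := And.intro B.d45 <| And.intro B.d54 <| And.intro B.d120 <|
    And.intro B.d144 <| And.intro B.dt1 B.dt2
  obtain ⟨Q, e, c, E, hQ, hC, hN, θ, hθ, ⟨h, -⟩ | ⟨rfl, hc2, l, hl, h⟩⟩ := sieve5 hG
  · rcases B.mem_or θ with h | rfl | rfl | rfl | rfl | rfl | rfl | rfl <;> omega
  have n11 : ∀ g : G, 5 ∣ orderOf g → ¬ 11 ∣ orderOf g := fun g h5 h11 => by
    rw [orderOf_eq_of_cent B.C11 h11] at h5; omega
  have z45 : ∀ g : G, 5 ∣ orderOf g → B.c45.1 g = 0 ∧ B.c120.1 g = 0 := fun g hg =>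
    ⟨vanish (by norm_num) d1 (by rw [hG]; norm_num) hg,
      vanish (by norm_num) d3 (by rw [hG]; norm_num) hg⟩
  have hx : ∀ x : G, orderOf x = 5 → Nat.card (centralizer ({x} : Set G)) = 5 * c ∧
      ∃ f : IrrCharacter G → ℤ, (∀ χ, χ.1 x = f χ) ∧ f B.t1 = 1 - f B.c54 + f B.c144 ∧
        f B.t2 = f B.t1 ∧ f B.c54 % 5 = 4 ∧ f B.c144 % 5 = 4 ∧
        1 + f B.c54 ^ 2 + f B.c144 ^ 2 + 2 * f B.t1 ^ 2 ≤ 5 * c := fun x hx => by
    have h1 := (CL.D1.card_centralizer_eq Q hQ hx).trans hC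
    choose f hf using exists_int_of_card hx (by rw [hG]; norm_num)
      (by rw [N_of_sylow Q hQ hN hx, h1])
    obtain ⟨h2, h3⟩ := B.rel x (n11 x hx.symm.dvd)
    have h4 := sum_int_le_cent (L := [irrOne G, B.c54, B.c144, B.t1, B.t2])
      (B.nodup.sublist (by simp)) fun χ _ => hf χ
    have h5 : f (irrOne G) = 1 := by exact_mod_cast (hf _).symm.trans (irrOne_apply x)
    rw [(z45 x hx.symm.dvd).1, (z45 x hx.symm.dvd).2, hf, hf, hf, add_zero, sub_zero] at h2
    rw [hf, hf, Int.cast_inj] at h3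
    refine ⟨h1, f, hf, by exact_mod_cast h2, h3, int_mod_of_val hx (hf _) d2,
      int_mod_of_val hx (hf _) d4, ?_⟩
    simp only [List.map_cons, List.map_nil, List.sum_cons, List.sum_nil, h1, h3, h5] at h4
    push_cast at h4
    linarith
  have sq : ∀ {a : ℤ} (k : ℤ), 0 < k → a ^ 2 < k ^ 2 → -k < a ∧ a < k := fun k h1 h2 =>
    abs_lt.1 (abs_lt_of_sq_lt_sq h2 h1.le)
  obtain rfl | rfl := hc2
  swap
  · obtain ⟨g, hg⟩ := exists_order_mul (q := 3) Q hQ (by norm_num) hC (by norm_num)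
    obtain ⟨-, f, hf, h1, -, h2, -, h3⟩ := hx (g ^ 3 ^ 1)
      (by rw [orderOf_pow_of_dvd (by norm_num) (by norm_num [hg]), hg]; rfl)
    have h4 := B.c54.2.isGen.int_modEq_pow (p := 3) (by norm_num) 1 (m := 0) ((vanish (q := 3)
      (by norm_num) d2 (by rw [hG]; norm_num) (by simp [hg])).trans Int.cast_zero.symm) (hf _)
    unfold Int.ModEq at h4
    have := sq (a := f B.c54) 8 (by norm_num) (by push_cast at h3; nlinarith)
    rw [h1, show f B.c54 = -6 by omega] at h3
    push_cast at h3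
    nlinarith [sq_nonneg (3 * f B.c144 + 14)]
  obtain ⟨g, hg⟩ := exists_order_mul (q := 2) Q hQ (by norm_num) hC (by norm_num)
  have ox : orderOf (g ^ 2) = 5 := by rw [orderOf_pow_of_dvd (by norm_num), hg]; simp [hg]
  have oz : orderOf (g ^ 5) = 2 := by rw [orderOf_pow_of_dvd (by norm_num), hg]; simp [hg]
  have hxz : Commute (g ^ 2) (g ^ 5) := (Commute.refl g).pow_pow 2 5
  generalize g ^ 2 = x at ox hxz
  generalize g ^ 5 = z at oz hxz
  obtain ⟨C5, f, hf, f1, f2, f3, f4, f5⟩ := hx x ox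
  have f6 : f B.c54 = -1 := by
    have := sq (a := f B.c54) 4 (by norm_num) (by push_cast at f5; nlinarith)
    omega
  have f7 : f B.c144 = -1 := by
    have := sq (a := f B.c144) 4 (by norm_num) (by push_cast at f5; nlinarith)
    omega
  obtain ⟨L, s, hL, hL1, hL2, hL3, hL4⟩ := full_list E rfl hθ h
  have oxz := orderOf_mul_two (by norm_num) (by norm_num) ox oz hxz
  have neg : ∀ χ ∉ irrOne G :: L, χ.1 (x * z) = -χ.1 x := fun χ hχ => by
    rw [List.mem_cons, not_or, hL1, not_or] at hχ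
    exact neg_of_notMem E (by norm_num) ox oz hxz C5 hχ.1 hχ.2.1 hχ.2.2
  have n1 : ∀ χ ∈ L, χ ≠ irrOne G := fun χ h => E.ne_one ((hL1 χ).1 h)
  have key : ∀ u : G, orderOf u = 2 → ∀ a b c d e : ℤ, B.c45.1 u = a → B.c54.1 u = b →
      B.c120.1 u = c → B.c144.1 u = d → B.t1.1 u = e → ∀ fin : List ℤ → Bool,
      iall fin (l.map fun d => ivals 95040 (Nat.card (centralizer ({u} : Set G))) d.natAbs)
        (Nat.card (centralizer ({u} : Set G))) = true →
      ∃ v : IrrCharacter G → ℤ, (∀ χ ∈ L, χ.1 u = v χ) ∧ fin (L.map v) = true ∧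
        ok5 (Nat.card (centralizer ({u} : Set G))) (1 + a ^ 2 + b ^ 2 + c ^ 2 + d ^ 2 + 2 * e ^ 2)
          d e (l.zip (L.map v)) ∧ (Nat.card (centralizer ({u} : Set G)) : ℤ) *
          Nat.card (centralizer ({u} : Set G)) * (cm u u x + cm u u (x * z)) =
            2 * (95040 + ((l.zip (L.map v)).map fun p => 95040 / p.1 * (p.2 * p.2)).sum) := by
    intro u hu a b c d e ha hb hc' hd he fin h
    choose v hv using fun χ : IrrCharacter G => exists_int_of_two χ hu
    have he' := (B.rel u (by rw [hu]; norm_num)).2.trans he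
    have hcm : (Nat.card (centralizer ({u} : Set G)) : ℤ) *
        Nat.card (centralizer ({u} : Set G)) * (cm u u x + cm u u (x * z)) =
          2 * (95040 + ((l.zip (L.map v)).map fun p => 95040 / p.1 * (p.2 * p.2)).sum) := by
      rw [← Int.cast_inj (α := ℂ), ← hL2, List.zip_map', List.map_map]
      push_cast [-Int.cast_div_charZero]
      rw [mul_add, cm_eq, cm_eq, ← mul_add, ← Finset.sum_add_distrib, sum_of_list' hL
        fun χ hχ => by rw [neg χ hχ, map_neg]; ring, List.map_cons, List.sum_cons, mul_add,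
        ← List.sum_map_mul_left, mul_add 2, ← List.sum_map_mul_left, List.map_map, hG]
      congr 1
      · simp only [irrOne_apply, map_one]; norm_num
      refine congrArg _ (List.map_congr_left fun χ hχ => ?_)
      have h1 := (div_sdeg (χ := χ) (hL3 χ hχ).1).2.2
      rw [hG] at h1
      simp only [Function.comp, Int.cast_mul, (hL3 χ hχ).2 x ox.symm.dvd,
        (hL3 χ hχ).2 (x * z) (by simp [oxz]), hv, map_intCast]
      push_cast [-Int.cast_div_charZero] at h1
      rw [h1]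
      ring
    refine ⟨v, fun χ _ => hv χ, iall_spec h ?_ ?_, ⟨?_, ?_, ?_, ⟨_, hcm.symm⟩⟩, hcm⟩
    · rw [← hL2, List.map_map, List.forall₂_map_left_iff, List.forall₂_map_right_iff,
        List.forall₂_same]
      intro χ hχ
      obtain ⟨a, h1, -, -, -, h2⟩ := inv_val hc hu (n1 χ hχ) rfl
      rw [hv, Int.cast_inj] at h1
      simpa only [Function.comp, (div_sdeg (hL3 χ hχ).1).2.1, h1, ← hG] using h2
    · have := sum_int_le_cent hL.of_cons fun χ _ => hv χ
      rw [← Nat.cast_le (α := ℤ), Nat.cast_list_sum, List.map_map, List.map_map]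
      simpa [Function.comp_def] using this
    · rw [← hL2, List.zip_map', List.forall_mem_map]
      intro χ hχ
      rw [(div_sdeg (hL3 χ hχ).1).2.1, ← Int.cast_inj (α := ℂ), ← Int.cast_inj (α := ℂ), ← hv]
      rcases B.mem_or χ with h | rfl | rfl | rfl | rfl | rfl | rfl | rfl <;>
        exact ⟨fun h => by first | assumption | omega, fun h => by first | assumption | omega⟩
    · have := hL4 u (by rw [hu]; norm_num)
      rw [← hL2, List.zip_map', List.map_map, ← Int.cast_inj (α := ℂ), Int.cast_zero, ← this]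
      push_cast
      rw [List.map_map]
      refine congrArg (1 + List.sum ·) (List.map_congr_left fun χ hχ => ?_)
      simp only [Function.comp, (div_sdeg (hL3 χ hχ).1).1, hv, Int.cast_mul]
    · have := sum_int_le_cent (L := [irrOne G, B.c45, B.c54, B.c120, B.c144, B.t1, B.t2] ++
        L.filter fun χ => 11 ∣ charDegree χ.1) (List.nodup_append.2 ⟨B.nodup, hL.of_cons.filter _,
          fun a ha b hb h => by
            have := (List.mem_filter.1 hb).2
            simp only [List.mem_cons, List.not_mem_nil, or_false, decide_eq_true_eq] at ha this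
            rcases ha with rfl | rfl | rfl | rfl | rfl | rfl | rfl <;> subst h <;> omega⟩)
        fun χ _ => hv χ
      rw [hv, Int.cast_inj] at ha hb hc' hd he he'
      have h5 : v (irrOne G) = 1 := by exact_mod_cast (hv _).symm.trans (irrOne_apply u)
      rw [← hL2, List.zip_map', List.filter_map, List.map_map, List.filter_congr
        (q := fun χ => decide (11 ∣ charDegree χ.1)) fun χ hχ => by
          simp only [Function.comp, (div_sdeg (hL3 χ hχ).1).2.1]]
      simp only [List.map_append, List.sum_append, List.map_cons, List.map_nil, List.sum_cons,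
        List.sum_nil, ha, hb, hc', hd, he, he', h5] at this
      simp only [Function.comp_def]
      linarith
  have hl' := (by decide : ∀ l ∈ cfg5, (∀ d ∈ l, 11 ∣ d.natAbs ∨ d.natAbs ∈ [1, 45, 54, 120, 144, 16]) →
    (∀ d ∈ l, d.natAbs ≠ 54) ∧ l ∈ [[11, 16, 16, -44], [11, -44, -144, 176], [11, 66, 66, -144],
      [16, 16, 66, -99], [66, -99, -144, 176]]) l hl (by
    rw [← hL2, List.forall_mem_map]
    intro χ hχ
    rw [(div_sdeg (hL3 χ hχ).1).2.1]
    rcases B.mem_or χ with h | rfl | rfl | rfl | rfl | rfl | rfl | rfl <;> simp [*])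
  obtain ⟨a, b, c, d, e, ha, hb, hc', hd, he, hz⟩ := B.inv z oz
  have hb' := modEq_of_comm (m := 1) (by norm_num) (by norm_num) ox oz hxz (by
    rw [neg, hf, f6]
    · simp
    refine fun h => (List.mem_cons.1 h).elim (fun h => by rw [h] at d2; omega) fun h => ?_
    exact hl'.1 _ (hL2 ▸ List.mem_map_of_mem h) ((div_sdeg (hL3 _ h).1).2.1.trans d2)) hb
  have h5 := ox ▸ CL.Small.orderOf_dvd_card_of_mem (mem_centralizer_singleton_iff.2 hxz.eq)
  obtain ⟨rfl, rfl, rfl, rfl, he', hz'⟩ : a = 5 ∧ b = 6 ∧ c = 0 ∧ d = e ∧ e ∈ [4, -4] ∧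
      Nat.card (centralizer ({z} : Set G)) ∈ [120, 240] := by
    simp only [List.mem_cons, Prod.mk.injEq, List.not_mem_nil, or_false] at hz ⊢
    omega
  obtain ⟨v, hv, h1, h2, -⟩ := key z oz _ _ _ _ _ ha hb hc' hd he _ ((by decide +kernel :
    ∀ l ∈ [[11, 16, 16, -44], [11, -44, -144, 176], [11, 66, 66, -144], [16, 16, 66, -99],
      [66, -99, -144, 176]], ∀ C ∈ [120, 240], ∀ d ∈ [4, -4], iall (fun v => decide
        (ok5 C (1 + 5 ^ 2 + 6 ^ 2 + 0 ^ 2 + d ^ 2 + 2 * d ^ 2) d d (l.zip v) →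
          (∀ p ∈ l.zip v, p.1.sign % 5 = p.2 % 5) →
            l = [66, -99, -144, 176] ∧ v = [6, -1, 4, -4] ∧ C = 240 ∧ d = 4))
        (l.map fun d => ivals 95040 C d.natAbs) C = true) l hl'.2 _ hz' _ he')
  obtain ⟨rfl, h3, Cz, rfl⟩ := of_decide_eq_true h1 h2 (by
    rw [← hL2, List.zip_map', List.forall_mem_map]
    intro χ hχ
    rw [(div_sdeg (hL3 χ hχ).1).1]
    exact modEq_of_comm (by norm_num) (by norm_num) ox oz hxz ((hL3 χ hχ).2 _ (by simp [oxz]))
      (hv χ hχ))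
  obtain ⟨t, ot, h4⟩ := exists_central_prime (G := G) (p := 2) (k := 5) (by rw [hG]; norm_num)
  obtain ⟨a, b, c, d, e, ta, tb, tc, td, te, ht⟩ := B.inv t ot
  obtain ⟨rfl, rfl, rfl, rfl, rfl, Ct⟩ : a = -3 ∧ b = 6 ∧ c = -8 ∧ d = 0 ∧ e = 0 ∧
      Nat.card (centralizer ({t} : Set G)) = 192 := by
    simp only [List.mem_cons, Prod.mk.injEq, List.not_mem_nil, or_false] at ht
    omega
  obtain ⟨w, hw, h6, h7, h8⟩ := key t ot _ _ _ _ _ ta tb tc td te (fun v => decide
    (ok5 192 110 0 0 (List.zip [66, -99, -144, 176] v) → v = [2, 3, 0, 0]))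
    (by rw [Ct]; decide +kernel)
  rw [Ct] at h7 h8
  replace h6 := of_decide_eq_true h6 h7
  rw [h6] at h8
  simp only [List.map_eq_cons_iff, List.map_eq_nil_iff] at hL2
  obtain ⟨c66, _, rfl, e1, c99, _, rfl, e2, c144, _, rfl, e3, c176, _, rfl, e4, rfl⟩ := hL2
  obtain ⟨g1, s1, -⟩ := deg_of_sdeg (hL3 _ (by simp)).1 e1
  obtain ⟨g2, -, s2⟩ := deg_of_sdeg (hL3 _ (by simp)).1 e2
  obtain ⟨g3, -, s3⟩ := deg_of_sdeg (hL3 _ (by simp)).1 e3
  obtain ⟨g4, s4, -⟩ := deg_of_sdeg (hL3 _ (by simp)).1 e4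
  norm_num at g1 s1 g2 s2 g3 s3 g4 s4
  obtain rfl : c144 = B.c144 := by
    rcases B.mem_or c144 with h | rfl | rfl | rfl | rfl | rfl | rfl | rfl <;> first | rfl | omega
  simp only [List.map_cons, List.map_nil, List.cons.injEq, List.forall_mem_cons] at h3 h6 hv hw hL3
  refine ⟨⟨B, x, z, t, c66, c99, c176, ox, oz, ot, hxz, C5, N_of_sylow Q hQ hN ox, Cz, Ct, g1, g2,
    g4, neg, fun g hg => ?_, ?_, ?_, ?_, fun h => ?_⟩⟩
  · have := hL4 g hg
    simp only [List.map_cons, List.map_nil, List.sum_cons, List.sum_nil, s1, s2, s3, s4] at this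
    push_cast at this
    linear_combination this
  · simp [(z45 x ox.symm.dvd), hL3.1.2 x ox.symm.dvd, hL3.2.1.2 x ox.symm.dvd,
      hL3.2.2.2.1.2 x ox.symm.dvd, s1, s2, s4, hf B.c54, hf B.c144, hf B.t1, hf B.t2, f1, f2, f6, f7]
  · simp [ha, hb, hc', hd, he, (B.rel z (by rw [oz]; norm_num)).2, hv, h3]
  · simp [ta, tb, tc, td, te, (B.rel t (by rw [ot]; norm_num)).2, hw, h6]
  · have h9 := cm_ne_zero_of_pow (g := x * z) (k := 6) (j := 3) ot (by
      intro h'; simp [h, h'] at h8) (by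
      rw [← pow_mul, pow_eq_pow_iff_modEq, oxz]; rfl)
    rw [hxz.mul_pow, show z ^ 6 = 1 from orderOf_dvd_iff_pow_eq_one.1 (by rw [oz]; norm_num),
      pow_succ, ← ox, pow_orderOf_eq_one, one_mul, mul_one] at h9
    exact h9 h

end CL.Ord
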