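import Cfsg.Agent.SPOR.Ord12b
import Cfsg.Agent.CHAR.Simplex

/-! A simple group of order `95040` has a subgroup of index `12`. -/

set_option autoImplicit false
open Cfsg Subgroup CL.Char
open scoped ComplexConjugate

namespace CL.Ord

variable {G : Type*} [Group G] [Finite G]

/-- The values at an element of order five, by degree. -/
def val5 : ℕ → ℤ
  | 1 | 11 | 16 | 66 | 176 => 1
  | 54 | 99 | 144 => -1
  | _ => 0

/-- The values at an involution centralising an element of order five, by degree. -/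
def valz : ℕ → ℤ
  | 1 => 1
  | 11 | 99 => -1
  | 16 | 144 => 4
  | 45 => 5
  | 54 | 66 => 6
  | 55 => -5
  | 176 => -4
  | _ => 0

/-- The character degrees of a simple group of order `95040`. -/
structure T12 (G : Type*) [Group G] extends B5 G where
  (a b : IrrCharacter G)
  da : charDegree a.1 = 11
  db : charDegree b.1 = 11
  hab : a ≠ b
  tab : ∀ χ : IrrCharacter G, charDegree χ.1 ∈ ({1, 11, 16, 45, 54, 55, 66, 99, 120, 144, 176} :
    Finset ℕ) ∧ χ.1 x = val5 (charDegree χ.1) ∧ χ.1 z = valz (charDegree χ.1)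
  all11 : ∀ χ : IrrCharacter G, charDegree χ.1 = 11 → (χ = a ∨ χ = b) ∧ χ.1 t = 3
  all66 : ∀ χ : IrrCharacter G, charDegree χ.1 = 66 → χ.1 t = 2
  ex55 : ∃ χ : IrrCharacter G, charDegree χ.1 = 55

theorem exists_T12 [IsSimpleGroup G] (hG : Nat.card G = 95040) : Nonempty (T12 G) := by
  classical
  have hc : ¬ IsMulCommutative G := CL.Small.not_comm_of_not_prime (by rw [hG]; norm_num)
  have : Fact (Nat.Prime 5) := ⟨by norm_num⟩
  obtain ⟨B⟩ := exists_B5 hG
  have d0 : charDegree (irrOne G).1 = 1 := charDegree_const_one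
  have ⟨d1, d2, d3, d4, d5, d6, d7, d8, d9⟩ := And.intro B.d45 <| And.intro B.d54 <|
    And.intro B.d120 <| And.intro B.d144 <| And.intro B.dt1 <| And.intro B.dt2 <|
    And.intro B.d66 <| And.intro B.d99 B.d176
  have ⟨vx, vz, vt⟩ := And.intro B.vx <| And.intro B.vz B.vt
  simp only [List.map_cons, List.map_nil, List.cons.injEq] at vx vz vt
  have hK : [irrOne G, B.c45, B.c54, B.c120, B.c144, B.t1, B.t2, B.c66, B.c99, B.c176].Nodup := by
    have := B.nodup
    simp only [List.nodup_cons, List.mem_cons, not_or, List.not_mem_nil, not_false_eq_true,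
      and_true, List.nodup_nil] at this ⊢
    simp only [this, not_false_eq_true, true_and]
    repeat' constructor
    all_goals exact fun h => absurd (congrArg (fun χ : IrrCharacter G => charDegree χ.1) h) (by omega)
  choose f hf using exists_int_of_card B.ox (by rw [hG]; norm_num) (by rw [B.N5, B.C5])
  obtain ⟨u, hu, w, hw, huw, fu, fw, h0⟩ := exists_two_of_sum (w := f) (R := [irrOne G, B.c45,
      B.c54, B.c120, B.c144, B.t1, B.t2, B.c66, B.c99, B.c176].toFinsetᶜ) (by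
    have := sum_norm_sq_eq_card_centralizer B.x
    rw [← Finset.sum_add_sum_compl (List.toFinset _), List.sum_toFinset _ hK, B.C5,
      Finset.sum_congr rfl fun χ _ => show _ = ((f χ ^ 2 : ℤ) : ℝ) by simp [hf]] at this
    simp only [List.map_cons, List.map_nil, List.sum_cons, List.sum_nil, vx, irrOne_apply] at this
    rw [← Int.cast_sum] at this
    generalize ∑ χ ∈ _, f χ ^ 2 = s at this ⊢
    norm_num at this
    exact_mod_cast (by linarith : (s : ℝ) = 2))
  rw [Finset.mem_compl, List.mem_toFinset] at hu hw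
  have hK' : [u, w, irrOne G, B.c45, B.c54, B.c120, B.c144, B.t1, B.t2, B.c66, B.c99,
      B.c176].Nodup := List.nodup_cons.2 ⟨fun h => (List.mem_cons.1 h).elim huw hu,
    List.nodup_cons.2 ⟨hw, hK⟩⟩
  have hz : ∀ χ ∉ [u, w, irrOne G, B.c45, B.c54, B.c120, B.c144, B.t1, B.t2, B.c66, B.c99,
      B.c176], χ.1 B.x = 0 := fun χ h => by
    rw [List.mem_cons, List.mem_cons, not_or, not_or] at h
    rw [hf, h0 χ (by simpa using h.2.2) h.1 h.2.1, Int.cast_zero]
  have rel : ∀ g, ¬ 5 ∣ orderOf g →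
      B.t1.1 g + B.t2.1 g - B.c54.1 g + f u * u.1 g + f w * w.1 g = 0 := fun g hg => by
    have := column_not_conj (g := g) (h := B.x) fun h =>
      hg (by rw [← CL.Small.orderOf_eq_of_isConj h, B.ox])
    rw [sum_of_list' hK' fun χ h => by simp [hz χ h]] at this
    simp only [List.map_cons, List.map_nil, List.sum_cons, List.sum_nil, vx, irrOne_apply, hf u,
      hf w, map_intCast, map_one, map_neg, map_zero] at this
    linear_combination this - B.rel5 g hg
  have n1 : ∀ χ ∉ [irrOne G, B.c45, B.c54, B.c120, B.c144, B.t1, B.t2, B.c66, B.c99, B.c176],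
      χ ≠ irrOne G ∧ 11 ∣ charDegree χ.1 ∧ χ.1 (B.x * B.z) = -χ.1 B.x := fun χ h => by
    simp only [List.mem_cons, not_or] at h
    exact ⟨h.1, B.dvd χ (by simp [h]), B.neg χ (by simp [h])⟩
  obtain ⟨p, hp, p1, -⟩ := inv_val hc B.ot (n1 u hu).1 rfl
  obtain ⟨q, hq, q1, -⟩ := inv_val hc B.ot (n1 w hw).1 rfl
  obtain ⟨du, dw, su, sw, rfl, rfl⟩ : charDegree u.1 = 11 ∧ charDegree w.1 = 11 ∧ f u = 1 ∧
      f w = 1 ∧ p = 3 ∧ q = 3 := by
    have h1 := rel 1 (by simp)
    have h2 := rel B.t (by rw [B.ot]; norm_num)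
    have h3 := sum_deg_le hK'
    have h4 := sum_le_cent hK' B.t
    have h5 := cm_eq B.t B.t B.x
    rw [sum_of_list' hK' fun χ h => by simp [hz χ h]] at h5
    simp only [List.map_cons, List.map_nil, List.sum_cons, List.sum_nil, vx, vt, irrOne_apply,
      hf u, hf w, map_intCast, map_one, map_neg, map_zero, hp, hq, B.Ct, hG, d0, d1, d2, d3, d4,
      fun χ : IrrCharacter G => χ.2.apply_one_eq_charDegree, d5, d6, d7, d8, d9] at h1 h2 h3 h4 h5
    norm_num at h4
    have u5 := int_mod_of_val B.ox (hf u) rfl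
    have w5 := int_mod_of_val B.ox (hf w) rfl
    have u11 := (n1 u hu).2.1
    have w11 := (n1 w hw).2.1
    have h6 := B.cmt
    replace h1 : 16 + 16 - 54 + f u * charDegree u.1 + f w * charDegree w.1 = 0 := by
      exact_mod_cast h1
    replace h2 : f u * p + f w * q = 6 := by exact_mod_cast (by linear_combination h2 :
      (f u : ℂ) * p + f w * q = 6)
    replace h4 : p ^ 2 + q ^ 2 ≤ 69 := by exact_mod_cast (by linarith : (p : ℝ) ^ 2 + q ^ 2 ≤ 69)
    have : charDegree u.1 < 97 := lt_of_pow_lt_pow_left₀ 2 (by norm_num) (by omega)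
    have : charDegree w.1 < 97 := lt_of_pow_lt_pow_left₀ 2 (by norm_num) (by omega)
    have := sq_nonneg p
    have := sq_nonneg q
    have := abs_lt.1 (abs_lt_of_sq_lt_sq (show p ^ 2 < 9 ^ 2 by omega) (by norm_num))
    have := abs_lt.1 (abs_lt_of_sq_lt_sq (show q ^ 2 < 9 ^ 2 by omega) (by norm_num))
    rcases fu with fu | fu <;> rcases fw with fw | fw <;> rw [fu, fw] at h1 h2 h5
    · obtain ⟨du, dw⟩ : charDegree u.1 = 11 ∧ charDegree w.1 = 11 := by omega
      rw [du, dw] at h5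
      have : 64 * (cm B.t B.t B.x : ℤ) = 50 + 15 * p ^ 2 + 15 * q ^ 2 := by
        exact_mod_cast (by push_cast at h5; linear_combination h5 / 576 :
          64 * (cm B.t B.t B.x : ℂ) = 50 + 15 * p ^ 2 + 15 * q ^ 2)
      obtain rfl : q = 6 - p := by omega
      rcases (by omega : p = -1 ∨ p = 3 ∨ p = 7) with rfl | rfl | rfl <;> omega
    · obtain ⟨du, dw⟩ : charDegree u.1 = 66 ∧ charDegree w.1 = 44 := by omega
      rw [du, dw] at h5
      have : 256 * (cm B.t B.t B.x : ℤ) = 200 + 10 * p ^ 2 - 15 * q ^ 2 := by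
        exact_mod_cast (by push_cast at h5; linear_combination h5 / 144 :
          256 * (cm B.t B.t B.x : ℂ) = 200 + 10 * p ^ 2 - 15 * q ^ 2)
      obtain rfl : q = p - 6 := by omega
      rcases (by omega : p = -2 ∨ p = 2 ∨ p = 6) with rfl | rfl | rfl <;> omega
    · obtain ⟨du, dw⟩ : charDegree u.1 = 44 ∧ charDegree w.1 = 66 := by omega
      rw [du, dw] at h5
      have : 256 * (cm B.t B.t B.x : ℤ) = 200 + 10 * q ^ 2 - 15 * p ^ 2 := by
        exact_mod_cast (by push_cast at h5; linear_combination h5 / 144 :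
          256 * (cm B.t B.t B.x : ℂ) = 200 + 10 * q ^ 2 - 15 * p ^ 2)
      obtain rfl : p = q - 6 := by omega
      rcases (by omega : q = -2 ∨ q = 2 ∨ q = 6) with rfl | rfl | rfl <;> omega
    · omega
  have z11 : ∀ χ ∉ [irrOne G, B.c45, B.c54, B.c120, B.c144, B.t1, B.t2, B.c66, B.c99, B.c176],
      charDegree χ.1 = 11 → f χ = 1 → χ.1 B.z = -1 := fun χ h hd h1 => by
    obtain ⟨r, hr, r1, r2, -⟩ := inv_val hc B.oz (n1 χ h).1 hd
    have := modEq_of_comm (m := -1) (by norm_num) (by norm_num) B.ox B.oz B.comm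
      (by rw [(n1 χ h).2.2, hf, h1]; simp) hr
    rw [hr, show r = -1 by omega]
    simp
  have o55 : ∀ χ ∉ [u, w, irrOne G, B.c45, B.c54, B.c120, B.c144, B.t1, B.t2, B.c66, B.c99,
      B.c176], charDegree χ.1 = 55 ∧ χ.1 B.z = -5 := fun χ h => by
    have h' := n1 χ fun h' => h (List.mem_cons_of_mem _ (List.mem_cons_of_mem _ h'))
    have h1 := sum_deg_le (List.nodup_cons.2 ⟨h, hK'⟩)
    have h2 := sum_le_cent (List.nodup_cons.2 ⟨h, hK'⟩) B.z
    have h3 := χ.2.isCharacter.dvd_degree_of_eq_zero (p := 5) (k := 1) (by norm_num)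
      (by rw [pow_one, ← B.ox, pow_orderOf_eq_one]) (hz χ h)
    obtain ⟨r, hr, r1, -⟩ := inv_val hc B.oz h'.1 rfl
    have h4 := modEq_of_comm (m := 0) (by norm_num) (by norm_num) B.ox B.oz B.comm
      (by rw [h'.2.2, hz χ h]; simp) hr
    simp only [List.map_cons, List.map_nil, List.sum_cons, List.sum_nil, vz, irrOne_apply, hr,
      B.Cz, hG, d0, d1, d2, d3, d4, d5, d6, d7, d8, d9, du, dw] at h1 h2
    norm_num at h2
    have : charDegree χ.1 < 110 := lt_of_pow_lt_pow_left₀ 2 (by norm_num) (by omega)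
    have := χ.2.charDegree_pos
    have h5 : r ^ 2 < 15 ^ 2 := by
      exact_mod_cast (by linarith [sq_nonneg ‖u.1 B.z‖, sq_nonneg ‖w.1 B.z‖] : (r : ℝ) ^ 2 < 15 ^ 2)
    have := abs_lt.1 (abs_lt_of_sq_lt_sq h5 (by norm_num))
    have := h'.2.1
    rw [hr, show r = -5 by omega]
    exact ⟨by omega, by simp⟩
  have all : ∀ χ, χ = u ∨ χ = w ∨ χ = irrOne G ∨ χ = B.c45 ∨ χ = B.c54 ∨ χ = B.c120 ∨
      χ = B.c144 ∨ χ = B.t1 ∨ χ = B.t2 ∨ χ = B.c66 ∨ χ = B.c99 ∨ χ = B.c176 ∨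
      (charDegree χ.1 = 55 ∧ χ.1 B.z = -5 ∧ χ.1 B.x = 0) := fun χ => by
    by_cases h : χ ∈ [u, w, irrOne G, B.c45, B.c54, B.c120, B.c144, B.t1, B.t2, B.c66, B.c99, B.c176]
    · simpa only [List.mem_cons, or_assoc, List.not_mem_nil, false_or] using Or.inl h
    · simp [o55 χ h, hz χ h]
  refine ⟨⟨B, u, w, du, dw, huw, fun χ => ?_, fun χ h => ?_, fun χ h => ?_, by_contra fun h => ?_⟩⟩
  · rcases all χ with rfl | rfl | rfl | rfl | rfl | rfl | rfl | rfl | rfl | rfl | rfl | rfl | h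
    · simp [du, hf, su, z11 _ hu du su, val5, valz]
    · simp [dw, hf, sw, z11 _ hw dw sw, val5, valz]
    all_goals clear hf; simp [*, val5, valz, irrOne_apply]
  · rcases all χ with rfl | rfl | rfl | rfl | rfl | rfl | rfl | rfl | rfl | rfl | rfl | rfl | h <;>
      first | omega | simp [hp, hq]
  · rcases all χ with rfl | rfl | rfl | rfl | rfl | rfl | rfl | rfl | rfl | rfl | rfl | rfl | h <;>
      first | omega | simp [vt]
  · have := sum_deg_sq (G := G)
    rw [sum_of_list hK' fun χ => by_contra fun h' => h ⟨χ, (o55 χ h').1⟩] at this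
    simp [d0, d1, d2, d3, d4, d5, d6, d7, d8, d9, du, dw, hG] at this

theorem arith55 {a b c d e f g h i j k : ℕ} (h1 : (55 : ℤ) = a + 11 * b + 16 * c + 45 * d +
    54 * e + 55 * f + 66 * g + 99 * h + 120 * i + 144 * j + 176 * k)
    (h2 : (0 : ℤ) = a + b + c - e + g - h - j + k) (h3 : (-5 : ℤ) =
      a - b + 4 * c + 5 * d + 6 * e - 5 * f + 6 * g - h + 4 * j - 4 * k) :
    a = 0 ∧ b = 0 ∧ c = 0 ∧ d = 0 ∧ e = 0 ∧ g = 0 ∧ h = 0 ∧ i = 0 ∧ j = 0 ∧ k = 0 := by
  obtain ⟨rfl, rfl, rfl, rfl, rfl⟩ : g = 0 ∧ h = 0 ∧ i = 0 ∧ j = 0 ∧ k = 0 := by omega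
  rcases (by omega : e = 0 ∨ e = 1) with rfl | rfl <;> omega

theorem arith66 {a b c d e f g h i j k : ℕ} (h1 : (66 : ℤ) = a + 11 * b + 16 * c + 45 * d +
    54 * e + 55 * f + 66 * g + 99 * h + 120 * i + 144 * j + 176 * k)
    (h2 : (1 : ℤ) = a + b + c - e + g - h - j + k) (h3 : (6 : ℤ) =
      a - b + 4 * c + 5 * d + 6 * e - 5 * f + 6 * g - h + 4 * j - 4 * k) :
    (a = 0 ∧ b = 0 ∧ c = 0 ∧ d = 0 ∧ e = 0 ∧ f = 0 ∧ h = 0 ∧ i = 0 ∧ j = 0 ∧ k = 0) ∨
      (a = 1 ∧ b = 1) := by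
  obtain ⟨rfl, rfl, rfl, rfl⟩ : h = 0 ∧ i = 0 ∧ j = 0 ∧ k = 0 := by omega
  rcases (by omega : e = 0 ∨ e = 1) with rfl | rfl <;>
  rcases (by omega : d = 0 ∨ d = 1) with rfl | rfl <;> omega

theorem arith121 {a b c d e f g h i j k : ℕ} (h1 : (121 : ℤ) = a + 11 * b + 16 * c + 45 * d +
    54 * e + 55 * f + 66 * g + 99 * h + 120 * i + 144 * j + 176 * k)
    (h2 : (1 : ℤ) = a + b + c - e + g - h - j + k) (h3 : (1 : ℤ) =
      a - b + 4 * c + 5 * d + 6 * e - 5 * f + 6 * g - h + 4 * j - 4 * k) : b ≤ 1 := by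
  by_contra hb
  obtain ⟨rfl, rfl, rfl⟩ : i = 0 ∧ j = 0 ∧ k = 0 := by omega
  rcases (by omega : e = 0 ∨ e = 1) with rfl | rfl <;>
  rcases (by omega : h = 0 ∨ h = 1) with rfl | rfl <;> omega

namespace T12

variable [Fintype G] (T : T12 G)

theorem decomp (hp : commutator G = ⊤) {ψ : G → ℂ} (hψ : IsCharacter G ψ) {n n5 nz : ℤ}
    (h1 : ψ 1 = n) (h5 : ψ T.x = n5) (hz : ψ T.z = nz) :
    ∃ (m : IrrCharacter G → ℕ) (M : ℕ → ℕ), (∀ χ, classInner ψ χ.1 = m χ) ∧
      (∀ χ, m χ ≤ M (charDegree χ.1)) ∧ M 1 = m (irrOne G) ∧ M 11 = m T.a + m T.b ∧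
      n = M 1 + 11 * M 11 + 16 * M 16 + 45 * M 45 + 54 * M 54 + 55 * M 55 + 66 * M 66 +
        99 * M 99 + 120 * M 120 + 144 * M 144 + 176 * M 176 ∧
      n5 = M 1 + M 11 + M 16 - M 54 + M 66 - M 99 - M 144 + M 176 ∧
      nz = M 1 - M 11 + 4 * M 16 + 5 * M 45 + 6 * M 54 - 5 * M 55 + 6 * M 66 - M 99 +
        4 * M 144 - 4 * M 176 := by
  classical
  obtain ⟨m, hm, h⟩ := hψ.exists_nat_coeffs
  have key : ∀ (g : G) (F : ℕ → ℤ) (k : ℤ), ψ g = k →
      (∀ χ : IrrCharacter G, χ.1 g = F (charDegree χ.1)) →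
      k = ∑ d ∈ {1, 11, 16, 45, 54, 55, 66, 99, 120, 144, 176},
        (∑ χ with charDegree χ.1 = d, m χ : ℕ) * F d := fun g F k h1 h2 => by
    rw [← Int.cast_inj (α := ℂ), ← h1, h, Finset.sum_apply,
      ← Finset.sum_fiberwise_of_maps_to (fun χ _ => (T.tab χ).1)]
    push_cast
    refine Finset.sum_congr rfl fun d _ => ?_
    rw [Finset.sum_mul]
    exact Finset.sum_congr rfl fun χ hχ => by simp [h2, (Finset.mem_filter.1 hχ).2]
  have k1 := key 1 (fun d => d) n h1 fun χ => by simp [χ.2.apply_one_eq_charDegree]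
  have k2 := key _ val5 _ h5 fun χ => (T.tab χ).2.1
  have k3 := key _ valz _ hz fun χ => (T.tab χ).2.2
  refine ⟨m, fun d => ∑ χ with charDegree χ.1 = d, m χ, hm, fun χ => Finset.single_le_sum
    (fun _ _ => Nat.zero_le _) (by simp), ?_, ?_, ?_⟩
  · refine Finset.sum_eq_single_of_mem _ (by simp [irrOne, charDegree_const_one])
      fun χ h1 h2 => ?_
    have := CL.D1.degree_ne_one hp h2
    have := (Finset.mem_filter.1 h1).2
    omega
  · rw [← Finset.sum_pair T.hab]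
    refine Finset.sum_congr ?_ fun _ _ => rfl
    ext χ
    simp only [Finset.mem_filter, Finset.mem_univ, true_and, Finset.mem_insert, Finset.mem_singleton]
    exact ⟨fun h => (T.all11 χ h).1, by rintro (rfl | rfl); exacts [T.da, T.db]⟩
  · simp -decide only [Finset.mem_insert, Finset.mem_singleton, Nat.reduceEqDiff, or_self,
      not_false_eq_true, Finset.sum_insert, Finset.sum_singleton, val5, valz, Nat.cast_ofNat,
      OfNat.one_ne_ofNat, Nat.cast_one] at k1 k2 k3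
    exact ⟨by linarith, by linarith, by linarith⟩

theorem sq_data (hp : commutator G = ⊤) {χ : IrrCharacter G} (hd : charDegree χ.1 = 11) :
    (IsIrrCharacter G fun g => (χ.1 g ^ 2 - χ.1 (g * g)) / 2) ∧ (∀ g, conj (χ.1 g) = χ.1 g) ∧
      (classInner (χ.1 * χ.1) T.a.1 ≠ 0 ∨ classInner (χ.1 * χ.1) T.b.1 ≠ 0) := by
  have : Fact (Nat.Prime 5) := ⟨by norm_num⟩
  obtain ⟨-, h5, hz⟩ := T.tab χ
  have h1 := χ.2.apply_one_eq_charDegree
  rw [hd] at h1 h5 hz
  have hxx : χ.1 (T.x * T.x) = χ.1 T.x := by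
    obtain ⟨g, hg⟩ := exists_conj_of_card (y := T.x * T.x) T.ox (by rw [T.N5, T.C5])
      (mul_mem (mem_zpowers _) (mem_zpowers _)) fun h => by
        simpa [T.ox] using orderOf_dvd_of_pow_eq_one ((sq T.x).trans h)
    rw [← hg, χ.2.isClassFunction]
  have h2 : ∀ u : G, orderOf u = 2 → u * u = 1 := fun u h => by rw [← sq, ← h, pow_orderOf_eq_one]
  obtain ⟨m, M, hm, a0, a1, a2, a3, a4, a5⟩ := T.decomp hp χ.2.isCharacter.altSq (n := 55) (n5 := 0)
    (nz := -5) (by norm_num [h1]) (by norm_num [hxx, h5, val5]) (by norm_num [h2 _ T.oz, hz, valz, h1])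
  obtain ⟨n, N, hn, b0, b1, b2, b3, b4, b5⟩ := T.decomp hp χ.2.isCharacter.symSq (n := 66) (n5 := 1)
    (nz := 6) (by norm_num [h1]) (by norm_num [hxx, h5, val5]) (by norm_num [h2 _ T.oz, hz, valz, h1])
  have key : ∀ {ψ : G → ℂ} {d : ℕ} {m : IrrCharacter G → ℕ} {M : ℕ → ℕ}, IsCharacter G ψ →
      ψ 1 = d → d ≠ 0 → (∀ χ, classInner ψ χ.1 = m χ) → (∀ χ, m χ ≤ M (charDegree χ.1)) →
      (∀ e ∈ ({1, 11, 16, 45, 54, 55, 66, 99, 120, 144, 176} : Finset ℕ), M e ≠ 0 → e = d) →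
      ∃ φ : IrrCharacter G, charDegree φ.1 = d ∧ ψ = φ.1 := fun hψ h1 h2 h3 h4 h5 => by
    obtain ⟨φ, hφ, h6⟩ := hψ.exists_irr_inner_ne_zero (by
      rintro rfl; exact h2 (by exact_mod_cast h1.symm.trans (Pi.zero_apply 1)))
    have h7 := h5 _ (T.tab ⟨φ, hφ⟩).1 fun h => h6 (by
      rw [h3 ⟨φ, hφ⟩, Nat.le_zero.1 ((h4 ⟨φ, hφ⟩).trans h.le), Nat.cast_zero])
    exact ⟨⟨φ, hφ⟩, h7, hψ.eq_of_inner_ne_zero_of_degree hφ h6
      (by rw [h1, ← h7]; exact hφ.apply_one_eq_charDegree.symm)⟩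
  have a6 := arith55 a3 a4 a5
  obtain ⟨φ, -, hφ⟩ := key (d := 55) χ.2.isCharacter.altSq (by norm_num [h1]) (by norm_num) hm a0
    (by simp [a6])
  have b6 := (arith66 b3 b4 b5).resolve_left fun h => by
    obtain ⟨φ, h3, hφ⟩ := key (d := 66) χ.2.isCharacter.symSq (by norm_num [h1]) (by norm_num) hn b0
      (by simp [h])
    have := congrFun hφ T.t
    rw [T.all66 φ h3, (T.all11 χ hd).2, h2 _ T.ot, h1] at this
    norm_num at this
  have h3 : ∀ θ : IrrCharacter G, classInner (χ.1 * χ.1) θ.1 = (n θ + m θ : ℕ) := fun θ => by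
    rw [Nat.cast_add, ← hm, ← hn, ← classInner_add_left]
    exact congrArg (classInner · _) (funext fun g => by simp only [Pi.mul_apply, Pi.add_apply]; ring)
  refine ⟨hφ ▸ φ.2, fun g => (congrFun (χ.2.eq_of_inner_ne_zero χ.2.conj ?_) g).symm, ?_⟩
  · rw [inner_conj_eq_add, show classInner _ (fun _ => 1) = _ from hm (irrOne G),
      show classInner _ (fun _ => 1) = _ from hn (irrOne G), ← Nat.cast_add, Nat.cast_ne_zero]
    clear a3 a4 a5 b3 b4 b5
    omega
  · rw [h3, h3, Nat.cast_ne_zero, Nat.cast_ne_zero]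
    clear a3 a4 a5 b3 b4 b5
    omega

theorem exists_index (hp : commutator G = ⊤) : ∃ H : Subgroup G, H.index = 12 ∧
    Nat.card (MulAction.fixedBy (G ⧸ H) T.z) = 0 := by
  have key : ∀ χ : IrrCharacter G, charDegree χ.1 = 11 → classInner (χ.1 * χ.1) χ.1 ≠ 0 →
      ∃ H : Subgroup G, H.index = 12 ∧ Nat.card (MulAction.fixedBy (G ⧸ H) T.z) = 0 := by
    intro χ hd h
    obtain ⟨h1, h2, -⟩ := T.sq_data hp hd
    obtain ⟨H, h3, h4⟩ := exists_index_of_altSq χ.2 (by omega) h2 h1 fun h5 => h (by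
      rw [classInner_def, Finset.sum_congr rfl fun g _ => show _ = χ.1 g ^ 3 by
        rw [h2, Pi.mul_apply]; ring, h5, mul_zero])
    refine ⟨H, by rw [h3, hd], ?_⟩
    have := h4 T.z
    rw [(T.tab χ).2.2, hd] at this
    exact_mod_cast this.trans (show _ = 0 by simp [valz])
  by_contra h
  obtain ⟨-, a1, a2⟩ := T.sq_data hp T.da
  obtain ⟨-, b1, b2⟩ := T.sq_data hp T.db
  replace a2 := a2.resolve_left fun h' => h (key _ T.da h')
  replace b2 := b2.resolve_right fun h' => h (key _ T.db h')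
  obtain ⟨m, M, hm, -, -, c2, c3, c4, c5⟩ := T.decomp hp (T.a.2.isCharacter.mul T.b.2.isCharacter)
    (n := 121) (n5 := 1) (nz := 1)
    (by norm_num [T.a.2.apply_one_eq_charDegree, T.b.2.apply_one_eq_charDegree, T.da, T.db])
    (by simp [(T.tab _).2.1, T.da, T.db, val5]) (by simp [(T.tab _).2.2, T.da, T.db, valz])
  have c6 : m T.a ≠ 0 := fun h0 => a2 (by
    have := hm T.a
    rw [h0, classInner_def] at this
    rw [classInner_def, ← Nat.cast_zero, ← this]
    exact congrArg _ (Finset.sum_congr rfl fun g _ => by simp only [Pi.mul_apply, a1, b1]; ring))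
  have c7 : m T.b ≠ 0 := fun h0 => b2 (by
    have := hm T.b
    rw [h0, classInner_def] at this
    rw [classInner_def, ← Nat.cast_zero, ← this]
    exact congrArg _ (Finset.sum_congr rfl fun g _ => by simp only [Pi.mul_apply, a1, b1]; ring))
  have := arith121 c3 c4 c5
  clear c3 c4 c5
  omega

end T12

end CL.Ord
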