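import Cfsg.Agent.SPOR.Ord12c
import Cfsg.Agent.S0382
import Cfsg.Agent.S0383

/-! A simple group of order `95040` is determined up to isomorphism. -/

set_option autoImplicit false
open Cfsg Subgroup CL.Char Equiv

namespace CL.Ord

def V12 : Perm (Fin 12) :=
  ⟨![11, 7, 5, 10, 6, 2, 4, 1, 9, 8, 3, 0], ![11, 7, 5, 10, 6, 2, 4, 1, 9, 8, 3, 0],
    by decide, by decide⟩

theorem mk12_cases7 : ∀ c d : Fin 12, Function.Injective (mk12 c d) →
    (∃ j : Fin 5, mk12 c d = ⇑(Z12 * Y12 ^ (j : ℕ)) ∨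
      mk12 c d = ⇑(S12 * (Z12 * Y12 ^ (j : ℕ)) * S12⁻¹)) ∨
      ∃ (i : Fin 11) (a : Fin 12), (X12^[i] ∘ mk12 c d) a ≠ a ∧ (X12^[i] ∘ mk12 c d)^[7] a = a := by
  decide +kernel

theorem eq_V12 {V : Perm (Fin 12)} (h1 : Commute V Y12) (h2 : Commute V Z12)
    (h : ∀ a, V a ≠ a) : V = V12 := by
  have a1 : ∀ a, V (Y12 a) = Y12 (V a) := fun a => congrArg (fun σ : Perm (Fin 12) => σ a) h1.eq
  have a2 : ∀ a, V (Z12 a) = Z12 (V a) := fun a => congrArg (fun σ : Perm (Fin 12) => σ a) h2.eq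
  have h3 : ∀ a : Fin 12, a = Y12 a → a = 0 ∨ a = 11 := by decide
  have h4 : V 11 = 0 := (h3 _ (a1 11)).resolve_right (h _)
  have h5 : V 0 = 11 := (h3 _ (a1 0)).resolve_left (h _)
  have b3 : V 3 = _ := a1 1
  have b9 : V 9 = _ := a1 3
  have b5 : V 5 = _ := a1 9
  have b4 : V 4 = _ := a1 5
  have b2 : V 2 = _ := a2 1
  have b6 : V 6 = _ := a1 2
  have b7 : V 7 = _ := a1 6
  have b10 : V 10 = _ := a1 7
  have b8 : V 8 = _ := a1 10
  have h6 : V 1 = 7 := (by decide : ∀ c : Fin 12, c ≠ 1 → c ≠ 0 → c ≠ 11 →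
    Y12 (Y12 (Y12 (Y12 c))) = Z12 (Z12 c) → c = 7) _ (h 1)
    (fun h => absurd (V.injective (h.trans h4.symm)) (by decide))
    (fun h => absurd (V.injective (h.trans h5.symm)) (by decide))
    (by rw [← b3, ← b9, ← b5, ← b4, ← b2]; exact a2 2)
  rw [h6] at b3 b2
  rw [b3] at b9
  rw [b9] at b5
  rw [b5] at b4
  rw [b2] at b6
  rw [b6] at b7
  rw [b7] at b10
  rw [b10] at b8
  ext i : 1
  fin_cases i <;> assumption

/-- The model of the simple group of order `95040` on twelve points. -/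
def K12' : Subgroup (Perm (Fin 12)) := closure {X12, Y12, Z12, V12}

theorem range_eq_K12' {G : Type*} [Group G] (φ : G →* Perm (Fin 12)) {x y w z : G}
    (h : closure {x, y, w, z} = ⊤) (hx : φ x = X12 ∨ φ x = X12⁻¹) (hy : φ y = Y12) {j : ℕ}
    (hw : φ w = Z12 * Y12 ^ j) (h1 : Commute z y) (h2 : Commute z w) (hz : ∀ a, φ z a ≠ a) :
    φ.range = K12' := by
  have h3 := hy ▸ h1.map φ
  have h4 : φ z = V12 := eq_V12 h3 (by
    have := (hw ▸ h2.map φ).mul_right (h3.pow_right j).inv_right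
    rwa [mul_inv_cancel_right] at this) hz
  have e : ∀ a b c d : Perm (Fin 12), ({a, b, c, d} : Set _) = {d} ∪ {a, b, c} := fun a b c d => by
    ext; simp only [Set.mem_insert_iff, Set.mem_singleton_iff, Set.mem_union]; tauto
  rw [MonoidHom.range_eq_map, ← h, MonoidHom.map_closure]
  simp only [Set.image_insert_eq, Set.image_singleton, hy, hw, h4]
  rw [K12', e, e, Subgroup.closure_union, Subgroup.closure_union, closure_eq_K12 hx, K12]

theorem iso_K12' {G : Type*} [Group G] [Finite G] [IsSimpleGroup G] (hG : Nat.card G = 95040) :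
    Nonempty (G ≃* K12') := by
  classical
  have : Fact (Nat.Prime 11) := ⟨by norm_num⟩
  have : Fact (Nat.Prime 7) := ⟨by norm_num⟩
  have : Fact (Nat.Prime 5) := ⟨by norm_num⟩
  have := Fintype.ofFinite G
  have hc : ¬ IsMulCommutative G := CL.Small.not_comm_of_not_prime (by rw [hG]; norm_num)
  obtain ⟨T⟩ := exists_T12 hG
  obtain ⟨H, hH, hz⟩ := T.exists_index (CL.Small.commutator_eq_top hc)
  obtain ⟨Q⟩ : Nonempty (Sylow 5 G) := inferInstance
  obtain ⟨Q, hQ⟩ := CL.D1.exists_sylow_zpowers Q (CL.Small.card_sylow_eq_of_factor Q (a := 1)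
    (m := 19008) hG (by norm_num)) T.ox
  have hN : Nat.card (normalizer (zpowers T.x : Set G)) =
    Nat.card (centralizer ({T.x} : Set G)) * (5 - 1) := by rw [T.N5, T.C5]
  obtain ⟨x, hx, hy⟩ : ∃ x : G, orderOf x = 11 ∧ T.x * x * T.x⁻¹ = x ^ 3 := by
    obtain ⟨x, hx⟩ := exists_prime_orderOf_dvd_card' (G := G) 11 (by rw [hG]; norm_num)
    obtain ⟨y, hy5, hy⟩ := exists_conj_pow hx (T.C11 x hx) (e := 5) (T.N11 x hx) (r := 3)
      (by decide)
    have h1 : y ≠ 1 := by
      rintro rfl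
      have : x ^ 1 = x ^ 3 := by simpa using hy
      rw [pow_eq_pow_iff_modEq, hx] at this
      exact absurd this (by decide)
    obtain ⟨g, hg⟩ := CL.Small.exists_conj_mem_sylow Q (k := 1) (orderOf_eq_prime hy5 h1)
    obtain ⟨a, ha⟩ := exists_conj_of_card T.ox hN (hQ ▸ hg) fun h => h1 (by
      rw [← mul_inv_cancel_right y g, ← mul_inv_cancel_left g (y * g), ← mul_assoc g⁻¹, h]; simp)
    refine ⟨(g * a)⁻¹ * x * (g * a)⁻¹⁻¹, by rw [CL.Small.orderOf_conj', hx], ?_⟩
    rw [conj_pow, ← hy, show y = g * (a * T.x * a⁻¹) * g⁻¹ by rw [ha]; group]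
    group
  have hne : H ≠ ⊤ := by rintro rfl; simp at hH
  have hf := CL.Small.toPermHom_injective (G ⧸ H) (CL.Small.exists_smul_ne_of_ne_top hne)
  set f := MulAction.toPermHom G (G ⧸ H)
  obtain ⟨e, e1, e2, e3⟩ := exists_label (p := 11) (q := 5) (r := 3) (x := f x) (y := f T.x) hH
    (by rw [orderOf_injective f hf, hx]) (by rw [← map_pow, ← hy]; simp)
    (by rw [← map_pow, ← T.ox, pow_orderOf_eq_one, map_one]) (by decide)
  let φ : G →* Perm (Fin 12) := e.symm.permCongrHom.toMonoidHom.comp f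
  have hφ : Function.Injective φ := e.symm.permCongrHom.injective.comp hf
  have φa : ∀ g i, φ g i = e.symm (f g (e i)) := fun _ _ => rfl
  have φx : φ x = X12 := Equiv.ext fun i => by
    rw [φa, symm_apply_eq]
    fin_cases i <;> first | exact (e3 _ (by decide)).1 | exact e1
  have φy : φ T.x = Y12 := Equiv.ext fun i => by
    rw [φa, symm_apply_eq]
    fin_cases i <;> first | exact (e3 _ (by decide)).2 | exact e2
  have φz : ∀ a, φ T.z a ≠ a := fun a h => Nat.card_ne_zero.2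
    ⟨⟨⟨e a, (symm_apply_eq e).1 h⟩⟩, inferInstance⟩ hz
  obtain ⟨w, hw, hw'⟩ : ∃ w, w * T.x * w⁻¹ = T.x ^ 2 ∧ φ w 11 ≠ 11 := by
    obtain ⟨w, hw⟩ := exists_conj_of_card (y := T.x ^ 2) T.ox hN (pow_mem (mem_zpowers _) 2)
      fun h => by simpa [T.ox] using orderOf_dvd_of_pow_eq_one h
    by_cases h : φ w 11 = 11
    · refine ⟨w * T.z, by rw [← hw, mul_assoc w, ← T.comm.eq]; group, fun h' => φz 11 ?_⟩
      rw [map_mul, Perm.mul_apply] at h'
      exact (φ w).injective (h'.trans h.symm)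
    · exact ⟨w, hw, h⟩
  have oxz := orderOf_mul_two (by norm_num) (by norm_num) T.ox T.oz T.comm
  have hC : zpowers (T.x * T.z) = centralizer {T.x} := eq_of_le_of_card_ge
    (zpowers_le.2 (mem_centralizer_singleton_iff.2 (by rw [mul_assoc, ← T.comm.eq])))
    (by rw [T.C5, Nat.card_zpowers, oxz])
  have hwi : ∀ i : ℕ, w ^ i * T.x * (w ^ i)⁻¹ = T.x ^ 2 ^ i := fun i => by
    induction i with
    | zero => simp
    | succ j ih =>
      rw [pow_succ, pow_succ, pow_mul, ← ih, conj_pow, ← hw]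
      group
  have hzw : Commute T.z w := by
    have h1 : w * T.x ^ 3 * w⁻¹ = T.x := by
      rw [← conj_pow, hw, ← pow_mul, pow_succ, ← T.ox, pow_orderOf_eq_one, one_mul]
    refine (mul_inv_eq_iff_eq_mul.1 (eq_of_orderOf_eq_two_of_mem_zpowers (x := T.x * T.z)
      (by rw [CL.Small.orderOf_conj', T.oz]) T.oz ?_ ?_)).symm <;>
      rw [hC, mem_centralizer_singleton_iff]
    · rw [← h1]
      calc w * T.z * w⁻¹ * (w * T.x ^ 3 * w⁻¹) = w * (T.z * T.x ^ 3) * w⁻¹ := by group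
        _ = _ := by rw [← (T.comm.pow_left 3).eq]; group
    · exact T.comm.symm.eq
  have hK : closure {x, T.x, w, T.z} = ⊤ := by
    have m1 : x ∈ closure {x, T.x, w, T.z} := subset_closure (by simp)
    have m2 : T.x ∈ closure {x, T.x, w, T.z} := subset_closure (by simp)
    have m3 : w ∈ closure {x, T.x, w, T.z} := subset_closure (by simp)
    have m4 : T.z ∈ closure {x, T.x, w, T.z} := subset_closure (by simp)
    generalize closure {x, T.x, w, T.z} = K at m1 m2 m3 m4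
    obtain ⟨P⟩ : Nonempty (Sylow 11 G) := inferInstance
    obtain ⟨P, hP⟩ := CL.D1.exists_sylow_zpowers P (CL.Small.card_sylow_eq_of_factor P (a := 1)
      (m := 8640) hG (by norm_num)) hx
    obtain ⟨n, h1, h2⟩ := card_eq_mul_inf P (K := K) (by rwa [hP, zpowers_le])
    obtain ⟨m, h3, h4⟩ := card_eq_mul_inf Q (K := K) (by rwa [hQ, zpowers_le])
    rw [hP] at h2
    have h9 : normalizer (zpowers T.x : Set G) ≤ K := fun g hg => by
      obtain ⟨k, hk, h5⟩ := Finset.mem_image.1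
        (mem_zpowers_iff_mem_range_orderOf.1 (mem_normalizer_zpowers.1 hg))
      obtain ⟨i, -, hi⟩ := (by decide : ∀ k ∈ Finset.range 5, k ≠ 0 → ∃ i < 4, 2 ^ i ≡ k [MOD 5]) k
        (T.ox ▸ hk) (by
          rintro rfl
          have := T.ox
          rw [pow_zero, eq_comm, mul_inv_eq_one, mul_eq_left] at h5
          simp [h5] at this)
      rw [← T.ox, ← pow_eq_pow_iff_modEq, h5, ← hwi] at hi
      refine (mul_mem_cancel_left (inv_mem (pow_mem m3 i))).1 (zpowers_le.2 (mul_mem m2 m4) ?_)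
      rw [hC, mem_centralizer_singleton_iff]
      calc (w ^ i)⁻¹ * g * T.x = (w ^ i)⁻¹ * (g * T.x * g⁻¹) * g := by group
        _ = _ := by rw [← hi]; group
    rw [hQ, inf_eq_left.2 h9, T.N5] at h4
    have a1 := T.N11 x hx ▸ card_dvd_of_le (inf_le_left (b := K))
    have a2 := hx ▸ CL.Small.orderOf_dvd_card_of_mem (H := normalizer (zpowers x : Set G) ⊓ K)
      ⟨mem_normalizer_zpowers.2 (by simp), m1⟩
    have a3 := T.ox ▸ CL.Small.orderOf_dvd_card_of_mem (H := normalizer (zpowers x : Set G) ⊓ K)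
      ⟨mem_normalizer_zpowers.2 (by simp [hy, pow_mem]), m2⟩
    have c1 := card_mul_index K
    rw [hG] at c1
    rw [← index_eq_one]
    rw [Nat.dvd_antisymm a1 (Nat.Coprime.mul_dvd_of_dvd_of_dvd (by norm_num) a3 a2)] at h2
    rw [h2] at c1 h4
    have h10 : n ∈ Nat.divisors 1728 := Nat.mem_divisors.2 ⟨⟨K.index, by linarith⟩, by norm_num⟩
    rcases (by decide +kernel : ∀ n ∈ Nat.divisors 1728, n % 11 = 1 → n = 1 ∨ n = 12 ∨ n = 144 ∨
      n = 1728) n h10 h1 with rfl | rfl | rfl | rfl <;> omega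
  have hZ := eq_mk12 (Z := φ w) (by rw [← φy, ← map_pow, ← hw]; simp) hw'
  rcases mk12_cases7 _ _ (hZ ▸ (φ w).injective) with ⟨j, h | h⟩ | ⟨i, a, h1, h2⟩
  · rw [← hZ, DFunLike.coe_fn_eq] at h
    exact ⟨(MonoidHom.ofInjective hφ).trans (MulEquiv.subgroupCongr
      (range_eq_K12' φ hK (.inl φx) φy h T.comm.symm hzw φz))⟩
  · rw [← hZ, DFunLike.coe_fn_eq] at h
    refine ⟨(MonoidHom.ofInjective (f := (MulAut.conj S12⁻¹).toMonoidHom.comp φ)
      ((MulAut.conj S12⁻¹).injective.comp hφ)).trans (MulEquiv.subgroupCongr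
        (range_eq_K12' _ hK (.inr ?_) ?_ (j := j) ?_ T.comm.symm hzw fun a h => φz (S12 a) ?_))⟩
    · simp only [MonoidHom.comp_apply, φx]; decide
    · simp only [MonoidHom.comp_apply, φy]; decide
    · simp [h, mul_assoc]
    · simpa [symm_apply_eq] using h
  · rw [← hZ, Perm.iterate_eq_pow, ← Perm.coe_mul, ← φx, ← map_pow, ← map_mul] at h1 h2
    have h3 := Function.minimalPeriod_eq_prime (p := 7) h2 h1
    have h4 : Function.IsPeriodicPt (φ (x ^ (i : ℕ) * w)) (Nat.card G) a := by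
      rw [Function.IsPeriodicPt, Function.IsFixedPt, Perm.iterate_eq_pow, ← map_pow,
        pow_card_eq_one', map_one, Perm.one_apply]
    have := h4.minimalPeriod_dvd
    rw [h3, hG] at this
    omega

theorem iso_of_95040 {G H : Type*} [Group G] [Finite G] [IsSimpleGroup G] [Group H] [Finite H]
    [IsSimpleGroup H] (hG : Nat.card G = 95040) (hH : Nat.card H = 95040) : Nonempty (G ≃* H) :=
  ⟨(iso_K12' hG).some.trans (iso_K12' hH).some.symm⟩

open scoped Pointwise in
theorem simple_M12 : IsSimpleGroup Spor.M12 ∧ Nat.card Spor.M12 = 95040 := by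
  have h := CL.Golay.D0_mem
  rw [← CL.M12.squareDodecad_eq] at h
  have := Cfsg.Agent.S0383.result _ h
  let e : Spor.M12 ≃* MulAction.stabilizer M24 Spor.squareDodecad :=
    { toFun := fun g => ⟨⟨g.1, g.2.1⟩, g.2.2⟩
      invFun := fun g => ⟨g.1.1, g.1.2, g.2⟩
      left_inv := fun _ => rfl
      right_inv := fun _ => rfl
      map_mul' := fun _ _ => rfl }
  exact ⟨e.isSimpleGroup, (Nat.card_congr e.toEquiv).trans (Cfsg.Agent.S0382.result _ h)⟩

theorem iso_M12 {G : Type*} [Group G] [Finite G] [IsSimpleGroup G] (hG : Nat.card G = 95040) :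
    Nonempty (G ≃* Spor.M12) :=
  have := simple_M12.1
  iso_of_95040 hG simple_M12.2

end CL.Ord
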