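import Cfsg.Agent.SPOR.OrdJoin

/-! The degrees and the involutions of a simple group of order `443520`. -/

set_option autoImplicit false
open Cfsg Subgroup CL.Char CL.D1 CL.Ord

namespace CL.OJ.M22

def E11 : List Tr :=
  [⟨10, 28, [144, 45, 45, 45, -32, -32, -32, -32, -32], 120⟩,
    ⟨10, 28, [144, 144, -120, -120, 45, 45, 45, -32, -32], 120⟩, ⟨5, 1, [12, 12, -10, -10], 5⟩,
    ⟨5, 1, [-21, 12, -10, -10], -28⟩, ⟨5, 1, [45, -21, -10, -10], 5⟩,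
    ⟨5, 1, [-120, -21, -10, -10], -160⟩, ⟨5, 1, [320, -21, -10, -10], 280⟩,
    ⟨5, 1, [144, -120, -10, -10], 5⟩, ⟨5, 1, [-21, 12, 12, -10], -6⟩,
    ⟨5, 1, [45, 12, 12, -10], 60⟩, ⟨5, 1, [-120, 12, 12, -10], -105⟩,
    ⟨5, 1, [144, -21, 12, -10], 126⟩, ⟨5, 1, [210, -21, 12, -10], 192⟩,
    ⟨5, 1, [-120, 45, 12, -10], -72⟩, ⟨5, 1, [144, 45, 12, -10], 192⟩,
    ⟨5, 1, [-384, 45, 12, -10], -336⟩, ⟨5, 1, [-252, 144, 12, -10], -105⟩,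
    ⟨5, 1, [-21, -21, -21, -10], -72⟩, ⟨5, 1, [45, -21, -21, -10], -6⟩,
    ⟨5, 1, [56, -21, -21, -10], 5⟩, ⟨5, 1, [45, 45, -21, -10], 60⟩,
    ⟨5, 1, [-120, 45, -21, -10], -105⟩, ⟨5, 1, [144, -120, -21, -10], -6⟩,
    ⟨5, 1, [210, -120, -21, -10], 60⟩, ⟨5, 1, [-252, 210, -21, -10], -72⟩,
    ⟨5, 1, [45, 45, 45, -10], 126⟩, ⟨5, 1, [-120, 56, 45, -10], -28⟩,
    ⟨5, 1, [-252, 56, 45, -10], -160⟩, ⟨5, 1, [144, -120, 45, -10], 60⟩,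
    ⟨5, 1, [210, -120, 45, -10], 126⟩, ⟨5, 1, [-252, -120, 45, -10], -336⟩,
    ⟨5, 1, [-252, 144, 45, -10], -72⟩, ⟨5, 1, [-252, 210, 45, -10], -6⟩,
    ⟨5, 1, [-384, 320, 45, -10], -28⟩, ⟨5, 1, [-252, 210, 56, -10], 5⟩,
    ⟨5, 1, [144, -120, -120, -10], -105⟩, ⟨5, 1, [-384, 144, 144, -10], -105⟩,
    ⟨5, 1, [56, -21, 12, 12], 60⟩, ⟨5, 1, [56, 45, 12, 12], 126⟩, ⟨5, 1, [210, 45, 12, 12], 280⟩,
    ⟨5, 1, [-120, -32, -21, 12], -160⟩, ⟨5, 1, [-120, 56, -21, 12], -72⟩,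
    ⟨5, 1, [144, 56, -21, 12], 192⟩, ⟨5, 1, [-384, 56, -21, 12], -336⟩,
    ⟨5, 1, [144, -120, -21, 12], 16⟩, ⟨5, 1, [320, -120, -21, 12], 192⟩,
    ⟨5, 1, [144, 144, -21, 12], 280⟩, ⟨5, 1, [320, -252, -21, 12], 60⟩,
    ⟨5, 1, [-384, 320, -21, 12], -72⟩, ⟨5, 1, [-120, 56, 45, 12], -6⟩,
    ⟨5, 1, [-252, 210, 45, 12], 16⟩, ⟨5, 1, [320, -252, 45, 12], 126⟩,
    ⟨5, 1, [-384, 320, 45, 12], -6⟩, ⟨5, 1, [-120, 56, 56, 12], 5⟩,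
    ⟨5, 1, [-384, 210, 56, 12], -105⟩, ⟨5, 1, [-384, 320, 56, 12], 5⟩,
    ⟨5, 1, [56, -21, -21, -21], -6⟩, ⟨5, 1, [56, 45, -21, -21], 60⟩,
    ⟨5, 1, [-120, 56, -21, -21], -105⟩, ⟨5, 1, [-384, 320, -21, -21], -105⟩,
    ⟨5, 1, [-252, 144, -32, -21], -160⟩, ⟨5, 1, [56, 45, 45, -21], 126⟩,
    ⟨5, 1, [210, 45, 45, -21], 280⟩, ⟨5, 1, [-120, 56, 56, -21], -28⟩,
    ⟨5, 1, [-252, 56, 56, -21], -160⟩, ⟨5, 1, [144, -120, 56, -21], 60⟩,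
    ⟨5, 1, [210, -120, 56, -21], 126⟩, ⟨5, 1, [-252, -120, 56, -21], -336⟩,
    ⟨5, 1, [-252, 144, 56, -21], -72⟩, ⟨5, 1, [-252, 210, 56, -21], -6⟩,
    ⟨5, 1, [-384, 320, 56, -21], -28⟩, ⟨5, 1, [320, -120, -120, -21], 60⟩,
    ⟨5, 1, [210, 210, -120, -21], 280⟩, ⟨5, 1, [320, -252, -120, -21], -72⟩,
    ⟨5, 1, [-252, 144, 144, -21], 16⟩, ⟨5, 1, [320, -252, 144, -21], 192⟩,
    ⟨5, 1, [-384, 320, 144, -21], 60⟩, ⟨5, 1, [-384, 320, 210, -21], 126⟩,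
    ⟨5, 1, [210, 45, -32, -32], 192⟩, ⟨5, 1, [320, -252, -32, -32], 5⟩,
    ⟨5, 1, [210, 56, 45, -32], 280⟩, ⟨5, 1, [-252, 210, 45, -32], -28⟩,
    ⟨5, 1, [-384, 210, 45, -32], -160⟩, ⟨5, 1, [-252, 144, 144, -32], 5⟩,
    ⟨5, 1, [56, 45, 45, 45], 192⟩, ⟨5, 1, [144, 45, 45, 45], 280⟩,
    ⟨5, 1, [-252, 56, 45, 45], -105⟩, ⟨5, 1, [144, -120, 56, 45], 126⟩,
    ⟨5, 1, [210, -120, 56, 45], 192⟩, ⟨5, 1, [-252, 144, 56, 45], -6⟩,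
    ⟨5, 1, [-252, 210, 56, 45], 60⟩, ⟨5, 1, [-384, 210, 56, 45], -72⟩,
    ⟨5, 1, [210, -120, -120, 45], 16⟩, ⟨5, 1, [320, -120, -120, 45], 126⟩,
    ⟨5, 1, [210, 144, -120, 45], 280⟩, ⟨5, 1, [320, -252, -120, 45], -6⟩,
    ⟨5, 1, [-384, 210, 144, 45], 16⟩, ⟨5, 1, [-560, 210, 144, 45], -160⟩,
    ⟨5, 1, [-384, 320, 144, 45], 126⟩, ⟨5, 1, [-384, 320, 210, 45], 192⟩,
    ⟨5, 1, [-252, 144, 56, 56], 5⟩, ⟨5, 1, [-252, 210, -120, 56], -105⟩,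
    ⟨5, 1, [320, -252, -120, 56], 5⟩, ⟨5, 1, [-560, 210, 210, 144], 5⟩,
    ⟨5, 1, [-384, 320, -252, 210], -105⟩, ⟨5, 1, [-384, 320, 320, -252], 5⟩]

def D11 : List ℕ :=
  [5, 6, 10, 11, 12, 16, 21, 22, 28, 32, 33, 44, 45, 55, 56, 60, 66, 72, 77, 88, 99, 105, 110,
    120, 126, 132, 144, 154, 160, 165, 176, 192, 198, 210, 220, 231, 252, 264, 280, 308, 320,
    330, 336, 352, 384, 385, 396, 440, 462, 495, 528, 560, 616, 660]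

def E7 : List Tr :=
  [⟨3, 64, [22, 22], 45⟩, ⟨3, 64, [99, -55], 45⟩, ⟨3, 8, [22, 22], 45⟩, ⟨3, 8, [99, -55], 45⟩,
    ⟨3, 8, [120, -55], 66⟩, ⟨3, 8, [120, 99], 220⟩, ⟨3, 8, [176, -132], 45⟩,
    ⟨6, 4, [120, -55, 22, 22, 22], 132⟩, ⟨6, 4, [120, -55, -55, 22, 22], 55⟩,
    ⟨6, 4, [330, 120, -55, 22, 22], 440⟩, ⟨6, 4, [330, -160, -55, 22, 22], 160⟩,
    ⟨6, 4, [-132, 120, 99, 22, 22], 132⟩, ⟨6, 4, [176, 120, 99, 22, 22], 440⟩,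
    ⟨6, 4, [176, -160, 99, 22, 22], 160⟩, ⟨6, 4, [120, 99, -55, -55, 22], 132⟩,
    ⟨6, 4, [176, -132, 120, -55, 22], 132⟩, ⟨6, 4, [176, 176, 120, -55, 22], 440⟩,
    ⟨6, 4, [176, 176, -160, -55, 22], 160⟩, ⟨6, 4, [120, 99, 99, 99, 22], 440⟩,
    ⟨6, 4, [-160, 99, 99, 99, 22], 160⟩, ⟨6, 4, [330, -132, 120, 99, 22], 440⟩,
    ⟨6, 4, [330, -160, -132, 99, 22], 160⟩, ⟨6, 4, [120, 99, -55, -55, -55], 55⟩,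
    ⟨6, 4, [176, 120, -55, -55, -55], 132⟩, ⟨6, 4, [330, 120, 99, -55, -55], 440⟩,
    ⟨6, 4, [330, -160, 99, -55, -55], 160⟩, ⟨6, 4, [-132, 120, 99, 99, -55], 132⟩,
    ⟨6, 4, [176, 120, 99, 99, -55], 440⟩, ⟨6, 4, [176, -160, 99, 99, -55], 160⟩,
    ⟨6, 4, [330, -132, -132, 120, -55], 132⟩, ⟨6, 4, [330, 176, -132, 120, -55], 440⟩,
    ⟨6, 4, [330, 176, -160, -132, -55], 160⟩, ⟨6, 4, [176, -132, -132, 120, 99], 132⟩,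
    ⟨6, 4, [176, 176, -132, 120, 99], 440⟩, ⟨6, 4, [176, 176, -160, -132, 99], 160⟩,
    ⟨3, 1, [-6, -6], -11⟩, ⟨3, 1, [-55, -6], -60⟩, ⟨3, 1, [-160, -6], -165⟩,
    ⟨3, 1, [22, 22], 45⟩, ⟨3, 1, [99, -55], 45⟩, ⟨3, 1, [120, -55], 66⟩, ⟨3, 1, [120, 99], 220⟩,
    ⟨3, 1, [-160, 99], -60⟩, ⟨3, 1, [-132, 120], -11⟩, ⟨3, 1, [176, -132], 45⟩]

def E5 : List Tr :=
  [⟨2, 672, [11], 12⟩, ⟨4, 126, [16, 16, 11], 44⟩, ⟨2, 192, [21], 22⟩, ⟨4, 96, [21, 11, 11], 44⟩,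
    ⟨4, 96, [66, -44, 21], 44⟩, ⟨4, 96, [66, 66, 21], 154⟩, ⟨2, 112, [11], 12⟩,
    ⟨4, 56, [16, 16, 11], 44⟩, ⟨4, 56, [176, -44, 11], 144⟩, ⟨4, 56, [66, 66, 11], 144⟩,
    ⟨4, 56, [396, -144, 11], 264⟩, ⟨4, 56, [66, 16, 16], 99⟩, ⟨4, 56, [176, -99, 66], 144⟩,
    ⟨4, 36, [16, 16, 11], 44⟩, ⟨2, 42, [11], 12⟩, ⟨2, 32, [11], 12⟩, ⟨2, 32, [21], 22⟩,
    ⟨4, 16, [21, 11, 11], 44⟩, ⟨4, 16, [66, 21, 11], 99⟩, ⟨4, 16, [231, 21, 11], 264⟩,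
    ⟨4, 16, [126, 126, 11], 264⟩, ⟨4, 16, [56, 21, 21], 99⟩, ⟨4, 16, [66, -44, 21], 44⟩,
    ⟨4, 16, [66, 66, 21], 154⟩, ⟨4, 16, [231, -99, 21], 154⟩, ⟨4, 16, [396, -154, 21], 264⟩,
    ⟨4, 16, [126, 126, -99], 154⟩, ⟨2, 12, [11], 12⟩, ⟨2, 12, [21], 22⟩,
    ⟨4, 6, [21, 11, 11], 44⟩, ⟨4, 6, [16, 16, 11], 44⟩, ⟨4, 6, [231, 21, 11], 264⟩,
    ⟨4, 6, [231, 16, 16], 264⟩, ⟨4, 6, [66, -44, 21], 44⟩, ⟨4, 6, [176, -44, 21], 154⟩,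
    ⟨4, 6, [66, 66, 21], 154⟩, ⟨4, 6, [176, 66, 21], 264⟩, ⟨2, 7, [11], 12⟩, ⟨2, 2, [11], 12⟩,
    ⟨2, 2, [21], 22⟩, ⟨4, 1, [126, 11, 6], 144⟩, ⟨4, 1, [126, 21, 6], 154⟩,
    ⟨4, 1, [21, 11, 11], 44⟩, ⟨4, 1, [66, 21, 11], 99⟩, ⟨4, 1, [231, 21, 11], 264⟩,
    ⟨4, 1, [176, -44, 11], 144⟩, ⟨4, 1, [66, 66, 11], 144⟩, ⟨4, 1, [231, -99, 11], 144⟩,
    ⟨4, 1, [126, 126, 11], 264⟩, ⟨4, 1, [396, -144, 11], 264⟩, ⟨4, 1, [56, 21, 21], 99⟩,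
    ⟨4, 1, [66, -44, 21], 44⟩, ⟨4, 1, [176, -44, 21], 154⟩, ⟨4, 1, [66, 56, 21], 144⟩,
    ⟨4, 1, [66, 66, 21], 154⟩, ⟨4, 1, [176, 66, 21], 264⟩, ⟨4, 1, [176, -99, 21], 99⟩,
    ⟨4, 1, [231, -99, 21], 154⟩, ⟨4, 1, [396, -154, 21], 264⟩, ⟨4, 1, [231, -44, -44], 144⟩,
    ⟨4, 1, [231, -144, 56], 144⟩, ⟨4, 1, [176, -99, 66], 144⟩, ⟨4, 1, [231, -144, 66], 154⟩,
    ⟨4, 1, [126, 126, -99], 154⟩, ⟨4, 1, [396, -144, -99], 154⟩, ⟨4, 1, [231, 176, -144], 264⟩]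

def D0 : List ℕ :=
  [1, 2, 3, 4, 5, 6, 7, 8, 9, 10, 11, 12, 14, 15, 16, 18, 20, 21, 22, 24, 28, 30, 32, 33, 35,
    36, 40, 42, 44, 45, 48, 55, 56, 60, 63, 64, 66, 70, 72, 77, 80, 84, 88, 90, 96, 99, 105,
    110, 112, 120, 126, 128, 132, 140, 144, 154, 160, 165, 168, 176, 180, 192, 198, 210, 220,
    224, 231, 240, 252, 264, 280, 288, 308, 315, 320, 330, 336, 352, 360, 384, 385, 396, 420,
    440, 448, 462, 480, 495, 504, 528, 560, 576, 616, 630, 640, 660]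

def dv : List ℕ := dlist [(2, 7), (3, 2), (5, 1), (7, 1), (11, 1)]

def cs (q : ℕ) : List ℕ := dv.filter (· % q == 0)

def od (l : List Tr) : List Tr := l.filter (·.c % 2 != 0)

def L11 : List Tr := [⟨5, 1, [210, 210, -120, -21], 280⟩, ⟨5, 1, [-120, 45, -21, -10], -105⟩]

theorem t11 : tall 443520 11 dv D0 (fun _ _ => false) (fun T => decide (T ∈ E11)) = true := by
  decide +kernel

theorem t7 : tall 443520 7 dv D11 (fun _ c => c % 11 == 0) (fun T => decide (T ∈ E7)) = true := by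
  decide +kernel

theorem t5 : tall 443520 5 dv D11 (fun _ c => c % 11 == 0) (fun T => decide (T ∈ E5)) = true := by
  decide +kernel

theorem s0 : jtest2 443520 (cs (2 * 11)) 11 [] E11 [] (fun _ _ _ => false) = true := by
  decide +kernel

theorem s1 : jtest2 443520 (cs (2 * 7)) 7 [5, 11] E7 [E5, od E11] (fun _ A _ =>
    L11.any (· ∈ A) && A.all fun T => T.c % 2 == 0 || T.e == 5) = true := by
  decide +kernel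

theorem s2 : jtest2 443520 (cs (2 * 5)) 11 [5] L11 [E5] (fun _ _ _ => false) = true := by
  decide +kernel

theorem s3 : jtest2 443520 (cs (2 * 5)) 5 [7, 11] E5 [od E7, od E11] (fun _ _ _ => false) =
    true := by
  decide +kernel

theorem s4 : jtest2 443520 (cs 2) 7 [5, 11] (od E7) [od E5, od E11] (fun C A K => C == 384 &&
    A == [⟨5, 1, [210, 45, 45, -21], 280⟩, ⟨4, 1, [231, -99, 21], 154⟩, ⟨3, 1, [99, -55], 45⟩] &&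
    K == [(11, [(210, 2), (45, -3), (45, -3), (21, 5), (280, -8), (280, -8)]),
      (5, [(231, 7), (99, 3), (21, 5), (154, 10)]),
      (7, [(99, 3), (55, 7), (45, -3), (45, -3)])]) = true := by
  decide +kernel

end CL.OJ.M22
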