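/-
Jordan's theorem on sharply 4-transitive groups (Tits' argument, no finiteness assumed): the
degree is 4, 5, 6 or 11.
-/
import Mathlib

set_option autoImplicit false

namespace CL.Sharp4

open MulAction

/-- four distinct points -/
def D4 {Ω : Type*} (a b c d : Ω) : Prop := a ≠ b ∧ a ≠ c ∧ a ≠ d ∧ b ≠ c ∧ b ≠ d ∧ c ≠ d

/-- Sharp 4-transitivity, elementwise. -/
structure S4 (G Ω : Type*) [Group G] [MulAction G Ω] : Prop where
  ex : ∀ {a b c d a' b' c' d' : Ω}, D4 a b c d → D4 a' b' c' d' →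
    ∃ g : G, g • a = a' ∧ g • b = b' ∧ g • c = c' ∧ g • d = d'
  uq : ∀ {g : G} {a b c d : Ω}, D4 a b c d → g • a = a → g • b = b → g • c = c → g • d = d → g = 1

variable {G Ω : Type*} [Group G] [MulAction G Ω]

/-- The embedding given by four distinct points. -/
def D4.emb {a b c d : Ω} (h : D4 a b c d) : Fin 4 ↪ Ω :=
  ⟨![a, b, c, d], by
    obtain ⟨h1, h2, h3, h4, h5, h6⟩ := h
    intro i j hij
    fin_cases i <;> fin_cases j <;> simp_all [eq_comm]⟩

theorem S4.of_sharp (h4 : IsMultiplyPretransitive G Ω 4)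
    (hs : ∀ x : Fin 4 ↪ Ω, stabilizer G x = ⊥) : S4 G Ω where
  ex h h' := by
    obtain ⟨g, hg⟩ := h4.exists_smul_eq h.emb h'.emb
    exact ⟨g, DFunLike.congr_fun hg 0, DFunLike.congr_fun hg 1, DFunLike.congr_fun hg 2,
      DFunLike.congr_fun hg 3⟩
  uq {g a b c d} h h1 h2 h3 h4 := by
    rw [← Subgroup.mem_bot, ← hs h.emb, mem_stabilizer_iff]
    ext i
    fin_cases i
    exacts [h1, h2, h3, h4]

namespace S4

variable (H : S4 G Ω)
include H

theorem ext {g h : G} {a b c d : Ω} (hd : D4 a b c d) (h1 : g • a = h • a) (h2 : g • b = h • b)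
    (h3 : g • c = h • c) (h4 : g • d = h • d) : g = h := by
  have := H.uq (g := h⁻¹ * g) hd (by rw [mul_smul, h1, inv_smul_smul])
    (by rw [mul_smul, h2, inv_smul_smul]) (by rw [mul_smul, h3, inv_smul_smul])
    (by rw [mul_smul, h4, inv_smul_smul])
  rw [inv_mul_eq_one] at this
  exact this.symm

theorem fix_finite {g : G} (hg : g ≠ 1) : (fixedBy Ω g).Finite ∧ (fixedBy Ω g).ncard ≤ 3 := by
  have key : ∀ s ⊆ fixedBy Ω g, s.Finite → s.ncard ≤ 3 := by
    intro s hs hf
    by_contra h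
    obtain ⟨a, ha, b, hb, c, hc, d, hd, h⟩ := (Set.three_lt_ncard hf).1 (not_le.1 h)
    exact hg (H.uq (a := a) (b := b) (c := c) (d := d) h (hs ha) (hs hb) (hs hc) (hs hd))
  have hf : (fixedBy Ω g).Finite := by
    by_contra h
    obtain ⟨s, hs, hf, hc⟩ := Set.Infinite.exists_subset_ncard_eq h 4
    have := key s hs hf
    omega
  exact ⟨hf, key _ subset_rfl hf⟩

omit H in
theorem ncard_fix_conj (g h : G) : (fixedBy Ω (g * h * g⁻¹)).ncard = (fixedBy Ω h).ncard := by
  rw [← smul_fixedBy, Set.ncard_smul_set]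

/-- Elements with two 2-cycles have the same number of fixed points. -/
theorem ncard_fix_eq {e e' : G} {a b c d a' b' c' d' : Ω} (hd : D4 a b c d) (hd' : D4 a' b' c' d')
    (h1 : e • a = b) (h2 : e • b = a) (h3 : e • c = d) (h4 : e • d = c)
    (h1' : e' • a' = b') (h2' : e' • b' = a') (h3' : e' • c' = d') (h4' : e' • d' = c') :
    (fixedBy Ω e').ncard = (fixedBy Ω e).ncard := by
  obtain ⟨g, g1, g2, g3, g4⟩ := H.ex hd hd'
  have : e' = g * e * g⁻¹ := by
    apply H.ext hd'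
    · rw [h1', ← g1, ← g2, mul_smul, mul_smul, inv_smul_smul, h1]
    · rw [h2', ← g1, ← g2, mul_smul, mul_smul, inv_smul_smul, h2]
    · rw [h3', ← g3, ← g4, mul_smul, mul_smul, inv_smul_smul, h3]
    · rw [h4', ← g3, ← g4, mul_smul, mul_smul, inv_smul_smul, h4]
  rw [this, ncard_fix_conj]

/-- If `v = (a b)(c)(d)` fixes only `c`, `d`, every element swapping `a, b` and fixing `c` is an
involution (finite degree). -/
theorem sq_eq_one_of_two [Finite Ω] {a b c d : Ω} (hd : D4 a b c d) {v : G} (v1 : v • a = b)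
    (v2 : v • b = a) (v3 : v • c = c) (v4 : v • d = d) (hv : (fixedBy Ω v).ncard ≤ 2)
    {g : G} (g1 : g • a = b) (g2 : g • b = a) (g3 : g • c = c) : g * g = 1 := by
  obtain ⟨hab, hac, had, hbc, hbd, hcd⟩ := hd
  let Y := {y : Ω // y ≠ a ∧ y ≠ b ∧ y ≠ c}
  have hD : ∀ y : Y, D4 a b c y := fun y => ⟨hab, hac, y.2.1.symm, hbc, y.2.2.1.symm, y.2.2.2.symm⟩
  have hD' : ∀ y : Y, D4 b a c y :=
    fun y => ⟨hab.symm, hbc, y.2.2.1.symm, hac, y.2.1.symm, y.2.2.2.symm⟩
  choose t t1 t2 t3 t4 using fun y : Y => H.ex (hD y) (hD' y)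
  have mem : ∀ k : G, k • a = b → k • b = a → k • c = c → k • d ≠ a ∧ k • d ≠ b ∧ k • d ≠ c := by
    intro k k1 k2 k3
    refine ⟨fun h => hbd ?_, fun h => had ?_, fun h => hcd ?_⟩
    · exact smul_left_cancel k (k2.trans h.symm)
    · exact smul_left_cancel k (k1.trans h.symm)
    · exact smul_left_cancel k (k3.trans h.symm)
  have hd : D4 a b c d := ⟨hab, hac, had, hbc, hbd, hcd⟩
  have hinj : Function.Injective fun y : Y => (⟨t y • d, mem _ (t1 y) (t2 y) (t3 y)⟩ : Y) := by
    intro y z h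
    have h1 : t y = t z := H.ext hd ((t1 y).trans (t1 z).symm) ((t2 y).trans (t2 z).symm)
      ((t3 y).trans (t3 z).symm) (congrArg Subtype.val h)
    by_contra hne
    obtain ⟨k, k1, k2, k3, k4⟩ := H.ex hd (hD y)
    have h2 : t y = k * v * k⁻¹ := by
      apply H.ext (hD y)
      · rw [t1, ← k1, ← k2, mul_smul, mul_smul, inv_smul_smul, v1]
      · rw [t2, ← k1, ← k2, mul_smul, mul_smul, inv_smul_smul, v2]
      · rw [t3]; nth_rewrite 2 [← k3]; rw [mul_smul, mul_smul, inv_smul_smul, v3, k3]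
      · rw [t4]; nth_rewrite 2 [← k4]; rw [mul_smul, mul_smul, inv_smul_smul, v4, k4]
    have h3 : 2 < (fixedBy Ω (t y)).ncard := by
      rw [Set.two_lt_ncard]
      exact ⟨c, t3 y, y, t4 y, z, h1 ▸ t4 z, y.2.2.2.symm, z.2.2.2.symm,
        fun h => hne (Subtype.ext h)⟩
    rw [h2, ncard_fix_conj] at h3
    omega
  obtain ⟨y, hy⟩ := Finite.surjective_of_injective hinj ⟨g • d, mem g g1 g2 g3⟩
  have h1 : t y = g := H.ext hd ((t1 y).trans g1.symm) ((t2 y).trans g2.symm)
    ((t3 y).trans g3.symm) (congrArg Subtype.val hy)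
  have h2 := t4 y
  rw [h1] at h2
  exact H.uq (hD y) (by rw [mul_smul, g1, g2]) (by rw [mul_smul, g2, g1])
    (by rw [mul_smul, g3, g3]) (by rw [mul_smul, h2, h2])

/-- Tits: if `v = (a b)(c)(d)` fixes only two points the degree is at most 6. -/
theorem card_le_six [Finite Ω] {a b c d : Ω} (hd : D4 a b c d) {v : G} (v1 : v • a = b)
    (v2 : v • b = a) (v3 : v • c = c) (v4 : v • d = d) (hv : (fixedBy Ω v).ncard ≤ 2) :
    Nat.card Ω ≤ 6 := by
  have hd0 := hd
  obtain ⟨hab, hac, had, hbc, hbd, hcd⟩ := hd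
  have hd1 : D4 a c b d := ⟨hac, hab, had, hbc.symm, hcd, hbd⟩
  obtain ⟨s, s1, s2, s3, s4⟩ := H.ex hd0 hd1
  -- `v' = (a c)(b)(d)`
  set v' := s * v * s⁻¹ with hv'
  have w1 : v' • a = c := by rw [← s1, hv', mul_smul, mul_smul, inv_smul_smul, v1, s2]
  have w2 : v' • c = a := by rw [← s2, hv', mul_smul, mul_smul, inv_smul_smul, v2, s1]
  have w3 : v' • b = b := by
    nth_rewrite 1 [← s3]; rw [hv', mul_smul, mul_smul, inv_smul_smul, v3, s3]
  have w4 : v' • d = d := by
    nth_rewrite 1 [← s4]; rw [hv', mul_smul, mul_smul, inv_smul_smul, v4, s4]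
  have hv2 : (fixedBy Ω v').ncard ≤ 2 := by rw [hv', ncard_fix_conj]; exact hv
  have hfix : ∀ y, y ≠ a → y ≠ b → y ≠ c → (v * v') • y = y := by
    intro y ya yb yc
    obtain ⟨k, k1, k2, k3, k4⟩ := H.ex hd0 (show D4 a b c y from
      ⟨hab, hac, ya.symm, hbc, yb.symm, yc.symm⟩)
    have k1' : k⁻¹ • a = a := by rw [inv_smul_eq_iff, k1]
    have k2' : k⁻¹ • b = b := by rw [inv_smul_eq_iff, k2]
    have k3' : k⁻¹ • c = c := by rw [inv_smul_eq_iff, k3]
    have e1 := H.sq_eq_one_of_two hd1 w1 w2 w3 w4 hv2 (g := v' * k)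
      (by rw [mul_smul, k1, w1]) (by rw [mul_smul, k3, w2]) (by rw [mul_smul, k2, w3])
    have e2 := H.sq_eq_one_of_two hd0 v1 v2 v3 v4 hv (g := v * k⁻¹)
      (by rw [mul_smul, k1', v1]) (by rw [mul_smul, k2', v2]) (by rw [mul_smul, k3', v3])
    have e3 := H.sq_eq_one_of_two hd1 w1 w2 w3 w4 hv2 w1 w2 w3
    have e4 := H.sq_eq_one_of_two hd0 v1 v2 v3 v4 hv v1 v2 v3
    have e5 : v' * k = k⁻¹ * v' := by
      have : v' * k = (v' * k)⁻¹ := eq_inv_of_mul_eq_one_left e1
      rw [this, mul_inv_rev, inv_eq_of_mul_eq_one_left e3]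
    have e6 : v * k⁻¹ = k * v := by
      have : v * k⁻¹ = (v * k⁻¹)⁻¹ := eq_inv_of_mul_eq_one_left e2
      rw [this, mul_inv_rev, inv_inv, inv_eq_of_mul_eq_one_left e4]
    have e7 : v * v' * k = k * (v * v') := by
      rw [mul_assoc, e5, ← mul_assoc, e6, mul_assoc]
    rw [← k4, ← mul_smul, e7, mul_smul, mul_smul, w4, v4]
  have hne : v * v' ≠ 1 := by
    intro h
    have : (v * v') • a = a := by rw [h, one_smul]
    rw [mul_smul, w1, v3] at this
    exact hac this.symm
  have h1 := (H.fix_finite hne).2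
  have h2 : (Set.univ : Set Ω) ⊆ {a, b, c} ∪ fixedBy Ω (v * v') := by
    intro y _
    by_cases ya : y = a
    · simp [ya]
    by_cases yb : y = b
    · simp [yb]
    by_cases yc : y = c
    · simp [yc]
    exact Or.inr (hfix y ya yb yc)
  have h3 := Set.ncard_le_ncard h2
  have h4 := Set.ncard_union_le ({a, b, c} : Set Ω) (fixedBy Ω (v * v'))
  have h5 : ({a, b, c} : Set Ω).ncard = 3 := Set.ncard_eq_three.2 ⟨a, b, c, hab, hac, hbc, rfl⟩
  rw [Set.ncard_univ] at h3
  omega

/-- a fixed point of `u = (a)(b)...` other than `a, b` is fixed by a commuting `v` swapping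
`a, b`. -/
theorem fix_cases {a b : Ω} (hab : a ≠ b) {u v : G} (hu : u ≠ 1) (u1 : u • a = a) (u2 : u • b = b)
    (v1 : v • a = b) (v2 : v • b = a) (huv : u * v = v * u) {p : Ω} (hp : u • p = p) :
    p = a ∨ p = b ∨ v • p = p := by
  by_contra h
  push Not at h
  obtain ⟨h1, h2, h3⟩ := h
  refine hu (H.uq (a := a) (b := b) (c := p) (d := v • p) ⟨hab, h1.symm, fun h => h2 ?_, h2.symm,
    fun h => h1 ?_, h3.symm⟩ u1 u2 hp (by rw [← mul_smul, huv, mul_smul, hp]))
  · exact (smul_left_cancel v (v2.trans h)).symm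
  · exact (smul_left_cancel v (v1.trans h)).symm

/-- The degree of a sharply 4-transitive group. -/
theorem card_cases {a b c d : Ω} (hd : D4 a b c d) :
    Finite Ω ∧ (Nat.card Ω = 4 ∨ Nat.card Ω = 5 ∨ Nat.card Ω = 6 ∨ Nat.card Ω = 11) := by
  have hd0 := hd
  obtain ⟨hab, hac, had, hbc, hbd, hcd⟩ := hd
  obtain ⟨u, u1, u2, u3, u4⟩ := H.ex hd0 (show D4 a b d c from ⟨hab, had, hac, hbd, hbc, hcd.symm⟩)
  obtain ⟨v, v1, v2, v3, v4⟩ := H.ex hd0 (show D4 b a c d from ⟨hab.symm, hbc, hbd, hac, had, hcd⟩)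
  have huu : u * u = 1 := H.uq hd0 (by rw [mul_smul, u1, u1]) (by rw [mul_smul, u2, u2])
    (by rw [mul_smul, u3, u4]) (by rw [mul_smul, u4, u3])
  have hvv : v * v = 1 := H.uq hd0 (by rw [mul_smul, v1, v2]) (by rw [mul_smul, v2, v1])
    (by rw [mul_smul, v3, v3]) (by rw [mul_smul, v4, v4])
  have huv : u * v = v * u := H.ext hd0 (by simp only [mul_smul, *]) (by simp only [mul_smul, *])
    (by simp only [mul_smul, *]) (by simp only [mul_smul, *])
  have hu : u ≠ 1 := fun h => hcd (by rw [← u3, h, one_smul])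
  have hv : v ≠ 1 := fun h => hab (by rw [← v1, h, one_smul])
  obtain ⟨w, hw⟩ : ∃ w, w = u * v := ⟨_, rfl⟩
  have w1 : w • a = b := by rw [hw, mul_smul, v1, u2]
  have w2 : w • b = a := by rw [hw, mul_smul, v2, u1]
  have w3 : w • c = d := by rw [hw, mul_smul, v3, u3]
  have w4 : w • d = c := by rw [hw, mul_smul, v4, u4]
  have hw1 : w ≠ 1 := fun h => hab (by rw [← w1, h, one_smul])
  have uu : ∀ x : Ω, u • u • x = x := fun x => by rw [← mul_smul, huu, one_smul]
  have vv : ∀ x : Ω, v • v • x = x := fun x => by rw [← mul_smul, hvv, one_smul]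
  have uv : ∀ x : Ω, u • v • x = w • x := fun x => by rw [hw, mul_smul]
  have vu : ∀ x : Ω, v • u • x = w • x := fun x => by rw [hw, huv, mul_smul]
  have uw : ∀ x : Ω, u • w • x = v • x := fun x => by rw [← uv, uu]
  have vw : ∀ x : Ω, v • w • x = u • x := fun x => by rw [← vu, vv]
  have wu : ∀ x : Ω, w • u • x = v • x := fun x => by rw [← vu, uu]
  have wv : ∀ x : Ω, w • v • x = u • x := fun x => by rw [← uv, vv]
  have ww : ∀ x : Ω, w • w • x = x := fun x => by rw [← uv, vw, uu]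
  have fu : ∀ p, u • p = p → p = a ∨ p = b ∨ v • p = p :=
    fun p hp => H.fix_cases hab hu u1 u2 v1 v2 huv hp
  have fv : ∀ p, v • p = p → p = c ∨ p = d ∨ u • p = p :=
    fun p hp => H.fix_cases hcd hv v3 v4 u3 u4 huv.symm hp
  -- the centraliser of the four-group
  have cent : ∀ z : G, (∀ x : Ω, z • u • x = u • z • x) → (∀ x : Ω, z • v • x = v • z • x) →
      z = 1 ∨ z = u ∨ z = v ∨ z = w := by
    intro z zu zv
    have e1 : z • b = v • z • a := by rw [← zv, v1]
    have e2 : z • d = u • z • c := by rw [← zu, u3]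
    have h1 : z • a = a ∨ z • a = b := by
      rcases fu (z • a) (by rw [← zu, u1]) with h | h | h
      · exact Or.inl h
      · exact Or.inr h
      · exact absurd (smul_left_cancel z (e1.trans h)).symm hab
    have h2 : z • c = c ∨ z • c = d := by
      rcases fv (z • c) (by rw [← zv, v3]) with h | h | h
      · exact Or.inl h
      · exact Or.inr h
      · exact absurd (smul_left_cancel z (e2.trans h)).symm hcd
    rcases h1 with h1 | h1 <;> rcases h2 with h2 | h2 <;> rw [h1] at e1 <;> rw [h2] at e2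
    · exact Or.inl (H.uq hd0 h1 (e1.trans v1) h2 (e2.trans u3))
    · exact Or.inr (Or.inl (H.ext hd0 (h1.trans u1.symm) ((e1.trans v1).trans u2.symm)
        (h2.trans u3.symm) e2))
    · exact Or.inr (Or.inr (Or.inl (H.ext hd0 (h1.trans v1.symm) e1 (h2.trans v3.symm)
        ((e2.trans u3).trans v4.symm))))
    · exact Or.inr (Or.inr (Or.inr (H.ext hd0 (h1.trans w1.symm) ((e1.trans v2).trans w2.symm)
        (h2.trans w3.symm) ((e2.trans u4).trans w4.symm))))
  -- regular orbits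
  have reg : ∀ x : Ω, u • x ≠ x → v • x ≠ x → w • x ≠ x → D4 x (u • x) (v • x) (w • x) := by
    intro x h1 h2 h3
    refine ⟨h1.symm, h2.symm, h3.symm, fun h => h3 ?_, fun h => h2 ?_, fun h => h1 ?_⟩
    · rw [← vu, h, vv]
    · rw [← uw, ← h, uu]
    · rw [← vw, ← h, vv]
  have tex : ∀ x : Ω, u • x ≠ x → v • x ≠ x → w • x ≠ x → ∃ t : G, t • x = u • x ∧
      t • u • x = x ∧ t • v • x = v • x ∧ t • w • x = w • x ∧ t * t = 1 ∧
      (∀ y : Ω, t • u • y = u • t • y) ∧ (∀ y : Ω, t • v • y = w • t • y) := by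
    intro x h1 h2 h3
    have hr := reg x h1 h2 h3
    obtain ⟨r1, r2, r3, r4, r5, r6⟩ := reg x h1 h2 h3
    obtain ⟨t, t1, t2, t3, t4⟩ := H.ex hr
      (show D4 (u • x) x (v • x) (w • x) from ⟨r1.symm, r4, r5, r2, r3, r6⟩)
    refine ⟨t, t1, t2, t3, t4, H.uq hr (by rw [mul_smul, t1, t2]) (by rw [mul_smul, t2, t1])
      (by rw [mul_smul, t3, t3]) (by rw [mul_smul, t4, t4]), fun y => ?_, fun y => ?_⟩
    · rw [← mul_smul, ← mul_smul, H.ext (g := t * u) (h := u * t) hr]
      all_goals simp only [mul_smul, t1, t2, t3, t4, uu, uv, uw]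
    · rw [← mul_smul, ← mul_smul, H.ext (g := t * v) (h := w * t) hr]
      all_goals simp only [mul_smul, t1, t2, t3, t4, vv, vu, vw, wu, wv, ww]
  have one_orbit : ∀ x : Ω, u • x ≠ x → v • x ≠ x → w • x ≠ x →
      ∀ y : Ω, u • y ≠ y → v • y ≠ y → w • y ≠ y → y ∈ ({x, u • x, v • x, w • x} : Set Ω) := by
    intro x h1 h2 h3 y k1 k2 k3
    obtain ⟨t, t1, t2, t3, t4, tt, tu, tv⟩ := tex x h1 h2 h3
    obtain ⟨s, s1, s2, s3, s4, ss, su, sv⟩ := tex y k1 k2 k3
    have tt' : ∀ z : Ω, t • t • z = z := fun z => by rw [← mul_smul, tt, one_smul]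
    have ss' : ∀ z : Ω, s • s • z = z := fun z => by rw [← mul_smul, ss, one_smul]
    have tw : ∀ z : Ω, t • w • z = v • t • z := fun z => by rw [← uv, tu, tv, uw]
    have hne : t ≠ 1 := fun h => h1 (by rw [← t1, h, one_smul])
    obtain ⟨r1, r2, r3, r4, r5, r6⟩ := reg x h1 h2 h3
    obtain ⟨q1, q2, q3, q4, q5, q6⟩ := reg y k1 k2 k3
    by_contra hy
    simp only [Set.mem_insert_iff, Set.mem_singleton_iff, not_or] at hy
    obtain ⟨y1, y2, y3, y4⟩ := hy
    rcases cent (t * s) (fun z => by rw [mul_smul, mul_smul, su, tu])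
      (fun z => by rw [mul_smul, mul_smul, sv, tw]) with h | h | h | h
    · have e : ∀ z : Ω, t • z = s • z := fun z => by
        rw [← ss' z, ← mul_smul t s, h, one_smul, ss']
      refine hne (H.uq (a := v • x) (b := w • x) (c := v • y) (d := w • y)
        ⟨r6, fun h => y1 (smul_left_cancel v h).symm, fun h => y2 ?_, fun h => y2 ?_,
          fun h => y1 (smul_left_cancel w h).symm, q6⟩ t3 t4 (by rw [e, s3]) (by rw [e, s4]))
      · rw [← ww y, ← h, wv]
      · rw [← vv y, ← h, vw]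
    · have e : ∀ z : Ω, t • z = u • s • z := fun z => by
        rw [← h, mul_smul, ss']
      refine hne (H.uq (a := v • x) (b := w • x) (c := y) (d := u • y)
        ⟨r6, fun h => y3 h.symm, fun h => y4 ?_, fun h => y4 h.symm, fun h => y3 ?_, q1⟩ t3 t4
        (by rw [e, s1, uu]) (by rw [e, s2]))
      · rw [← uu y, ← h, uv]
      · rw [← uu y, ← h, uw]
    · have e : ∀ z : Ω, t • z = v • s • z := fun z => by
        rw [← h, mul_smul, ss']
      have := tt' y
      rw [e, e, s1, vu, s4, vw] at this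
      exact k1 this
    · have e : ∀ z : Ω, t • z = w • s • z := fun z => by
        rw [← h, mul_smul, ss']
      have := tt' y
      rw [e, e, s1, wu, s3, wv] at this
      exact k1 this
  -- counting
  obtain ⟨hfw, hcw⟩ := H.fix_finite hw1
  obtain ⟨hfu, hcu⟩ := H.fix_finite hu
  have h4 : ({a, b, c, d} : Set Ω).ncard = 4 :=
    Set.ncard_eq_four.2 ⟨a, b, c, d, hab, hac, had, hbc, hbd, hcd, rfl⟩
  have hdisj : Disjoint ({a, b, c, d} : Set Ω) (fixedBy Ω w) := by
    rw [Set.disjoint_left]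
    rintro x (rfl | rfl | rfl | rfl) h
    · exact hab (h.symm.trans w1)
    · exact hab (w2.symm.trans h)
    · exact hcd (h.symm.trans w3)
    · exact hcd (w4.symm.trans h)
  set U : Set Ω := {a, b, c, d} ∪ fixedBy Ω w with hU
  have hUf : U.Finite := (Set.toFinite _).union hfw
  have hUc : U.ncard = 4 + (fixedBy Ω w).ncard := by
    rw [hU, Set.ncard_union_eq hdisj (Set.toFinite _) hfw, h4]
  have memU : ∀ x, x ∉ U ↔ u • x ≠ x ∧ v • x ≠ x ∧ w • x ≠ x := by
    intro x
    constructor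
    · intro hx
      simp only [hU, Set.mem_union, Set.mem_insert_iff, Set.mem_singleton_iff, not_or,
        mem_fixedBy] at hx
      obtain ⟨⟨x1, x2, x3, x4⟩, x5⟩ := hx
      refine ⟨fun h => ?_, fun h => ?_, x5⟩
      · rcases fu x h with h' | h' | h'
        exacts [x1 h', x2 h', x5 (by rw [← uv, h', h])]
      · rcases fv x h with h' | h' | h'
        exacts [x3 h', x4 h', x5 (by rw [← uv, h, h'])]
    · rintro ⟨x1, x2, x3⟩ ((rfl | rfl | rfl | rfl) | h)
      exacts [x1 u1, x1 u2, x2 v3, x2 v4, x3 h]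
  have hcount : Finite Ω ∧ (Nat.card Ω = U.ncard ∨ Nat.card Ω = U.ncard + 4) := by
    by_cases hall : ∀ x, x ∈ U
    · have : U = Set.univ := Set.eq_univ_of_forall hall
      rw [this] at hUf
      exact ⟨Set.finite_univ_iff.1 hUf, Or.inl (by rw [this, Set.ncard_univ])⟩
    · push Not at hall
      obtain ⟨x, hx⟩ := hall
      obtain ⟨x1, x2, x3⟩ := (memU x).1 hx
      obtain ⟨r1, r2, r3, r4, r5, r6⟩ := reg x x1 x2 x3
      have hO : Uᶜ = {x, u • x, v • x, w • x} := by
        ext y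
        rw [Set.mem_compl_iff, memU]
        constructor
        · rintro ⟨y1, y2, y3⟩
          exact one_orbit x x1 x2 x3 y y1 y2 y3
        · rintro (rfl | rfl | rfl | rfl)
          · exact ⟨x1, x2, x3⟩
          · rw [uu, vu, wu]
            exact ⟨r1, r5.symm, r4.symm⟩
          · rw [uv, vv, wv]
            exact ⟨r6.symm, r2, r4⟩
          · rw [uw, vw, ww]
            exact ⟨r6, r5, r3⟩
      have hOf : (Uᶜ).Finite := hO ▸ Set.toFinite _
      have : Finite Ω := Set.finite_univ_iff.1 (Set.union_compl_self U ▸ hUf.union hOf)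
      refine ⟨this, Or.inr ?_⟩
      rw [← Set.ncard_add_ncard_compl U, hO,
        Set.ncard_eq_four.2 ⟨_, _, _, _, r1, r2, r3, r4, r5, r6, rfl⟩]
  obtain ⟨hfin, hcount⟩ := hcount
  refine ⟨hfin, ?_⟩
  have h2u : 2 ≤ (fixedBy Ω u).ncard :=
    (Set.one_lt_ncard hfu).2 ⟨a, u1, b, u2, hab⟩
  by_cases hB : ∀ x, x ≠ c → x ≠ d → u • x = x
  · have e : (fixedBy Ω u)ᶜ = {c, d} := by
      ext x
      simp only [Set.mem_compl_iff, mem_fixedBy, Set.mem_insert_iff, Set.mem_singleton_iff]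
      constructor
      · intro h
        by_contra h'
        push Not at h'
        exact h (hB x h'.1 h'.2)
      · rintro (rfl | rfl) h
        · exact hcd (h.symm.trans u3)
        · exact hcd (u4.symm.trans h)
    have := Set.ncard_add_ncard_compl (fixedBy Ω u)
    rw [e, Set.ncard_pair hcd] at this
    omega
  · push Not at hB
    obtain ⟨x, xc, xd, hx⟩ := hB
    have hwu : (fixedBy Ω w).ncard = (fixedBy Ω u).ncard :=
      H.ncard_fix_eq (show D4 x (u • x) c d from ⟨hx.symm, xc, xd,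
        fun h => xd (by rw [← uu x, h, u3]), fun h => xc (by rw [← uu x, h, u4]), hcd⟩) hd0
        rfl (uu x) u3 u4 w1 w2 w3 w4
    rcases h2u.eq_or_lt with h2 | h3
    · have := H.card_le_six (show D4 c d a b from ⟨hcd, hac.symm, hbc.symm, had.symm, hbd.symm, hab⟩)
        u3 u4 u1 u2 h2.symm.le
      omega
    · have h3w : (fixedBy Ω w).ncard = 3 := by omega
      have h7 : Nat.card Ω ≠ 7 := by
        intro h7
        obtain ⟨p, q, r, hpq, hpr, hqr, e⟩ := Set.ncard_eq_three.1 h3w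
        have hm : ∀ z ∈ ({p, q, r} : Set Ω), w • z = z ∧ z ≠ a ∧ z ≠ b ∧ z ≠ c ∧ z ≠ d := by
          intro z hz
          rw [← e] at hz
          have := Set.disjoint_right.1 hdisj hz
          simp only [Set.mem_insert_iff, Set.mem_singleton_iff, not_or] at this
          exact ⟨hz, this⟩
        obtain ⟨p0, p1, p2, p3, p4⟩ := hm p (by simp)
        obtain ⟨q0, q1, q2, q3, q4⟩ := hm q (by simp)
        obtain ⟨r0, r1, r2, r3, r4⟩ := hm r (by simp)
        have hd1 : D4 a b c p := ⟨hab, hac, p1.symm, hbc, p2.symm, p3.symm⟩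
        obtain ⟨w', e1, e2, e3, e4⟩ := H.ex hd1
          (show D4 b a p c from ⟨hab.symm, p2.symm, hbc, p1.symm, hac, p3⟩)
        have h5 := H.ncard_fix_eq hd0 hd1 w1 w2 w3 w4 e1 e2 e3 e4
        have h6 : fixedBy Ω w' = ({a, b, c, p} : Set Ω)ᶜ := by
          apply Set.eq_of_subset_of_ncard_le
          · rintro z hz (rfl | rfl | rfl | rfl)
            · exact hab (hz.symm.trans e1)
            · exact hab (e2.symm.trans hz)
            · exact p3 (e3.symm.trans hz)
            · exact p3 (hz.symm.trans e4)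
          · have := Set.ncard_add_ncard_compl ({a, b, c, p} : Set Ω)
            rw [Set.ncard_eq_four.2 ⟨a, b, c, p, hab, hac, p1.symm, hbc, p2.symm, p3.symm, rfl⟩]
              at this
            omega
          · exact Set.toFinite _
        have q5 : w' • q = q := by
          rw [← mem_fixedBy, h6]
          simp [q1, q2, q3, hpq.symm]
        have r5 : w' • r = r := by
          rw [← mem_fixedBy, h6]
          simp [r1, r2, r3, hpr.symm]
        have := H.ext (g := w) (h := w') (show D4 a b q r from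
          ⟨hab, q1.symm, r1.symm, q2.symm, r2.symm, hqr⟩) (w1.trans e1.symm) (w2.trans e2.symm)
          (q0.trans q5.symm) (r0.trans r5.symm)
        exact p4 (by rw [← e3, ← this, w3])
      omega

end S4

theorem card_cases (h4 : IsMultiplyPretransitive G Ω 4)
    (hs : ∀ x : Fin 4 ↪ Ω, stabilizer G x = ⊥) (hne : Nonempty (Fin 4 ↪ Ω)) :
    Finite Ω ∧ (Nat.card Ω = 4 ∨ Nat.card Ω = 5 ∨ Nat.card Ω = 6 ∨ Nat.card Ω = 11) := by
  obtain ⟨x⟩ := hne
  exact (S4.of_sharp h4 hs).card_cases (a := x 0) (b := x 1) (c := x 2) (d := x 3)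
    (by simp [D4, x.injective.eq_iff])

end CL.Sharp4
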