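/-
Sharply k-transitive groups: order, point stabilisers, degrees (Jordan), simplicity in degrees
11 and 12.
-/
import Mathlib
import Cfsg.Agent.SPOR.Sharp4
import Cfsg.Agent.SPOR.SimpleCrit
import Cfsg.Agent.PERM.MultiTrans

set_option autoImplicit false

namespace CL.SharpK

open MulAction SubMulAction

variable {G α : Type*} [Group G] [MulAction G α]

/-- Sharp `k`-transitivity. -/
structure Sharp (G α : Type*) [Group G] [MulAction G α] (k : ℕ) : Prop where
  trans : IsMultiplyPretransitive G α k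
  sharp : ∀ x : Fin k ↪ α, stabilizer G x = ⊥

theorem Sharp.eq_one {k : ℕ} (h : Sharp G α k) (x : Fin k ↪ α) {g : G} (hg : ∀ i, g • x i = x i) :
    g = 1 := by
  rw [← Subgroup.mem_bot, ← h.sharp x, mem_stabilizer_iff]
  exact DFunLike.ext _ _ hg

theorem Sharp.card_eq [Finite α] {k : ℕ} (h : Sharp G α k) (hk : k ≤ Nat.card α) :
    Nat.card G = (Nat.card α).descFactorial k := by
  classical
  cases nonempty_fintype α
  have := h.trans
  rw [Nat.card_eq_fintype_card] at hk
  obtain ⟨x⟩ : Nonempty (Fin k ↪ α) := Function.Embedding.nonempty_of_card_le (by simpa using hk)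
  rw [SimpleCrit.card_eq_of_regular x (h.sharp x), Nat.card_eq_fintype_card,
    Fintype.card_embedding_eq, Fintype.card_fin, Nat.card_eq_fintype_card]

theorem Sharp.ncard_fixedBy_lt [Finite α] {k : ℕ} (h : Sharp G α k) {g : G} (hg : g ≠ 1) :
    (fixedBy α g).ncard < k := by
  by_contra hk
  cases nonempty_fintype (fixedBy α g)
  obtain ⟨x⟩ : Nonempty (Fin k ↪ fixedBy α g) := Function.Embedding.nonempty_of_card_le (by
    rw [Fintype.card_fin, ← Nat.card_eq_fintype_card, Nat.card_coe_set_eq]
    omega)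
  exact hg (h.eq_one (x.trans (Function.Embedding.subtype _)) fun i => (x i).2)

theorem card_ofStabilizer [Finite α] (a : α) : Nat.card (ofStabilizer G a) + 1 = Nat.card α := by
  have h := Set.ncard_add_ncard_compl ({a} : Set α)
  rw [Set.ncard_singleton] at h
  rw [← h, add_comm]
  rfl

theorem Sharp.stabilizer [Finite α] {k : ℕ} (h : Sharp G α (k + 1)) (hk : k + 1 ≤ Nat.card α)
    (a : α) : Sharp (stabilizer G a) (ofStabilizer G a) k := by
  have := h.trans
  have h1 : IsMultiplyPretransitive G α 1 := isMultiplyPretransitive_of_le (n := k + 1) (by omega) hk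
  rw [is_one_pretransitive_iff] at h1
  refine ⟨ofStabilizer.isMultiplyPretransitive.1 h.trans, fun x => ?_⟩
  rw [eq_bot_iff]
  intro g hg
  rw [Subgroup.mem_bot, Subtype.ext_iff]
  apply h.eq_one (ofStabilizer.snoc x)
  intro i
  rcases Fin.eq_castSucc_or_eq_last i with ⟨i, rfl⟩ | rfl
  · rw [ofStabilizer.snoc_castSucc]
    exact congrArg Subtype.val (DFunLike.congr_fun (mem_stabilizer_iff.1 hg) i)
  · rw [ofStabilizer.snoc_last]
    exact g.2

theorem Sharp.faithful [Finite α] {k : ℕ} (h : Sharp G α k) (hk : k ≤ Nat.card α) :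
    FaithfulSMul G α := by
  cases nonempty_fintype α
  rw [Nat.card_eq_fintype_card] at hk
  obtain ⟨x⟩ : Nonempty (Fin k ↪ α) := Function.Embedding.nonempty_of_card_le (by simpa using hk)
  refine ⟨fun {g g'} e => ?_⟩
  have := h.eq_one x (g := g'⁻¹ * g) fun i => by rw [mul_smul, e, inv_smul_smul]
  rw [inv_mul_eq_one] at this
  exact this.symm

theorem Sharp.four [Finite α] (h : Sharp G α 4) (hk : 4 ≤ Nat.card α) :
    Nat.card α = 4 ∨ Nat.card α = 5 ∨ Nat.card α = 6 ∨ Nat.card α = 11 := by
  cases nonempty_fintype α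
  refine (Sharp4.card_cases h.trans h.sharp (Function.Embedding.nonempty_of_card_le ?_)).2
  rwa [Fintype.card_fin, ← Nat.card_eq_fintype_card]

theorem Sharp.five [Finite α] (h : Sharp G α 5) (hk : 5 ≤ Nat.card α) :
    Nat.card α = 5 ∨ Nat.card α = 6 ∨ Nat.card α = 7 ∨ Nat.card α = 12 := by
  obtain ⟨a⟩ : Nonempty α := (Nat.card_pos_iff.1 (by omega)).1
  have h1 := card_ofStabilizer (G := G) a
  have := (h.stabilizer hk a).four (by omega)
  omega

theorem Sharp.ne_thirteen [Finite α] (h : Sharp G α 6) : Nat.card α ≠ 13 := by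
  intro h13
  cases nonempty_fintype α
  obtain ⟨x⟩ : Nonempty (Fin 6 ↪ α) := Function.Embedding.nonempty_of_card_le (by
    rw [Fintype.card_fin, ← Nat.card_eq_fintype_card]; omega)
  let σ : Fin 6 ↪ Fin 6 := ⟨![1, 2, 3, 4, 0, 5], by decide⟩
  obtain ⟨g, hg⟩ := h.trans.exists_smul_eq x (σ.trans x)
  have g0 : g • x 0 = x 1 := DFunLike.congr_fun hg 0
  have g1 : g • x 1 = x 2 := DFunLike.congr_fun hg 1
  have g2 : g • x 2 = x 3 := DFunLike.congr_fun hg 2
  have g3 : g • x 3 = x 4 := DFunLike.congr_fun hg 3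
  have g4 : g • x 4 = x 0 := DFunLike.congr_fun hg 4
  have g5 : g • x 5 = x 5 := DFunLike.congr_fun hg 5
  have hg5 : g ^ 5 ^ 1 = 1 := h.eq_one x fun i => by
    fin_cases i <;> simp [pow_succ, mul_smul, g0, g1, g2, g3, g4, g5]
  have hg1 : g ≠ 1 := by
    rintro rfl
    rw [one_smul] at g0
    simpa using x.injective g0
  have := Fact.mk Nat.prime_five
  have h1 := Perm.card_fixedBy_modEq (α := α) hg5
  have h2 := h.ncard_fixedBy_lt hg1
  rw [h13, Nat.card_coe_set_eq, Nat.ModEq] at h1
  have h3 : (fixedBy α g \ {x 5}).ncard = 2 := by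
    rw [Set.ncard_sdiff_singleton_of_mem (show x 5 ∈ fixedBy α g from g5)]
    omega
  obtain ⟨p, q, hpq, e⟩ := Set.ncard_eq_two.1 h3
  have hp : p ∈ fixedBy α g \ {x 5} := by rw [e]; simp
  have hq : q ∈ fixedBy α g \ {x 5} := by rw [e]; simp
  have hne : ∀ z ∈ fixedBy α g, ∀ i : Fin 5, x i.castSucc ≠ z := by
    rintro _ hz i rfl
    rw [mem_fixedBy] at hz
    fin_cases i <;> simp [g0, g1, g2, g3, g4] at hz
  let y : ∀ z ∈ fixedBy α g, Fin 6 ↪ α := fun z hz => ⟨Fin.snoc (fun i => x i.castSucc) z, by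
    rw [Fin.snoc_injective_iff]
    refine ⟨fun i j hij => Fin.castSucc_injective _ (x.injective hij), ?_⟩
    rintro ⟨i, hi⟩
    exact hne z hz i hi⟩
  obtain ⟨k, hk⟩ := h.trans.exists_smul_eq x (y p hp.1)
  have k0 : k • x 0 = x 0 := DFunLike.congr_fun hk 0
  have k1 : k • x 1 = x 1 := DFunLike.congr_fun hk 1
  have k2 : k • x 2 = x 2 := DFunLike.congr_fun hk 2
  have k3 : k • x 3 = x 3 := DFunLike.congr_fun hk 3
  have k4 : k • x 4 = x 4 := DFunLike.congr_fun hk 4
  have k5 : k • x 5 = p := DFunLike.congr_fun hk 5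
  have hk1 : k ≠ 1 := by
    rintro rfl
    exact hp.2 (k5.symm.trans (one_smul _ _))
  have hcomm : g * k = k * g := by
    have := h.eq_one x (g := (k * g)⁻¹ * (g * k)) fun i => by
      rw [mul_smul, inv_smul_eq_iff]
      have hp1 : g • p = p := hp.1
      fin_cases i <;> simp [mul_smul, g0, g1, g2, g3, g4, g5, k0, k1, k2, k3, k4, k5, hp1]
    rw [inv_mul_eq_one] at this
    exact this.symm
  have hpres : ∀ z ∈ fixedBy α g, k • z = x 5 ∨ k • z = p ∨ k • z = q := by
    intro z hz
    have : k • z ∈ fixedBy α g := by rw [mem_fixedBy, ← mul_smul, hcomm, mul_smul, hz]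
    by_cases h5 : k • z = x 5
    · exact Or.inl h5
    · have : k • z ∈ fixedBy α g \ {x 5} := ⟨this, h5⟩
      rw [e] at this
      exact Or.inr this
  have hnf : ∀ z ∈ fixedBy α g, k • z ≠ z := by
    intro z hz hkz
    refine hk1 (h.eq_one (y z hz) fun i => ?_)
    fin_cases i
    exacts [k0, k1, k2, k3, k4, hkz]
  have hkq : k • q = x 5 := by
    rcases hpres q hq.1 with h' | h' | h'
    · exact h'
    · exact absurd (smul_left_cancel k (h'.trans k5.symm)) hq.2
    · exact absurd h' (hnf q hq.1)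
  have hkp : k • p = q := by
    rcases hpres p hp.1 with h' | h' | h'
    · exact absurd (smul_left_cancel k (h'.trans hkq.symm)) hpq
    · exact absurd h' (hnf p hp.1)
    · exact h'
  have hk3 : k ^ 3 ^ 1 = 1 := h.eq_one x fun i => by
    fin_cases i <;> simp [pow_succ, mul_smul, k0, k1, k2, k3, k4, k5, hkp, hkq]
  have := Fact.mk Nat.prime_three
  have h4 := Perm.card_fixedBy_modEq (α := α) hk3
  have h5 := h.ncard_fixedBy_lt hk1
  rw [h13, Nat.card_coe_set_eq, Nat.ModEq] at h4
  have h6 : (Set.range fun i : Fin 5 => x i.castSucc).ncard ≤ (fixedBy α k).ncard := by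
    apply Set.ncard_le_ncard _ (Set.toFinite _)
    rintro _ ⟨i, rfl⟩
    fin_cases i
    exacts [k0, k1, k2, k3, k4]
  rw [Set.ncard_range_of_injective (fun i j hij => Fin.castSucc_injective _ (x.injective hij)),
    Nat.card_eq_fintype_card, Fintype.card_fin] at h6
  omega

universe u v

theorem Sharp.large (k : ℕ) : ∀ {G : Type u} {α : Type v} [Group G] [MulAction G α] [Finite α],
    Sharp G α (k + 6) → k + 6 ≤ Nat.card α →
      Nat.card α = k + 6 ∨ Nat.card α = k + 7 ∨ Nat.card α = k + 8 := by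
  induction k with
  | zero =>
    intro G α _ _ _ h hk
    obtain ⟨a⟩ : Nonempty α := (Nat.card_pos_iff.1 (by omega)).1
    have h1 := card_ofStabilizer (G := G) a
    have h2 := (Sharp.stabilizer (k := 5) h hk a).five (by omega)
    have h3 := h.ne_thirteen
    omega
  | succ k ih =>
    intro G α _ _ _ h hk
    obtain ⟨a⟩ : Nonempty α := (Nat.card_pos_iff.1 (by omega)).1
    have h1 := card_ofStabilizer (G := G) a
    have h2 := ih (Sharp.stabilizer (k := k + 6) h hk a) (by omega)
    omega

theorem Sharp.simple_eleven [Finite α] (h : Sharp G α 4) (hα : Nat.card α = 11) :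
    IsSimpleGroup G ∧ Nat.card G = 7920 := by
  have hc : Nat.card G = 7920 := by rw [h.card_eq (by omega), hα]; rfl
  have := h.faithful (by omega)
  have := h.trans
  have h1 : IsMultiplyPretransitive G α 1 :=
    isMultiplyPretransitive_of_le (n := 4) (by omega) (by omega)
  rw [is_one_pretransitive_iff] at h1
  exact ⟨SimpleCrit.isSimpleGroup_of_prime_degree (p := 11) (m := 144) (r := 5) (by norm_num) hα
    (by norm_num) hc rfl (by norm_num) (by norm_num), hc⟩

theorem Sharp.simple_twelve [Finite α] (h : Sharp G α 5) (hα : Nat.card α = 12) :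
    IsSimpleGroup G ∧ Nat.card G = 95040 := by
  have hc : Nat.card G = 95040 := by rw [h.card_eq (by omega), hα]; rfl
  have := h.faithful (by omega)
  have := h.trans
  have : Finite G := Nat.finite_of_card_ne_zero (by omega)
  obtain ⟨a⟩ : Nonempty α := (Nat.card_pos_iff.1 (by omega)).1
  have h1 := card_ofStabilizer (G := G) a
  exact ⟨SimpleCrit.isSimpleGroup_of_two_transitive
    (isMultiplyPretransitive_of_le (n := 5) (by omega) (by omega)) a
    ((h.stabilizer (by omega) a).simple_eleven (by omega)).1 Nat.prime_two Nat.prime_three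
    (by norm_num) (by rw [hα]; norm_num) (by rw [hα]; norm_num), hc⟩

end CL.SharpK
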