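/-
Recognition of Suz as a rank 3 group: the Suzuki graph and the order of its automorphism group.
-/
import Cfsg.Agent.SPOR.Suz
import Cfsg.Agent.SPOR.PChain

set_option autoImplicit false
set_option maxRecDepth 100000
set_option exponentiation.threshold 4000

namespace CL.SuzR

open CL.CE CL.K CL.Net CL.Suz MulAction

abbrev Pm : Type := Equiv.Perm ℕ

noncomputable abbrev wd (w : List ℕ) : Pm := ev (sigma nets0) w

noncomputable abbrev ap (w : List ℕ) (x : ℕ) : ℕ := appw nets0 w x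

theorem mem_ap {w : List ℕ} {x p : ℕ} : p ∈ bits (ap w x) ↔ wd w p ∈ bits x := by
  rw [valid0.bits_appw]; rfl

/-- the group on 1782 points -/
noncomputable def GG : Subgroup Pm := φ.range

theorem wd_GG (w : List ℕ) : wd w ∈ GG := ⟨ev g w, lift.ev w⟩

theorem GG_fix {u : Pm} (h : u ∈ GG) {x : ℕ} (hx : 1782 ≤ x) : u x = x := by
  obtain ⟨k, rfl⟩ := h
  exact model.fix k x hx

noncomputable def equivGG : Cfsg.Spor.Suz ≃* GG := MonoidHom.ofInjective model.inj

/-- pointwise stabilisers -/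
def St (l : List ℕ) : Subgroup Pm where
  carrier := {u | u ∈ GG ∧ ∀ z ∈ l, u z = z}
  mul_mem' := fun {a b} ha hb => ⟨mul_mem ha.1 hb.1, fun z hz => by
    rw [Equiv.Perm.mul_apply, hb.2 z hz, ha.2 z hz]⟩
  one_mem' := ⟨one_mem _, fun _ _ => rfl⟩
  inv_mem' := fun {a} ha => ⟨inv_mem ha.1, fun z hz => Equiv.Perm.inv_eq_iff_eq.2 (ha.2 z hz).symm⟩

theorem mem_St {l : List ℕ} {u : Pm} : u ∈ St l ↔ u ∈ GG ∧ ∀ z ∈ l, u z = z := Iff.rfl

theorem St_cons (z : ℕ) (l : List ℕ) : St (z :: l) = St l ⊓ stabilizer Pm z := by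
  ext u
  simp only [mem_St, List.forall_mem_cons, Subgroup.mem_inf, mem_stabilizer_iff, Equiv.Perm.smul_def]
  tauto

instance finGG : Finite GG := finite_of_fix _ fun _ h _ => GG_fix h

instance finSt (l : List ℕ) : Finite (St l) := finite_of_fix _ fun _ h _ => GG_fix h.1

theorem St_zero : St [0] = H.map φ := by
  ext u
  simp only [mem_St, List.mem_singleton, forall_eq, Subgroup.mem_map, model.stab]
  exact ⟨fun ⟨⟨k, e⟩, h⟩ => ⟨k, e ▸ h, e⟩, fun ⟨k, h, e⟩ => ⟨⟨k, e⟩, e ▸ h⟩⟩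

noncomputable def equivH : H ≃* St [0] :=
  (H.equivMapOfInjective φ model.inj).trans (MulEquiv.subgroupCongr St_zero.symm)

theorem card_St0 : Nat.card (St [0]) = 251596800 := (Nat.card_congr equivH.toEquiv).symm.trans card_H

/-- the neighbours of `0` -/
def O : ℕ := 0x3e000001002640000000300000000000000000000000004cccff8000007fff800000666000003ffffc000000600078000000db30fe105c61709ffffc000001200000000000000000000000000000000000000000000000000000000000000000000000000000000000ffffffffffffc000000000000000000000fff3c00030f1c23de0f0000000000000000003fe00000000001c3c0703f666661dc01fffccc7467e1f81f9380000000001ffe0000cccccccc0000000333633b436337f93800cccc0000001ffffffffffe00000000000000000000000000000000000000000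

def full : ℕ := Nat.pred (Nat.pow 2 1782)

theorem mem_full {x : ℕ} : x ∈ bits full ↔ x < 1782 := by
  rw [show full = 2 ^ 1782 - 1 from rfl, bits_two_pow_sub_one]; rfl

theorem orbit_O : orbit (St [0]) 1781 = bits O := by
  rw [St_zero, lift.map_gen]
  exact valid0.orbit_eq (d := 6) (by decide +kernel)

theorem ncard_O : (bits O).ncard = 416 := ncard_bits (d := 7) (by decide +kernel)

theorem O_smul {u : Pm} (h : u ∈ St [0]) {x : ℕ} : u x ∈ bits O ↔ x ∈ bits O := by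
  rw [← orbit_O, ← orbit_eq_iff, ← orbit_eq_iff, ← orbit_smul (⟨u, h⟩ : St [0]) x]; rfl

/-- adjacency -/
def ad (x y : ℕ) : Prop := ∃ k ∈ GG, k x = 0 ∧ k y ∈ bits O

theorem ad_iff {k : Pm} (hk : k ∈ GG) {x : ℕ} (h : k x = 0) {y : ℕ} : ad x y ↔ k y ∈ bits O := by
  refine ⟨fun ⟨l, hl, e, h'⟩ => ?_, fun h' => ⟨k, hk, h, h'⟩⟩
  have := (O_smul (u := k * l⁻¹) ⟨mul_mem hk (inv_mem hl), by simp [← e, h]⟩).2 h'
  simpa using this

theorem ad_zero {y : ℕ} : ad 0 y ↔ y ∈ bits O := ad_iff (one_mem _) rfl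

theorem ad_smul {k : Pm} (hk : k ∈ GG) {x y : ℕ} : ad (k x) (k y) ↔ ad x y :=
  ⟨fun ⟨l, hl, h⟩ => ⟨l * k, mul_mem hl hk, h⟩, fun ⟨l, hl, h⟩ =>
    ⟨l * k⁻¹, mul_mem hl (inv_mem hk), by simpa using h⟩⟩

theorem ad_symm {x y : ℕ} (h : ad x y) : ad y x := by
  obtain ⟨k, hk, e, h⟩ := h
  rw [← orbit_O] at h
  obtain ⟨l, h⟩ := h
  obtain ⟨s, hs, s1, s2⟩ : ∃ s ∈ GG, s 1781 = 0 ∧ s 0 = 1781 :=
    ⟨_, wd_GG [5, 1, 2, 3, 2, 1, 5, 6, 1, 2, 3, 2, 1, 6, 5, 1, 2, 3, 2, 1, 5],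
      valid0.apply_eq (by decide +kernel), valid0.apply_eq (by decide +kernel)⟩
  refine ⟨s * l.1⁻¹ * k, mul_mem (mul_mem hs (inv_mem l.2.1)) hk, ?_, ?_⟩
  · rw [Equiv.Perm.mul_apply, ← show l.1 1781 = k y from h, Equiv.Perm.mul_apply]
    simpa using s1
  · rw [Equiv.Perm.mul_apply, e, Equiv.Perm.mul_apply, (inv_mem l.2).2 0 (by simp), s2, ← orbit_O]
    exact mem_orbit_self _

/-- a point with a word that maps it to `0` -/
abbrev Pt : Type := List ℕ × ℕ

noncomputable def Pt.ok (a : Pt) : Bool := Nat.beq (ap a.1 (Nat.pow 2 0)) (Nat.pow 2 a.2)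

noncomputable def Pt.row (a : Pt) : ℕ := ap a.1 O

theorem Pt.mem_row {a : Pt} (h : a.ok = true) {y : ℕ} : y ∈ bits a.row ↔ ad a.2 y :=
  mem_ap.trans (ad_iff (wd_GG _) (valid0.apply_eq h)).symm

theorem Pt.lt {a : Pt} (h : a.ok = true) : a.2 < 1782 := by
  by_contra h'
  have := (GG_fix (wd_GG a.1) (not_lt.1 h')).symm.trans (valid0.apply_eq h)
  omega

/-- the automorphism group of the graph -/
def AA : Subgroup Pm where
  carrier := {u | (∀ x, 1782 ≤ x → u x = x) ∧ ∀ x y, ad (u x) (u y) ↔ ad x y}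
  mul_mem' := fun {a b} ha hb => ⟨fun x hx => by rw [Equiv.Perm.mul_apply, hb.1 x hx, ha.1 x hx],
    fun x y => (ha.2 _ _).trans (hb.2 x y)⟩
  one_mem' := ⟨fun _ _ => rfl, fun _ _ => Iff.rfl⟩
  inv_mem' := fun {a} ha => ⟨fun x hx => Equiv.Perm.inv_eq_iff_eq.2 (ha.1 x hx).symm, fun x y => by
    rw [← ha.2]; simp⟩

theorem GG_le : GG ≤ AA := fun _ h => ⟨fun _ => GG_fix h, fun _ _ => ad_smul h⟩

instance finAA : Finite AA := finite_of_fix _ fun _ h => h.1

theorem AA_lt {u : Pm} (h : u ∈ AA) {x : ℕ} (hx : x < 1782) : u x < 1782 := by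
  by_contra h'
  have := u.injective (h.1 _ (not_lt.1 h'))
  omega

/-- `u` preserves the mask `r` -/
def Inv (u : Pm) (r : ℕ) : Prop := ∀ x, r.testBit (u x) = r.testBit x

theorem inv_row {u : Pm} (h : u ∈ AA) {a : Pt} (ha : a.ok = true) (e : u a.2 = a.2) : Inv u a.row := fun x =>
  Bool.eq_iff_iff.2 ((a.mem_row ha).trans (((by rw [e] : _ ↔ _).trans (h.2 a.2 x)).trans (a.mem_row ha).symm))

theorem inv_pow {u : Pm} {z : ℕ} (e : u z = z) : Inv u (Nat.pow 2 z) := fun x => by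
  show (2 ^ z).testBit _ = (2 ^ z).testBit _
  rw [Nat.testBit_two_pow, Nat.testBit_two_pow]
  exact decide_eq_decide.2 ((by rw [e] : _ ↔ _).trans u.injective.eq_iff)

/-- the points of `a` that lie in the same masks as `x` -/
noncomputable def cell (rs : List ℕ) (x : ℕ) : ℕ → ℕ :=
  List.rec (motive := fun _ => ℕ → ℕ) (fun a => a) (fun r _ ih a =>
    force (cond (r.testBit x) (Nat.land a r) (Nat.xor a (Nat.land a r))) ih) rs

theorem mem_cell {u : Pm} {rs : List ℕ} (h : ∀ r ∈ rs, Inv u r) {x a : ℕ} (ha : u x ∈ bits a) :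
    u x ∈ bits (cell rs x a) := by
  induction rs generalizing a with
  | nil => exact ha
  | cons r rs ih =>
    show u x ∈ bits (force _ (cell rs x))
    rw [force_eq]
    refine ih (fun s hs => h s (List.mem_cons_of_mem _ hs)) ?_
    have := h r List.mem_cons_self x
    rw [mem_bits] at ha ⊢
    cases e : r.testBit x <;> rw [e] at this
    · show (a ^^^ (a &&& r)).testBit _ = true
      simp [ha, this]
    · show (a &&& r).testBit _ = true
      simp [ha, this]

noncomputable def sing (m : ℕ) : Bool := Nat.beq (Nat.land m (Nat.sub m 1)) 0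

/-- the masks separate the points of `m` -/
noncomputable def split (rs : List ℕ) : ℕ → Bool :=
  List.rec (motive := fun _ => ℕ → Bool) sing (fun r _ ih m => sing m ||
    force (Nat.land m r) fun a => ih a && force (Nat.xor m a) ih) rs

theorem eq_of_sing {m x y : ℕ} (h : sing m = true) (hx : x ∈ bits m) (hy : y ∈ bits m) : x = y := by
  obtain ⟨k, rfl⟩ := (Nat.and_sub_one_eq_zero_iff_isPowerOfTwo (n := m) (by
    rintro rfl; simp [mem_bits] at hx)).1 (Nat.eq_of_beq_eq_true h)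
  exact ((bits_two_pow _).le hx).trans ((bits_two_pow _).le hy).symm

theorem eq_of_split {rs : List ℕ} {m x y : ℕ} (h : split rs m = true) (hx : x ∈ bits m) (hy : y ∈ bits m)
    (e : ∀ r ∈ rs, r.testBit x = r.testBit y) : x = y := by
  induction rs generalizing m with
  | nil => exact eq_of_sing h hx hy
  | cons r rs ih =>
    rcases Bool.or_eq_true_iff.1 h with h | h
    · exact eq_of_sing h hx hy
    rw [force_eq, force_eq, Bool.and_eq_true] at h
    have e' := fun s hs => e s (List.mem_cons_of_mem _ hs)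
    have := e r List.mem_cons_self
    rw [mem_bits] at hx hy
    cases e1 : r.testBit y <;> rw [e1] at this
    · exact ih h.2 (show (m ^^^ (m &&& r)).testBit _ = true by simp [hx, this])
        (show (m ^^^ (m &&& r)).testBit _ = true by simp [hy, e1]) e'
    · exact ih h.1 (show (m &&& r).testBit _ = true by simp [hx, this])
        (show (m &&& r).testBit _ = true by simp [hy, e1]) e'

noncomputable def chain (L : List (List ℕ × ℕ × ℕ)) : List ℕ → Bool :=
  List.rec (motive := fun _ => List ℕ → Bool) (fun rs => force full (split rs)) (fun a _ ih rs =>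
    Pt.ok (a.1, a.2.1) && hasCard 7 (cell rs a.2.1 full) a.2.2 &&
      force (Pt.row (a.1, a.2.1)) fun r => force (Nat.pow 2 a.2.1) fun s => ih (s :: r :: rs)) L

theorem fin_bits (x : ℕ) : (bits x).Finite :=
  (Set.finite_lt_nat x).subset fun _ h => (Nat.lt_two_pow_self).trans_le (Nat.ge_two_pow_of_testBit h)

theorem chain_le {L : List (List ℕ × ℕ × ℕ)} {rs : List ℕ} (h : chain L rs = true) {B : Subgroup Pm}
    (hB : B ≤ AA) (hr : ∀ u ∈ B, ∀ r ∈ rs, Inv u r) : Nat.card B ≤ (L.map fun a => a.2.2).prod := by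
  induction L generalizing rs B with
  | nil =>
    have : Finite B := finite_of_fix _ fun _ h => (hB h).1
    refine B.card_le_one_iff_eq_bot.2 (eq_bot_iff.2 fun u hu => Equiv.ext fun x => ?_)
    by_cases hx : x < 1782
    · exact eq_of_split ((force_eq full (split rs)).symm.trans h) (mem_full.2 (AA_lt (hB hu) hx)) (mem_full.2 hx)
        fun r h => hr u hu r h x
    · exact (hB hu).1 x (not_lt.1 hx)
  | cons a L ih =>
    obtain ⟨h, h3⟩ := Bool.and_eq_true_iff.1 h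
    obtain ⟨h1, h2⟩ := Bool.and_eq_true_iff.1 h
    rw [force_eq, force_eq] at h3
    rw [card_eq_ncard_orbit_mul B a.2.1, List.map_cons, List.prod_cons, ← ncard_bits h2]
    refine Nat.mul_le_mul (Set.ncard_le_ncard ?_ (fin_bits _)) (ih h3 (inf_le_left.trans hB) fun u hu => ?_)
    · rintro _ ⟨u, rfl⟩
      exact mem_cell (hr u u.2) (mem_full.2 (AA_lt (hB u.2) (Pt.lt h1)))
    · exact List.forall_mem_cons.2 ⟨inv_pow hu.2, List.forall_mem_cons.2 ⟨inv_row (hB hu.1) h1 hu.2, hr u hu.1⟩⟩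

theorem card_AA : Nat.card AA ≤ 2 * 448345497600 :=
  (chain_le (rs := []) (L := [([], 0, 1782),
  ([6, 1, 2, 3, 2, 1, 6, 5, 1, 2, 3, 2, 1, 5], 1781, 416),
  ([6, 1, 0, 2, 1, 3, 2, 1, 4, 3, 6], 201, 100),
  ([6, 1, 2, 3, 2, 1, 0, 4, 3, 2, 3, 6, 1], 481, 36),
  ([6, 1, 2, 3, 2, 1, 0, 4, 6], 170, 14),
  ([6, 1, 2, 3, 2, 1, 0, 4, 3, 2, 6], 242, 4),
  ([6, 1, 0, 2, 3, 2, 1, 0, 4, 3, 2, 6, 1], 480, 3),
  ([6, 1, 0, 2, 1, 3, 2, 1, 3, 4, 3, 2, 3, 6], 597, 2),
  ([6, 1, 0, 1, 2, 1, 3], 16, 1),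
  ([6, 1, 0, 2, 3, 2], 21, 1),
  ([6, 1, 0, 2, 3, 2, 1, 0, 4, 3, 2, 1], 477, 1),
  ([6, 1, 0, 2, 1, 3, 2, 3, 4, 3, 2, 3, 5], 429, 1),
  ([6, 1, 0, 2, 1, 3, 2, 1, 4, 3, 2, 5, 6, 1, 0], 1535, 1),
  ([6, 1, 0, 2, 1, 3, 2, 1, 0, 4, 3, 5, 1, 2], 400, 1),
  ([6, 1, 0, 2, 3, 2, 1, 0, 4, 3, 2, 6, 1, 5], 914, 1),
  ([6, 1, 2, 3, 2, 1, 4, 3, 2, 5, 6, 1, 5], 1306, 1),
  ([6, 1, 2, 3, 4, 5, 1], 34, 1),
  ([6, 1, 0, 2, 3, 2, 1, 4, 3, 2, 3, 4, 5], 739, 1),
  ([6, 1, 2, 3, 2, 1, 0, 4, 3, 6], 175, 1),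
  ([6, 1, 0, 2, 3, 2, 1, 5, 6, 1, 0], 289, 1),
  ([6, 1, 2, 3, 2, 1, 4, 3, 5, 1, 2], 229, 1),
  ([6, 1, 2, 3, 2, 1, 4, 3, 5], 131, 1),
  ([6, 1, 0, 1, 2, 1, 3, 2, 4, 3, 5, 1, 6], 355, 1),
  ([6, 1, 0, 1, 2, 1, 3, 2, 4, 3, 2, 1, 5], 993, 1),
  ([6, 1, 2, 3, 2, 5], 23, 1),
  ([6, 1, 2], 4, 1),
  ([6, 1, 5], 6, 1)]) (by decide +kernel) le_rfl (by simp)).trans (by decide +kernel)

/-- a subgroup of the right order is the group -/
theorem eq_GG {K : Subgroup Pm} (hK : K ≤ AA) (hc : Nat.card K = 448345497600) : K = GG := by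
  have hG : Nat.card GG = 448345497600 := (Nat.card_congr equivGG.toEquiv).symm.trans card
  have key : ∀ {K : Subgroup Pm}, K ≤ AA → Nat.card K = 448345497600 →
      Nat.card AA = 448345497600 * K.relIndex AA := fun {K} h e => by
    rw [← e, ← Subgroup.relIndex_bot_left, ← Subgroup.relIndex_bot_left, Subgroup.relIndex_mul_relIndex _ _ _ bot_le h]
  have h1 := key hK hc
  have h2 := key GG_le hG
  have h3 := card_AA
  have h4 : 0 < Nat.card AA := Nat.card_pos
  by_cases h : K.relIndex AA = 1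
  · exact (hK.antisymm (Subgroup.relIndex_eq_one.1 h)).trans
      (GG_le.antisymm (Subgroup.relIndex_eq_one.1 (by omega))).symm
  have hn := Subgroup.normal_of_index_eq_two (H := K.subgroupOf AA) (show K.relIndex AA = 2 by omega)
  have := isSimpleGroup
  have := equivGG.symm.isSimpleGroup
  have h5 : (K.subgroupOf GG).Normal := ⟨fun x hx k => hn.conj_mem ⟨x, GG_le x.2⟩ hx ⟨k, GG_le k.2⟩⟩
  have : Finite K := finite_of_fix _ fun _ h => (hK h).1
  refine (Subgroup.eq_of_le_of_card_ge (Subgroup.subgroupOf_eq_top.1 (h5.eq_bot_or_eq_top.resolve_left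
    fun e => ?_)) (hc.trans hG.symm).le).symm
  have h6 := Subgroup.relIndex_le_of_le_right (H := K) GG_le (by omega)
  rw [Subgroup.relIndex, e, Subgroup.index_bot] at h6
  omega

/-! ### orbits and invariant sets -/

noncomputable def fxs (l : List ℕ) (ws : List (List ℕ)) : Bool :=
  ws.all fun w => l.all fun z => Nat.beq (ap w (Nat.pow 2 z)) (Nat.pow 2 z)

theorem gen_le_St {l : List ℕ} {ws : List (List ℕ)} (h : fxs l ws = true) : gen (sigma nets0) ws ≤ St l :=
  gen_le_iff.2 fun w hw => ⟨wd_GG w, fun z hz =>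
    valid0.apply_eq (List.all_eq_true.1 (List.all_eq_true.1 h w hw) z hz)⟩

/-- the points related to the points of `L` as `x` is -/
noncomputable def cl (L : List Pt) (x : ℕ) : ℕ :=
  forceL (L.map Pt.row ++ L.map fun a => Nat.pow 2 a.2) fun R => cell R x full

noncomputable def orbOK (L : List Pt) (ws : List (List ℕ)) (d x n : ℕ) : Bool :=
  L.all Pt.ok && fxs (L.map Prod.snd) ws && Nat.blt x 1782 &&
    force (cl L x) fun C => Nat.beq (bfs nets0 ws d (Nat.pow 2 x)) C && hasCard 7 C n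

theorem orb {L : List Pt} {ws : List (List ℕ)} {d x n : ℕ} (h : orbOK L ws d x n = true) :
    orbit (St (L.map Prod.snd)) x = bits (cl L x) ∧ (bits (cl L x)).ncard = n := by
  simp only [orbOK, Bool.and_eq_true, force_eq, List.all_eq_true, Nat.blt_eq, Nat.beq_eq] at h
  obtain ⟨⟨⟨h1, h2⟩, h3⟩, h4, h5⟩ := h
  refine ⟨Set.Subset.antisymm ?_ (h4 ▸ valid0.bfs_subset_orbit (gen_le_St h2) d x), ncard_bits h5⟩
  rintro _ ⟨u, rfl⟩
  rw [cl, forceL_eq]
  refine mem_cell (fun r hr => ?_) (mem_full.2 (AA_lt (GG_le u.2.1) h3))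
  rcases List.mem_append.1 hr with hr | hr <;> obtain ⟨a, ha, rfl⟩ := List.mem_map.1 hr
  · exact inv_row (GG_le u.2.1) (h1 a ha) (u.2.2 _ (List.mem_map_of_mem ha))
  · exact inv_pow (u.2.2 _ (List.mem_map_of_mem ha))

noncomputable def sub (x y : ℕ) : Bool := Nat.beq (Nat.land x y) x

theorem sub_spec {x y : ℕ} (h : sub x y = true) : bits x ⊆ bits y := by
  rw [← show x &&& y = x from Nat.eq_of_beq_eq_true h, bits_and]
  exact Set.inter_subset_right

/-- `Q` holds for all unions of members of `L` -/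
noncomputable def allSel (Q : ℕ → Bool) (L : List ℕ) : ℕ → Bool :=
  List.rec (motive := fun _ => ℕ → Bool) Q (fun o _ ih a => ih a && force (Nat.lor a o) ih) L

theorem sel_aux {S : Set ℕ} {Q : ℕ → Bool} {L : List ℕ} (h : ∀ o ∈ L, bits o ⊆ S ∨ Disjoint (bits o) S)
    {a : ℕ} (ha : bits a ⊆ S) (hc : S ⊆ bits (L.foldr Nat.lor 0) ∪ bits a) (hq : allSel Q L a = true) :
    ∃ M, S = bits M ∧ Q M = true := by
  induction L generalizing a with
  | nil => exact ⟨a, ha.antisymm' fun x hx => (hc hx).resolve_left (by simp [mem_bits]), hq⟩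
  | cons o L ih =>
    obtain ⟨h1, h2⟩ := Bool.and_eq_true_iff.1 hq
    rw [force_eq] at h2
    have h3 := fun s hs => h s (List.mem_cons_of_mem _ hs)
    have h4 : S ⊆ (bits o ∪ bits (L.foldr Nat.lor 0)) ∪ bits a := bits_or o _ ▸ hc
    rcases h o List.mem_cons_self with e | e
    · refine ih h3 (a := a ||| o) (bits_or a o ▸ Set.union_subset ha e) (fun x hx => ?_) h2
      have := h4 hx
      rw [bits_or]
      simp only [Set.mem_union] at this ⊢
      tauto
    · exact ih h3 ha (fun x hx => (h4 hx).imp_left fun h => h.resolve_left fun h =>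
        Set.disjoint_left.1 e h hx) h1

noncomputable def selOK (ws : List (List ℕ)) (d : ℕ) (reps : List ℕ) (D : ℕ) (Q : ℕ → Bool) : Bool :=
  forceL (reps.map fun r => bfs nets0 ws d (Nat.pow 2 r)) fun L => sub D (L.foldr Nat.lor 0) && allSel Q L 0

theorem sel' {ws : List (List ℕ)} {d : ℕ} {reps : List ℕ} {D : ℕ} {Q : ℕ → Bool} (h : selOK ws d reps D Q = true)
    {W : Subgroup Pm} (hW : ∀ r ∈ reps, bits (bfs nets0 ws d (2 ^ r)) ⊆ orbit W r) {S : Set ℕ}
    (hS : ∀ u ∈ W, ∀ x ∈ S, u x ∈ S) (hD : S ⊆ bits D) : ∃ M, S = bits M ∧ Q M = true := by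
  rw [selOK, forceL_eq, Bool.and_eq_true] at h
  refine sel_aux (fun o ho => ?_) (fun x hx => by simp [mem_bits] at hx)
    (fun x hx => Or.inl (sub_spec h.1 (hD hx))) h.2
  obtain ⟨r, hr, rfl⟩ := List.mem_map.1 ho
  by_cases e : r ∈ S
  · exact Or.inl fun x hx => (hW r hr hx).elim fun u e' => e' ▸ hS u u.2 r e
  · refine Or.inr (Set.disjoint_left.2 fun x hx hx' => (hW r hr hx).elim fun u e' => e ?_)
    have := hS _ (inv_mem u.2) x hx'
    simpa [← show u.1 r = x from e'] using this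

theorem sel {ws : List (List ℕ)} {d : ℕ} {reps : List ℕ} {D : ℕ} {Q : ℕ → Bool} (h : selOK ws d reps D Q = true)
    {W : Subgroup Pm} (hW : gen (sigma nets0) ws ≤ W) {S : Set ℕ}
    (hS : ∀ u ∈ W, ∀ x ∈ S, u x ∈ S) (hD : S ⊆ bits D) : ∃ M, S = bits M ∧ Q M = true :=
  sel' h (fun r _ => valid0.bfs_subset_orbit hW d r) hS hD

noncomputable def pc (x : ℕ) : ℕ := force x (pcBig 7)

theorem pc_eq {x : ℕ} (h : ∀ y ∈ bits x, y < 1782) : pc x = (bits x).ncard := by
  refine (ncard_bits (d := 7) ?_).symm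
  rw [hasCard, force_eq, pc, force_eq, Bool.and_eq_true, Nat.beq_eq, Nat.beq_eq]
  refine ⟨Nat.eq_of_testBit_eq fun i => ?_, rfl⟩
  show (x >>> 3072).testBit i = _
  rw [Nat.testBit_shiftRight, Nat.zero_testBit]
  exact Bool.eq_false_iff.2 fun e => by have := h _ e; omega

/-- the listed points of `M` have `v` neighbours in `M` -/
noncomputable def reg (L : List (ℕ × ℕ)) (v M : ℕ) : Bool :=
  force v fun v => L.all fun a => !M.testBit a.1 || Nat.beq (pc (Nat.land a.2 M)) v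

theorem pc_row {a : Pt} (h : a.ok = true) {M : ℕ} (hM : ∀ y ∈ bits M, y < 1782) :
    pc (Nat.land a.row M) = {y | ad a.2 y ∧ y ∈ bits M}.ncard := by
  have : bits (Nat.land a.row M) = {y | ad a.2 y ∧ y ∈ bits M} :=
    (bits_and _ _).trans (Set.ext fun _ => and_congr_left' (a.mem_row h))
  rw [pc_eq (fun y hy => hM y (this.le hy).2), this]

theorem reg_true {L : List Pt} (h : L.all Pt.ok = true) {v M : ℕ} (hM : ∀ y ∈ bits M, y < 1782)
    (hv : ∀ z ∈ bits M, {y | ad z y ∧ y ∈ bits M}.ncard = v) :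
    reg ((L.map Prod.snd).zip (L.map Pt.row)) v M = true := by
  rw [reg, force_eq, List.zip_map', List.all_map, List.all_eq_true]
  intro a ha
  cases e : M.testBit a.2
  · simp [e]
  · simpa [e] using (pc_row (List.all_eq_true.1 h a ha) hM).trans (hv _ e)

/-- the check for orbits: a union of orbits of `ws` that contains `x` and is regular satisfies `Q` -/
noncomputable def regOK (ws : List (List ℕ)) (d : ℕ) (x : Pt) (L : List Pt) (D : ℕ) (Q : ℕ → Bool) : Bool :=
  x.ok && L.all Pt.ok && force x.row fun r => forceL (L.map Pt.row) fun R =>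
    selOK ws d (x.2 :: L.map Prod.snd) D fun M =>
      !(M.testBit x.2 && reg ((L.map Prod.snd).zip R) (pc (Nat.land r M)) M) || Q (pc M)

theorem reg_orb {ws : List (List ℕ)} {d : ℕ} {x : Pt} {L : List Pt} {D : ℕ} {Q : ℕ → Bool}
    (h : regOK ws d x L D Q = true) {W : Subgroup Pm} (hW : gen (sigma nets0) ws ≤ W) (hG : W ≤ GG)
    (hD : orbit W x.2 ⊆ bits D) : Q (orbit W x.2).ncard = true := by
  simp only [regOK, Bool.and_eq_true, force_eq, forceL_eq] at h
  obtain ⟨M, e, hM⟩ := sel h.2 hW (fun u hu _ hy => mem_orbit_of_mem_orbit (⟨u, hu⟩ : W) hy) hD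
  have h1 : ∀ y ∈ bits M, y < 1782 := fun y hy =>
    (e.ge hy).elim fun u e' => e' ▸ AA_lt (GG_le (hG u.2)) (Pt.lt h.1.1)
  rw [show M.testBit x.2 = true from e.le (mem_orbit_self _), reg_true h.1.2 h1, pc_eq h1, ← e] at hM
  · exact hM
  intro z hz
  obtain ⟨u, rfl⟩ := e.ge hz
  rw [pc_row h.1.1 h1, ← Set.ncard_image_of_injective {y | ad x.2 y ∧ _} u.1.injective, ← e]
  congr 1
  ext y
  rw [← u.1.apply_symm_apply y, u.1.injective.mem_set_image]
  exact and_congr (ad_smul (hG u.2)) (by rw [← orbit_eq_iff, ← orbit_eq_iff, ← orbit_smul u (u.1.symm y)]; rfl)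

end CL.SuzR
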