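import Cfsg.Agent.SPOR.TTU10

/-!
The symplectic subspaces of the space of `U₆(2)` and the hyperovals which miss them.
-/

namespace CL.TTU

open Cfsg CL.TT CL.K U6

variable {G : Type*} [Group G]

namespace U6

/-- the points of a symplectic subspace -/
def R63 : ℕ := 0xc00c0cc200040005867a0010000800080008001000200020002000020004000400020010020000020000020000000200000400000400000200000200000004000000400000020010000ccc800000020000001a0001e61
/-- its points near `0` -/
def R30 : ℕ := 0x200000001867a001000000000000800100000000000200002000000000002001000000000000002000000020000000000000000020000020000000000000000000002001000000000000000000000020001e60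
/-- another closed set near `0` -/
def R30b : ℕ := 0x12000001000000000067c000200000000001000020000000000400002000000000002000200000000000004000000020000000000000000020000020000000000000000000002001000000000000000000000020001e60
/-- the image of `R63` under point `1` -/
def R1 : ℕ := 0x50282852001000080004000800094ab60002008000020020001000200010002000020080000200020000001000020000001000020000000200000200010000ccc00080004000000000800080000018000800008004ccc
/-- witnesses -/
def witR : ℕ := 0x2c0b02c3908c45014050144109c6615c35ffc0b02c0b01405014211146302409024090240901405014090240916435ffc3b08445014050140b02c0b02c0b02c270ec3f01405014590e7ff114211880b02c0b0140501439167ff02409024090240901405014090240911423198270e441014050140b02c0b02c0b02c3515fff014050143f14c2714c4508c0b02c0b01405014230d44502409024090240901405014090240914c4508435167ff014050140b02c0b02c0b02c410845e014050143908c3f08c3b0fc0b02c0b01405014590fc23024090240902409014050140902409084391043f0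8c5e014050140b02c0b02c0b02c3908c45014050144109c660e453ffc0b02c0b0140501421114630240902409024090140501409024090ec53ffc3b08445014050140b02c0b02c0b02c4516421014050143b15fff114211880b02c0b01405014570efff024090240902409014050140902409114231984515c23014050140b02c0b02c0b02c530e7ff01405014210d44514c4508c0b02c0b014050144114c2702409024090240901405014090240914c45084530efff014050140b02c0b02c0b02c410845e014050143908c3f104590840b02c0b01405014590fc230240902409024090140501409024090fc5708c3f08c5e014050140b02c0b02c0b02c3908c450140501423114670e453ffc0b02c0b014050143f09c620240902409024090140501409024090ec53ffc3b08445014050140b02c0b02c0b02c270ec3f014050143b15fff09c3f18c0b02c0b01405014570efff02409024090240901405014090240909c4119c270e441014050140b02c0b02c0b02c530e7ff014050143f14c2714c4508c0b02c0b01405014230d44502409024090240901405014090240914c45084530efff014050140b02c0b02c0b02c230fc5f014050143908c3f08c3b0fc0b02c0b01405014590fc230240902409024090140501409024090843910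4211045f014050140b02c0b02c0b02c5710427014050144109c660e453ffc0b02c0b0140501421114630240902409024090140501409024090ec53ffc590fc27014050140b02c0b02c0b02c270ec3f014050143b15fff114211880b02c0b01405014570efff02409024090240901405014090240911423198270e441014050140b02c0b02c0b02c530e7ff014050143f14c270d4271040b02c0b01405014230d4450240902409024090140501409024090d4270fc530efff014050140b02c0b02c0b02c410845e01405014571042108c3b0fc0b02c0b014050143b08441024090240902409014050140902409084391043f08c5e014050140b02c0b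
/-- a hyperoval missing `R1` -/
def D0 : ℕ := 0x110010c80008000c1423002040004000160023000040005180010c08808880880842102001010001010406061c022235901015901001618180d0100108a000008a00000a00405000e0e0f0c3030a430c0c2820820201
/-- words -/
def ew : List (ℕ × List ℕ) :=
  [(7, [7, 29, 9, 0]), (8, [8, 29, 9, 0]), (13, [13, 120, 29, 0]), (14, [14, 120, 29, 0]), (15, [15,
  613, 421, 0]), (16, [16, 613, 421, 0]), (21, [21, 29, 9, 0]), (22, [22, 29, 9, 0]), (31, [29, 613,
  120, 0]), (32, [29, 613, 120]), (37, [37, 120, 9, 0]), (38, [38, 120, 9, 0]), (39, [39, 29, 9,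
  0]), (40, [40, 29, 9, 0]), (45, [45, 613, 421, 0]), (46, [46, 613, 421, 0]), (47, [47, 120, 29,
  0]), (48, [48, 613, 421, 0]), (53, [53, 29, 9, 0]), (54, [54, 29, 9, 0]), (55, [55, 120, 9, 0]),
  (56, [56, 120, 9, 0]), (61, [29, 613]), (62, [62, 613, 421, 0]), (67, [67, 120, 9, 0]), (68, [68,
  120, 9, 0]), (69, [69, 29, 9, 0]), (70, [70, 29, 9, 0]), (75, [75, 613, 421, 0]), (76, [76, 613,
  421, 0]), (77, [77, 120, 29, 0]), (78, [78, 613, 421, 0]), (83, [83, 29, 9, 0]), (84, [84, 29, 9,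
  0]), (85, [85, 120, 9, 0]), (86, [86, 120, 9, 0]), (91, [29, 613, 0]), (92, [92, 613, 421, 0]),
  (94, [29, 421, 120, 0]), (95, [29, 421, 120]), (114, [114, 613, 9, 0]), (115, [115, 613, 9, 0]),
  (118, [118, 613, 421, 0]), (119, [119, 613, 421, 0]), (333, [333, 29, 9, 0]), (334, [334, 29, 9,
  0]), (339, [339, 29, 9, 0]), (340, [340, 29, 9, 0]), (341, [341, 29, 9, 0]), (342, [342, 29, 9,
  0]), (347, [347, 29, 9, 0]), (348, [348, 29, 9, 0]), (357, [357, 29, 9, 0]), (358, [358, 613, 9,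
  0]), (363, [363, 29, 9, 0]), (364, [364, 29, 9, 0]), (365, [365, 29, 9, 0]), (366, [366, 29, 9,
  0]), (371, [371, 29, 9, 0]), (372, [372, 613, 9, 0]), (373, [29, 421]), (374, [374, 120, 9, 0]),
  (379, [379, 120, 9, 0]), (380, [380, 613, 9, 0]), (381, [381, 29, 9, 0]), (382, [382, 613, 9, 0]),
  (387, [387, 29, 9, 0]), (388, [388, 29, 9, 0]), (389, [389, 29, 9, 0]), (390, [390, 29, 9, 0]),
  (395, [395, 29, 9, 0]), (396, [396, 613, 9, 0]), (397, [29, 421, 0]), (398, [398, 120, 9, 0]),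
  (403, [403, 120, 9, 0]), (404, [404, 613, 9, 0]), (406, [406, 120, 9, 0]), (407, [407, 120, 9,
  0]), (418, [418, 120, 9, 0]), (419, [419, 120, 9, 0]), (437, [437, 29, 9, 0]), (438, [29, 613,
  421, 29, 0]), (443, [443, 29, 9, 0]), (444, [444, 29, 9, 0]), (445, [445, 29, 9, 0]), (446, [446,
  29, 9, 0]), (451, [451, 29, 9, 0]), (452, [452, 29, 9, 0]), (453, [453, 29, 9, 0]), (454, [29,
  613, 421, 29]), (459, [459, 29, 9, 0]), (460, [460, 29, 9, 0]), (461, [461, 29, 9, 0]), (462,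
  [462, 29, 9, 0]), (467, [467, 29, 9, 0]), (468, [468, 29, 9, 0]), (470, [470, 29, 9, 0]), (471,
  [471, 29, 9, 0]), (474, [474, 29, 9, 0]), (475, [475, 29, 9, 0]), (478, [478, 29, 9, 0]), (479,
  [479, 29, 9, 0]), (482, [482, 29, 9, 0]), (483, [483, 29, 9, 0]), (629, [629, 120, 29, 0]), (630,
  [0]), (635, [635, 29, 9, 0]), (636, [636, 29, 9, 0]), (637, [637, 29, 9, 0]), (638, [638, 29, 9,
  0]), (643, [643, 613, 421, 0]), (644, [644, 613, 421, 0]), (645, [645, 120, 29, 0]), (646, []),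
  (651, [651, 29, 9, 0]), (652, [652, 29, 9, 0]), (653, [653, 29, 9, 0]), (654, [654, 29, 9, 0]),
  (659, [659, 613, 421, 0]), (660, [660, 613, 421, 0]), (662, [662, 120, 29, 0]), (663, [663, 120,
  29, 0]), (674, [674, 29, 9, 0]), (675, [675, 29, 9, 0]), (678, [29, 613, 421]), (679, [29, 613,
  421, 0]), (690, [29]), (691, [29, 0])]
/-- words -/
def ewb : List (ℕ × List ℕ) :=
  [(7, [7, 29, 9, 0]), (8, [8, 29, 9, 0]), (13, [13, 614, 421, 0]), (14, [14, 614, 421, 0]), (15,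
  [15, 120, 29, 0]), (16, [16, 120, 29, 0]), (21, [21, 29, 9, 0]), (22, [22, 29, 9, 0]), (31, [31,
  614, 29, 421, 120, 0]), (32, [32, 614, 29, 421, 120, 0]), (37, [37, 120, 9, 0]), (38, [38, 120, 9,
  0]), (39, [39, 29, 9, 0]), (40, [40, 29, 9, 0]), (45, [45, 614, 421, 0]), (46, [46, 421, 29, 9,
  421, 0]), (47, [47, 614, 421, 0]), (48, [48, 614, 421, 0]), (53, [53, 29, 9, 0]), (54, [54, 29, 9,
  0]), (55, [55, 120, 9, 0]), (56, [56, 120, 9, 0]), (61, [61, 614, 421, 0]), (62, [62, 421, 120, 9,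
  421, 0]), (67, [67, 120, 9, 0]), (68, [68, 120, 9, 0]), (69, [69, 29, 9, 0]), (70, [70, 29, 9,
  0]), (75, [75, 614, 421, 0]), (76, [76, 421, 29, 9, 421, 0]), (77, [77, 614, 421, 0]), (78, [78,
  614, 421, 0]), (83, [83, 29, 9, 0]), (84, [84, 29, 9, 0]), (85, [85, 120, 9, 0]), (86, [86, 120,
  9, 0]), (91, [91, 614, 421, 0]), (92, [92, 421, 120, 9, 421, 0]), (94, [94, 120, 9, 0]), (95, [95,
  120, 9, 0]), (114, [114, 120, 9, 0]), (115, [115, 120, 9, 0]), (118, [118, 614, 421, 0]), (119,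
  [119, 614, 421, 0]), (333, [333, 120, 9, 0]), (334, [334, 120, 9, 0]), (339, [339, 29, 9, 0]),
  (340, [340, 29, 9, 0]), (341, [341, 29, 9, 0]), (342, [342, 29, 9, 0]), (347, [347, 120, 9, 0]),
  (348, [348, 120, 9, 0]), (357, [357, 120, 9, 0]), (358, [358, 29, 9, 0]), (363, [363, 29, 9, 0]),
  (364, [364, 29, 9, 0]), (365, [365, 29, 9, 0]), (366, [366, 29, 9, 0]), (371, [371, 120, 9, 0]),
  (372, [372, 29, 9, 0]), (373, [373, 120, 9, 0]), (374, [374, 120, 9, 0]), (379, [379, 120, 9, 0]),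
  (380, [380, 120, 9, 0]), (381, [381, 120, 9, 0]), (382, [382, 29, 9, 0]), (387, [387, 29, 9, 0]),
  (388, [388, 29, 9, 0]), (389, [389, 29, 9, 0]), (390, [390, 29, 9, 0]), (395, [395, 120, 9, 0]),
  (396, [396, 29, 9, 0]), (397, [397, 120, 9, 0]), (398, [398, 120, 9, 0]), (403, [403, 120, 9, 0]),
  (404, [404, 120, 9, 0]), (406, [406, 120, 9, 0]), (407, [407, 120, 9, 0]), (418, [418, 120, 9,
  0]), (419, [419, 120, 9, 0]), (437, [437, 120, 9, 0]), (438, [438, 29, 9, 0]), (443, [443, 29, 9,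
  0]), (444, [444, 29, 9, 0]), (445, [445, 29, 9, 0]), (446, [446, 29, 9, 0]), (451, [451, 29, 9,
  0]), (452, [452, 29, 9, 0]), (453, [453, 120, 9, 0]), (454, [454, 29, 9, 0]), (459, [459, 29, 9,
  0]), (460, [460, 29, 9, 0]), (461, [461, 29, 9, 0]), (462, [462, 29, 9, 0]), (467, [467, 29, 9,
  0]), (468, [468, 29, 9, 0]), (470, [470, 120, 9, 0]), (471, [471, 120, 9, 0]), (474, [474, 29, 9,
  0]), (475, [475, 29, 9, 0]), (478, [478, 29, 9, 0]), (479, [479, 29, 9, 0]), (482, [482, 29, 9,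
  0]), (483, [483, 29, 9, 0]), (629, [629, 120, 29, 0]), (630, [630, 614, 120, 421, 29, 0]), (635,
  [635, 29, 9, 0]), (636, [636, 29, 9, 0]), (637, [637, 120, 9, 0]), (638, [638, 120, 9, 0]), (643,
  [643, 120, 29, 0]), (644, [644, 614, 421, 0]), (645, [645, 120, 29, 0]), (646, [646, 614, 120,
  421, 29, 0]), (651, [651, 29, 9, 0]), (652, [652, 29, 9, 0]), (653, [653, 120, 9, 0]), (654, [654,
  120, 9, 0]), (659, [659, 120, 29, 0]), (660, [660, 614, 421, 0]), (662, [662, 120, 29, 0]), (663,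
  [663, 120, 29, 0]), (674, [674, 29, 9, 0]), (675, [675, 29, 9, 0]), (678, [678, 29, 9, 0]), (679,
  [679, 29, 9, 0]), (690, [690, 614, 421, 0]), (691, [691, 614, 421, 0])]
/-- words -/
def uw : List (ℕ × List ℕ) :=
  [(54, []), (90, [6]), (120, [11]), (132, [2, 187]), (153, [10]), (177, [2, 186]), (246, [664]),
  (282, [673]), (312, [221]), (324, [3, 568]), (345, [325]), (369, [2, 179]), (438, [614]), (474,
  [421]), (504, [146]), (516, [2, 178]), (537, [681]), (561, [3, 186]), (630, [661]), (666, [473]),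
  (696, [688]), (708, [3, 182]), (729, [245]), (753, [3, 571])]

/-- the check of the words `ew` -/
noncomputable def ewOK (M : ℕ) (W : List (ℕ × List ℕ)) (P : ℕ → Bool) : Bool :=
  allLt (fun e => imp (an (nbB 5 e) (no (com op 0 e))) (lany (fun a : ℕ × List ℕ =>
    an (Nat.beq a.1 e) (an (lall (fun s => an (Nat.blt s 693)
      (ou (Nat.beq s 0) (ou (Nat.beq s e) (tb M s)))) a.2)
      (force (act op a.2 e) fun r => ou (an (tb TM r) (no (tb M r))) (P r)))) W)) 693

theorem chk_ew : ewOK R30 ew (fun r => Nat.beq r 646) = true := by decide +kernel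
theorem chk_ewb : ewOK R30b ewb (fun _ => false) = true := by decide +kernel

theorem chk_cy : allLt (fun y => imp (an (tb TM y) (an (com op y 5) (an (com op y 9)
    (an (com op y 421) (no (com op y 29)))))) (lmem y [613, 661, 614, 664])) 693 = true := by
  decide +kernel

theorem c_30 : lall (fun y => covers 693 op (sing [5, 9, 421, 29, 120, y]) 5 (tb R30)) [613, 661]
    = true := by decide +kernel
theorem c_30b : lall (fun y => covers 693 op (sing [5, 9, 421, 29, 120, y]) 5 (tb R30b)) [614, 664]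
    = true := by decide +kernel
theorem chk_30 : cntB (fun i => an (tb R30 i) (tb TM i)) 693 = 30 ∧
    cntB (fun i => an (tb R30b i) (tb TM i)) 693 = 30 ∧ cntB (tb D0) 693 = 126 := by
  decide +kernel
theorem c_63 : covers 693 op (sing [5, 9, 421, 29, 120, 613, 646]) 5 (tb R63) = true := by
  decide +kernel
theorem w_63 : wordsOK 693 op (sing [5, 9, 421, 29, 120, 613, 646]) [] (tb R63) = true := by
  decide +kernel
theorem c_63c : covers 693 op (sing [5, 9, 421, 29, 120, 613, 646]) (op 1 0)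
    (fun i => no (tb R63 i)) = true := by decide +kernel
theorem chk_R1 : allLt (fun x => eqB (tb R1 x) (tb R63 (op 1 x))) 693 = true := by decide +kernel

theorem chk_witR : allLt (fun i => allLt (fun j =>
    force (fld 10 1023 witR (Nat.add (Nat.mul 3 i) j)) fun s => ou (an (Nat.blt s 693)
      (an (tb H1 s) (tb R1 (act op (tw i) (dl^[j] s))))) (lany (fun a : ℕ × List ℕ =>
        an (Nat.beq a.1 (Nat.add (Nat.mul 3 i) j)) (an (lall (fun s => an (Nat.blt s 693) (tb R1 s)) a.2)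
          (allLt (fun x => imp (tb H1 x) (tb D0 (act op a.2 (act op (tw i) (dl^[j] x))))) 693))) uw)) 3)
    256 = true := by decide +kernel

theorem chk_q : allLt (fun x => imp (an (tb H1 x) (nbB 6 x))
    (lany (fun e => no (com op x e)) [0, 29, 98, 162])) 693 = true := by decide +kernel

theorem chk_q2 : allLt (fun p => imp (nbB 6 p) (eqB (com op p 421) (com op p 661))) 693 = true := by
  decide +kernel

end U6

/-- The local structure of a symplectic subspace. -/
structure RL (N Y : Set G) : Prop where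
  card : Y.ncard = 30
  ch : ∃ a₁ ∈ Y, ∃ a₂ ∈ Y, ∃ a₃ ∈ Y, ∃ a₄ ∈ Y, ∃ t ∈ Y, ∃ y ∈ Y, ¬ Commute a₁ a₂ ∧ Commute a₁ a₃ ∧
    Commute a₁ a₄ ∧ ¬ Commute a₂ a₃ ∧ Commute a₂ a₄ ∧ ¬ Commute a₄ a₃ ∧ t ≠ a₄ ∧ Twin N t a₄ ∧
    Commute y a₁ ∧ Commute y a₂ ∧ Commute y a₃ ∧ ¬ Commute y a₄
  nc : ∀ x ∈ Y, ∃ e ∈ Y, ¬ Commute x e

theorem HO.rl {E X : Set G} (hX : HO E X) (h : Is21 E) {q : G} (hq : q ∈ E) (hqX : q ∉ X) :
    RL (nb E q) (X ∩ nb E q) := by
  obtain ⟨f, R, rfl, rfl⟩ := hX.exists_real_out h hq hqX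
  have m : ∀ i < 693, f i ∈ ms 693 f H1 ∩ nb E (f 6) ↔ an (tb H1 i) (nbB 6 i) = true :=
    fun i hi => by rw [an_iff, Set.mem_inter_iff, R.mem_ms hi, R.mem_nb_iff (by norm_num) hi]; rfl
  have m' : ∀ i, an (Nat.blt i 693) (an (tb H1 i) (nbB 6 i)) = true →
      f i ∈ ms 693 f H1 ∩ nb E (f 6) := fun i hi =>
    (m i (blt_iff.1 (an_iff.1 hi).1)).2 (an_iff.1 hi).2
  refine ⟨by rw [R.ncard_eq (Set.inter_subset_left.trans hX.sub) m, chk_H.2.2],
    ⟨_, m' 0 (by decide +kernel), _, m' 520 (by decide +kernel), _, m' 480 (by decide +kernel),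
      _, m' 661 (by decide +kernel), _, m' 421 (by decide +kernel), _, m' 621 (by decide +kernel),
      com_false R (by decide +kernel), com_true R (by decide +kernel),
      com_true R (by decide +kernel), com_false R (by decide +kernel),
      com_true R (by decide +kernel), com_false R (by decide +kernel),
      fun e => absurd (R.inj (by norm_num) (by norm_num) e) (by norm_num),
      (R.twin_iff (nb_subset _ _) (fun i hi => R.mem_nb_iff (by norm_num) hi) (by norm_num)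
        (by norm_num)).2 chk_q2,
      com_true R (by decide +kernel), com_true R (by decide +kernel),
      com_true R (by decide +kernel), com_false R (by decide +kernel)⟩, fun x' hx => ?_⟩
  obtain ⟨x, hx1, rfl⟩ := R.surj hx.2.1
  obtain ⟨e, he, h1⟩ := lany_iff.1 (imp_iff.1 (allLt_iff.1 chk_q x hx1) ((m x hx1).1 hx))
  have h2 : lall (fun e => an (Nat.blt e 693) (an (tb H1 e) (nbB 6 e))) [0, 29, 98, 162] = true := by
    decide +kernel
  have h3 := lall_iff.1 h2 e he
  exact ⟨_, m' e h3, fun c => no_iff.1 h1 ((R.commute_iff hx1 (blt_iff.1 (an_iff.1 h3).1)).1 c)⟩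

namespace U6

variable {E Y : Set G} {f : ℕ → G}

theorem rs_word (R : Real 693 op E f) (hY : FS Y) (hloc : ∀ b ∈ Y, RL (nb E b) (Y ∩ nb E b))
    (h0 : f 0 ∈ Y) (h5 : f 5 ∈ Y) {M : ℕ} {W : List (ℕ × List ℕ)} {P : ℕ → Bool}
    (hW : ewOK M W P = true) (hM : ∀ i < 693, tb M i = true → f i ∈ Y)
    (hc : cntB (fun i => an (tb M i) (tb TM i)) 693 = 30) : ∃ r < 693, f r ∈ Y ∧ P r = true := by
  obtain ⟨e', he, hn⟩ := (hloc _ h5).nc (f 0)
    ⟨h0, (R.mem_nb_iff (by norm_num) (by norm_num)).2 (by decide +kernel)⟩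
  obtain ⟨e, he1, rfl⟩ := R.surj he.2.1
  obtain ⟨a, -, h1⟩ := lany_iff.1 (imp_iff.1 (allLt_iff.1 hW e he1) (an_iff.2
    ⟨(R.mem_nb_iff (by norm_num) he1).1 he.2,
      no_iff.2 fun c => hn ((R.commute_iff (by norm_num) he1).2 c)⟩))
  simp only [an_iff, lall_iff, ou_iff, beq_iff, blt_iff, force_eq, no_iff] at h1
  obtain ⟨-, h1, h2⟩ := h1
  have h3 := (R.act_spec (fun s hs => (h1 s hs).1) he1).1
  have h4 := R.act_mem hY (fun s hs => ⟨(h1 s hs).1, by
    rcases (h1 s hs).2 with rfl | rfl | h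
    exacts [h0, he.1, hM s (h1 s hs).1 h]⟩) he1 he.1
  refine ⟨_, h3, h4, h2.resolve_left fun h5 => ?_⟩
  have h6 := R.le_ncard (S := (Y ∩ nb E (f 0)) \ {f (act op a.2 e)})
    (p := fun i => an (tb M i) (tb TM i))
    (Set.sdiff_subset.trans (Set.inter_subset_right.trans (nb_subset _ _))) fun i hi h =>
      ⟨⟨hM i hi (an_iff.1 h).1, (mem_T R hi).2 (an_iff.1 h).2⟩, fun e =>
        h5.2 (R.inj hi h3 e ▸ (an_iff.1 h).1)⟩
  rw [hc, Set.ncard_sdiff_singleton_of_mem
    (show _ ∈ Y ∩ nb E (f 0) from ⟨h4, (mem_T R h3).2 h5.1⟩), (hloc _ h0).card] at h6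
  omega

theorem rs_base (R : Real 693 op E f) (hY : FS Y) (hloc : ∀ b ∈ Y, RL (nb E b) (Y ∩ nb E b))
    (h0 : f 0 ∈ Y) (h5 : f 5 ∈ Y) (h9 : f 9 ∈ Y) (h421 : f 421 ∈ Y) (h29 : f 29 ∈ Y)
    (h120 : f 120 ∈ Y) {y : G} (hy : y ∈ Y ∩ nb E (f 0)) (c1 : Commute y (f 5))
    (c2 : Commute y (f 9)) (c3 : Commute y (f 421)) (c4 : ¬ Commute y (f 29)) :
    ms 693 f R63 ⊆ Y := by
  obtain ⟨y, hy1, rfl⟩ := R.surj hy.2.1
  have h1 := lmem_iff.1 (imp_iff.1 (allLt_iff.1 chk_cy y hy1) (by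
    simp only [an_iff, no_iff]
    exact ⟨(mem_T R hy1).1 hy.2, (R.commute_iff hy1 (by norm_num)).1 c1,
      (R.commute_iff hy1 (by norm_num)).1 c2, (R.commute_iff hy1 (by norm_num)).1 c3,
      fun c => c4 ((R.commute_iff hy1 (by norm_num)).2 c)⟩))
  have hg : ∀ s ∈ [5, 9, 421, 29, 120, y], s < 693 ∧ f s ∈ Y := by
    simp only [List.forall_mem_cons]
    exact ⟨⟨by norm_num, h5⟩, ⟨by norm_num, h9⟩, ⟨by norm_num, h421⟩,
      ⟨by norm_num, h29⟩, ⟨by norm_num, h120⟩, ⟨hy1, hy.1⟩, by simp⟩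
  rw [show [613, 661, 614, 664] = [613, 661] ++ [614, 664] from rfl, List.mem_append] at h1
  rcases h1 with h1 | h1
  · have hM : ∀ i < 693, tb R30 i = true → f i ∈ Y := fun i hi h =>
      R.mem_of_covers (by norm_num) (lall_iff.1 c_30 y h1) hY hg h5 hi h
    obtain ⟨r, -, hr, e⟩ := rs_word R hY hloc h0 h5 chk_ew hM chk_30.1
    obtain rfl := beq_iff.1 e
    rintro _ ⟨i, hi, rfl⟩
    refine R.mem_of_covers (by norm_num) c_63 hY ?_ h5 hi.1 hi.2
    simp only [List.forall_mem_cons]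
    exact ⟨⟨by norm_num, h5⟩, ⟨by norm_num, h9⟩, ⟨by norm_num, h421⟩,
      ⟨by norm_num, h29⟩, ⟨by norm_num, h120⟩, ⟨by norm_num, hM _ (by norm_num) (by decide +kernel)⟩,
      ⟨by norm_num, hr⟩, by simp⟩
  · obtain ⟨r, -, -, e⟩ := rs_word R hY hloc h0 h5 chk_ewb (fun i hi h =>
      R.mem_of_covers (by norm_num) (lall_iff.1 c_30b y h1) hY hg h5 hi h) chk_30.2.1
    exact absurd e (by simp)

theorem rs_real (h : Is21 E) (hY : FS Y) (hYE : Y ⊆ E) (hne : Y.Nonempty)
    (hloc : ∀ b ∈ Y, RL (nb E b) (Y ∩ nb E b)) : ∃ f, Real 693 op E f ∧ ms 693 f R63 ⊆ Y := by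
  obtain ⟨f, R⟩ := h
  obtain ⟨b, hb⟩ := hne
  obtain ⟨a₁, h₁, a₂, h₂, a₃, h₃, a₄, h₄, t, ht, y, hy, n12, c13, c14, n23, c24, n43, hne, tw,
    c1, c2, c3, c4⟩ := (hloc b hb).ch
  obtain ⟨f1, j1, rfl, rfl, rfl, rfl, rfl⟩ :=
    chain R (hYE hb) h₁.2 h₂.2 h₃.2 h₄.2 n12 c13 c14 n23 c24 n43
  have R1 := R.of_cj j1 subset_rfl
  obtain ⟨i, hi, -, rfl⟩ := mem_of_twin R1 (a := (29, [29, 30, 117, 120])) (by simp) ht.2 tw
  obtain ⟨k0, -, k5, k9, k421, k29, -, -, -, -, -, k120, k30⟩ := dl_vals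
  have key : ∀ j, f1 (dl^[j] 120) ∈ Y → ∃ f, Real 693 op E f ∧ ms 693 f R63 ⊆ Y := fun j h =>
    ⟨_, R1.comp ((ma_dl R1).iterate j), rs_base (R1.comp ((ma_dl R1).iterate j)) hY hloc
      (by rwa [Function.comp_apply, Function.iterate_fixed k0])
      (by rw [Function.comp_apply, Function.iterate_fixed k5]; exact h₁.1)
      (by rw [Function.comp_apply, Function.iterate_fixed k9]; exact h₂.1)
      (by rw [Function.comp_apply, Function.iterate_fixed k421]; exact h₃.1)
      (by rw [Function.comp_apply, Function.iterate_fixed k29]; exact h₄.1) h (y := y)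
      (by rwa [Function.comp_apply, Function.iterate_fixed k0])
      (by rwa [Function.comp_apply, Function.iterate_fixed k5])
      (by rwa [Function.comp_apply, Function.iterate_fixed k9])
      (by rwa [Function.comp_apply, Function.iterate_fixed k421])
      (by rwa [Function.comp_apply, Function.iterate_fixed k29])⟩
  simp only [List.mem_cons, List.not_mem_nil, or_false] at hi
  rcases hi with rfl | rfl | rfl | rfl
  · exact absurd rfl hne
  · exact key 1 (by rw [Function.iterate_one, k120]; exact ht.1)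
  · exact key 2 (by rw [show dl^[2] 120 = dl (dl 120) from rfl, k120, k30]; exact ht.1)
  · exact key 0 ht.1

theorem cnj_D0 (R : Real 693 op E f) (hY : FS Y) (hYE : Y ⊆ E) (hs : ms 693 f R63 ⊆ Y) {X : Set G}
    (hX : HO E X) (hd : X ∩ Y = ∅) : Cnj Y X (ms 693 (f ∘ op 1) D0) := by
  have h21 : Is21 E := ⟨f, R⟩
  obtain ⟨x', hx⟩ := hX.ne
  obtain ⟨x, hx1, rfl⟩ := R.surj (hX.sub hx)
  obtain ⟨g, hg, -, e⟩ := R.exists_cj (L := []) (R.lt 1 (by norm_num) 0 (by norm_num)) (by simp)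
    w_63 c_63c (S := Y) (fun s h1 h2 => hs ((R.mem_ms h1).2 h2)) hx1
    (no_iff.2 fun h => hd.subset ⟨hx, hs ((R.mem_ms hx1).2 h)⟩)
  have R1 := R.comp (R.ma_op (s := 1) (by norm_num))
  have hs1 : ms 693 (f ∘ op 1) U6.R1 ⊆ Y := by
    rwa [R.ms_comp (R.ma_op (by norm_num)) fun i hi => Bool.eq_iff_iff.2
      (eqB_iff.1 (allLt_iff.1 chk_R1 i hi))]
  have hX1 := hX.cj R.fs hYE (inv_mem hg)
  have e0 : (f ∘ op 1) 0 ∈ (fun x => g⁻¹ * x * g⁻¹⁻¹) '' X :=
    ⟨_, hx, by rw [← e]; exact inv_cj_cj _ _⟩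
  generalize f ∘ op 1 = f1 at R1 hs1 e0
  refine Cnj.trans ⟨g⁻¹, inv_mem hg, rfl⟩ ?_
  have hd1 : ∀ z ∈ (fun x => g⁻¹ * x * g⁻¹⁻¹) '' X, z ∉ Y := by
    rintro _ ⟨z, hz, rfl⟩ h
    exact hd.subset ⟨hz, mem_of_cj_mem hY subset_rfl (inv_mem hg) h⟩
  generalize (fun x => g⁻¹ * x * g⁻¹⁻¹) '' X = X1 at hX1 e0 hd1
  obtain ⟨i, hi, j, hj, rfl⟩ := ho_enum R1 hX1 e0
  have c1 := (an_iff.1 (allLt_iff.1 chk_tw2 i hi)).1
  simp only [lall_iff, blt_iff] at c1
  have ma := (R1.ma_act c1).comp ((ma_dl R1).iterate j)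
  have := allLt_iff.1 (allLt_iff.1 chk_witR i hi) j hj
  rw [force_eq, ou_iff, an_iff, an_iff, blt_iff, lany_iff] at this
  rcases this with h | ⟨a, -, h⟩
  · exact (hd1 _ (((R1.comp ma).mem_ms h.1).2 h.2.1)
      (hs1 ((R1.mem_ms (ma.lt _ h.1)).2 h.2.2))).elim
  simp only [an_iff, lall_iff, blt_iff, allLt_iff, imp_iff] at h
  obtain ⟨-, h1, h2⟩ := h
  have hw := wd_mem_closure (f := f1) (S := Y) fun s hs =>
    hs1 ((R1.mem_ms (h1 s hs).1).2 (h1 s hs).2)
  refine ⟨_, hw, Set.eq_of_subset_of_ncard_le ?_ ?_ (R1.finite.subset (R1.ms_subset _))⟩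
  · rintro _ ⟨_, ⟨z, hz, rfl⟩, rfl⟩
    obtain ⟨h3, h4⟩ := R1.act_spec (fun s hs => (h1 s hs).1) (ma.lt z hz.1)
    exact Set.mem_of_eq_of_mem h4.symm ((R1.mem_ms h3).2 (h2 z hz.1 hz.2))
  · rw [(hX1.cj R.fs hYE hw).ncard h21, R1.ncard_ms, chk_30.2.2]

end U6

/-- Hyperovals which miss a symplectic subspace are conjugate under it. -/
theorem Is21.cnj_of_disjoint {E Y : Set G} (h : Is21 E) (hY : FS Y) (hYE : Y ⊆ E)
    (hne : Y.Nonempty) (hloc : ∀ b ∈ Y, RL (nb E b) (Y ∩ nb E b)) {X X' : Set G} (hX : HO E X)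
    (hX' : HO E X') (hd : X ∩ Y = ∅) (hd' : X' ∩ Y = ∅) : Cnj Y X X' := by
  obtain ⟨f, R, hs⟩ := rs_real h hY hYE hne hloc
  exact (cnj_D0 R hY hYE hs hX hd).trans (cnj_D0 R hY hYE hs hX' hd').symm

end CL.TTU
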