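import Cfsg.Agent.SPOR.TTU5

/-!
Basic facts about the space of the 693 transvections of `U₆(2)`: frames, the properties `PA`, `PB`,
`N4`, sections, and the extension property.
-/

namespace CL.TTU

open Cfsg CL.TT CL.K

variable {G : Type*} {G' : Type*} [Group G] [Group G']

/-- `x` and `y` commute with the same members of `T`. -/
def Twin (T : Set G) (x y : G) : Prop := ∀ p ∈ T, Commute p x ↔ Commute p y

theorem Twin.symm {T : Set G} {x y : G} (h : Twin T x y) : Twin T y x := fun p hp => (h p hp).symm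

theorem Twin.trans {T : Set G} {x y z : G} (h : Twin T x y) (h' : Twin T y z) : Twin T x z :=
  fun p hp => (h p hp).trans (h' p hp)

theorem Twin.commute_iff {T : Set G} {x y x' y' : G} (h : Twin T x x') (h' : Twin T y y')
    (hx : x ∈ T) (hy' : y' ∈ T) : Commute x y ↔ Commute x' y' := by
  rw [h' x hx, Commute.symm_iff, h y' hy', Commute.symm_iff]

theorem IsoOn.twin_iff {φ : G → G'} {T : Set G} {T' : Set G'} (h : IsoOn φ T T') (hT : FS T)
    (hT' : FS T') {x y : G} (hx : x ∈ T) (hy : y ∈ T) : Twin T' (φ x) (φ y) ↔ Twin T x y := by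
  constructor
  · intro e p hp
    rw [← h.commute_iff hT hT' hp hx, ← h.commute_iff hT hT' hp hy]
    exact e _ (h.mem hp)
  · intro e p' hp'
    obtain ⟨p, hp, rfl⟩ := h.surj hp'
    rw [h.commute_iff hT hT' hp hx, h.commute_iff hT hT' hp hy]
    exact e p hp

/-- `Y` meets every twin class of `T` exactly once. -/
structure Sec (T Y : Set G) : Prop where
  sub : Y ⊆ T
  ex : ∀ y ∈ T, ∃ x ∈ Y, Twin T x y
  uniq : ∀ x ∈ Y, ∀ x' ∈ Y, Twin T x x' → x = x'

theorem Sec.map {φ : G → G'} {T Y : Set G} {T' : Set G'} (hY : Sec T Y) (h : IsoOn φ T T')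
    (hT : FS T) (hT' : FS T') : Sec T' (φ '' Y) := by
  refine ⟨by rintro _ ⟨x, hx, rfl⟩; exact h.mem (hY.sub hx), fun y' hy' => ?_, ?_⟩
  · obtain ⟨y, hy, rfl⟩ := h.surj hy'
    obtain ⟨x, hx, e⟩ := hY.ex y hy
    exact ⟨_, ⟨x, hx, rfl⟩, (h.twin_iff hT hT' (hY.sub hx) hy).2 e⟩
  · rintro _ ⟨x, hx, rfl⟩ _ ⟨x', hx', rfl⟩ e
    rw [hY.uniq x hx x' hx' ((h.twin_iff hT hT' (hY.sub hx) (hY.sub hx')).1 e)]

/-- `f'` is a conjugate of `f` by an element of the group generated by `S`. -/
def Cj (S : Set G) (f f' : ℕ → G) : Prop :=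
  ∃ g ∈ Subgroup.closure S, ∀ i, f' i = g * f i * g⁻¹

theorem Cj.refl (S : Set G) (f : ℕ → G) : Cj S f f := ⟨1, one_mem _, fun _ => by simp⟩

theorem Cj.trans {S : Set G} {f f' f'' : ℕ → G} (h : Cj S f f') (h' : Cj S f' f'') : Cj S f f'' := by
  obtain ⟨g, hg, e⟩ := h
  obtain ⟨g', hg', e'⟩ := h'
  exact ⟨g' * g, mul_mem hg' hg, fun i => by rw [e', e, cj_cj]⟩

theorem Cj.mono {S S' : Set G} {f f' : ℕ → G} (h : Cj S f f') (hS : S ⊆ S') : Cj S' f f' :=
  let ⟨g, hg, e⟩ := h
  ⟨g, Subgroup.closure_mono hS hg, e⟩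

theorem Cj.comp {S : Set G} {f f' : ℕ → G} (h : Cj S f f') (θ : ℕ → ℕ) :
    Cj S (f ∘ θ) (f' ∘ θ) :=
  let ⟨g, hg, e⟩ := h
  ⟨g, hg, fun i => e (θ i)⟩

theorem Cj.ms_eq {n : ℕ} {f f' : ℕ → G} {M : ℕ} {S : Set G} (h : Cj S f f') (hM : FS (ms n f M))
    (hS : S ⊆ ms n f M) : ms n f' M = ms n f M := by
  obtain ⟨g, hg, e⟩ := h
  rw [show f' = fun i => g * f i * g⁻¹ from funext e, ms_cj, image_cj_eq hM hS hg]

theorem MA.id (n : ℕ) (op : ℕ → ℕ → ℕ) : MA n op id :=
  ⟨fun _ h => h, fun _ _ _ _ h => h, fun _ _ _ _ => rfl⟩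

theorem MA.comp {n : ℕ} {op : ℕ → ℕ → ℕ} {θ η : ℕ → ℕ} (h : MA n op θ) (h' : MA n op η) :
    MA n op (θ ∘ η) :=
  ⟨fun a ha => h.lt _ (h'.lt a ha),
    fun a ha b hb e => h'.inj a ha b hb (h.inj _ (h'.lt a ha) _ (h'.lt b hb) e),
    fun a ha b hb => by
      simp only [Function.comp_apply]
      rw [h'.hop a ha b hb, h.hop _ (h'.lt a ha) _ (h'.lt b hb)]⟩

theorem MA.iterate {n : ℕ} {op : ℕ → ℕ → ℕ} {θ : ℕ → ℕ} (h : MA n op θ) (j : ℕ) :
    MA n op θ^[j] := by
  induction j with
  | zero => exact MA.id n op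
  | succ j ih => exact ih.comp h

/-- equality of booleans -/
noncomputable def eqB (a b : Bool) : Bool := Bool.rec (motive := fun _ => Bool) (no b) b a

theorem eqB_iff {a b : Bool} : eqB a b = true ↔ (a = true ↔ b = true) := by
  cases a <;> cases b <;> simp [eqB, no]

namespace Real

variable {n : ℕ} {op : ℕ → ℕ → ℕ} {E : Set G} {f : ℕ → G} (R : Real n op E f)
include R

theorem of_cj {S : Set G} {f' : ℕ → G} (h : Cj S f f') (hS : S ⊆ E) : Real n op E f' := by
  obtain ⟨g, hg, e⟩ := h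
  rw [show f' = fun i => g * f i * g⁻¹ from funext e]
  exact R.cj hS hg

theorem ma_act {w : List ℕ} (hw : ∀ s ∈ w, s < n) : MA n op (act op w) := by
  induction w with
  | nil => exact MA.id n op
  | cons s w ih =>
    rw [show act op (s :: w) = op s ∘ act op w from funext fun x => act_cons op s w x]
    exact (R.ma_op (hw s List.mem_cons_self)).comp (ih fun t ht => hw t (List.mem_cons_of_mem _ ht))

theorem step {W : List (List ℕ)} {L : List ℕ} {Q P : ℕ → Bool} {x : ℕ} (hx : x < n)
    (hL : ∀ z ∈ L, z < n) (hW : wordsOK n op W L Q = true) (hc : covers n op W x P = true)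
    {S : Set G} (hS : ∀ s < n, Q s = true → f s ∈ S) {y : G} (hy : y ∈ E)
    (hP : ∀ i < n, f i = y → P i = true) :
    ∃ f', Cj S f f' ∧ (∀ z ∈ L, f' z = f z) ∧ f' x = y := by
  obtain ⟨i, hi, rfl⟩ := R.surj hy
  obtain ⟨g, hg, h1, h2⟩ := R.exists_cj hx hL hW hc hS hi (hP i hi rfl)
  exact ⟨fun i => g * f i * g⁻¹, ⟨g, hg, fun _ => rfl⟩, fun z hz => cj_eq_of_commute (h1 z hz), h2⟩

theorem transOn {W : List (List ℕ)} {Q P : ℕ → Bool} {x : ℕ} (hx : x < n)
    (hW : wordsOK n op W [] Q = true) (hc : covers n op W x P = true)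
    {S Y : Set G} (hS : ∀ s < n, Q s = true → f s ∈ S) (hY : Y ⊆ E)
    (hP : ∀ i < n, f i ∈ Y → P i = true) : TransOn S Y := by
  intro y hy z hz
  obtain ⟨i, hi, rfl⟩ := R.surj (hY hy)
  obtain ⟨j, hj, rfl⟩ := R.surj (hY hz)
  obtain ⟨g, hg, -, h1⟩ := R.exists_cj hx (L := []) (by simp) hW hc hS hi (hP i hi hy)
  obtain ⟨g', hg', -, h2⟩ := R.exists_cj hx (L := []) (by simp) hW hc hS hj (hP j hj hz)
  exact ⟨g' * g⁻¹, mul_mem hg' (inv_mem hg), by rw [← h1, ← h2]; simp [mul_assoc]⟩

theorem twin_iff {T : Set G} (hT : T ⊆ E) {P : ℕ → Bool} (hP : ∀ i < n, f i ∈ T ↔ P i = true)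
    {x y : ℕ} (hx : x < n) (hy : y < n) : Twin T (f x) (f y) ↔
      allLt (fun p => imp (P p) (eqB (com op p x) (com op p y))) n = true := by
  simp only [allLt_iff, imp_iff, eqB_iff]
  constructor
  · intro h p hp h1
    rw [← R.commute_iff hp hx, ← R.commute_iff hp hy]
    exact h _ ((hP p hp).2 h1)
  · intro h p' hp'
    obtain ⟨p, hp, rfl⟩ := R.surj (hT hp')
    rw [R.commute_iff hp hx, R.commute_iff hp hy]
    exact h p hp ((hP p hp).1 hp')

theorem not_twin {T : Set G} {L : List ℕ} (hL : ∀ p ∈ L, p < n ∧ f p ∈ T) {x y : ℕ} (hx : x < n)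
    (hy : y < n) (h : lany (fun p => no (eqB (com op p x) (com op p y))) L = true) :
    ¬ Twin T (f x) (f y) := by
  simp only [lany_iff, no_iff, eqB_iff] at h
  obtain ⟨p, hp, h⟩ := h
  intro e
  apply h
  rw [← R.commute_iff (hL p hp).1 hx, ← R.commute_iff (hL p hp).1 hy]
  exact e _ (hL p hp).2

end Real

/-- `E` is the space of the transvections of `U₆(2)`. -/
def Is21 (E : Set G) : Prop := ∃ f, Real 693 U6.op E f

namespace U6

/-- neighbours in the model -/
noncomputable def nbB (a b : ℕ) : Bool := an (no (Nat.beq b a)) (com op a b)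
/-- singletons -/
def sing (L : List ℕ) : List (List ℕ) := L.map fun s => [s]

/-- the neighbours of `0` -/
def TM : ℕ := 0x13333333200000001ffff3332000000019999333200000001e1e133320000000187873332000000000001fe00013333320000000000019866673333333200000000000001e01e1ff3333332000000000000000619e1e60
/-- the common neighbours of `0` and `32` -/
def XM : ℕ := 0xaaaa0000000000008888000000000000a0a000000000000082820000000000000000aa00000000000000000000008822220000000000000000000000a00a0aa0000000000000000000000208a0a20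
/-- representatives of the twin classes -/
def repT : ℕ := 0x273000009ce71000009c66f000009be6d000009b66b000009ae69000009a6670000099e650000099400000000000000000000000000000000000000000000000000000000000000000000000000000002739ce719c66f9be6d9b66b9ae699a66799e6599633000008ce2f000008be2b000008ae270000089c00000000000000000000000000000000000000000000000000000000000000000000000000000002338cc000022f8bc000022b8ac000022789c00001f3000007cdf1000007c5eb000007ade9000007a400000000000000000000000000000000000000000000000000000000000000000000000000000001f37cdf17c40000000001eb7ade97a40000000001b3000006cdad000006b5ab000006ada50000069400000000000000000000000000000000000000000000000000000000000000000000000000000001b36cc0000000001ad6b5ab6ac0000000001a5695630000058d61000005855f0000057d5d000005740000000000000000000000000000000000000000000000000000000000000000000000000000000000000000000000000000000000000000000000016358d615855f57d5d5740000000000000000000000000000000000000001030000040cff000003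fcf9000003e4f5000003d4f1000003c4ed000003b40000000000000000000000000000000000000000000000000000000000000000000000000000000000000000000000000000000000000000000000010340c00000ff3fc0000000000f93e400000f53d400000f13c400000ed3b4930000024c9100000244870000021c85000002147f000001fc7d000001f47b000001ec79000001e4000000000000000000000000000000000000000000000000000000000000000000000000000000000000000000000000000000000000000000000000000000000000000000009324c91244000000000000000000008721c8521400000000007f1fc7d1f47b1ec791e41d00000074170000005c130000004c11000000440b0000002c09000000240500000014000000000000000000000000000000000000000000000000000000000000000000000000000000000000000000000000000000000000000000000000000000000000000000000000000000000001d07400000000001705c000001304c1104400000000000b02c090240000005014000000000000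
/-- a diagonal automorphism -/
def dlT : ℕ := 0x274a1294ad272a0a92ac270a0290ab26e9fa8eaa26c9f28ca926a9ea8aa82689e288a72669da86a6283ace81abe7faae7da9e7ba8e79a7e77a6e75a5e93aca91aba8faaa8da9a8ba8a89a7a87a6a85a5ab19cead9c6a99bea59b6a19ae9d9a69999e95996349125499230902509822c8f24c972288e2489624398e3294a3f97e2e93a3b96e2a92a3795e2691a5398a3190a4f97a2d8fa4b96a298ea4795a258da618ce519065d8be4d8f6598ae498e65589e458d5f481214891f280a12881ec7f20c871ea7ea0a8620388e0187df0841ee839fb86df985de8821e681a1388a11879ef801ed7fa0b86a09859e77e1e57da217ce1d7c60f7fe0d7f6197ae157a6077de057d5b4711d4791ae6f9ce781ac6f1cc771a66d9c6761c378db2749b0741bd77dbb76daa729a8721b575dd3789b1709af701cd779cb769a96e9a76e1c5759e16cdd1705cf6fddd6b5d96adc96e5c76ddd5695645f194691625e992681605e1906715e5d98e6617b68d7967d7766d7565d5c6315a62958621566195461152609506014e5f993689916798f6698d6595b5d1595c9575c1555b9535b1515a94f5a14d599a158d9d5859957d955758b5cd895c5875bd855b5835ad815a57f59d7d59504471345310046130520fa4492a510f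643926500f2429224f0ee4191e4e11b52d024c91751cfe4b8fc4b11150cf84a10d4fcf4491094ecf0481054dd33529014692f518fd458fb45129508f7441254f8f3431214e8ef4211d4d94940d31465453fd2d4552b44d413e52743d3d3d52342d393c51f41d353b4942c0cc3b0922b8ca3a088290c039086288be38080270b83707e268b63607c260b43507a258b2340af3acad39c903208e3188c3108a308a338ca137c842f0822e89b36c9935c9734c9533ccb3a8c93988f2b08d2a88b2a089298bf388bd3788328081278b7368b5358b3348b1338e924ce5244c72acc52a4c329cc1294e121cdd214bb27cb9274d91fcd51f4d11eccd1e41e0f85c1e0180e0561d0140d0521c0120c8501b00c0b04a1a00a0a84819006098441803d1dc1c1681a160371cc16150331bc311ac101380e1302b19c2918c081182517c04108021005b1d81b0f0190e8551c8150d8511b84f1a80f0c00d0b84919847188070a04317803090010882007c75074590ec570e47105c530d46d04c690444d0bc4b0b46502c610244509c5d0144108c3f08400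
/-- a field automorphism -/
def kpT : ℕ := 0x2b1aceb2ad092324ad395004bd17516a5a9ea6aa1ac72dbb7669da7e9ea8299a6e9aa7266a1675a5683a10ca39d3051e7d9f9cc76e799ea779e286a5e93a50ae3991851a8da39bc76a89a2a87a2276a5a749cce8245483fe6e9b5dc6ae6a9a66899e989946c0c850048d535cd6360cd33cce342588e2488a06a13c9f280992697055c95259f879e5691c220046b0c4bb2f0b52d988560b12ca087a2578dc4000869044832107e1f56f61c7a1e5f781e5589c210fc700d052051354dd364e07c2cc97346187ea0a7a86e145054190b43172564b434e168263a8a42400c6f0cd1d479234918a5689834a177e64a8a8420106d04cee3b4f33d171624d41ee157a63992423105dd77dde781e178de27926ca2e7ba85a6715b5755bd6f9014648f2adc37128ca8db76e1b96e9c675dcd739024c49031dd37527ca89c7721c9729b6759ae6b51a4c8ac321b46cea49ada76a1a96a9d8694740e056060f2485094e4802dc9b365985d98e57872155224ecb836d9663566535fe7b63e8b42801c36055675a1695a97456c730dd0a4e89c369975d57e53a0e7ba4e8b846020540597f601816098c5707105d3c3c4dc1fd95575655f5fd8363d934271143514d4f541515497362d4150d4251270a3e7faa54952d4a530f649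50d4f562645796761d87e1e88111449b170690aad0f4408b29d1b47115459264fdff8019267c190e601809294a9b274680aa9274a08c30d334d12d4b90e4fa0f8417a6781a15e11848fa3e5c274aac9bcf73e0a83110440cfd3f9403d5ef7c1a05843a161f27c4e138ce239272a4681ab4e93acea3b0862f4a13756063d776665d97e5e981ec82dfb8665996e5a970a329292abdaf6fca5298fb44ca92a8af2c0be37e419081b0ed9066e3f9020c86e3b8f0bf30282ab9b073cc1308fc4acc5318cb330a237a519481c1657866a4f941fc86a4b9308821eb09c5c074089229144b08d2389424ce0216318c83c1699c57e308be1c7ae2c8ac780f85c079a45f19459224812147d264912548d06519c661a06118c621905d17c5e1807616c81274ef41da264d6c54e2284e6294c2e0343003c2b0b0290a96e55425099f679636894770f4822e4f047da35ed845522380e6390c4c0384e040491284712186558431120679a468982007c750749e2e908481a158d6b60e217ce618cc2d12c2f1340c02c0a0256d61406015f58163591400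
/-- a diagonal automorphism -/
def dl (i : ℕ) : ℕ := fld 10 1023 dlT i
/-- a field automorphism -/
def kp (i : ℕ) : ℕ := fld 10 1023 kpT i

theorem chk_TM : allLt (fun i => an (eqB (nbB 0 i) (tb TM i))
    (eqB (an (nbB 0 i) (nbB 32 i)) (tb XM i))) 693 = true := by decide +kernel

theorem w_all : wordsOK 693 op (sing [32, 6, 5, 9, 421, 29, 19]) [] (fun _ => true) = true := by
  decide +kernel
theorem c_all : covers 693 op (sing [32, 6, 5, 9, 421, 29, 19]) 0 (fun _ => true) = true := by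
  decide +kernel
theorem c_all5 : covers 693 op (sing [32, 6, 5, 9, 421, 29, 19]) 5 (fun _ => true) = true := by
  decide +kernel
theorem w_T : wordsOK 693 op (sing [6, 5, 9, 421, 29, 19]) [0] (tb TM) = true := by decide +kernel
theorem c_T : covers 693 op (sing [6, 5, 9, 421, 29, 19]) 5 (tb TM) = true := by decide +kernel
theorem c_far : covers 693 op (sing [6, 5, 9, 421, 29, 19]) 32 (fun i => no (com op 0 i)) = true := by
  decide +kernel
theorem w_X : wordsOK 693 op (sing [5, 9, 421, 29, 19]) [0, 32] (tb XM) = true := by decide +kernel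
theorem c_X : covers 693 op (sing [5, 9, 421, 29, 19]) 5 (tb XM) = true := by decide +kernel
theorem w_2 : wordsOK 693 op (sing [5, 6, 23, 93, 349, 421, 435]) [0, 5] (fun _ => true) = true := by
  decide +kernel
theorem c_2 : covers 693 op (sing [5, 6, 23, 93, 349, 421, 435]) 9
    (fun i => an (tb TM i) (no (com op 5 i))) = true := by decide +kernel
theorem w_4 : wordsOK 693 op (sing [613, 614, 627, 628]) [0, 5, 9] (fun _ => true) = true := by
  decide +kernel
theorem c_4 : covers 693 op (sing [613, 614, 627, 628]) 29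
    (fun i => an (tb TM i) (an (com op 5 i) (com op 9 i))) = true := by decide +kernel
theorem w_3 : wordsOK 693 op [[29], [30], [117], [491, 123, 125, 353]] [0, 5, 9, 29]
    (fun _ => true) = true := by decide +kernel
theorem c_3 : covers 693 op [[29], [30], [117], [491, 123, 125, 353]] 421
    (fun i => an (tb TM i) (an (com op 5 i) (an (no (com op 9 i)) (no (com op 29 i))))) = true := by
  decide +kernel

theorem chk_PA : allLt (fun z => imp (an (com op 5 z) (an (com op 9 z) (an (com op 421 z)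
    (an (com op 29 z) (no (com op 0 z)))))) (ou (Nat.beq z 32) (Nat.beq z (op 0 32)))) 693 = true := by
  decide +kernel

theorem chk_cnt : cntB (tb TM) 693 = 180 ∧ cntB (tb XM) 693 = 45 ∧
    cntB (fun i => no (com op 0 i)) 693 = 512 ∧
    cntB (fun i => an (no (com op 0 i)) (com op 5 i)) 693 = 128 ∧
    cntB (fun i => an (no (com op 0 i)) (com op 32 i)) 693 = 136 := by decide +kernel

theorem chk_sec_ex : allLt (fun y => imp (tb TM y) (force (fld 10 1023 repT y) fun x =>
    an (Nat.blt x 693) (an (tb XM x)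
      (allLt (fun p => imp (tb TM p) (eqB (com op p x) (com op p y))) 693)))) 693 = true := by
  decide +kernel

theorem chk_sec_uniq : allLt (fun x => imp (tb XM x) (allLt (fun y => imp (tb XM y)
    (ou (Nat.beq x y) (lany (fun p => no (eqB (com op p x) (com op p y)))
      [5, 9, 121, 17, 491, 125, 351, 135, 123]))) 693)) 693 = true := by decide +kernel

theorem chk_m8 : allLt (fun y => imp (an (com op 23 y) (an (com op 29 y) (com op 349 y)))
    (com op 5 y)) 693 = true := by decide +kernel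

theorem chk_dl1 : lall (fun s => an (Nat.blt s 693)
    (allLt (fun y => Nat.beq (dl (op s y)) (op (dl s) (dl y))) 693))
    (5 :: [32, 6, 5, 9, 421, 29, 19]) = true := by decide +kernel
theorem chk_dl2 : allLt (fun y => an (Nat.blt (dl y) 693) (Nat.beq (dl (dl (dl y))) y)) 693
    = true := by decide +kernel
theorem chk_kp1 : lall (fun s => an (Nat.blt s 693)
    (allLt (fun y => Nat.beq (kp (op s y)) (op (kp s) (kp y))) 693))
    (5 :: [32, 6, 5, 9, 421, 29, 19]) = true := by decide +kernel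
theorem chk_kp2 : allLt (fun y => an (Nat.blt (kp y) 693) (Nat.beq (kp (kp y)) y)) 693
    = true := by decide +kernel

theorem chk_x5 : allLt (fun y => imp (an (tb XM y) (an (com op 9 y) (an (com op 29 y)
    (an (no (com op 5 y)) (no (com op 421 y)))))) (lmem y [9, 19, 499])) 693 = true := by
  decide +kernel

theorem chk_tw : lall (fun a : ℕ × List ℕ => allLt (fun y => imp (tb TM y) (ou (lmem y a.2)
    (lany (fun p => no (eqB (com op p y) (com op p a.1))) [5, 9, 121, 17, 491, 125, 351, 135, 123])))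
      693) [(5, [5, 6, 93, 96]), (9, [9, 10, 97, 100]), (421, [421, 422, 469, 472]),
        (29, [29, 30, 117, 120]), (19, [19, 20, 109, 112])] = true := by decide +kernel

theorem chk_tw56 : allLt (fun p => imp (tb TM p) (eqB (com op p 5) (com op p 6))) 693 = true := by
  decide +kernel

variable {E : Set G} {f : ℕ → G}

section
variable (R : Real 693 op E f)
include R

theorem mem_T {i : ℕ} (hi : i < 693) : f i ∈ nb E (f 0) ↔ tb TM i = true := by
  rw [R.mem_nb_iff (by norm_num) hi]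
  exact eqB_iff.1 (an_iff.1 (allLt_iff.1 chk_TM i hi)).1

theorem mem_X {i : ℕ} (hi : i < 693) : f i ∈ nb E (f 0) ∩ nb E (f 32) ↔ tb XM i = true := by
  rw [Set.mem_inter_iff, R.mem_nb_iff (by norm_num) hi, R.mem_nb_iff (by norm_num) hi, ← an_iff]
  exact eqB_iff.1 (an_iff.1 (allLt_iff.1 chk_TM i hi)).2

theorem ma_dl : MA 693 op dl := R.ma_of_gens (η := fun y => dl (dl y)) c_all5 chk_dl1 chk_dl2

theorem ma_kp : MA 693 op kp := R.ma_of_gens (η := kp) c_all5 chk_kp1 chk_kp2

theorem com_true {a b : ℕ} (h : an (Nat.blt a 693) (an (Nat.blt b 693) (com op a b)) = true) :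
    Commute (f a) (f b) := by
  simp only [an_iff, blt_iff] at h
  exact (R.commute_iff h.1 h.2.1).2 h.2.2

theorem com_false {a b : ℕ} (h : an (Nat.blt a 693) (an (Nat.blt b 693) (no (com op a b))) = true) :
    ¬ Commute (f a) (f b) := by
  simp only [an_iff, blt_iff, no_iff] at h
  exact fun e => h.2.2 ((R.commute_iff h.1 h.2.1).1 e)

theorem memT {a : ℕ} (h : an (Nat.blt a 693) (tb TM a) = true) : f a ∈ nb E (f 0) := by
  simp only [an_iff, blt_iff] at h
  exact (mem_T R h.1).2 h.2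

theorem memX {a : ℕ} (h : an (Nat.blt a 693) (tb XM a) = true) :
    f a ∈ nb E (f 0) ∩ nb E (f 32) := by
  simp only [an_iff, blt_iff] at h
  exact (mem_X R h.1).2 h.2

theorem far32 : f 32 ∈ far E (f 0) := ⟨R.mem (by norm_num), com_false R (by decide +kernel)⟩

theorem frame0 {d : G} (hd : d ∈ E) : ∃ f', Cj E f f' ∧ f' 0 = d := by
  obtain ⟨f', h1, -, h2⟩ := R.step (by norm_num) (by simp) w_all c_all
    (fun s hs _ => R.mem hs) hd (fun _ _ _ => rfl)
  exact ⟨f', h1, h2⟩

theorem frame_nb {a : G} (ha : a ∈ nb E (f 0)) :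
    ∃ f', Cj (nb E (f 0)) f f' ∧ f' 0 = f 0 ∧ f' 5 = a := by
  obtain ⟨f', h1, h2, h3⟩ := R.step (by norm_num) (by simp) w_T c_T
    (fun s hs h => (mem_T R hs).2 h) ha.1 (fun i hi e => (mem_T R hi).1 (e ▸ ha))
  exact ⟨f', h1, h2 0 (by simp), h3⟩

theorem frame_far {c : G} (hc : c ∈ far E (f 0)) :
    ∃ f', Cj (nb E (f 0)) f f' ∧ f' 0 = f 0 ∧ f' 32 = c := by
  obtain ⟨f', h1, h2, h3⟩ := R.step (by norm_num) (by simp) w_T c_far
    (fun s hs h => (mem_T R hs).2 h) hc.1 (fun i hi e => (R.mem_far_iff (by norm_num) hi).1 (e ▸ hc))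
  exact ⟨f', h1, h2 0 (by simp), h3⟩

theorem frame_X {a : G} (ha : a ∈ nb E (f 0) ∩ nb E (f 32)) :
    ∃ f', Cj (nb E (f 0) ∩ nb E (f 32)) f f' ∧ f' 0 = f 0 ∧ f' 32 = f 32 ∧ f' 5 = a := by
  obtain ⟨f', h1, h2, h3⟩ := R.step (by norm_num) (by simp) w_X c_X
    (fun s hs h => (mem_X R hs).2 h) ha.1.1 (fun i hi e => (mem_X R hi).1 (e ▸ ha))
  exact ⟨f', h1, h2 0 (by simp), h2 32 (by simp), h3⟩

theorem frame2 {d c : G} (hd : d ∈ E) (hc : c ∈ far E d) :
    ∃ f', Cj E f f' ∧ f' 0 = d ∧ f' 32 = c := by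
  obtain ⟨f1, h1, rfl⟩ := frame0 R hd
  obtain ⟨f2, h2, e1, e2⟩ := frame_far (R.of_cj h1 subset_rfl) hc
  exact ⟨f2, h1.trans (h2.mono (nb_subset _ _)), e1, e2⟩

/-- transitivity on chains -/
theorem chain {d a₁ a₂ a₃ a₄ : G} (hd : d ∈ E) (h₁ : a₁ ∈ nb E d) (h₂ : a₂ ∈ nb E d)
    (h₃ : a₃ ∈ nb E d) (h₄ : a₄ ∈ nb E d) (n12 : ¬ Commute a₁ a₂) (c13 : Commute a₁ a₃)
    (c14 : Commute a₁ a₄) (n23 : ¬ Commute a₂ a₃) (c24 : Commute a₂ a₄) (n43 : ¬ Commute a₄ a₃) :
    ∃ f', Cj E f f' ∧ f' 0 = d ∧ f' 5 = a₁ ∧ f' 9 = a₂ ∧ f' 421 = a₃ ∧ f' 29 = a₄ := by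
  obtain ⟨f0, j0, rfl⟩ := frame0 R hd
  have R0 := R.of_cj j0 subset_rfl
  obtain ⟨f1, j1, e0, rfl⟩ := frame_nb R0 h₁
  have R1 := R0.of_cj j1 (nb_subset _ _)
  rw [← e0] at h₂ h₃ h₄
  obtain ⟨f2, j2, e2, rfl⟩ := R1.step (by norm_num) (by simp) w_2 c_2 (fun s hs _ => R1.mem hs) h₂.1
    (fun i hi e => by
      subst e
      exact an_iff.2 ⟨(mem_T R1 hi).1 h₂, no_iff.2 fun h =>
        n12 ((R1.commute_iff (by norm_num) hi).2 h)⟩)
  have R2 := R1.of_cj j2 subset_rfl
  rw [← e2 0 (by simp)] at h₃ h₄ e0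
  rw [← e2 5 (by simp)] at c13 c14 ⊢
  obtain ⟨f3, j3, e3, rfl⟩ := R2.step (by norm_num) (by simp) w_4 c_4 (fun s hs _ => R2.mem hs) h₄.1
    (fun i hi e => by
      subst e
      exact an_iff.2 ⟨(mem_T R2 hi).1 h₄, an_iff.2 ⟨(R2.commute_iff (by norm_num) hi).1 c14,
        (R2.commute_iff (by norm_num) hi).1 c24⟩⟩)
  have R3 := R2.of_cj j3 subset_rfl
  rw [← e3 0 (by simp)] at h₃ e0
  rw [← e3 5 (by simp)] at c13 ⊢
  rw [← e3 9 (by simp)] at n23 ⊢
  obtain ⟨f4, j4, e4, rfl⟩ := R3.step (by norm_num) (by simp) w_3 c_3 (fun s hs _ => R3.mem hs) h₃.1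
    (fun i hi e => by
      subst e
      exact an_iff.2 ⟨(mem_T R3 hi).1 h₃, an_iff.2 ⟨(R3.commute_iff (by norm_num) hi).1 c13,
        an_iff.2 ⟨no_iff.2 fun h => n23 ((R3.commute_iff (by norm_num) hi).2 h),
          no_iff.2 fun h => n43 ((R3.commute_iff (by norm_num) hi).2 h)⟩⟩⟩)
  exact ⟨f4, j0.trans ((j1.mono (nb_subset _ _)).trans (j2.trans (j3.trans j4))),
    (e4 0 (by simp)).trans e0, e4 5 (by simp), e4 9 (by simp), rfl, e4 29 (by simp)⟩

theorem eq32 {z : G} (hz : z ∈ far E (f 0)) (h1 : Commute (f 5) z) (h2 : Commute (f 9) z)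
    (h3 : Commute (f 421) z) (h4 : Commute (f 29) z) : z = f 32 ∨ z = f 0 * f 32 * f 0 := by
  obtain ⟨i, hi, rfl⟩ := R.surj hz.1
  have := imp_iff.1 (allLt_iff.1 chk_PA i hi) (by
    simp only [an_iff]
    exact ⟨(R.commute_iff (by norm_num) hi).1 h1, (R.commute_iff (by norm_num) hi).1 h2,
      (R.commute_iff (by norm_num) hi).1 h3, (R.commute_iff (by norm_num) hi).1 h4,
      (R.mem_far_iff (by norm_num) hi).1 hz⟩)
  rw [ou_iff, beq_iff, beq_iff] at this
  rcases this with rfl | rfl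
  · exact Or.inl rfl
  · exact Or.inr (R.hop 0 (by norm_num) 32 (by norm_num))

theorem sep_mem : ∀ p ∈ [5, 9, 121, 17, 491, 125, 351, 135, 123], p < 693 ∧ f p ∈ nb E (f 0) := by
  have : lall (fun p => an (Nat.blt p 693) (tb TM p)) [5, 9, 121, 17, 491, 125, 351, 135, 123]
    = true := by decide +kernel
  intro p hp
  have h := lall_iff.1 this p hp
  exact ⟨blt_iff.1 (an_iff.1 h).1, memT R h⟩

theorem sec0 : Sec (nb E (f 0)) (nb E (f 0) ∩ nb E (f 32)) := by
  refine ⟨Set.inter_subset_left, fun y' hy => ?_, fun x' hx y' hy e => ?_⟩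
  · obtain ⟨y, hy1, rfl⟩ := R.surj hy.1
    have := imp_iff.1 (allLt_iff.1 chk_sec_ex y hy1) ((mem_T R hy1).1 hy)
    rw [force_eq, an_iff, an_iff, blt_iff] at this
    exact ⟨_, (mem_X R this.1).2 this.2.1,
      (R.twin_iff (nb_subset _ _) (fun i hi => mem_T R hi) this.1 hy1).2 this.2.2⟩
  · obtain ⟨x, hx1, rfl⟩ := R.surj hx.1.1
    obtain ⟨y, hy1, rfl⟩ := R.surj hy.1.1
    have := imp_iff.1 (allLt_iff.1 (imp_iff.1 (allLt_iff.1 chk_sec_uniq x hx1)
      ((mem_X R hx1).1 hx)) y hy1) ((mem_X R hy1).1 hy)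
    rw [ou_iff, beq_iff] at this
    rcases this with rfl | h
    · rfl
    · exact absurd e (R.not_twin (sep_mem R) hx1 hy1 h)

/-- the twins of the frame points -/
theorem mem_of_twin {a : ℕ × List ℕ} (ha : a ∈ [(5, [5, 6, 93, 96]), (9, [9, 10, 97, 100]),
    (421, [421, 422, 469, 472]), (29, [29, 30, 117, 120]), (19, [19, 20, 109, 112])])
    {x : G} (hx : x ∈ nb E (f 0)) (h : Twin (nb E (f 0)) x (f a.1)) : ∃ y ∈ a.2, y < 693 ∧ f y = x := by
  obtain ⟨y, hy, rfl⟩ := R.surj hx.1
  have := imp_iff.1 (allLt_iff.1 (lall_iff.1 chk_tw a ha) y hy) ((mem_T R hy).1 hx)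
  rw [ou_iff, lmem_iff] at this
  rcases this with h1 | h1
  · exact ⟨y, h1, hy, rfl⟩
  · refine absurd h (R.not_twin (sep_mem R) hy ?_ h1)
    simp only [List.mem_cons, List.not_mem_nil, or_false] at ha
    rcases ha with rfl | rfl | rfl | rfl | rfl <;> norm_num

theorem twin56 : Twin (nb E (f 0)) (f 5) (f 6) :=
  (R.twin_iff (nb_subset _ _) (fun _ hi => mem_T R hi) (by norm_num) (by norm_num)).2 chk_tw56

end

end U6

end CL.TTU
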