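import Cfsg.Agent.SPOR.TTU7

/-!
Hyperovals of the space of `U₆(2)`: closed subsets which are locally sections. There are three
classes under the inner automorphisms.
-/

namespace CL.TTU

open Cfsg CL.TT CL.K U6

variable {G : Type*} {G' : Type*} [Group G] [Group G']

/-- A hyperoval. -/
structure HO (E X : Set G) : Prop where
  sub : X ⊆ E
  fs : FS X
  ne : X.Nonempty
  sec : ∀ a ∈ X, Sec (nb E a) (X ∩ nb E a)

theorem IsoOn.image_inter {φ : G → G'} {E : Set G} {E' : Set G'} (h : IsoOn φ E E') {A B : Set G}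
    (hA : A ⊆ E) (hB : B ⊆ E) : φ '' (A ∩ B) = φ '' A ∩ φ '' B :=
  h.bij.injOn.image_inter hA hB

theorem IsoOn.image_inter_nb {φ : G → G'} {E : Set G} {E' : Set G'} (h : IsoOn φ E E') (hE : FS E)
    (hE' : FS E') {X : Set G} (hX : X ⊆ E) {a : G} (ha : a ∈ E) :
    φ '' (X ∩ TTU.nb E a) = φ '' X ∩ TTU.nb E' (φ a) := by
  rw [h.image_inter hX (nb_subset _ _), h.image_nb hE hE' ha]

theorem HO.map {φ : G → G'} {E X : Set G} {E' : Set G'} (hX : HO E X) (h : IsoOn φ E E')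
    (hE : FS E) (hE' : FS E') : HO E' (φ '' X) := by
  refine ⟨by rintro _ ⟨x, hx, rfl⟩; exact h.mem (hX.sub hx), h.fs_image hE' hX.sub hX.fs,
    hX.ne.image _, ?_⟩
  rintro _ ⟨a, ha, rfl⟩
  rw [← h.image_inter_nb hE hE' hX.sub (hX.sub ha)]
  exact (hX.sec a ha).map (h.nb hE hE' (hX.sub ha)) (hE.nb a) (hE'.nb _)

/-- `X` and `Y` are conjugate under the group generated by `S`. -/
def Cnj (S X Y : Set G) : Prop := ∃ g ∈ Subgroup.closure S, (fun x => g * x * g⁻¹) '' X = Y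

theorem Cnj.refl (S X : Set G) : Cnj S X X := ⟨1, one_mem _, by simp⟩

theorem Cnj.symm {S X Y : Set G} (h : Cnj S X Y) : Cnj S Y X := by
  obtain ⟨g, hg, rfl⟩ := h
  exact ⟨g⁻¹, inv_mem hg, by rw [Set.image_image]; simp [mul_assoc]⟩

theorem Cnj.trans {S X Y Z : Set G} (h : Cnj S X Y) (h' : Cnj S Y Z) : Cnj S X Z := by
  obtain ⟨g, hg, rfl⟩ := h
  obtain ⟨g', hg', rfl⟩ := h'
  exact ⟨g' * g, mul_mem hg' hg, by rw [Set.image_image]; simp only [cj_cj]⟩

theorem Cnj.mono {S S' X Y : Set G} (h : Cnj S X Y) (hS : S ⊆ S') : Cnj S' X Y :=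
  let ⟨g, hg, e⟩ := h
  ⟨g, Subgroup.closure_mono hS hg, e⟩

theorem Cj.cnj {n : ℕ} {S : Set G} {f f' : ℕ → G} (h : Cj S f f') (M : ℕ) :
    Cnj S (ms n f M) (ms n f' M) := by
  obtain ⟨g, hg, e⟩ := h
  exact ⟨g, hg, by rw [show f' = fun i => g * f i * g⁻¹ from funext e, ms_cj]⟩

theorem Cnj.map {φ : G → G'} {E X Y : Set G} {E' : Set G'} (h : Cnj E X Y) (hφ : IsoOn φ E E')
    (hE : FS E) (hE' : FS E') (hX : X ⊆ E) : Cnj E' (φ '' X) (φ '' Y) := by
  obtain ⟨g, hg, rfl⟩ := h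
  obtain ⟨k, hk, rfl⟩ := graph_lift_fst φ hg
  refine ⟨k.2, hφ.image_eq ▸ graph_snd hk, ?_⟩
  rw [Set.image_image, Set.image_image]
  exact Set.image_congr fun x hx => (hφ.cj_graph hE hE' hk (hX hx)).symm

theorem mem_of_cj_mem {X : Set G} (hX : FS X) {S : Set G} (hS : S ⊆ X) {g x : G}
    (hg : g ∈ Subgroup.closure S) (h : g * x * g⁻¹ ∈ X) : x ∈ X := by
  have := hX.cj_mem hS (inv_mem hg) h
  rwa [inv_cj_cj] at this

namespace U6

/-- the standard hyperoval -/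
def H1 : ℕ := 0xc0ccf800380035328111c045004510006111c0450045100063100000400040002111c045000045001000780310002000408000408000240310002020004200000420000021100222ccca885022aa21408a20000a21
/-- its image under point `1` -/
def M6 : ℕ := 0x28287a111d40020891400204519325000c81a831000890001008900011000a000281a8310002089000001002089000001003000b40000300850002020222ccc000820062288220008200a224422000084450800088c
/-- witnesses -/
def wit6 : ℕ := 0x2c0b02c2e08c2102c0b02c3909c2e1042317c0b02c0b08c2308c0b02c0b02c0b02c210e42702c0b02c231045e0e4270b80b02c0b0b8230840b02c0b02c0b02c231143b02c0b02c3508c2e09c451880b02c0b09c2709c0b02c0b02c0b02c210d42302c0b02c4509c630d4230b80b02c0b08c450ec0b02c0b02c0b02c271146202c0b02c2709c2708c450ec0b02c0b0d4230b80b02c0b02c0b02c270844c02c0b02c2e09c2109c2709c0b02c0b09c451880b02c0b02c0b02c231045e02c0b02c210e42709c410ec0b02c0b08c211300b02c0b02c0b02c3909c2e02c0b02c2e08c210843909c0b02c0b08c411780b02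c0b02c0b02c2308c2302c0b02c4108c5f0e4270b80b02c0b0b8230840b02c0b02c0b02c271043b02c0b02c230844c1042317c0b02c0b08c2308c0b02c0b02c0b02c210d42302c0b02c4509c6309c211300b02c0b0b8270840b02c0b02c0b02c231143b02c0b02c3508c2e1142718c0b02c0b0843508c0b02c0b02c0b02c270844c02c0b02c2e09c210843508c0b02c0b1142718c0b02c0b02c0b02c271146202c0b02c2709c270b8270840b02c0b09c211300b02c0b02c0b02c230844c02c0b02c271043b0843909c0b02c0b08c411780b02c0b02c0b02c4108c5f02c0b02c2308c2309c410ec0b02c0b08c211300b02c0b02c0b02c2e08c2102c0b02c230844c08c411780b02c0b08c2308c0b02c0b02c0b02c210e42702c0b02c4108c5f08c211300b02c0b0b8230840b02c0b02c0b02c231143b02c0b02c270844c1142718c0b02c0b09c2709c0b02c0b02c0b02c210d42302c0b02c271146209c211300b02c0b08c450ec0b02c0b02c0b02c4509c6302c0b02c2709c2708c450ec0b02c0b09c211300b02c0b02c0b02c3508c2e02c0b02c2e09c2109c2709c0b02c0b1142718c0b02c0b02c0b02c4108c5f02c0b02c210e42709c410ec0b02c0b0e4270b80b02c0b02c0b02c230844c02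c0b02c2e08c210843909c0b02c0b1042317c0b02c0b02c0b02c210e42702c0b02c4108c5f0e4270b80b02c0b09c410ec0b02c0b02c0b02c2e08c2102c0b02c230844c1042317c0b02c0b0843909c0b02c0b02c0b02c2709c2702c0b02c4509c6309c211300b02c0b08c450ec0b02c0b02c0b02c2e09c2102c0b02c3508c2e1142718c0b02c0b09c2709c0b02c0b02c0b02c270844c02c0b02c231143b09c2709c0b02c0b1142718c0b02c0b02c0b02c271146202c0b02c210d42308c450ec0b02c0b09c211300b02c0b02c0b02c230844c02c0b02c2e08c2108c2308c0b02c0b08c411780b02c0b02c0b02c4108c5f02c0b02c210e4270b8230840b02c0b08c211300b02c0b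

theorem chk_e : allLt (fun y => imp (nbB 5 y) (ou (lmem y [7, 13, 333, 339])
    (lany (fun p => no (eqB (com op p y) (com op p 339))) [0, 7, 31, 15, 438, 39, 114, 48, 32])))
      693 = true := by decide +kernel

theorem chk_bad : lall (fun a : ℕ × List ℕ => an (lall (fun s => lmem s [a.1, 5, 9, 421, 29, 109]) a.2)
      (Nat.beq (act op a.2 5) 6))
    [(7, [109, 7, 5, 109, 29, 7, 5, 9]), (13, [13, 29, 421, 109, 29, 13, 9, 421, 109]),
      (333, [9, 333, 5, 109, 29, 333, 5, 9])] = true := by decide +kernel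

theorem chk_std : lall (fun e => Nat.beq (act op [e, 29, 0, e, 19, 9] 5) 6) [7, 13, 333, 339]
    = true := by decide +kernel

theorem w_H : wordsOK 693 op (sing [5, 9, 421, 29, 109, 339]) [] (tb H1) = true := by
  decide +kernel
theorem c_H : covers 693 op (sing [5, 9, 421, 29, 109, 339]) 5 (tb H1) = true := by decide +kernel
theorem c_H0 : covers 693 op (sing [5, 9, 421, 29, 109, 339]) 0 (tb H1) = true := by decide +kernel
theorem c_Hc : covers 693 op (sing [5, 9, 421, 29, 109, 339]) 6 (fun i => no (tb H1 i)) = true := by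
  decide +kernel

theorem chk_H : cntB (tb H1) 693 = 126 ∧ cntB (fun i => an (tb H1 i) (no (com op 0 i))) 693 = 80 ∧
    cntB (fun i => an (tb H1 i) (nbB 6 i)) 693 = 30 := by decide +kernel

theorem chk_mu : allLt (fun x => imp (an (tb H1 x) (no (com op 0 x)))
    (Nat.beq (cntB (fun b => an (tb H1 b) (an (tb TM b) (com op b x))) 693) 18)) 693 = true := by
  decide +kernel

theorem chk_kd : allLt (fun x => an (Nat.beq (kp (dl x)) (dl (dl (kp x))))
    (an (eqB (tb H1 x) (tb H1 (kp x))) (eqB (tb M6 x) (tb H1 (op 1 x))))) 693 = true := by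
  decide +kernel

/-- translations -/
def trW : List (List (List ℕ)) := [[[], [489, 536], [489, 490], [489, 533]],
  [[], [5, 6], [5, 93], [5, 96]], [[], [29, 117], [29, 120], [29, 30]],
  [[], [613, 664], [613, 614], [613, 661]]]

/-- translations -/
def tw (i : ℕ) : List ℕ := (trW.getD 0 []).getD (i % 4) [] ++ ((trW.getD 1 []).getD (i / 4 % 4) [] ++
  ((trW.getD 2 []).getD (i / 16 % 4) [] ++ (trW.getD 3 []).getD (i / 64) []))

theorem chk_tw2 : allLt (fun i => an (lall (fun s => Nat.blt s 693) (tw i))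
    (an (Nat.beq (act op (tw i) 0) 0)
    (an (Nat.beq (act op (tw i) 5) ([5, 6, 93, 96].getD (i % 4) 0))
    (an (Nat.beq (act op (tw i) 9) ([9, 10, 97, 100].getD (i / 4 % 4) 0))
    (an (Nat.beq (act op (tw i) 421) ([421, 422, 469, 472].getD (i / 16 % 4) 0))
    (Nat.beq (act op (tw i) 29) ([29, 30, 117, 120].getD (i / 64) 0))))))) 256 = true := by
  decide +kernel

theorem chk_wit6 : allLt (fun i => allLt (fun j =>
    force (fld 10 1023 wit6 (Nat.add (Nat.mul 3 i) j)) fun s => an (Nat.blt s 693) (an (tb H1 s)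
      (tb M6 (act op (tw i) (dl^[j] s))))) 3) 256 = true := by decide +kernel

variable {E X : Set G} {f : ℕ → G}

section
variable (R : Real 693 op E f) (hX : HO E X)
include R hX

theorem not_56 (h0 : f 0 ∈ X) (h5 : f 5 ∈ X) (h6 : f 6 ∈ X) : False :=
  absurd (R.inj (by norm_num) (by norm_num) ((hX.sec _ h0).uniq _
    ⟨h5, memT R (by decide +kernel)⟩ _ ⟨h6, memT R (by decide +kernel)⟩ (twin56 R))) (by norm_num)

theorem exists_e (h5 : f 5 ∈ X) : ∃ e ∈ [7, 13, 333, 339], f e ∈ X := by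
  obtain ⟨x, hx, e⟩ := (hX.sec _ h5).ex (f 339)
    ((R.mem_nb_iff (by norm_num) (by norm_num)).2 (by decide +kernel))
  obtain ⟨y, hy, rfl⟩ := R.surj hx.2.1
  have := imp_iff.1 (allLt_iff.1 chk_e y hy) ((R.mem_nb_iff (by norm_num) hy).1 hx.2)
  rw [ou_iff, lmem_iff] at this
  rcases this with h | h
  · exact ⟨y, h, hx.1⟩
  · refine absurd e (R.not_twin (fun p hp => ?_) hy (by norm_num) h)
    have h1 : lall (fun p => an (Nat.blt p 693) (nbB 5 p)) [0, 7, 31, 15, 438, 39, 114, 48, 32]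
      = true := by decide +kernel
    have h2 := an_iff.1 (lall_iff.1 h1 p hp)
    exact ⟨blt_iff.1 h2.1, (R.mem_nb_iff (by norm_num) (blt_iff.1 h2.1)).2 h2.2⟩

theorem ho_base (h0 : f 0 ∈ X) (h5 : f 5 ∈ X) (h9 : f 9 ∈ X) (h421 : f 421 ∈ X) (h29 : f 29 ∈ X)
    (h109 : f 109 ∈ X) : X = ms 693 f H1 := by
  obtain ⟨e, he, hfe⟩ := exists_e R hX h5
  have he' : e < 693 := by
    simp only [List.mem_cons, List.not_mem_nil, or_false] at he; omega
  have hg : ∀ s ∈ [e, 5, 9, 421, 29, 109], s < 693 ∧ f s ∈ X := by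
    simp only [List.forall_mem_cons]
    exact ⟨⟨he', hfe⟩, ⟨by norm_num, h5⟩, ⟨by norm_num, h9⟩, ⟨by norm_num, h421⟩,
      ⟨by norm_num, h29⟩, ⟨by norm_num, h109⟩, by simp⟩
  have bad : ∀ w, (e, w) ∈ [(7, [109, 7, 5, 109, 29, 7, 5, 9]),
      (13, [13, 29, 421, 109, 29, 13, 9, 421, 109]), (333, [9, 333, 5, 109, 29, 333, 5, 9])] →
      False := fun w hw => by
    have := lall_iff.1 chk_bad _ hw
    simp only [an_iff, lall_iff, lmem_iff, beq_iff] at this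
    exact not_56 R hX h0 h5 (this.2 ▸ R.act_mem hX.fs (fun s hs => hg s (this.1 s hs))
      (by norm_num) h5)
  simp only [List.mem_cons, List.not_mem_nil, or_false] at he
  rcases he with rfl | rfl | rfl | rfl
  · exact (bad _ List.mem_cons_self).elim
  · exact (bad _ (List.mem_cons_of_mem _ List.mem_cons_self)).elim
  · exact (bad _ (List.mem_cons_of_mem _ (List.mem_cons_of_mem _ List.mem_cons_self))).elim
  have sub : ∀ i < 693, tb H1 i = true → f i ∈ X := fun i hi h =>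
    R.mem_of_covers (by norm_num) c_H hX.fs (fun s hs => hg s (by
      simp only [List.mem_cons, List.not_mem_nil, or_false] at hs ⊢; tauto)) h5 hi h
  refine R.eq_ms hX.sub fun i hi => ⟨fun h => ?_, sub i hi⟩
  by_contra hn
  obtain ⟨g, hg, -, e⟩ := R.exists_cj (L := []) (by norm_num) (by simp) w_H c_Hc sub hi (no_iff.2 hn)
  exact not_56 R hX h0 h5 (mem_of_cj_mem hX.fs subset_rfl hg (e ▸ h))

theorem ho_frame (h0 : f 0 ∈ X) (h5 : f 5 ∈ X) (h9 : f 9 ∈ X) (h421 : f 421 ∈ X)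
    (h29 : f 29 ∈ X) : ∃ j < 3, f (dl^[j] 109) ∈ X ∧ X = ms 693 (f ∘ dl^[j]) H1 := by
  obtain ⟨x, hx, e⟩ := (hX.sec _ h0).ex (f 19) (memT R (by decide +kernel))
  obtain ⟨y, hy, -, rfl⟩ := mem_of_twin R (a := (19, [19, 20, 109, 112])) (by simp) hx.2 e
  obtain ⟨k0, -, k5, k9, k421, k29, -, -, -, k109, k112, -⟩ := dl_vals
  have key : ∀ j, f (dl^[j] 109) ∈ X → X = ms 693 (f ∘ dl^[j]) H1 := fun j h =>
    ho_base (R.comp ((ma_dl R).iterate j)) hX
      (by rwa [Function.comp_apply, Function.iterate_fixed k0])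
      (by rwa [Function.comp_apply, Function.iterate_fixed k5])
      (by rwa [Function.comp_apply, Function.iterate_fixed k9])
      (by rwa [Function.comp_apply, Function.iterate_fixed k421])
      (by rwa [Function.comp_apply, Function.iterate_fixed k29]) h
  simp only [List.mem_cons, List.not_mem_nil, or_false] at hy
  rcases hy with rfl | rfl | rfl | rfl
  · exfalso
    obtain ⟨e, he, hfe⟩ := exists_e R hX h5
    have he' : e < 693 := by
      simp only [List.mem_cons, List.not_mem_nil, or_false] at he; omega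
    refine not_56 R hX h0 h5 (beq_iff.1 (lall_iff.1 chk_std e he) ▸ R.act_mem hX.fs ?_
      (by norm_num) h5)
    simp only [List.forall_mem_cons]
    exact ⟨⟨he', hfe⟩, ⟨by norm_num, h29⟩, ⟨by norm_num, h0⟩, ⟨he', hfe⟩, ⟨by norm_num, hx.1⟩,
      ⟨by norm_num, h9⟩, by simp⟩
  · have : f (dl^[2] 109) ∈ X := by
      rw [show dl^[2] 109 = dl (dl 109) from rfl, k109, k112]; exact hx.1
    exact ⟨2, by norm_num, this, key 2 this⟩
  · exact ⟨0, by norm_num, hx.1, key 0 hx.1⟩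
  · have : f (dl^[1] 109) ∈ X := by rw [Function.iterate_one, k109]; exact hx.1
    exact ⟨1, by norm_num, this, key 1 this⟩

theorem ho_chain {a : G} (ha : a ∈ X) : ∃ f', Cj E f f' ∧ f' 0 = a ∧
    f' 5 ∈ X ∧ f' 9 ∈ X ∧ f' 421 ∈ X ∧ f' 29 ∈ X := by
  obtain ⟨f0, j0, rfl⟩ := frame0 R (hX.sub ha)
  have R0 := R.of_cj j0 subset_rfl
  have m5 := memT R0 (a := 5) (by decide +kernel)
  have m9 := memT R0 (a := 9) (by decide +kernel)
  have m421 := memT R0 (a := 421) (by decide +kernel)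
  have m29 := memT R0 (a := 29) (by decide +kernel)
  obtain ⟨a1, h1, t1⟩ := (hX.sec _ ha).ex _ m5
  obtain ⟨a2, h2, t2⟩ := (hX.sec _ ha).ex _ m9
  obtain ⟨a3, h3, t3⟩ := (hX.sec _ ha).ex _ m421
  obtain ⟨a4, h4, t4⟩ := (hX.sec _ ha).ex _ m29
  obtain ⟨f1, j1, e0, rfl, rfl, rfl, rfl⟩ := chain R0 (hX.sub ha) h1.2 h2.2 h3.2 h4.2
    (by rw [t1.commute_iff t2 h1.2 m9]; exact com_false R0 (by decide +kernel))
    (by rw [t1.commute_iff t3 h1.2 m421]; exact com_true R0 (by decide +kernel))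
    (by rw [t1.commute_iff t4 h1.2 m29]; exact com_true R0 (by decide +kernel))
    (by rw [t2.commute_iff t3 h2.2 m421]; exact com_false R0 (by decide +kernel))
    (by rw [t2.commute_iff t4 h2.2 m29]; exact com_true R0 (by decide +kernel))
    (by rw [t4.commute_iff t3 h4.2 m421]; exact com_false R0 (by decide +kernel))
  exact ⟨f1, j0.trans j1, e0, h1.1, h2.1, h3.1, h4.1⟩

theorem ho_inner : ∃ j < 3, Cnj E (ms 693 (f ∘ dl^[j]) H1) X := by
  obtain ⟨a, ha⟩ := hX.ne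
  obtain ⟨f1, j1, rfl, h5, h9, h421, h29⟩ := ho_chain R hX ha
  obtain ⟨j, hj, -, e⟩ := ho_frame (R.of_cj j1 subset_rfl) hX ha h5 h9 h421 h29
  exact ⟨j, hj, e ▸ (j1.comp _).cnj H1⟩

theorem ho_enum (h0 : f 0 ∈ X) :
    ∃ i < 256, ∃ j < 3, X = ms 693 (f ∘ act op (tw i) ∘ dl^[j]) H1 := by
  have key : ∀ a ∈ [(5, [5, 6, 93, 96]), (9, [9, 10, 97, 100]), (421, [421, 422, 469, 472]),
      (29, [29, 30, 117, 120]), (19, [19, 20, 109, 112])], an (Nat.blt a.1 693) (tb TM a.1) = true →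
      a.2.length = 4 → ∃ i < 4, f (a.2.getD i 0) ∈ X := by
    intro a ha h1 h2
    obtain ⟨x, hx, e⟩ := (hX.sec _ h0).ex _ (memT R h1)
    obtain ⟨y, hy, -, rfl⟩ := mem_of_twin R ha hx.2 e
    obtain ⟨i, hi, rfl⟩ := List.getElem_of_mem hy
    exact ⟨i, h2 ▸ hi, by rw [List.getD_eq_getElem _ _ hi]; exact hx.1⟩
  obtain ⟨i1, l1, h1⟩ := key (5, [5, 6, 93, 96]) (by simp) (by decide +kernel) rfl
  obtain ⟨i2, l2, h2⟩ := key (9, [9, 10, 97, 100]) (by simp) (by decide +kernel) rfl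
  obtain ⟨i3, l3, h3⟩ := key (421, [421, 422, 469, 472]) (by simp) (by decide +kernel) rfl
  obtain ⟨i4, l4, h4⟩ := key (29, [29, 30, 117, 120]) (by simp) (by decide +kernel) rfl
  have hi : i1 + 4 * i2 + 16 * i3 + 64 * i4 < 256 := by omega
  have := allLt_iff.1 chk_tw2 _ hi
  simp only [an_iff, lall_iff, blt_iff, beq_iff] at this
  obtain ⟨c1, c2, c3, c4, c5, c6⟩ := this
  rw [show (i1 + 4 * i2 + 16 * i3 + 64 * i4) % 4 = i1 by omega] at c3
  rw [show (i1 + 4 * i2 + 16 * i3 + 64 * i4) / 4 % 4 = i2 by omega] at c4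
  rw [show (i1 + 4 * i2 + 16 * i3 + 64 * i4) / 16 % 4 = i3 by omega] at c5
  rw [show (i1 + 4 * i2 + 16 * i3 + 64 * i4) / 64 = i4 by omega] at c6
  obtain ⟨j, hj, -, e⟩ := ho_frame (R.comp (R.ma_act c1)) hX (by rwa [Function.comp_apply, c2])
    (by rwa [Function.comp_apply, c3]) (by rwa [Function.comp_apply, c4])
    (by rwa [Function.comp_apply, c5]) (by rwa [Function.comp_apply, c6])
  exact ⟨_, hi, j, hj, e⟩

end

end U6

namespace HO

variable {E X Y : Set G}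

theorem exists_real_at (hX : HO E X) (h : Is21 E) {a : G} (ha : a ∈ X) :
    ∃ f, Real 693 op E f ∧ f 0 = a ∧ X = ms 693 f H1 := by
  obtain ⟨f, R⟩ := h
  obtain ⟨f1, j1, rfl, h5, h9, h421, h29⟩ := ho_chain R hX ha
  have R1 := R.of_cj j1 subset_rfl
  obtain ⟨j, -, -, e⟩ := ho_frame R1 hX ha h5 h9 h421 h29
  exact ⟨_, R1.comp ((ma_dl R1).iterate j),
    by rw [Function.comp_apply, Function.iterate_fixed dl_vals.1], e⟩

theorem exists_real (hX : HO E X) (h : Is21 E) : ∃ f, Real 693 op E f ∧ X = ms 693 f H1 :=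
  let ⟨_, ha⟩ := hX.ne
  let ⟨f, R, _, e⟩ := hX.exists_real_at h ha
  ⟨f, R, e⟩

theorem exists_real_out (hX : HO E X) (h : Is21 E) {q : G} (hq : q ∈ E) (hqX : q ∉ X) :
    ∃ f, Real 693 op E f ∧ f 6 = q ∧ X = ms 693 f H1 := by
  obtain ⟨f, R, e⟩ := hX.exists_real h
  obtain ⟨f', j, -, e'⟩ := R.step (L := []) (by norm_num) (by simp) w_H c_Hc (S := ms 693 f H1)
    (fun s hs h => (R.mem_ms hs).2 h) hq fun i hi e1 => no_iff.2 fun h1 =>
      hqX (e1 ▸ e ▸ (R.mem_ms hi).2 h1)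
  exact ⟨f', R.of_cj j (R.ms_subset _), e', by rw [j.ms_eq (e ▸ hX.fs) subset_rfl, e]⟩

theorem ncard (hX : HO E X) (h : Is21 E) : X.ncard = 126 := by
  obtain ⟨f, R, rfl⟩ := hX.exists_real h
  rw [R.ncard_ms, chk_H.1]

theorem transOn (hX : HO E X) (h : Is21 E) : TransOn X X := by
  obtain ⟨f, R, rfl⟩ := hX.exists_real h
  exact R.transOn (by norm_num) w_H c_H (fun s hs h => (R.mem_ms hs).2 h) hX.sub
    fun i hi h => (R.mem_ms hi).1 h

theorem transOn_compl (hX : HO E X) (h : Is21 E) : TransOn X (E \ X) := by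
  obtain ⟨f, R, rfl⟩ := hX.exists_real h
  exact R.transOn (by norm_num) w_H c_Hc (fun s hs h => (R.mem_ms hs).2 h) Set.sdiff_subset
    fun i hi h => no_iff.2 fun h1 => h.2 ((R.mem_ms hi).2 h1)

theorem exists_nb (hX : HO E X) (h : Is21 E) {q : G} (hq : q ∈ E) : (X ∩ nb E q).Nonempty := by
  by_cases hqX : q ∈ X
  · obtain ⟨y, hy⟩ := h.nb_nonempty hq
    obtain ⟨x, hx, -⟩ := (hX.sec q hqX).ex y hy
    exact ⟨x, hx⟩
  · obtain ⟨f, R, rfl, rfl⟩ := hX.exists_real_out h hq hqX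
    exact ⟨f 0, (R.mem_ms (by norm_num)).2 (by decide +kernel),
      (R.mem_nb_iff (by norm_num) (by norm_num)).2 (by decide +kernel)⟩

theorem eq_of_inter_nb (hX : HO E X) (hY : HO E Y) (h : Is21 E) {a : G} (haX : a ∈ X)
    (haY : a ∈ Y) (e : X ∩ nb E a = Y ∩ nb E a) : X = Y := by
  obtain ⟨f, R⟩ := h
  obtain ⟨f1, j1, rfl, h5, h9, h421, h29⟩ := ho_chain R hX haX
  have R1 := R.of_cj j1 subset_rfl
  obtain ⟨j, hj, h109, e1⟩ := ho_frame R1 hX haX h5 h9 h421 h29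
  have k : ∀ i, f1 i ∈ X → an (Nat.blt i 693) (tb TM i) = true → f1 i ∈ Y := fun i h1 h2 =>
    (e.subset ⟨h1, memT R1 h2⟩).1
  obtain ⟨k0, -, k5, k9, k421, k29, -⟩ := dl_vals
  rw [e1]
  refine (ho_base (R1.comp ((ma_dl R1).iterate j)) hY ?_ ?_ ?_ ?_ ?_ ?_).symm
  · rwa [Function.comp_apply, Function.iterate_fixed k0]
  · rw [Function.comp_apply, Function.iterate_fixed k5]; exact k _ h5 (by decide +kernel)
  · rw [Function.comp_apply, Function.iterate_fixed k9]; exact k _ h9 (by decide +kernel)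
  · rw [Function.comp_apply, Function.iterate_fixed k421]; exact k _ h421 (by decide +kernel)
  · rw [Function.comp_apply, Function.iterate_fixed k29]; exact k _ h29 (by decide +kernel)
  · refine k _ h109 ?_
    interval_cases j <;> decide +kernel

theorem cj (hX : HO E X) (hE : FS E) {S : Set G} (hS : S ⊆ E) {g : G}
    (hg : g ∈ Subgroup.closure S) : HO E ((fun x => g * x * g⁻¹) '' X) :=
  hX.map (isoOn_cj hE hS hg) hE hE

theorem meet (hX : HO E X) (hY : HO E Y) (h : Is21 E) : (X ∩ Y).Nonempty := by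
  by_contra hn
  rw [Set.not_nonempty_iff_eq_empty] at hn
  obtain ⟨f, R, e⟩ := hY.exists_real h
  have R1 := R.comp (R.ma_op (s := 1) (by norm_num))
  have e1 : Y = ms 693 (f ∘ op 1) M6 := by
    rw [e, R.ms_comp (R.ma_op (by norm_num)) fun i hi => Bool.eq_iff_iff.2
      (eqB_iff.1 (an_iff.1 (an_iff.1 (allLt_iff.1 chk_kd i hi)).2).2)]
  generalize f ∘ op 1 = f1 at R1 e1
  obtain ⟨x, hx⟩ := hX.ne
  obtain ⟨g, hg, e2⟩ := hY.transOn_compl h x ⟨hX.sub hx, fun h1 => hn.subset ⟨hx, h1⟩⟩ (f1 0)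
    ⟨R1.mem (by norm_num), fun h1 => absurd ((R1.mem_ms (by norm_num)).1 (e1 ▸ h1))
      (by decide +kernel)⟩
  obtain ⟨i, hi, j, hj, e3⟩ := ho_enum R1 (hX.cj h.fs hY.sub hg) ⟨x, hx, e2⟩
  have := allLt_iff.1 (allLt_iff.1 chk_wit6 i hi) j hj
  rw [force_eq, an_iff, an_iff, blt_iff] at this
  have c1 := (an_iff.1 (allLt_iff.1 chk_tw2 i hi)).1
  simp only [lall_iff, blt_iff] at c1
  have ma := (R1.ma_act c1).comp ((ma_dl R1).iterate j)
  obtain ⟨z, hz, e4⟩ := e3.symm.subset (((R1.comp ma).mem_ms this.1).2 this.2.1)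
  have h2 := e1.symm.subset ((R1.mem_ms (ma.lt _ this.1)).2 this.2.2)
  exact hn.subset ⟨hz, mem_of_cj_mem hY.fs subset_rfl hg ((show g * z * g⁻¹ = _ from e4) ▸ h2)⟩

theorem ncard_far (hX : HO E X) (h : Is21 E) {a : G} (ha : a ∈ X) : (X ∩ far E a).ncard = 80 := by
  obtain ⟨f, R, rfl, rfl⟩ := hX.exists_real_at h ha
  rw [R.ncard_eq (Set.inter_subset_left.trans hX.sub) fun i hi => by
    rw [Set.mem_inter_iff, R.mem_ms hi, R.mem_far_iff (by norm_num) hi, ← an_iff], chk_H.2.1]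

theorem ncard_mu (hX : HO E X) (h : Is21 E) {a x : G} (ha : a ∈ X) (hx : x ∈ X ∩ far E a) :
    (X ∩ nb E a ∩ nb E x).ncard = 18 := by
  obtain ⟨f, R, rfl, rfl⟩ := hX.exists_real_at h ha
  obtain ⟨i, hi, rfl⟩ := R.surj hx.2.1
  have := imp_iff.1 (allLt_iff.1 chk_mu i hi) (an_iff.2 ⟨(R.mem_ms hi).1 hx.1,
    (R.mem_far_iff (by norm_num) hi).1 hx.2⟩)
  rw [← beq_iff.1 this]
  refine R.ncard_eq (fun y hy => hX.sub hy.1.1) fun b hb => ?_
  rw [an_iff, an_iff, ← R.mem_ms hb, ← mem_T R hb, ← R.commute_iff hb hi]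
  exact ⟨fun h => ⟨h.1.1, h.1.2, h.2.2.2.symm⟩, fun h => ⟨⟨h.1, h.2.1⟩, R.mem hb,
    fun e => hx.2.2 (e ▸ h.2.1.2.2), h.2.2.symm⟩⟩

/-- there are at most three classes -/
theorem three_classes (h : Is21 E) {X₁ X₂ X₃ X₄ : Set G} (h₁ : HO E X₁) (h₂ : HO E X₂)
    (h₃ : HO E X₃) (h₄ : HO E X₄) (n12 : ¬ Cnj E X₁ X₂) (n13 : ¬ Cnj E X₁ X₃)
    (n14 : ¬ Cnj E X₁ X₄) (n23 : ¬ Cnj E X₂ X₃) (n24 : ¬ Cnj E X₂ X₄) : Cnj E X₃ X₄ := by
  obtain ⟨f, R⟩ := h
  obtain ⟨j1, l1, c1⟩ := ho_inner R h₁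
  obtain ⟨j2, l2, c2⟩ := ho_inner R h₂
  obtain ⟨j3, l3, c3⟩ := ho_inner R h₃
  obtain ⟨j4, l4, c4⟩ := ho_inner R h₄
  have : j1 ≠ j2 := by rintro rfl; exact n12 (c1.symm.trans c2)
  have : j1 ≠ j3 := by rintro rfl; exact n13 (c1.symm.trans c3)
  have : j1 ≠ j4 := by rintro rfl; exact n14 (c1.symm.trans c4)
  have : j2 ≠ j3 := by rintro rfl; exact n23 (c2.symm.trans c3)
  have : j2 ≠ j4 := by rintro rfl; exact n24 (c2.symm.trans c4)
  obtain rfl : j3 = j4 := by omega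
  exact c3.symm.trans c4

theorem exists_real_pair (hX : HO E X) (hY : HO E Y) (h : Is21 E) (n : ¬ Cnj E X Y) :
    ∃ f, Real 693 op E f ∧ X = ms 693 f H1 ∧ Cnj E (ms 693 (f ∘ dl) H1) Y := by
  obtain ⟨f, R, e⟩ := hX.exists_real h
  obtain ⟨j, hj, c⟩ := ho_inner R hY
  have hk : ∀ i < 693, tb H1 i = tb H1 (kp i) := fun i hi => Bool.eq_iff_iff.2
    (eqB_iff.1 (an_iff.1 (an_iff.1 (allLt_iff.1 chk_kd i hi)).2).1)
  interval_cases j
  · exact absurd (e ▸ c) n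
  · exact ⟨f, R, e, c⟩
  · refine ⟨f ∘ kp, R.comp (ma_kp R), by rw [R.ms_comp (ma_kp R) hk, e], ?_⟩
    rw [← (R.comp ((ma_dl R).iterate 2)).ms_comp (ma_kp R) hk] at c
    convert c using 1
    refine Set.image_congr fun i hi => ?_
    simp only [Function.comp_apply]
    rw [beq_iff.1 (an_iff.1 (allLt_iff.1 chk_kd i hi.1)).1]
    rfl

end HO

omit [Group G] [Group G'] in
theorem image_ms {n : ℕ} {f : ℕ → G} {f' : ℕ → G'} {Φ : G → G'} (e : ∀ i < n, Φ (f i) = f' i)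
    (M : ℕ) : Φ '' ms n f M = ms n f' M := by
  rw [ms, ms, Set.image_image]
  exact Set.image_congr fun i hi => e i hi.1

theorem HO.exists_isoOn {E X : Set G} {E' X' : Set G'} (hX : HO E X) (hX' : HO E' X') (h : Is21 E)
    (h' : Is21 E') : ∃ φ, IsoOn φ E E' ∧ φ '' X = X' := by
  obtain ⟨f, R, rfl⟩ := hX.exists_real h
  obtain ⟨f', R', rfl⟩ := hX'.exists_real h'
  obtain ⟨φ, hφ, e⟩ := R.exists_isoOn R'
  exact ⟨φ, hφ, image_ms e _⟩

theorem HO.exists_isoOn_pair {E X Y : Set G} {E' X' Y' : Set G'} (hX : HO E X) (hY : HO E Y)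
    (hX' : HO E' X') (hY' : HO E' Y') (h : Is21 E) (h' : Is21 E') (n : ¬ Cnj E X Y)
    (n' : ¬ Cnj E' X' Y') : ∃ φ, IsoOn φ E E' ∧ φ '' X = X' ∧ Cnj E' (φ '' Y) Y' := by
  obtain ⟨f, R, rfl, c⟩ := hX.exists_real_pair hY h n
  obtain ⟨f', R', rfl, c'⟩ := hX'.exists_real_pair hY' h' n'
  obtain ⟨φ, hφ, e⟩ := R.exists_isoOn R'
  refine ⟨φ, hφ, image_ms e _, ?_⟩
  have := c.map hφ h.fs h'.fs ((R.comp (ma_dl R)).ms_subset _)
  rw [image_ms (f := f ∘ dl) (f' := f' ∘ dl) fun i hi => e _ ((ma_dl R).lt i hi)] at this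
  exact this.symm.trans c'

end CL.TTU
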